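import Mathlib.CategoryTheory.MorphismProperty.Representable
import Groth.Prelude.Def_AlgSp3

/-!
# General facts about representable morphisms with a property, diagonals, maps from schemes

Namespace `Groth.AlgSpBasic`.
-/

set_option autoImplicit false
universe u

open CategoryTheory CategoryTheory.Limits AlgebraicGeometry Opposite AlgSp

namespace Groth.AlgSpBasic

variable {S : Scheme.{u}} {P Q : MorphismProperty Scheme.{u}} {F G H : Sp S}

/-- The Yoneda lemma for `h_U`. -/
abbrev yEquiv {U : Over S} {F : Sp S} : ((yon S).obj U ⟶ F) ≃ F.obj.obj (op U) :=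
  GrothendieckTopology.uliftYonedaEquiv.{u + 1} (J S)

theorem inverseImage_respectsIso (P : MorphismProperty Scheme.{u}) [P.RespectsIso] :
    (P.inverseImage (Over.forget S)).RespectsIso := inferInstance

/-- It suffices to give one represented pullback over every test scheme. -/
theorem repWith_of_exists [P.RespectsIso] {f : F ⟶ G}
    (h : ∀ ⦃U : Over S⦄ (g : (yon S).obj U ⟶ G), ∃ (V : Over S) (fst : (yon S).obj V ⟶ F)
      (snd : V ⟶ U), IsPullback fst ((yon S).map snd) f g ∧ P snd.left) : RepWith P f := by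
  refine MorphismProperty.relative.of_exists fun U g => ?_
  obtain ⟨V, fst, snd, sq, hP⟩ := h g
  exact ⟨V, fst, snd, sq, hP⟩

theorem repWith_of_representable [P.RespectsIso] {f : F ⟶ G} (hf : Representable f)
    (h : ∀ ⦃U V : Over S⦄ (g : (yon S).obj U ⟶ G) (fst : (yon S).obj V ⟶ F) (snd : V ⟶ U),
      IsPullback fst ((yon S).map snd) f g → P snd.left) : RepWith P f :=
  ⟨hf, h⟩

theorem repWith_mono (hPQ : P ≤ Q) {f : F ⟶ G} (h : RepWith P f) : RepWith Q f :=
  ⟨h.rep, fun _ _ g fst snd sq => hPQ _ (h.property g fst snd sq)⟩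

theorem repWith_inf_iff {f : F ⟶ G} : RepWith (P ⊓ Q) f ↔ RepWith P f ∧ RepWith Q f :=
  ⟨fun h => ⟨repWith_mono inf_le_left h, repWith_mono inf_le_right h⟩,
    fun h => ⟨h.1.rep, fun _ _ g fst snd sq => ⟨h.1.property g fst snd sq, h.2.property g fst snd sq⟩⟩⟩

theorem repWith_comp [P.IsStableUnderComposition] {f : F ⟶ G} {g : G ⟶ H} (hf : RepWith P f)
    (hg : RepWith P g) : RepWith P (f ≫ g) :=
  MorphismProperty.comp_mem _ _ _ hf hg

theorem repWith_of_isPullback {F' G' : Sp S} {f : F ⟶ G} {f' : F' ⟶ G'} {a : F' ⟶ F} {b : G' ⟶ G}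
    (sq : IsPullback a f' f b) (hf : RepWith P f) : RepWith P f' :=
  MorphismProperty.of_isPullback sq hf

theorem repWith_isIso [P.RespectsIso] [P.ContainsIdentities] (f : F ⟶ G) [IsIso f] :
    RepWith P f := by
  refine repWith_of_exists fun U g => ⟨U, g ≫ CategoryTheory.inv f, 𝟙 U, ?_, P.id_mem _⟩
  rw [(yon S).map_id]
  exact IsPullback.of_vert_isIso ⟨by simp⟩

/-- A map from a scheme into a sheaf with representable diagonal is representable. -/
theorem representable_of_diag (hF : Representable (Limits.diag F)) {U : Over S}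
    (g : (yon S).obj U ⟶ F) : Representable g :=
  Functor.relativelyRepresentable.of_diag hF g

/-- The fibre product of two maps from schemes into a sheaf, one of them representable, is a scheme. -/
theorem exists_pullback_yon {U V : Over S} {a : (yon S).obj U ⟶ F} (ha : Representable a)
    (b : (yon S).obj V ⟶ F) :
    ∃ (W : Over S) (fst : W ⟶ U) (snd : W ⟶ V),
      IsPullback ((yon S).map fst) ((yon S).map snd) a b := by
  obtain ⟨W, snd, fst, sq⟩ := ha b
  obtain ⟨fst, rfl⟩ := (yon S).map_surjective fst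
  exact ⟨W, fst, snd, sq⟩

theorem repWith_fst_of_isPullback {U V W : Over S} {a : (yon S).obj U ⟶ F} {b : (yon S).obj V ⟶ F}
    {fst : W ⟶ U} {snd : W ⟶ V}
    (sq : IsPullback ((yon S).map fst) ((yon S).map snd) a b) (ha : RepWith P a) : P snd.left :=
  ha.property b _ snd sq

/-- The pullback square in schemes over `S` underlying one of represented sheaves. -/
theorem isPullback_of_yon {U V W X : Over S} {f : U ⟶ X} {g : V ⟶ X} {fst : W ⟶ U} {snd : W ⟶ V}
    (sq : IsPullback ((yon S).map fst) ((yon S).map snd) ((yon S).map f) ((yon S).map g)) :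
    IsPullback fst snd f g :=
  IsPullback.of_map (yon S) ((yon S).map_injective (by simpa using sq.w)) sq

theorem isPullback_left {U V W X : Over S} {f : U ⟶ X} {g : V ⟶ X} {fst : W ⟶ U} {snd : W ⟶ V}
    (sq : IsPullback fst snd f g) : IsPullback fst.left snd.left f.left g.left :=
  sq.map (Over.forget S)

theorem monomorphisms_repWith_mono {f : F ⟶ G}
    (hf : RepWith (MorphismProperty.monomorphisms Scheme.{u}) f) : Mono f := by
  constructor
  intro Z a b hab
  -- test on sections
  ext T x
  let ta := yEquiv.symm (a.hom.app T x)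
  let tb := yEquiv.symm (b.hom.app T x)
  have hxy : ta ≫ f = tb ≫ f := by
    apply yEquiv.injective
    simp only [ta, tb, yEquiv, GrothendieckTopology.uliftYonedaEquiv_comp, Equiv.apply_symm_apply]
    exact congrArg (fun k : Z ⟶ G => k.hom.app T x) hab
  obtain ⟨W, snd, fst, sq⟩ := hf.rep (tb ≫ f)
  have hm : Mono snd.left := hf.property _ fst snd sq
  have hw : ta ≫ f = (yon S).map (𝟙 (unop T)) ≫ (tb ≫ f) := by simpa using hxy
  have hw' : tb ≫ f = (yon S).map (𝟙 (unop T)) ≫ (tb ≫ f) := by simp
  obtain ⟨la, hla⟩ := (yon S).map_surjective (sq.lift ta _ hw)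
  obtain ⟨lb, hlb⟩ := (yon S).map_surjective (sq.lift tb _ hw')
  have ea : la ≫ snd = 𝟙 (unop T) := (yon S).map_injective (by
    rw [(yon S).map_comp, hla, sq.lift_snd])
  have eb : lb ≫ snd = 𝟙 (unop T) := (yon S).map_injective (by
    rw [(yon S).map_comp, hlb, sq.lift_snd])
  have : la = lb := Over.OverMorphism.ext ((cancel_mono snd.left).1 (by
    rw [← Over.comp_left, ← Over.comp_left, ea, eb]))
  have : ta = tb := by
    refine (sq.lift_fst ta _ hw).symm.trans (Eq.trans ?_ (sq.lift_fst tb _ hw'))
    rw [← hla, ← hlb, this]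
  exact (yEquiv (U := unop T) (F := F)).symm.injective this

end Groth.AlgSpBasic
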