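import Groth.Prelude.Def_AlgSp
import Groth.Agent.AlgSpBasic.RepWith

/-!
# Diagonals of sheaves and fibre products of maps from schemes
-/

set_option autoImplicit false
universe u v w

open CategoryTheory CategoryTheory.Limits AlgebraicGeometry Opposite AlgSp

namespace Groth.AlgSpBasic

section General

variable {C : Type v} [Category.{w} C] [HasBinaryProducts C]

theorem isPullback_diag_of_isPullback {A B F P : C} {p : P ⟶ A} {q : P ⟶ B} {a : A ⟶ F} {b : B ⟶ F}
    (sq : IsPullback p q a b) :
    IsPullback (p ≫ a) (prod.lift p q) (Limits.diag F) (prod.map a b) := by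
  refine ⟨⟨by ext <;> simp [sq.w]⟩, ⟨PullbackCone.IsLimit.mk _ (fun s => sq.lift (s.snd ≫ prod.fst)
    (s.snd ≫ prod.snd) ?_) ?_ ?_ ?_⟩⟩
  · have h₁ := s.condition =≫ prod.fst
    have h₂ := s.condition =≫ prod.snd
    simp only [Category.assoc, prod.map_fst, prod.map_snd, prod.lift_fst, prod.lift_snd,
      Category.comp_id] at h₁ h₂ ⊢
    rw [← h₁, ← h₂]
  · intro s
    have h₁ := s.condition =≫ prod.fst
    simp only [Category.assoc, prod.map_fst, prod.lift_fst, Category.comp_id] at h₁
    simp [h₁]
  · intro s; ext <;> simp [prod.lift_fst, prod.lift_snd]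
  · intro s m _ h₂
    apply sq.hom_ext
    · have := h₂ =≫ prod.fst
      simpa [prod.lift_fst, prod.lift_snd] using this
    · have := h₂ =≫ prod.snd
      simpa [prod.lift_fst, prod.lift_snd] using this

theorem isPullback_of_diag {A B F P : C} {c : P ⟶ F} {d : P ⟶ A ⨯ B} {a : A ⟶ F} {b : B ⟶ F}
    (sq : IsPullback c d (Limits.diag F) (prod.map a b)) :
    IsPullback (d ≫ prod.fst) (d ≫ prod.snd) a b := by
  have h₁ := sq.w =≫ prod.fst
  have h₂ := sq.w =≫ prod.snd
  simp only [Category.assoc, prod.map_fst, prod.map_snd, prod.lift_fst, prod.lift_snd,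
    Category.comp_id] at h₁ h₂
  refine ⟨⟨by simp only [Category.assoc]; rw [← h₁, ← h₂]⟩, ⟨PullbackCone.IsLimit.mk _
    (fun s => sq.lift (s.fst ≫ a) (prod.lift s.fst s.snd)
      (by ext <;> simp [s.condition, prod.lift_fst, prod.lift_snd, prod.map_fst, prod.map_snd])) (fun s => by simp [prod.lift_fst]) (fun s => by simp [prod.lift_snd]) ?_⟩⟩
  intro s m e₁ e₂
  apply sq.hom_ext
  · simp only [IsPullback.lift_fst, h₁]
    rw [← e₁]
    simp
  · apply prod.hom_ext
    · simp [← e₁, ← e₂]
      exact (prod.lift_fst _ _).symm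
    · simp [← e₁, ← e₂]
      exact (prod.lift_snd _ _).symm

end General

variable {S : Scheme.{u}} {P : MorphismProperty Scheme.{u}} {F : Sp S}

/-- The square exhibiting a represented fibre product over `F` as a base change of the diagonal. -/
theorem isPullback_diag_yon {U V W : Over S} {a : (yon S).obj U ⟶ F} {b : (yon S).obj V ⟶ F}
    {fst : W ⟶ U} {snd : W ⟶ V} (sq : IsPullback ((yon S).map fst) ((yon S).map snd) a b) :
    IsPullback ((yon S).map fst ≫ a) ((yon S).map (prod.lift fst snd)) (Limits.diag F)
      (prodComparison (yon S) U V ≫ prod.map a b) :=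
  IsPullback.of_iso (isPullback_diag_of_isPullback sq) (Iso.refl _) (Iso.refl _)
    (asIso (prodComparison (yon S) U V)).symm (Iso.refl _) (by simp)
    (by
      simp only [Iso.refl_hom, Category.id_comp, Iso.symm_hom, asIso_inv]
      rw [IsIso.comp_inv_eq]
      apply prod.hom_ext
      · simp [prodComparison, ← Functor.map_comp]
        rw [prod.lift_fst, prod.lift_fst, prod.lift_fst]
      · simp [prodComparison, ← Functor.map_comp]
        rw [prod.lift_snd, prod.lift_snd, prod.lift_snd])
    (by simp) (by simp)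

theorem prop_lift_of_repWith_diag (h : RepWith P (Limits.diag F)) {U V W : Over S}
    {a : (yon S).obj U ⟶ F} {b : (yon S).obj V ⟶ F} {fst : W ⟶ U} {snd : W ⟶ V}
    (sq : IsPullback ((yon S).map fst) ((yon S).map snd) a b) : P (prod.lift fst snd).left :=
  h.property _ _ _ (isPullback_diag_yon sq)

theorem exists_pullback_of_diag (hF : Representable (Limits.diag F)) {U V : Over S}
    (a : (yon S).obj U ⟶ F) (b : (yon S).obj V ⟶ F) :
    ∃ (W : Over S) (fst : W ⟶ U) (snd : W ⟶ V),
      IsPullback ((yon S).map fst) ((yon S).map snd) a b :=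
  exists_pullback_yon (representable_of_diag hF a) b

/-- The diagonal has `P` as soon as all represented fibre products map to products with `P`. -/
theorem repWith_diag [P.IsStableUnderBaseChange]
    (h₁ : ∀ ⦃U V : Over S⦄ (a : (yon S).obj U ⟶ F) (b : (yon S).obj V ⟶ F),
      ∃ (W : Over S) (fst : W ⟶ U) (snd : W ⟶ V),
        IsPullback ((yon S).map fst) ((yon S).map snd) a b)
    (h₂ : ∀ ⦃U V W : Over S⦄ (a : (yon S).obj U ⟶ F) (b : (yon S).obj V ⟶ F) (fst : W ⟶ U)
      (snd : W ⟶ V), IsPullback ((yon S).map fst) ((yon S).map snd) a b →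
        P (prod.lift fst snd).left) :
    RepWith P (Limits.diag F) := by
  have : P.RespectsIso := MorphismProperty.IsStableUnderBaseChange.respectsIso
  refine repWith_of_exists fun U g => ?_
  obtain ⟨W, fst, snd, sq⟩ := h₁ (g ≫ prod.fst) (g ≫ prod.snd)
  have hW := isPullback_diag_yon sq
  have hp := h₂ _ _ fst snd sq
  have hd := IsPullback.of_hasPullback (prod.lift fst snd) (Limits.diag U)
  refine ⟨pullback (prod.lift fst snd) (Limits.diag U),
    (yon S).map (pullback.fst _ _) ≫ ((yon S).map fst ≫ (g ≫ prod.fst)), pullback.snd _ _, ?_,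
    P.of_isPullback (isPullback_left hd) hp⟩
  have hg : g = (yon S).map (Limits.diag U) ≫
      (prodComparison (yon S) U U ≫ prod.map (g ≫ prod.fst) (g ≫ prod.snd)) := by
    apply prod.hom_ext
    · simp only [prodComparison, Category.assoc, prod.map_fst, prod.lift_fst_assoc]
      rw [← Category.assoc ((yon S).map (Limits.diag U)), ← (yon S).map_comp,
        show Limits.diag U ≫ prod.fst = 𝟙 U from prod.lift_fst _ _]
      simp
    · simp only [prodComparison, Category.assoc, prod.map_snd, prod.lift_snd_assoc]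
      rw [← Category.assoc ((yon S).map (Limits.diag U)), ← (yon S).map_comp,
        show Limits.diag U ≫ prod.snd = 𝟙 U from prod.lift_snd _ _]
      simp
  rw [hg]
  convert (hd.map (yon S)).paste_horiz hW using 1
  rw [← hg]

theorem representable_diag_iff : Representable (Limits.diag F) ↔
    ∀ ⦃U : Over S⦄ (g : (yon S).obj U ⟶ F), Representable g :=
  ⟨fun h _ g => Functor.relativelyRepresentable.of_diag h g,
    fun h => Functor.relativelyRepresentable.diag_of_map_from_obj (F := yon S) (X := F) h⟩

theorem representable_diag_of_exists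
    (h : ∀ ⦃U V : Over S⦄ (a : (yon S).obj U ⟶ F) (b : (yon S).obj V ⟶ F),
      ∃ (W : Over S) (fst : W ⟶ U) (snd : W ⟶ V),
        IsPullback ((yon S).map fst) ((yon S).map snd) a b) :
    Representable (Limits.diag F) := by
  rw [representable_diag_iff]
  intro U a V b
  obtain ⟨W, fst, snd, sq⟩ := h a b
  exact ⟨W, snd, _, sq⟩

end Groth.AlgSpBasic
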