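import Groth.Prelude.Def_AlgSp3
import Groth.Agent.AlgSpBasic.RepWith
import Groth.Agent.AlgSpBasic.Diag

/-!
# Fibre products of algebraic spaces and charts
-/

set_option autoImplicit false
set_option backward.isDefEq.respectTransparency.types false
universe u

open CategoryTheory CategoryTheory.Limits AlgebraicGeometry Opposite AlgSp

namespace Groth.AlgSpBasic

variable {S : Scheme.{u}}

/-- If `P → X` and `P → Y` are jointly monomorphic and `X`, `Y` have representable diagonals, so does `P`. -/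
theorem representable_diag_of_jointlyMono {P X Y : Sp S} (f : P ⟶ X) (g : P ⟶ Y)
    (hjm : ∀ ⦃Z : Sp S⦄ (a b : Z ⟶ P), a ≫ f = b ≫ f → a ≫ g = b ≫ g → a = b)
    (hX : Representable (Limits.diag X)) (hY : Representable (Limits.diag Y)) :
    Representable (Limits.diag P) := by
  refine representable_diag_of_exists fun U V a b => ?_
  obtain ⟨W₁, p₁, q₁, sq₁⟩ := exists_pullback_of_diag hX (a ≫ f) (b ≫ f)
  obtain ⟨W₂, p₂, q₂, sq₂⟩ := exists_pullback_of_diag hY (a ≫ g) (b ≫ g)
  have hsq := IsPullback.of_hasPullback (prod.lift p₁ q₁) (prod.lift p₂ q₂)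
  have e₁ : pullback.fst (prod.lift p₁ q₁) (prod.lift p₂ q₂) ≫ p₁ = pullback.snd _ _ ≫ p₂ := by
    have := hsq.w =≫ prod.fst
    rwa [Category.assoc, Category.assoc, prod.lift_fst, prod.lift_fst] at this
  have e₂ : pullback.fst (prod.lift p₁ q₁) (prod.lift p₂ q₂) ≫ q₁ = pullback.snd _ _ ≫ q₂ := by
    have := hsq.w =≫ prod.snd
    rwa [Category.assoc, Category.assoc, prod.lift_snd, prod.lift_snd] at this
  let r := pullback.fst (prod.lift p₁ q₁) (prod.lift p₂ q₂)
  let r' := pullback.snd (prod.lift p₁ q₁) (prod.lift p₂ q₂)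
  have w : (yon S).map (r ≫ p₁) ≫ a = (yon S).map (r ≫ q₁) ≫ b := by
    apply hjm
    · simp only [Functor.map_comp, Category.assoc]
      rw [sq₁.w]
    · rw [show r ≫ p₁ = r' ≫ p₂ from e₁, show r ≫ q₁ = r' ≫ q₂ from e₂]
      simp only [Functor.map_comp, Category.assoc]
      rw [sq₂.w]
  have hM : IsPullback ((yon S).map r) ((yon S).map r') ((yon S).map (prod.lift p₁ q₁))
      ((yon S).map (prod.lift p₂ q₂)) := hsq.map (yon S)
  have hh : ∀ s : PullbackCone a b,
      sq₁.lift s.fst s.snd (by rw [← Category.assoc, s.condition, Category.assoc]) ≫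
          (yon S).map (prod.lift p₁ q₁) =
        sq₂.lift s.fst s.snd (by rw [← Category.assoc, s.condition, Category.assoc]) ≫
          (yon S).map (prod.lift p₂ q₂) := by
    intro s
    apply (cancel_mono (prodComparison (yon S) U V)).1
    apply prod.hom_ext <;>
      simp only [Category.assoc, prodComparison_fst, prodComparison_snd, ← Functor.map_comp,
        prod.lift_fst, prod.lift_snd, IsPullback.lift_fst, IsPullback.lift_snd]
  refine ⟨pullback (prod.lift p₁ q₁) (prod.lift p₂ q₂), r ≫ p₁, r ≫ q₁, ⟨w⟩,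
    ⟨PullbackCone.IsLimit.mk _ (fun s => hM.lift _ _ (hh s)) ?_ ?_ ?_⟩⟩
  · intro s; rw [Functor.map_comp, hM.lift_fst_assoc, sq₁.lift_fst]
  · intro s; rw [Functor.map_comp, hM.lift_fst_assoc, sq₁.lift_snd]
  · intro s m h₁ h₂
    apply hM.hom_ext
    · rw [hM.lift_fst]
      apply sq₁.hom_ext
      · rw [sq₁.lift_fst, Category.assoc, ← Functor.map_comp]; exact h₁
      · rw [sq₁.lift_snd, Category.assoc, ← Functor.map_comp]; exact h₂
    · rw [hM.lift_snd]
      apply sq₂.hom_ext
      · rw [sq₂.lift_fst, Category.assoc, ← Functor.map_comp,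
          show r' ≫ p₂ = r ≫ p₁ from e₁.symm]; exact h₁
      · rw [sq₂.lift_snd, Category.assoc, ← Functor.map_comp,
          show r' ≫ q₂ = r ≫ q₁ from e₂.symm]; exact h₂

theorem representable_diag_of_isPullback {P X Y H : Sp S} {fst : P ⟶ X} {snd : P ⟶ Y} {f : X ⟶ H}
    {g : Y ⟶ H} (sq : IsPullback fst snd f g) (hX : Representable (Limits.diag X))
    (hY : Representable (Limits.diag Y)) : Representable (Limits.diag P) :=
  representable_diag_of_jointlyMono fst snd (fun _ _ _ => sq.hom_ext) hX hY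

/-- The product chart of a fibre product. -/
theorem exists_chart_of_isPullback {P X Y H : Sp S} {fst : P ⟶ X} {snd : P ⟶ Y} {f : X ⟶ H}
    {g : Y ⟶ H} (sq : IsPullback fst snd f g) (hH : Representable (Limits.diag H)) {U V : Over S}
    (p : (yon S).obj U ⟶ X) (q : (yon S).obj V ⟶ Y) :
    ∃ (W : Over S) (w₁ : W ⟶ U) (w₂ : W ⟶ V) (r : (yon S).obj W ⟶ P),
      IsPullback ((yon S).map w₁) ((yon S).map w₂) (p ≫ f) (q ≫ g) ∧
      r ≫ fst = (yon S).map w₁ ≫ p ∧ r ≫ snd = (yon S).map w₂ ≫ q ∧
      ∀ (Q : MorphismProperty Scheme.{u}) [Q.IsStableUnderBaseChange] [Q.IsStableUnderComposition],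
        RepWith Q p → RepWith Q q → RepWith Q r := by
  obtain ⟨W, w₁, w₂, hW⟩ := exists_pullback_of_diag hH (p ≫ f) (q ≫ g)
  have hA := IsPullback.of_hasPullback fst p
  have hA' : IsPullback (pullback.snd fst p) (pullback.fst fst p ≫ snd) (p ≫ f) g :=
    hA.flip.paste_vert sq
  let v : (yon S).obj W ⟶ Limits.pullback fst p :=
    hA'.lift ((yon S).map w₁) ((yon S).map w₂ ≫ q) (by rw [hW.w, Category.assoc])
  have hv₂ : v ≫ pullback.fst fst p ≫ snd = (yon S).map w₂ ≫ q := hA'.lift_snd _ _ _
  have hB : IsPullback ((yon S).map w₂) v q (pullback.fst fst p ≫ snd) := by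
    refine (IsPullback.of_right (h₁₁ := v) (h₁₂ := pullback.snd fst p) ?_ hv₂ hA').flip
    rw [hA'.lift_fst]
    exact hW
  refine ⟨W, w₁, w₂, v ≫ pullback.fst fst p, hW, ?_, ?_, ?_⟩
  · rw [Category.assoc, pullback.condition, ← Category.assoc, hA'.lift_fst]
  · rw [Category.assoc]; exact hv₂
  · intro Q _ _ hp hq
    have : Q.RespectsIso := MorphismProperty.IsStableUnderBaseChange.respectsIso
    exact repWith_comp (repWith_of_isPullback hB hq) (repWith_of_isPullback hA.flip hp)

theorem isAlgSpace_of_isPullback {P X Y H : Sp S} {fst : P ⟶ X} {snd : P ⟶ Y} {f : X ⟶ H}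
    {g : Y ⟶ H} (sq : IsPullback fst snd f g) (hH : Representable (Limits.diag H))
    (hX : IsAlgSpace X) (hY : IsAlgSpace Y) : IsAlgSpace P where
  diag := representable_diag_of_isPullback sq hX.diag hY.diag
  atlas := by
    obtain ⟨U, p, hpe, hps⟩ := hX.atlas
    obtain ⟨V, q, hqe, hqs⟩ := hY.atlas
    obtain ⟨W, w₁, w₂, r, -, -, -, hr⟩ := exists_chart_of_isPullback sq hH p q
    exact ⟨W, r, hr @Etale hpe hqe, hr @Surjective hps hqs⟩

theorem isAlgSpace_pullback (X Y Z : Space S) (f : X.obj ⟶ Z.obj) (g : Y.obj ⟶ Z.obj) :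
    IsAlgSpace (pullback f g) :=
  isAlgSpace_of_isPullback (IsPullback.of_hasPullback f g) Z.property.diag X.property Y.property

instance isClosedUnderLimits_walkingCospan :
    ObjectProperty.IsClosedUnderLimitsOfShape (IsAlgSpace (S := S)) WalkingCospan := by
  constructor
  rintro X ⟨p⟩
  have hp : IsPullback (p.π.app WalkingCospan.left) (p.π.app WalkingCospan.right)
      (p.diag.map WalkingCospan.Hom.inl) (p.diag.map WalkingCospan.Hom.inr) :=
    IsPullback.of_isLimit_cone p.isLimit
  exact isAlgSpace_of_isPullback hp (p.prop_diag_obj WalkingCospan.one).diag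
    (p.prop_diag_obj WalkingCospan.left) (p.prop_diag_obj WalkingCospan.right)

/-- A lift of an etale surjective chart along a morphism of algebraic spaces. -/
theorem exists_chart_over {X Y : Sp S} (hX : IsAlgSpace X) (hY : Representable (Limits.diag Y))
    (a : X ⟶ Y) {V : Over S} (q : (yon S).obj V ⟶ Y) (hqe : RepWith @Etale q)
    (hqs : RepWith @Surjective q) :
    ∃ (U : Over S) (p : (yon S).obj U ⟶ X) (α : U ⟶ V),
      RepWith @Etale p ∧ RepWith @Surjective p ∧ p ≫ a = (yon S).map α ≫ q := by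
  obtain ⟨U₀, p₀, he, hs⟩ := hX.atlas
  obtain ⟨U, fst, snd, sq⟩ := exists_pullback_of_diag hY (p₀ ≫ a) q
  have he' : RepWith @Etale ((yon S).map fst) := repWith_of_isPullback sq.flip hqe
  have hs' : RepWith @Surjective ((yon S).map fst) := repWith_of_isPullback sq.flip hqs
  exact ⟨U, (yon S).map fst ≫ p₀, snd, repWith_comp he' he, repWith_comp hs' hs,
    by rw [Category.assoc]; exact sq.w⟩

/-- A sheaf representable over an algebraic space is an algebraic space. -/
theorem isAlgSpace_of_representable {X G : Sp S} (hX : IsAlgSpace X) (a : G ⟶ X)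
    (ha : Representable a) : IsAlgSpace G where
  diag := by
    rw [representable_diag_iff]
    intro U g
    obtain ⟨W, snd, fst, sq⟩ := ha (g ≫ a)
    obtain ⟨σ, hσ⟩ := (yon S).map_surjective (sq.lift g (𝟙 _) (Category.id_comp _).symm)
    have e : g = (yon S).map σ ≫ fst := by rw [hσ, sq.lift_fst]
    rw [e]
    exact MorphismProperty.comp_mem _ _ _ (representable_yon_map σ)
      (MorphismProperty.of_isPullback sq.flip (representable_of_diag hX.diag _))
  atlas := by
    obtain ⟨U, p, he, hs⟩ := hX.atlas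
    obtain ⟨V, snd, fst, sq⟩ := ha p
    exact ⟨V, fst, repWith_of_isPullback sq.flip he, repWith_of_isPullback sq.flip hs⟩

end Groth.AlgSpBasic
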