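import Mathlib.RingTheory.Smooth.NoetherianDescent
import Mathlib.RingTheory.Smooth.Flat
import Mathlib.RingTheory.Flat.FaithfullyFlat.Algebra
import Mathlib.RingTheory.Spectrum.Prime.Chevalley
import Mathlib.RingTheory.FinitePresentation
import Mathlib.RingTheory.Polynomial.Basic

/-!
# Finite type and finite presentation descend along smooth surjections on the source
-/

set_option autoImplicit false
universe u

open TensorProduct

namespace Groth.AlgSpBasic.SourceDescent

variable {A₀ P C₀ : Type u} [CommRing A₀] [CommRing P] [CommRing C₀]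

/-- Base change of a flat algebra whose image contains the complement of `V(J)` is faithfully flat
when `J` becomes the unit ideal. -/
theorem faithfullyFlat_of_ideal [Algebra A₀ P] [Algebra A₀ C₀] [Module.Flat A₀ C₀] (J : Ideal A₀)
    (hJ : (PrimeSpectrum.zeroLocus (J : Set A₀))ᶜ ⊆
      Set.range (PrimeSpectrum.comap (algebraMap A₀ C₀)))
    (hP : J.map (algebraMap A₀ P) = ⊤) : Module.FaithfullyFlat P (P ⊗[A₀] C₀) := by
  refine Module.FaithfullyFlat.of_comap_surjective fun q => ?_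
  change q ∈ Set.range _
  rw [← PrimeSpectrum.nontrivial_iff_mem_rangeComap]
  let q₀ := PrimeSpectrum.comap (algebraMap A₀ P) q
  have hq₀ : q₀ ∈ Set.range (PrimeSpectrum.comap (algebraMap A₀ C₀)) := hJ fun h => by
    have h' : J ≤ q.asIdeal.comap (algebraMap A₀ P) := h
    exact q.isPrime.ne_top (top_le_iff.1 (hP ▸ Ideal.map_le_iff_le_comap.2 h'))
  have := (PrimeSpectrum.nontrivial_iff_mem_rangeComap q₀).2 hq₀
  let : Algebra q₀.asIdeal.ResidueField q.asIdeal.ResidueField :=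
    (Ideal.ResidueField.map q₀.asIdeal q.asIdeal (algebraMap A₀ P) rfl).toAlgebra
  have : IsScalarTower A₀ q₀.asIdeal.ResidueField q.asIdeal.ResidueField :=
    .of_algebraMap_eq fun x => by
      rw [IsScalarTower.algebraMap_apply A₀ P q.asIdeal.ResidueField]
      exact (Ideal.ResidueField.map_algebraMap q₀.asIdeal q.asIdeal _ rfl x).symm
  let e₁ := Algebra.TensorProduct.cancelBaseChange A₀ P q.asIdeal.ResidueField
    q.asIdeal.ResidueField C₀
  let e₂ := Algebra.TensorProduct.cancelBaseChange A₀ q₀.asIdeal.ResidueField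
    q.asIdeal.ResidueField q.asIdeal.ResidueField C₀
  exact (e₁.trans e₂.symm).toEquiv.nontrivial

theorem exists_model (B C : Type u) [CommRing B] [CommRing C] [Algebra B C] [Algebra.Smooth B C]
    (hs : Function.Surjective (PrimeSpectrum.comap (algebraMap B C))) :
    ∃ (A₀ : Subalgebra ℤ B) (C₀ : Type u) (_ : CommRing C₀) (_ : Algebra A₀ C₀) (J : Ideal A₀),
      A₀.FG ∧ Algebra.Smooth A₀ C₀ ∧ Nonempty (C ≃ₐ[B] B ⊗[A₀] C₀) ∧
      (PrimeSpectrum.zeroLocus (J : Set A₀))ᶜ ⊆
        Set.range (PrimeSpectrum.comap (algebraMap A₀ C₀)) ∧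
      J.map (algebraMap A₀ B) = ⊤ := by
  obtain ⟨A₀, C₀, _, _, hfg, hsm, ⟨e⟩⟩ := Algebra.Smooth.exists_subalgebra_fg ℤ B C
  have hopen := (PrimeSpectrum.isOpenMap_comap_of_hasGoingDown_of_finitePresentation
    (R := A₀) (S := C₀)).isOpen_range
  obtain ⟨s, hs'⟩ := (PrimeSpectrum.isOpen_iff _).1 hopen
  refine ⟨A₀, C₀, inferInstance, inferInstance, Ideal.span s, hfg, hsm, ⟨e⟩, ?_, ?_⟩
  · rw [PrimeSpectrum.zeroLocus_span, ← hs', compl_compl]
  · by_contra hne
    obtain ⟨m, hm, hle⟩ := Ideal.exists_le_maximal _ hne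
    obtain ⟨r, hr⟩ := hs ⟨m, hm.isPrime⟩
    have h1 : PrimeSpectrum.comap (algebraMap A₀ B) ⟨m, hm.isPrime⟩ ∈
        Set.range (PrimeSpectrum.comap (algebraMap A₀ C₀)) := by
      refine ⟨PrimeSpectrum.comap
        (Algebra.TensorProduct.includeRight : C₀ →ₐ[A₀] B ⊗[A₀] C₀).toRingHom
          (PrimeSpectrum.comap e.symm.toRingEquiv.toRingHom r), ?_⟩
      rw [← hr]
      apply PrimeSpectrum.ext
      ext x
      simp only [PrimeSpectrum.comap_asIdeal, Ideal.mem_comap, AlgHom.toRingHom_eq_coe,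
        RingHom.coe_coe]
      show e.symm ((Algebra.TensorProduct.includeRight : C₀ →ₐ[A₀] B ⊗[A₀] C₀)
        (algebraMap A₀ C₀ x)) ∈ r.asIdeal ↔ _
      rw [(Algebra.TensorProduct.includeRight : C₀ →ₐ[A₀] B ⊗[A₀] C₀).commutes x]
      exact Iff.of_eq (congrArg (· ∈ r.asIdeal) (e.symm.commutes (algebraMap A₀ B x)))
    have h2 : PrimeSpectrum.comap (algebraMap A₀ B) ⟨m, hm.isPrime⟩ ∈
        PrimeSpectrum.zeroLocus s := fun x hx =>
      hle (Ideal.mem_map_of_mem _ (Ideal.subset_span hx))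
    rw [← hs'] at h2
    exact h2 h1

/-- A finite set witnessing that `J` generates the unit ideal. -/
theorem exists_finset_map_eq_top [Algebra A₀ P] (J : Ideal A₀)
    (hJ : J.map (algebraMap A₀ P) = ⊤) :
    ∃ (n : ℕ) (b : Fin n → P) (j : Fin n → A₀), (∀ k, j k ∈ J) ∧
      ∑ k, b k * algebraMap A₀ P (j k) = 1 := by
  have h1 : (1 : P) ∈ Submodule.span P (algebraMap A₀ P '' (J : Set A₀)) := by
    show (1 : P) ∈ J.map (algebraMap A₀ P)
    rw [hJ]
    exact Submodule.mem_top
  obtain ⟨n, b, g, hg⟩ := Submodule.mem_span_set'.1 h1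
  choose j hj hgj using fun k => (g k).2
  exact ⟨n, b, j, hj, by simp only [hgj]; simpa [smul_eq_mul] using hg⟩

theorem finiteType_of_smooth_surjective (A B C : Type u) [CommRing A] [CommRing B] [CommRing C]
    [Algebra A B] [Algebra B C] [Algebra A C] [IsScalarTower A B C] [Algebra.Smooth B C]
    [Algebra.FiniteType A C] (hs : Function.Surjective (PrimeSpectrum.comap (algebraMap B C))) :
    Algebra.FiniteType A B := by
  classical
  obtain ⟨A₀, C₀, _, _, J, ⟨gA, hgA⟩, hsm, ⟨e⟩, hJ, hJB⟩ := exists_model B C hs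
  obtain ⟨n, b, j, hj, hbj⟩ := exists_finset_map_eq_top J hJB
  obtain ⟨gC, hgC⟩ := Algebra.FiniteType.out (R := A) (A := C)
  -- write each generator as a finite sum of pure tensors
  choose T hT using fun c : C => TensorProduct.exists_finset (e c)
  obtain ⟨s, hsfin, hsA, hsb, hsT⟩ : ∃ s : Set B, s.Finite ∧ (↑gA : Set B) ⊆ s ∧
      Set.range b ⊆ s ∧ ∀ c ∈ gC, ∀ p ∈ T c, p.1 ∈ s :=
    ⟨↑gA ∪ Set.range b ∪ ⋃ c ∈ gC, Prod.fst '' (↑(T c) : Set (B × C₀)),
      (gA.finite_toSet.union (Set.finite_range b)).union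
        (gC.finite_toSet.biUnion fun c _ => (T c).finite_toSet.image _),
      fun x hx => Or.inl (Or.inl hx), fun x hx => Or.inl (Or.inr hx),
      fun c hc p hp => Or.inr (Set.mem_biUnion hc ⟨p, hp, rfl⟩)⟩
  let A₁ : Subalgebra A B := Algebra.adjoin A s
  have hA₁ : A₁.FG := Subalgebra.fg_def.2 ⟨s, hsfin, rfl⟩
  have h₀ : ∀ x ∈ A₀, x ∈ A₁ := fun x hx => by
    rw [← hgA] at hx
    induction hx using Algebra.adjoin_induction with
    | mem y hy => exact Algebra.subset_adjoin (hsA hy)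
    | algebraMap r => rw [eq_intCast (algebraMap ℤ B) r]; exact intCast_mem A₁.toSubring r
    | add y z _ _ hy hz => exact add_mem hy hz
    | mul y z _ _ hy hz => exact mul_mem hy hz
  have hb : ∀ k, b k ∈ A₁ := fun k => Algebra.subset_adjoin (hsb ⟨k, rfl⟩)
  let : Algebra A₀ A₁ := ((algebraMap A₀ B).codRestrict A₁.toSubring
    fun x => h₀ x.1 x.2).toAlgebra
  have : IsScalarTower A₀ A₁ B := .of_algebraMap_eq fun _ => rfl
  have hJ₁ : J.map (algebraMap A₀ A₁) = ⊤ := by
    rw [Ideal.eq_top_iff_one]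
    have : (∑ k, ⟨b k, hb k⟩ * algebraMap A₀ A₁ (j k) : A₁) = 1 := Subtype.ext (by
      push_cast
      exact hbj)
    rw [← this]
    exact Ideal.sum_mem _ fun k _ => Ideal.mul_mem_left _ _ (Ideal.mem_map_of_mem _ (hj k))
  have := faithfullyFlat_of_ideal (P := A₁) (C₀ := C₀) J hJ hJ₁
  let φ : A₁ ⊗[A₀] C₀ →ₐ[A₀] B ⊗[A₀] C₀ :=
    Algebra.TensorProduct.map (IsScalarTower.toAlgHom A₀ A₁ B) (AlgHom.id A₀ C₀)
  -- `φ` is surjective
  have hφ : Function.Surjective φ := by
    let R : Subalgebra A C :=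
      { carrier := {c | e c ∈ φ.range}
        mul_mem' := fun {x y} hx hy => by
          show e (x * y) ∈ φ.range
          rw [map_mul]; exact φ.range.mul_mem hx hy
        add_mem' := fun {x y} hx hy => by
          show e (x + y) ∈ φ.range
          rw [map_add]; exact φ.range.add_mem hx hy
        algebraMap_mem' := fun a => by
          show e (algebraMap A C a) ∈ φ.range
          refine ⟨(⟨algebraMap A B a, A₁.algebraMap_mem a⟩ : A₁) ⊗ₜ 1, ?_⟩
          rw [IsScalarTower.algebraMap_apply A B C, e.commutes]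
          rfl }
    have hR : R = ⊤ := by
      rw [eq_top_iff, ← hgC, Algebra.adjoin_le_iff]
      intro c hc
      show e c ∈ φ.range
      rw [hT c]
      refine φ.range.sum_mem fun p hp => ?_
      refine ⟨(⟨p.1, Algebra.subset_adjoin (hsT c hc p hp)⟩ : A₁) ⊗ₜ p.2, ?_⟩
      rfl
    intro x
    have hx : e.symm x ∈ R := hR ▸ Algebra.mem_top
    have : e (e.symm x) ∈ φ.range := hx
    rwa [AlgEquiv.apply_symm_apply] at this
  -- descend surjectivity of `A₁ → B`
  let ι : A₁ →ₗ[A₁] B := (IsScalarTower.toAlgHom A₁ A₁ B).toLinearMap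
  have hι : Function.Surjective (ι.lTensor (A₁ ⊗[A₀] C₀)) := by
    intro y
    let E := (TensorProduct.comm A₁ (A₁ ⊗[A₀] C₀) B).trans
      (Algebra.TensorProduct.cancelBaseChange A₀ A₁ A₁ B C₀).toLinearEquiv
    obtain ⟨x, hx⟩ := hφ (E y)
    refine ⟨x ⊗ₜ 1, E.injective ?_⟩
    rw [← hx]
    clear hx
    induction x with
    | zero => simp
    | tmul a c =>
      simp only [LinearMap.lTensor_tmul, E, LinearEquiv.trans_apply, TensorProduct.comm_tmul,
        AlgEquiv.toLinearEquiv_apply, Algebra.TensorProduct.cancelBaseChange_tmul, φ,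
        Algebra.TensorProduct.map_tmul, AlgHom.id_apply]
      simp [ι, Algebra.smul_def]
      rfl
    | add u v hu hv => simp only [add_tmul, map_add, hu, hv]
  have hB : Function.Surjective ι :=
    (Module.FaithfullyFlat.lTensor_surjective_iff_surjective A₁ (A₁ ⊗[A₀] C₀) ι).1 hι
  have : A₁ = ⊤ := eq_top_iff.2 fun x _ => by
    obtain ⟨y, rfl⟩ := hB x
    exact y.2
  exact ⟨this ▸ hA₁⟩

theorem exists_fg_le_map {R T : Type u} [CommRing R] [CommRing T] (I : Ideal R) (f : R →+* T)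
    (G : Finset T) (h : ∀ g ∈ G, g ∈ I.map f) :
    ∃ G' : Ideal R, (G'.FG ∧ G' ≤ I) ∧ ∀ g ∈ G, g ∈ G'.map f := by
  classical
  induction G using Finset.induction with
  | empty => exact ⟨⊥, ⟨Submodule.fg_bot, bot_le⟩, by simp⟩
  | insert a s _ ih =>
    obtain ⟨G', ⟨h₁, h₂⟩, h₃⟩ := ih fun g hg => h g (Finset.mem_insert_of_mem hg)
    obtain ⟨t, ht, hta⟩ := Submodule.mem_span_finite_of_mem_span (h a (Finset.mem_insert_self _ _))
    obtain ⟨t', ht', rfl⟩ := Finset.subset_set_image_iff.1 ht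
    refine ⟨G' ⊔ Ideal.span t', ⟨Submodule.FG.sup h₁ ⟨t', rfl⟩, sup_le h₂ (Ideal.span_le.2 ht')⟩, ?_⟩
    intro g hg
    rcases Finset.mem_insert.1 hg with rfl | hg
    · refine Ideal.map_mono le_sup_right ?_
      rw [Ideal.map_span]
      simpa using hta
    · exact Ideal.map_mono le_sup_left (h₃ g hg)


/-- The kernel of `P₁ → B` is finitely generated when a faithfully flat finitely presented
base change of it is a presentation of a finitely presented algebra. -/
theorem finitePresentation_of_model (A P₁ B A₀ C₀ C : Type u) [CommRing A] [CommRing P₁] [CommRing B]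
    [CommRing A₀] [CommRing C₀] [CommRing C] [Algebra A P₁] [Algebra A B] [Algebra P₁ B]
    [IsScalarTower A P₁ B] [Algebra A₀ P₁] [Algebra A₀ B] [IsScalarTower A₀ P₁ B] [Algebra A₀ C₀]
    [Algebra B C] [Algebra A C] [IsScalarTower A B C] [Algebra.FinitePresentation A P₁]
    [Algebra.FinitePresentation A₀ C₀] [Algebra.FinitePresentation A C]
    [Module.FaithfullyFlat P₁ (P₁ ⊗[A₀] C₀)] (e : C ≃ₐ[B] B ⊗[A₀] C₀)
    (hπ₁ : Function.Surjective (algebraMap P₁ B)) : Algebra.FinitePresentation A B := by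
  let π₁ : P₁ →ₐ[A] B := IsScalarTower.toAlgHom A P₁ B
  -- compare `C₁ = P₁ ⊗ C₀` with `C`
  let φ : P₁ ⊗[A₀] C₀ →ₐ[A₀] B ⊗[A₀] C₀ :=
    Algebra.TensorProduct.map (IsScalarTower.toAlgHom A₀ P₁ B) (AlgHom.id A₀ C₀)
  have hφker : RingHom.ker φ =
      (RingHom.ker π₁).map (algebraMap P₁ (P₁ ⊗[A₀] C₀)) :=
    by
    rw [show RingHom.ker π₁ = RingHom.ker (IsScalarTower.toAlgHom A₀ P₁ B) from rfl,
      Algebra.TensorProduct.rTensor_ker _ hπ₁]
    rfl
  let θ : P₁ ⊗[A₀] C₀ →ₐ[A] C :=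
    { toRingHom := (e.symm.toRingEquiv.toRingHom).comp φ.toRingHom
      commutes' := fun a => by
        show e.symm (φ (algebraMap P₁ (P₁ ⊗[A₀] C₀) (algebraMap A P₁ a))) = _
        rw [Algebra.TensorProduct.algebraMap_apply, Algebra.algebraMap_self_apply]
        simp only [φ, Algebra.TensorProduct.map_tmul, AlgHom.id_apply, IsScalarTower.coe_toAlgHom']
        rw [← IsScalarTower.algebraMap_apply A P₁ B,
          IsScalarTower.algebraMap_apply A B C]
        exact e.symm.commutes _ }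
  have hθ : Function.Surjective θ := by
    have hφs : Function.Surjective φ :=
      TensorProduct.map_surjective hπ₁ Function.surjective_id
    exact e.symm.surjective.comp hφs
  have : Algebra.FinitePresentation A (P₁ ⊗[A₀] C₀) :=
    Algebra.FinitePresentation.trans A P₁ (P₁ ⊗[A₀] C₀)
  have hfg := Algebra.FinitePresentation.ker_fG_of_surjective θ hθ
  have hθker : RingHom.ker θ = (RingHom.ker π₁).map (algebraMap P₁ (P₁ ⊗[A₀] C₀)) := by
    rw [← hφker]
    ext z
    show e.symm (φ z) = 0 ↔ φ z = 0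
    exact e.symm.map_eq_zero_iff
  obtain ⟨G, hG⟩ := hθker ▸ hfg
  obtain ⟨G', hG', hGG'⟩ := exists_fg_le_map (RingHom.ker π₁)
    (algebraMap P₁ (P₁ ⊗[A₀] C₀)) G (fun g hg => hG ▸ Ideal.subset_span hg)
  have e' : RingHom.ker π₁ = G' := by
    refine le_antisymm ?_ hG'.2
    rw [← G'.comap_map_eq_self_of_faithfullyFlat (B := P₁ ⊗[A₀] C₀), ← Ideal.map_le_iff_le_comap,
      ← hG, Ideal.span_le]
    exact hGG'
  exact Algebra.FinitePresentation.of_surjective (f := π₁) hπ₁ (e' ▸ hG'.1)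

set_option maxHeartbeats 1000000 in
theorem finitePresentation_of_smooth_surjective (A B C : Type u) [CommRing A] [CommRing B]
    [CommRing C] [Algebra A B] [Algebra B C] [Algebra A C] [IsScalarTower A B C]
    [Algebra.Smooth B C] [Algebra.FinitePresentation A C]
    (hs : Function.Surjective (PrimeSpectrum.comap (algebraMap B C))) :
    Algebra.FinitePresentation A B := by
  classical
  have := finiteType_of_smooth_surjective A B C hs
  obtain ⟨m, π, hπ⟩ := Algebra.FiniteType.iff_quotient_mvPolynomial''.1 this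
  obtain ⟨A₀, C₀, _, _, J, hA₀, hsm, ⟨e⟩, hJ, hJB⟩ := exists_model B C hs
  obtain ⟨n, b, j, hj, hbj⟩ := exists_finset_map_eq_top J hJB
  have : Algebra.FiniteType ℤ A₀ := (Subalgebra.fg_iff_finiteType A₀).1 hA₀
  obtain ⟨l, ψ, hψ⟩ := Algebra.FiniteType.iff_quotient_mvPolynomial''.1 this
  -- lift the model to the polynomial ring
  choose x hx using fun i => hπ (algebraMap A₀ B (ψ (MvPolynomial.X i)))
  let χ : MvPolynomial (Fin l) ℤ →ₐ[ℤ] MvPolynomial (Fin m) A := MvPolynomial.aeval x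
  have hχ : ∀ p, π (χ p) = algebraMap A₀ B (ψ p) := by
    have : (π.restrictScalars ℤ).comp χ = (IsScalarTower.toAlgHom ℤ A₀ B).comp ψ :=
      MvPolynomial.algHom_ext fun i => by
        simp [χ, hx]
    exact fun p => congrArg (fun f => f p) this
  choose β hβ using fun k => hπ (b k)
  choose jt hjt using fun k => hψ (j k)
  obtain ⟨gK, hgK⟩ : (RingHom.ker ψ).FG := IsNoetherian.noetherian _
  let e₀ : MvPolynomial (Fin m) A := 1 - ∑ k, β k * χ (jt k)
  have he₀ : π e₀ = 0 := by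
    simp only [e₀, map_sub, map_one, map_sum, map_mul, hβ, hχ, hjt, hbj, sub_self]
  let K : Ideal (MvPolynomial (Fin m) A) := Ideal.span (insert e₀ (χ '' (gK : Set _)))
  have hK : K ≤ RingHom.ker π := by
    rw [Ideal.span_le]
    rintro _ (rfl | ⟨p, hp, rfl⟩)
    · exact he₀
    · show π (χ p) = 0
      rw [hχ, show ψ p = 0 from (RingHom.mem_ker).1 (hgK ▸ Ideal.subset_span hp), map_zero]
  have hKfg : K.FG := Submodule.fg_span ((gK.finite_toSet.image _).insert _)
  let P₁ := MvPolynomial (Fin m) A ⧸ K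
  let π₁ : P₁ →ₐ[A] B := Ideal.Quotient.liftₐ K π fun p hp => hK hp
  have hπ₁ : Function.Surjective π₁ := fun y => by
    obtain ⟨p, rfl⟩ := hπ y; exact ⟨Ideal.Quotient.mk K p, rfl⟩
  have : Algebra.FinitePresentation A P₁ := Algebra.FinitePresentation.quotient hKfg
  -- `P₁` is an algebra over `A₀`
  let γ : A₀ →+* P₁ := RingHom.liftOfSurjective ψ.toRingHom hψ
    ⟨(Ideal.Quotient.mk K).comp χ.toRingHom, by
      rw [show RingHom.ker ψ.toRingHom = RingHom.ker ψ from rfl, ← hgK, Ideal.span_le]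
      intro p hp
      exact Ideal.Quotient.eq_zero_iff_mem.2 (Ideal.subset_span (Or.inr ⟨p, hp, rfl⟩))⟩
  have hγ : ∀ p, γ (ψ p) = Ideal.Quotient.mk K (χ p) :=
    RingHom.liftOfRightInverse_comp_apply ψ.toRingHom _ _ _
  let : Algebra A₀ P₁ := γ.toAlgebra
  let : Algebra P₁ B := π₁.toRingHom.toAlgebra
  have : IsScalarTower A P₁ B := .of_algebraMap_eq fun a => (π₁.commutes a).symm
  have : IsScalarTower A₀ P₁ B := .of_algebraMap_eq fun a => by
    obtain ⟨p, rfl⟩ := hψ a
    show _ = π₁ (γ (ψ p))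
    rw [hγ]
    exact (hχ p).symm
  have hJ₁ : J.map (algebraMap A₀ P₁) = ⊤ := by
    rw [Ideal.eq_top_iff_one]
    have : (∑ k, Ideal.Quotient.mk K (β k) * γ (j k) : P₁) = 1 := by
      have h0 : Ideal.Quotient.mk K e₀ = 0 :=
        Ideal.Quotient.eq_zero_iff_mem.2 (Ideal.subset_span (Set.mem_insert _ _))
      simp only [e₀, map_sub, map_one, map_sum, map_mul, sub_eq_zero] at h0
      rw [h0]
      exact Finset.sum_congr rfl fun k _ => by rw [← hjt k, hγ]
    rw [← this]
    exact Ideal.sum_mem _ fun k _ => Ideal.mul_mem_left _ _ (Ideal.mem_map_of_mem _ (hj k))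
  have := faithfullyFlat_of_ideal (P := P₁) (C₀ := C₀) J hJ hJ₁
  exact finitePresentation_of_model A P₁ B A₀ C₀ C e hπ₁

end Groth.AlgSpBasic.SourceDescent
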