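import Mathlib.AlgebraicGeometry.Morphisms.Etale
import Mathlib.AlgebraicGeometry.Morphisms.Descent
import Mathlib.AlgebraicGeometry.Morphisms.UniversallyOpen
import Mathlib.AlgebraicGeometry.Morphisms.QuasiFinite
import Mathlib.RingTheory.Etale.Kaehler
import Groth.Agent.FlatMor2.FlatComp
import Groth.Agent.AlgSpBasic.SourceDescentRing

/-!
# Local properties descend along surjective etale morphisms on the source
-/

set_option autoImplicit false
set_option backward.isDefEq.respectTransparency.types false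
universe u

open CategoryTheory CategoryTheory.Limits AlgebraicGeometry TensorProduct

namespace Groth.AlgSpBasic.SourceDescent

/-- A property given by ring maps descends along `P'`-surjections on the source if it does for rings. -/
theorem of_comp_surjective_of_ring (P P' : MorphismProperty Scheme.{u})
    {Q Q' : ∀ {R S : Type u} [CommRing R] [CommRing S], (R →+* S) → Prop}
    [HasRingHomProperty P Q] [HasRingHomProperty P' Q'] [P'.IsStableUnderBaseChange]
    (hopen : ∀ ⦃X Y : Scheme.{u}⦄ (f : X ⟶ Y), P' f → IsOpenMap f)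
    (H : ∀ {A B C : CommRingCat.{u}} (f : A ⟶ B) (g : B ⟶ C), Q' g.hom →
      Function.Surjective (Spec.map g) → Q (f ≫ g).hom → Q f.hom)
    {W X Z : Scheme.{u}} (χ : W ⟶ X) (h : X ⟶ Z) [Surjective χ] (hχ : P' χ) (hc : P (χ ≫ h)) :
    P h := by
  wlog hZ : IsAffine Z generalizing W X Z
  · rw [IsZariskiLocalAtTarget.iff_of_openCover (P := P) Z.affineCover]
    intro i
    refine this (pullback.snd χ (pullback.fst h (Z.affineCover.f i))) _
      (MorphismProperty.pullback_snd _ _ hχ) ?_ inferInstance
    have hp := (IsPullback.of_hasPullback χ (pullback.fst h (Z.affineCover.f i))).paste_vert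
      (IsPullback.of_hasPullback h (Z.affineCover.f i))
    exact IsZariskiLocalAtTarget.of_isPullback hp hc
  wlog hX : IsAffine X generalizing W X
  · rw [IsZariskiLocalAtSource.iff_of_openCover (P := P) X.affineCover]
    intro i
    refine this (pullback.snd χ (X.affineCover.f i)) _ (MorphismProperty.pullback_snd _ _ hχ) ?_
      inferInstance
    rw [← Category.assoc, ← pullback.condition, Category.assoc]
    exact HasRingHomProperty.comp_of_isOpenImmersion P _ _ hc
  obtain ⟨K, hK, hKχ⟩ : ∃ K : W.Opens, IsCompact (K : Set W) ∧ χ '' (K : Set W) = Set.univ := by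
    obtain ⟨K, hK, e⟩ := (hopen χ hχ).exists_opens_image_eq_of_prespectralSpace χ.continuous
      (by simp [Set.range_eq_univ.2 χ.surjective]) isOpen_univ isCompact_univ
    exact ⟨K, hK, e⟩
  have : CompactSpace K.toScheme := isCompact_iff_compactSpace.1 hK
  let 𝒰 := K.toScheme.affineCover.finiteSubcover
  let p : (∐ fun i => 𝒰.X i) ⟶ W := Sigma.desc fun i => 𝒰.f i ≫ K.ι
  have hp : Surjective (p ≫ χ) := ⟨fun x => by
    obtain ⟨w, hw, rfl⟩ := hKχ.ge (Set.mem_univ x)
    obtain ⟨i, y, hy⟩ := 𝒰.exists_eq ⟨w, hw⟩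
    refine ⟨Sigma.ι 𝒰.X i y, ?_⟩
    rw [← Scheme.Hom.comp_apply, ← Category.assoc, Sigma.ι_desc, Category.assoc,
      Scheme.Hom.comp_apply, Scheme.Hom.comp_apply, hy]
    rfl⟩
  have hp' : P' (p ≫ χ) := by
    rw [IsZariskiLocalAtSource.iff_of_openCover (P := P') (sigmaOpenCover _)]
    intro i
    rw [← Category.assoc,
      show (sigmaOpenCover fun i => 𝒰.X i).f i ≫ p = 𝒰.f i ≫ K.ι from Sigma.ι_desc _ _]
    have : IsOpenImmersion (𝒰.f i) := 𝒰.map_prop i
    have hh := HasRingHomProperty.comp_of_isOpenImmersion P' (𝒰.f i ≫ K.ι) χ hχ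
    exact hh
  have hc' : P ((p ≫ χ) ≫ h) := by
    rw [IsZariskiLocalAtSource.iff_of_openCover (P := P) (sigmaOpenCover _)]
    intro i
    rw [Category.assoc, ← Category.assoc,
      show (sigmaOpenCover fun i => 𝒰.X i).f i ≫ p = 𝒰.f i ≫ K.ι from Sigma.ι_desc _ _]
    have : IsOpenImmersion (𝒰.f i) := 𝒰.map_prop i
    have hh := HasRingHomProperty.comp_of_isOpenImmersion P (𝒰.f i ≫ K.ι) (χ ≫ h) hc
    exact hh
  rw [HasRingHomProperty.iff_of_isAffine (P := P)] at hc' ⊢
  rw [HasRingHomProperty.iff_of_isAffine (P := P')] at hp'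
  refine H _ (p ≫ χ).appTop hp' ?_ (by rwa [← Scheme.Hom.comp_appTop])
  exact ((MorphismProperty.arrow_mk_iso_iff @Surjective (arrowIsoSpecΓOfIsAffine (p ≫ χ))).1 hp).1

theorem locallyOfFiniteType_of_comp_surjective {W X Z : Scheme.{u}} (χ : W ⟶ X) (h : X ⟶ Z)
    [Surjective χ] [Smooth χ] [LocallyOfFiniteType (χ ≫ h)] : LocallyOfFiniteType h :=
  of_comp_surjective_of_ring @LocallyOfFiniteType @Smooth (fun _ _ f (_ : Smooth f) => f.isOpenMap)
    (fun {A B C} f g hg hs hfg => by
      algebraize [f.hom, g.hom, g.hom.comp f.hom]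
      have : Algebra.FiniteType A C := hfg
      have : Algebra.Smooth B C := hg.toAlgebra
      exact finiteType_of_smooth_surjective A B C hs)
    χ h inferInstance inferInstance

theorem locallyOfFinitePresentation_of_comp_surjective {W X Z : Scheme.{u}} (χ : W ⟶ X)
    (h : X ⟶ Z) [Surjective χ] [Smooth χ] [LocallyOfFinitePresentation (χ ≫ h)] :
    LocallyOfFinitePresentation h :=
  of_comp_surjective_of_ring @LocallyOfFinitePresentation @Smooth
    (fun _ _ f (_ : Smooth f) => f.isOpenMap)
    (fun {A B C} f g hg hs hfg => by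
      algebraize [f.hom, g.hom, g.hom.comp f.hom]
      have : Algebra.FinitePresentation A C := hfg
      have : Algebra.Smooth B C := hg.toAlgebra
      exact finitePresentation_of_smooth_surjective A B C hs)
    χ h inferInstance inferInstance

theorem formallyUnramified_of_comp_surjective {W X Z : Scheme.{u}} (χ : W ⟶ X) (h : X ⟶ Z)
    [Surjective χ] [Etale χ] [FormallyUnramified (χ ≫ h)] : FormallyUnramified h :=
  of_comp_surjective_of_ring @FormallyUnramified @Etale (fun _ _ f (_ : Etale f) => f.isOpenMap)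
    (fun {A B C} f g hg hs hfg => by
      algebraize [f.hom, g.hom, g.hom.comp f.hom]
      have : Algebra.Etale B C := hg.toAlgebra
      have : Algebra.FormallyUnramified A C := hfg
      have : Module.FaithfullyFlat B C := .of_comap_surjective hs
      constructor
      have : Subsingleton (C ⊗[B] Ω[B⁄A]) :=
        (KaehlerDifferential.tensorKaehlerEquivOfFormallyEtale A B C).toEquiv.subsingleton
      exact Module.FaithfullyFlat.lTensor_reflects_triviality B C _)
    χ h inferInstance inferInstance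

theorem etale_of_comp_surjective {W X Z : Scheme.{u}} (χ : W ⟶ X) (h : X ⟶ Z)
    [Surjective χ] [Etale χ] [Etale (χ ≫ h)] : Etale h := by
  have := locallyOfFinitePresentation_of_comp_surjective χ h
  have := formallyUnramified_of_comp_surjective χ h
  have : Flat h := Groth.FlatMor2.flat_of_comp_surjective χ h
  exact Etale.of_formallyUnramified_of_flat h

theorem locallyQuasiFinite_of_comp_surjective {W X Z : Scheme.{u}} (χ : W ⟶ X) (h : X ⟶ Z)
    [Surjective χ] [Smooth χ] [LocallyQuasiFinite (χ ≫ h)] [LocallyOfFiniteType (χ ≫ h)] :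
    LocallyQuasiFinite h := by
  have := locallyOfFiniteType_of_comp_surjective χ h
  rw [locallyQuasiFinite_iff_isDiscrete_preimage_singleton]
  intro z
  rw [isDiscrete_iff_forall_mem_exists_isOpen]
  intro x hx
  obtain ⟨w, rfl⟩ := χ.surjective x
  have hw : w ∈ (χ ≫ h) ⁻¹' {z} := by simpa using hx
  obtain ⟨U, hU, hUw⟩ :=
    isDiscrete_iff_forall_mem_exists_isOpen.1 ((χ ≫ h).isDiscrete_preimage_singleton z) w hw
  refine ⟨χ '' U, χ.isOpenMap U hU, Set.Subset.antisymm ?_ ?_⟩
  · rintro y ⟨⟨v, hv, rfl⟩, hy⟩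
    have : v ∈ ({w} : Set W) := hUw ▸ ⟨hv, by simpa using hy⟩
    rw [Set.mem_singleton_iff] at this
    simp [this]
  · rintro _ rfl
    exact ⟨⟨w, (hUw.ge rfl).1, rfl⟩, hx⟩

end Groth.AlgSpBasic.SourceDescent
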