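import Mathlib.AlgebraicGeometry.Morphisms.FlatDescent
import Mathlib.AlgebraicGeometry.Morphisms.LocalFlatDescent
import Mathlib.CategoryTheory.Sites.LocallySurjective
import Groth.Prelude.Def_AlgSp3
import Groth.Agent.AlgSpBasic.RepWith

/-!
# The fppf topology on schemes over `S`: covers, local surjectivity, descent of properties
-/

set_option autoImplicit false
set_option backward.isDefEq.respectTransparency.types false
universe u

open CategoryTheory CategoryTheory.Limits AlgebraicGeometry Opposite AlgSp

namespace Groth.AlgSpBasic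

variable {S : Scheme.{u}}

set_option backward.isDefEq.respectTransparency.types false in
instance fppfPrecoverage_hasIsos : Scheme.fppfPrecoverage.{u}.HasIsos :=
  haveI : (@Flat.{u} ⊓ @LocallyOfFinitePresentation.{u} : MorphismProperty Scheme.{u}).ContainsIdentities :=
    ⟨fun X => ⟨inferInstanceAs (Flat (𝟙 X)), inferInstanceAs (LocallyOfFinitePresentation (𝟙 X))⟩⟩
  inferInstanceAs (Scheme.precoverage (@Flat ⊓ @LocallyOfFinitePresentation)).HasIsos

/-- A covering sieve of the big fppf site over `S` contains an fppf covering family. -/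
theorem exists_cover_of_mem {X : Over S} {R : Sieve X} (hR : R ∈ J S X) :
    ∃ C ∈ Scheme.fppfPrecoverage X.left, ∀ ⦃U : Scheme.{u}⦄ (g : U ⟶ X.left), C g →
      R (Over.homMk g : Over.mk (g ≫ X.hom) ⟶ X) := by
  rw [GrothendieckTopology.mem_over_iff,
    Precoverage.mem_toGrothendieck_iff_of_isStableUnderComposition] at hR
  obtain ⟨C, hC, hle⟩ := hR
  exact ⟨C, hC, fun U g hg => (Sieve.overEquiv_iff _ _).1 (hle _ _ hg)⟩

/-- A single surjective flat locally finitely presented morphism generates a covering sieve. -/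
theorem generate_singleton_mem {V U : Over S} (f : V ⟶ U) [Surjective f.left] [Flat f.left]
    [LocallyOfFinitePresentation f.left] : Sieve.generate (Presieve.singleton f) ∈ J S U := by
  rw [GrothendieckTopology.mem_over_iff]
  refine GrothendieckTopology.superset_covering _ ?_
    (Precoverage.generate_mem_toGrothendieck f.left.singleton_mem_fppfPrecoverage)
  rw [Sieve.generate_le_iff]
  rintro _ _ ⟨⟩
  exact ⟨V, f, 𝟙 _, ⟨V, 𝟙 V, f, ⟨⟩, by simp⟩, by simp⟩

/-- A sieve containing a surjective flat locally finitely presented morphism is covering. -/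
theorem mem_of_fppf {V U : Over S} {R : Sieve U} (f : V ⟶ U) (hf : R f) [Surjective f.left]
    [Flat f.left] [LocallyOfFinitePresentation f.left] : R ∈ J S U :=
  GrothendieckTopology.superset_covering _
    (by rw [Sieve.generate_le_iff]; rintro _ _ ⟨⟩; exact hf) (generate_singleton_mem f)

/-- A representable flat, locally finitely presented and surjective map of sheaves is locally surjective. -/
theorem isLocallySurjective_of_repWith {F G : Sp S} (a : F ⟶ G)
    (h₁ : RepWith @Flat a) (h₂ : RepWith @LocallyOfFinitePresentation a)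
    (h₃ : RepWith @Surjective a) : Sheaf.IsLocallySurjective a := by
  constructor
  intro U x
  let g : (yon S).obj U ⟶ G := yEquiv.symm x
  obtain ⟨V, snd, fst, sq⟩ := h₁.rep g
  have : Flat snd.left := h₁.property g fst snd sq
  have : LocallyOfFinitePresentation snd.left := h₂.property g fst snd sq
  have : Surjective snd.left := h₃.property g fst snd sq
  refine mem_of_fppf snd ⟨yEquiv fst, ?_⟩
  have hx : x = yEquiv g := (Equiv.apply_symm_apply _ _).symm
  rw [hx]
  refine Eq.trans ?_ ((J S).uliftYonedaEquiv_naturality g snd).symm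
  rw [← sq.w]
  exact ((J S).uliftYonedaEquiv_comp fst a).symm

theorem isLocallySurjective_of_etale {F G : Sp S} (a : F ⟶ G)
    (h₁ : RepWith @Etale a) (h₃ : RepWith @Surjective a) : Sheaf.IsLocallySurjective a :=
  isLocallySurjective_of_repWith a
    (repWith_mono (fun _ _ f (h : Etale f) => by infer_instance) h₁)
    (repWith_mono (fun _ _ f (h : Etale f) => by infer_instance) h₁) h₃

/-- Local lifting of a map from a scheme along a locally surjective map. -/
theorem exists_local_lift {F G : Sp S} (b : F ⟶ G) [Sheaf.IsLocallySurjective b] {U : Over S}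
    (g : (yon S).obj U ⟶ G) :
    ∃ C ∈ Scheme.fppfPrecoverage U.left, ∀ ⦃V : Scheme.{u}⦄ (i : V ⟶ U.left), C i →
      ∃ l : (yon S).obj (Over.mk (i ≫ U.hom)) ⟶ F, l ≫ b = (yon S).map (Over.homMk i) ≫ g := by
  obtain ⟨C, hC, h⟩ := exists_cover_of_mem (X := U) (Presheaf.imageSieve_mem (J S) b.hom (U := op U) (yEquiv g))
  refine ⟨C, hC, fun V i hi => ?_⟩
  obtain ⟨y, hy⟩ := h i hi
  refine ⟨yEquiv.symm y, yEquiv.injective ?_⟩
  refine ((J S).uliftYonedaEquiv_comp _ b).trans ?_
  refine Eq.trans ?_ ((J S).uliftYonedaEquiv_naturality g _)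
  rw [Equiv.apply_symm_apply]
  exact hy

/-- A representable map has `P` if some base change along a locally surjective map has `P`. -/
theorem repWith_of_isLocallySurjective {P : MorphismProperty Scheme.{u}}
    [P.IsStableUnderBaseChange] [P.IsLocalAtTarget Scheme.fppfPrecoverage]
    {F G H : Sp S} (a : F ⟶ G) (ha : Representable a) (b : H ⟶ G) [Sheaf.IsLocallySurjective b]
    {Q : Sp S} (b' : Q ⟶ F) (a' : Q ⟶ H) (sq : IsPullback b' a' a b) (h : RepWith P a') :
    RepWith P a := by
  have : P.RespectsIso := MorphismProperty.IsStableUnderBaseChange.respectsIso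
  refine repWith_of_representable ha fun U V g fst snd hsq => ?_
  obtain ⟨C, hC, hl⟩ := exists_local_lift b g
  refine MorphismProperty.IsLocalAtTarget.of_forall_pullbackSnd (P := P) hC ?_
  intro T i _ hi
  obtain ⟨l, hl⟩ := hl i hi
  let iT : Over.mk (i ≫ U.hom) ⟶ U := Over.homMk i
  obtain ⟨W, snd', fst', hsq'⟩ := h.rep l
  have hP : P snd'.left := h.property l fst' snd' hsq'
  have h2 : IsPullback (fst' ≫ b') ((yon S).map snd') a ((yon S).map iT ≫ g) := by
    rw [← hl]; exact hsq'.paste_horiz sq
  obtain ⟨top, htop⟩ := (yon S).map_surjective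
    (hsq.lift (fst' ≫ b') ((yon S).map snd' ≫ (yon S).map iT) (by simpa using h2.w))
  have h3 : IsPullback ((yon S).map top) ((yon S).map snd') ((yon S).map snd) ((yon S).map iT) := by
    refine IsPullback.of_right (t := hsq) ?_ ?_
    · rw [htop, hsq.lift_fst]; exact h2
    · rw [htop, hsq.lift_snd]
  have h4 := isPullback_left (isPullback_of_yon h3)
  have e : pullback.snd snd.left i = h4.isoPullback.inv ≫ snd'.left := h4.isoPullback_inv_snd.symm
  rw [e]
  exact (P.cancel_left_of_respectsIso h4.isoPullback.inv snd'.left).2 hP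

/-- A property which is stable under base change, Zariski local at the target and satisfies fppf descent
is fppf local at the target. -/
theorem isLocalAtTarget_fppf (P : MorphismProperty Scheme.{u}) [P.IsStableUnderBaseChange]
    [IsZariskiLocalAtTarget P]
    [P.DescendsAlong (@Surjective ⊓ @Flat ⊓ @LocallyOfFinitePresentation)] :
    P.IsLocalAtTarget Scheme.fppfPrecoverage := by
  have : P.RespectsIso := MorphismProperty.IsStableUnderBaseChange.respectsIso
  refine MorphismProperty.IsLocalAtTarget.mk_of_isStableUnderBaseChange ?_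
  intro X Y f 𝒰' H'
  have : Precoverage.Small.{u} Scheme.fppfPrecoverage.{u} :=
    inferInstanceAs (Precoverage.Small.{u} (Scheme.precoverage _))
  let 𝒰 := 𝒰'.restrictIndexOfSmall
  have H : ∀ i, P (pullback.snd f (𝒰.f i)) := fun i => H' _
  have hmem := 𝒰.mem₀
  change Presieve.ofArrows 𝒰.X 𝒰.f ∈ Scheme.precoverage _ Y at hmem
  rw [Scheme.ofArrows_mem_precoverage_iff] at hmem
  let d : (∐ fun i => 𝒰.X i) ⟶ Y := Sigma.desc 𝒰.f
  have h1 : Surjective d := ⟨fun y => by
    obtain ⟨i, x, hx⟩ := hmem.1 y
    exact ⟨Sigma.ι 𝒰.X i x, by rw [← Scheme.Hom.comp_apply, Sigma.ι_desc, hx]⟩⟩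
  have h2 : Flat d := by
    rw [IsZariskiLocalAtSource.iff_of_openCover (P := @Flat) (sigmaOpenCover _)]
    intro i
    rw [show (sigmaOpenCover fun i => 𝒰.X i).f i ≫ d = 𝒰.f i from Sigma.ι_desc _ _]
    exact (hmem.2 i).1
  have h3 : LocallyOfFinitePresentation d := by
    rw [IsZariskiLocalAtSource.iff_of_openCover (P := @LocallyOfFinitePresentation) (sigmaOpenCover _)]
    intro i
    rw [show (sigmaOpenCover fun i => 𝒰.X i).f i ≫ d = 𝒰.f i from Sigma.ι_desc _ _]
    exact (hmem.2 i).2
  refine MorphismProperty.of_isPullback_of_descendsAlong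
    (P := P) (Q := @Surjective ⊓ @Flat ⊓ @LocallyOfFinitePresentation)
    (IsPullback.of_hasPullback f d).flip ⟨⟨h1, h2⟩, h3⟩ ?_
  rw [IsZariskiLocalAtTarget.iff_of_openCover (P := P) (sigmaOpenCover _)]
  intro i
  have hp := (IsPullback.of_hasPullback (pullback.snd f d) (Sigma.ι 𝒰.X i)).paste_horiz
    (IsPullback.of_hasPullback f d)
  rw [show Sigma.ι 𝒰.X i ≫ d = 𝒰.f i from Sigma.ι_desc _ _] at hp
  change P (pullback.snd (pullback.snd f d) (Sigma.ι 𝒰.X i))
  rw [← hp.isoPullback_hom_snd, P.cancel_left_of_respectsIso]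
  exact H i

section Instances

set_option backward.isDefEq.respectTransparency.types false

instance isOpenImmersion_isLocalAtTarget_fppf :
    MorphismProperty.IsLocalAtTarget @IsOpenImmersion.{u} Scheme.fppfPrecoverage :=
  isLocalAtTarget_fppf _

instance surjective_isLocalAtTarget_fppf :
    MorphismProperty.IsLocalAtTarget @Surjective.{u} Scheme.fppfPrecoverage :=
  isLocalAtTarget_fppf _

instance universallyClosed_isLocalAtTarget_fppf :
    MorphismProperty.IsLocalAtTarget @UniversallyClosed.{u} Scheme.fppfPrecoverage :=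
  isLocalAtTarget_fppf _

instance universallyOpen_isLocalAtTarget_fppf :
    MorphismProperty.IsLocalAtTarget @UniversallyOpen.{u} Scheme.fppfPrecoverage :=
  isLocalAtTarget_fppf _

instance universallyInjective_isLocalAtTarget_fppf :
    MorphismProperty.IsLocalAtTarget @UniversallyInjective.{u} Scheme.fppfPrecoverage :=
  isLocalAtTarget_fppf _

instance isomorphisms_isLocalAtTarget_fppf :
    (MorphismProperty.isomorphisms Scheme.{u}).IsLocalAtTarget Scheme.fppfPrecoverage :=
  isLocalAtTarget_fppf _

instance locallyOfFiniteType_isLocalAtTarget_fppf :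
    MorphismProperty.IsLocalAtTarget @LocallyOfFiniteType.{u} Scheme.fppfPrecoverage :=
  isLocalAtTarget_fppf _

instance locallyOfFinitePresentation_isLocalAtTarget_fppf :
    MorphismProperty.IsLocalAtTarget @LocallyOfFinitePresentation.{u} Scheme.fppfPrecoverage :=
  isLocalAtTarget_fppf _

instance smooth_isLocalAtTarget_fppf :
    MorphismProperty.IsLocalAtTarget @Smooth.{u} Scheme.fppfPrecoverage :=
  isLocalAtTarget_fppf _

instance etale_isLocalAtTarget_fppf :
    MorphismProperty.IsLocalAtTarget @Etale.{u} Scheme.fppfPrecoverage :=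
  isLocalAtTarget_fppf _

end Instances

end Groth.AlgSpBasic
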