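import Groth.Prelude.Def_AlgSp3
import Groth.Agent.AlgSpBasic.RepWith
import Groth.Agent.AlgSpBasic.Topology
import Groth.Agent.AlgSpBasic.Diag
import Groth.Agent.AlgSpBasic.AlgSpace
import Groth.Agent.AlgSpBasic.SourceDescent

/-!
# Properties etale local on source and target, etale morphisms
-/

set_option autoImplicit false
set_option backward.isDefEq.respectTransparency.types false
universe u

open CategoryTheory CategoryTheory.Limits AlgebraicGeometry Opposite AlgSp

namespace Groth.AlgSpBasic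

variable {S : Scheme.{u}} {X Y Z : Sp S}

/-- A map of schemes between etale schemes over a sheaf is etale. -/
theorem etale_of_repWith_comp {U V : Over S} (l : U ⟶ V) {c : (yon S).obj V ⟶ X}
    (hc : RepWith @Etale c) (hlc : RepWith @Etale ((yon S).map l ≫ c)) : Etale l.left := by
  obtain ⟨W, fst, snd, sq⟩ := exists_pullback_yon hlc.rep c
  have h₁ : Etale snd.left := repWith_fst_of_isPullback sq hlc
  have h₂ : Etale fst.left := repWith_fst_of_isPullback sq.flip hc
  obtain ⟨σ, hσ⟩ := (yon S).map_surjective (sq.lift (𝟙 _) ((yon S).map l) (Category.id_comp _))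
  have e₁ : σ ≫ fst = 𝟙 U := (yon S).map_injective (by
    rw [Functor.map_comp, hσ, sq.lift_fst, (yon S).map_id])
  have e₂ : σ ≫ snd = l := (yon S).map_injective (by
    rw [Functor.map_comp, hσ, sq.lift_snd])
  have : Etale (σ.left ≫ fst.left) := by
    rw [← Over.comp_left, e₁, Over.id_left]
    infer_instance
  have : Etale σ.left := Etale.of_comp _ fst.left
  rw [← e₂, Over.comp_left]
  infer_instance

/-- The formal properties used for `LocP`. -/
class EtaleLocal (P : MorphismProperty Scheme.{u}) : Prop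
    extends P.IsStableUnderBaseChange, P.IsStableUnderComposition where
  of_etale : ∀ ⦃A B : Scheme.{u}⦄ (f : A ⟶ B), Etale f → P f
  localAtTarget : P.IsLocalAtTarget Scheme.fppfPrecoverage
  of_comp_surjective : ∀ ⦃A B C : Scheme.{u}⦄ (χ : A ⟶ B) (h : B ⟶ C), Etale χ → Surjective χ →
    P (χ ≫ h) → P h

variable {P : MorphismProperty Scheme.{u}} [EtaleLocal P]

theorem EtaleLocal.of_comp_etale {A B C : Scheme.{u}} (f : A ⟶ B) (g : B ⟶ C) [Etale g]
    (h : P (f ≫ g)) : P f := by
  let σ : A ⟶ pullback (f ≫ g) g := pullback.lift (𝟙 A) f (by simp)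
  have : Etale (σ ≫ pullback.fst (f ≫ g) g) := by
    rw [pullback.lift_fst]; infer_instance
  have : Etale σ := Etale.of_comp _ (pullback.fst (f ≫ g) g)
  have := P.comp_mem σ _ (EtaleLocal.of_etale σ inferInstance) (P.pullback_snd (f ≫ g) g h)
  rwa [pullback.lift_snd] at this

theorem prop_left_comp {U V W : Over S} (f : U ⟶ V) (g : V ⟶ W) (hf : P f.left) (hg : P g.left) :
    P (f ≫ g).left := by
  rw [Over.comp_left]; exact P.comp_mem _ _ hf hg

/-- One chart suffices. -/
theorem locP_of_chart (hX : Representable (Limits.diag X)) (hY : Representable (Limits.diag Y))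
    {f : X ⟶ Y} {U V : Over S} {a : (yon S).obj U ⟶ X} {b : (yon S).obj V ⟶ Y} {h : U ⟶ V}
    (ha : RepWith @Etale a) (has : RepWith @Surjective a) (hb : RepWith @Etale b)
    (comm : a ≫ f = (yon S).map h ≫ b) (hh : P h.left) : LocP P f := by
  intro U' V' a' b' h' ha' hb' comm'
  obtain ⟨W, α, α', hW⟩ := exists_pullback_of_diag hX a a'
  obtain ⟨T, β, β', hT⟩ := exists_pullback_of_diag hY b b'
  have hα : Etale α.left := repWith_fst_of_isPullback hW.flip ha'
  have hα' : Etale α'.left := repWith_fst_of_isPullback hW ha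
  have hα's : Surjective α'.left := repWith_fst_of_isPullback hW has
  have hβ : Etale β.left := repWith_fst_of_isPullback hT.flip hb'
  have hβ' : Etale β'.left := repWith_fst_of_isPullback hT hb
  have e : (yon S).map (α ≫ h) ≫ b = (yon S).map (α' ≫ h') ≫ b' := by
    rw [Functor.map_comp, Functor.map_comp, Category.assoc, Category.assoc, ← comm, ← comm',
      ← Category.assoc, hW.w, Category.assoc]
  obtain ⟨w, hw⟩ := (yon S).map_surjective (hT.lift _ _ e)
  have e₁ : w ≫ β = α ≫ h := (yon S).map_injective (by rw [Functor.map_comp, hw, hT.lift_fst])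
  have e₂ : w ≫ β' = α' ≫ h' := (yon S).map_injective (by rw [Functor.map_comp, hw, hT.lift_snd])
  have h₁ : P (w.left ≫ β.left) := by
    rw [← Over.comp_left, e₁]
    exact prop_left_comp α h (EtaleLocal.of_etale _ hα) hh
  have h₂ : P (α'.left ≫ h'.left) := by
    rw [← Over.comp_left, ← e₂]
    exact prop_left_comp w β' (EtaleLocal.of_comp_etale w.left β.left h₁)
      (EtaleLocal.of_etale _ hβ')
  exact EtaleLocal.of_comp_surjective α'.left h'.left hα' hα's h₂

/-- Compatible charts of a morphism. -/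
theorem exists_charts (hX : IsAlgSpace X) (hY : IsAlgSpace Y) (f : X ⟶ Y) :
    ∃ (U V : Over S) (a : (yon S).obj U ⟶ X) (b : (yon S).obj V ⟶ Y) (h : U ⟶ V),
      RepWith @Etale a ∧ RepWith @Surjective a ∧ RepWith @Etale b ∧ RepWith @Surjective b ∧
        a ≫ f = (yon S).map h ≫ b := by
  obtain ⟨V, b, hb, hbs⟩ := hY.atlas
  obtain ⟨U, a, h, ha, has, comm⟩ := exists_chart_over hX hY.diag f b hb hbs
  exact ⟨U, V, a, b, h, ha, has, hb, hbs, comm⟩

theorem locP_comp (hX : IsAlgSpace X) (hY : IsAlgSpace Y) (hZ : IsAlgSpace Z) {f : X ⟶ Y}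
    {g : Y ⟶ Z} (hf : LocP P f) (hg : LocP P g) : LocP P (f ≫ g) := by
  obtain ⟨V, W, b, c, k, hb, hbs, hc, hcs, comm⟩ := exists_charts hY hZ g
  obtain ⟨U, a, h, ha, has, comm'⟩ := exists_chart_over hX hY.diag f b hb hbs
  refine locP_of_chart (h := h ≫ k) hX.diag hZ.diag ha has hc ?_
    (prop_left_comp h k (hf a b h ha hb comm') (hg b c k hb hc comm))
  rw [Functor.map_comp, Category.assoc, ← comm, ← Category.assoc, comm', Category.assoc]

theorem locP_of_comp_of_cancel' {Q : MorphismProperty Scheme.{u}}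
    (hcancel : ∀ ⦃A B C : Scheme.{u}⦄ (f : A ⟶ B) (g : B ⟶ C), P (f ≫ g) → Q g → P f)
    (hX : IsAlgSpace X) (hY : IsAlgSpace Y) (hZ : IsAlgSpace Z) {f : X ⟶ Y}
    {g : Y ⟶ Z} (hfg : LocP P (f ≫ g)) (hg : LocP Q g) : LocP P f := by
  obtain ⟨V, W, b, c, k, hb, hbs, hc, hcs, comm⟩ := exists_charts hY hZ g
  obtain ⟨U, a, h, ha, has, comm'⟩ := exists_chart_over hX hY.diag f b hb hbs
  refine locP_of_chart hX.diag hY.diag ha has hb comm'
    (hcancel h.left k.left ?_ (hg b c k hb hc comm))
  rw [← Over.comp_left]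
  refine hfg a c (h ≫ k) ha hc ?_
  rw [Functor.map_comp, Category.assoc, ← comm, ← Category.assoc, comm', Category.assoc]

theorem locP_of_comp_of_cancel
    (hcancel : ∀ ⦃A B C : Scheme.{u}⦄ (f : A ⟶ B) (g : B ⟶ C), P (f ≫ g) → P f)
    (hX : IsAlgSpace X) (hY : IsAlgSpace Y) (hZ : IsAlgSpace Z) {f : X ⟶ Y}
    {g : Y ⟶ Z} (hfg : LocP P (f ≫ g)) : LocP P f :=
  locP_of_comp_of_cancel' (Q := ⊤) (fun _ _ _ f g h _ => hcancel f g h) hX hY hZ hfg
    fun _ _ _ _ _ _ _ _ => trivial

theorem locP_of_isPullback {X' Y' : Sp S} (hX : IsAlgSpace X) (hY : IsAlgSpace Y)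
    (hY' : IsAlgSpace Y') {f : X ⟶ Y} {g : Y' ⟶ Y} {fst : X' ⟶ X} {f' : X' ⟶ Y'}
    (sq : IsPullback fst f' f g) (hf : LocP P f) : LocP P f' := by
  obtain ⟨U, V, a, b, h, ha, has, hb, hbs, comm⟩ := exists_charts hX hY f
  obtain ⟨V', b', hb', hbs'⟩ := hY'.atlas
  obtain ⟨W, w₁, w₂, r, hW, -, hr₂, hr⟩ := exists_chart_of_isPullback sq hY.diag a b'
  obtain ⟨M, m, m', hM⟩ := exists_pullback_of_diag hY.diag b (b' ≫ g)
  have hh : P h.left := hf a b h ha hb comm
  have hm : Etale m'.left := repWith_fst_of_isPullback hM hb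
  have e : (yon S).map (w₁ ≫ h) ≫ b = (yon S).map w₂ ≫ b' ≫ g := by
    rw [Functor.map_comp, Category.assoc, ← comm]; exact hW.w
  obtain ⟨w, hw⟩ := (yon S).map_surjective (hM.lift _ _ e)
  have e₁ : w ≫ m = w₁ ≫ h := (yon S).map_injective (by rw [Functor.map_comp, hw, hM.lift_fst])
  have e₂ : w ≫ m' = w₂ := (yon S).map_injective (by rw [Functor.map_comp, hw, hM.lift_snd])
  have hW' : IsPullback ((yon S).map w₁) ((yon S).map w₂) ((yon S).map h ≫ b) (b' ≫ g) := by
    rw [← comm]; exact hW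
  have hpb : IsPullback ((yon S).map w) ((yon S).map w₁) ((yon S).map m) ((yon S).map h) := by
    refine IsPullback.of_right (t := hM.flip) ?_ (by rw [← Functor.map_comp, ← Functor.map_comp, e₁])
    rw [← Functor.map_comp, e₂]
    exact hW'.flip
  have hw' : P w.left := P.of_isPullback (isPullback_left (isPullback_of_yon hpb)).flip hh
  have : P (w ≫ m').left := prop_left_comp w m' hw' (EtaleLocal.of_etale _ hm)
  rw [e₂] at this
  exact locP_of_chart (representable_diag_of_isPullback sq hX.diag hY'.diag) hY'.diag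
    (hr @Etale ha hb') (hr @Surjective has hbs') hb' hr₂ this

theorem locP_of_target_cover (hX : IsAlgSpace X) (hY : IsAlgSpace Y) {f : X ⟶ Y} {V : Over S}
    {p : (yon S).obj V ⟶ Y} (hp : RepWith @Etale p) (hps : RepWith @Surjective p) {Q : Sp S}
    {fst : Q ⟶ X} {snd : Q ⟶ (yon S).obj V} (sq : IsPullback fst snd f p)
    (h : LocP P snd) : LocP P f := by
  have hQ := isAlgSpace_of_representable hX fst (repWith_of_isPullback sq.flip hp).rep
  obtain ⟨U, q, hq, hqs⟩ := hQ.atlas
  obtain ⟨φ, hφ⟩ := (yon S).map_surjective (q ≫ snd)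
  refine locP_of_chart hX.diag hY.diag (repWith_comp hq (repWith_of_isPullback sq.flip hp))
    (repWith_comp hqs (repWith_of_isPullback sq.flip hps)) hp (h := φ) ?_
    (h q (𝟙 _) φ hq (repWith_id _ V) (by rw [Category.comp_id, hφ]))
  rw [hφ, Category.assoc, Category.assoc, sq.w]

theorem locP_of_source_cover (hX : IsAlgSpace X) (hY : IsAlgSpace Y) {f : X ⟶ Y} {U : Over S}
    {φ : (yon S).obj U ⟶ X} (hφ : RepWith @Etale φ) (hφs : RepWith @Surjective φ)
    (h : LocP P (φ ≫ f)) : LocP P f := by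
  obtain ⟨V, b, hb, hbs⟩ := hY.atlas
  obtain ⟨W, w₁, w₂, hW⟩ := exists_pullback_of_diag hY.diag (φ ≫ f) b
  have h₁ : RepWith @Etale ((yon S).map w₁) := repWith_of_isPullback hW.flip hb
  refine locP_of_chart hX.diag hY.diag (repWith_comp h₁ hφ)
    (repWith_comp (repWith_of_isPullback hW.flip hbs) hφs) hb (h := w₂)
    (by rw [Category.assoc]; exact hW.w) (h _ b w₂ h₁ hb hW.w)

theorem repWith_of_locP (hY : IsAlgSpace Y) {f : X ⟶ Y} (hf : Representable f) (h : LocP P f) :
    RepWith P f := by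
  have := (inferInstance : EtaleLocal P).localAtTarget
  obtain ⟨V, b, hb, hbs⟩ := hY.atlas
  obtain ⟨U, snd, fst, sq⟩ := hf b
  have := isLocallySurjective_of_etale b hb hbs
  exact repWith_of_isLocallySurjective f hf b fst _ sq
    ((repWith_yon_map_iff P snd).2 (h fst b snd (repWith_of_isPullback sq.flip hb) hb sq.w))

theorem locP_of_repWith {f : X ⟶ Y} (h : RepWith P f) : LocP P f := by
  intro U V a b k ha hb comm
  obtain ⟨W, snd, fst, sq⟩ := h.rep b
  obtain ⟨l, hl⟩ := (yon S).map_surjective (sq.lift a _ comm)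
  have e₁ : (yon S).map l ≫ fst = a := by rw [hl, sq.lift_fst]
  have e₂ : l ≫ snd = k := (yon S).map_injective (by rw [Functor.map_comp, hl, sq.lift_snd])
  have : Etale l.left :=
    etale_of_repWith_comp l (repWith_of_isPullback sq.flip hb) (by rw [e₁]; exact ha)
  rw [← e₂]
  exact prop_left_comp l snd (EtaleLocal.of_etale _ this) (h.property b fst snd sq)

section Instances

instance : EtaleLocal @LocallyOfFiniteType.{u} where
  of_etale _ _ f _ := inferInstance
  localAtTarget := inferInstance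
  of_comp_surjective _ _ _ χ h _ _ (_ : LocallyOfFiniteType (χ ≫ h)) :=
    SourceDescent.locallyOfFiniteType_of_comp_surjective χ h

instance : EtaleLocal @LocallyOfFinitePresentation.{u} where
  of_etale _ _ f _ := inferInstance
  localAtTarget := inferInstance
  of_comp_surjective _ _ _ χ h _ _ (_ : LocallyOfFinitePresentation (χ ≫ h)) :=
    SourceDescent.locallyOfFinitePresentation_of_comp_surjective χ h

instance : EtaleLocal @Etale.{u} where
  of_etale _ _ f h := h
  localAtTarget := inferInstance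
  of_comp_surjective _ _ _ χ h _ _ (_ : Etale (χ ≫ h)) :=
    SourceDescent.etale_of_comp_surjective χ h

end Instances

theorem isEtaleMor_of_locP (hY : IsAlgSpace Y) {f : X ⟶ Y} (h : LocP @Etale f) :
    IsEtaleMor f := by
  intro U φ hφ
  obtain ⟨V, b, hb, hbs⟩ := hY.atlas
  have hr := representable_of_diag hY.diag (φ ≫ f)
  obtain ⟨W, w₁, w₂, hW⟩ := exists_pullback_yon hr b
  have := isLocallySurjective_of_etale b hb hbs
  refine repWith_of_isLocallySurjective _ hr b _ _ hW ((repWith_yon_map_iff _ w₂).2 ?_)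
  exact h ((yon S).map w₁ ≫ φ) b w₂ (repWith_comp (repWith_of_isPullback hW.flip hb) hφ) hb
    (by rw [Category.assoc]; exact hW.w)

theorem locP_of_isEtaleMor {f : X ⟶ Y} (h : IsEtaleMor f) : LocP @Etale f := by
  intro U V a b k ha hb comm
  exact etale_of_repWith_comp k hb (by rw [← comm]; exact h a ha)

end Groth.AlgSpBasic
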