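import Mathlib.AlgebraicGeometry.Morphisms.UniversallyOpen
import Groth.Prelude.Def_AlgSp4
import Groth.Agent.AlgSpBasic.RepWith

/-!
# Points of fppf sheaves: pullbacks, surjectivity, openness
-/

set_option autoImplicit false
universe u

open CategoryTheory CategoryTheory.Limits AlgebraicGeometry Opposite AlgSp Topology

namespace Groth.AlgSpBasic

noncomputable section

variable {S : Scheme.{u}} {F G H : Sp S}

/-- The morphism `h_{Spec K} ⟶ F` of a field-valued point. -/
def fieldPtHom (p : FieldPt F) : (yon S).obj p.pt ⟶ F := yEquiv.symm p.val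

theorem fieldPtHom_map (p : FieldPt F) (f : F ⟶ G) :
    fieldPtHom (p.map f) = fieldPtHom p ≫ f :=
  ((J S).uliftYonedaEquiv_symm_naturality_right p.pt f p.val).symm

theorem rel_iff {p q : FieldPt F} :
    FieldPt.Rel p q ↔ ∃ (Ω : Type u) (_ : Field Ω) (w : Spec (CommRingCat.of Ω) ⟶ S)
      (a : Over.mk w ⟶ p.pt) (b : Over.mk w ⟶ q.pt),
        (yon S).map a ≫ fieldPtHom p = (yon S).map b ≫ fieldPtHom q := by
  constructor
  · rintro ⟨Ω, i, w, a, b, h⟩
    refine ⟨Ω, i, w, a, b, ?_⟩
    refine ((J S).uliftYonedaEquiv_symm_naturality_left a F p.val).trans ?_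
    rw [h]
    exact ((J S).uliftYonedaEquiv_symm_naturality_left b F q.val).symm
  · rintro ⟨Ω, i, w, a, b, h⟩
    refine ⟨Ω, i, w, a, b, yEquiv.symm.injective ?_⟩
    exact ((J S).uliftYonedaEquiv_symm_naturality_left a F p.val).symm.trans
      (h.trans ((J S).uliftYonedaEquiv_symm_naturality_left b F q.val))

/-- A point of the source of a pullback square over two points with equal images. -/
theorem exists_point_of_isPullback {A B C D : Sp S} {fst : A ⟶ B} {snd : A ⟶ C} {f : B ⟶ D}
    {g : C ⟶ D} (sq : IsPullback fst snd f g) (x : Points B) (y : Points C)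
    (h : Points.map f x = Points.map g y) :
    ∃ a : Points A, Points.map fst a = x ∧ Points.map snd a = y := by
  obtain ⟨p, rfl⟩ := Points.mk_surjective x
  obtain ⟨q, rfl⟩ := Points.mk_surjective y
  simp only [Points.map_mk, Points.mk_eq_mk_iff] at h
  obtain ⟨Ω, hΩ, w, a, b, e⟩ := rel_iff.1 h
  rw [fieldPtHom_map, fieldPtHom_map] at e
  let l : (yon S).obj (Over.mk w) ⟶ A :=
    sq.lift ((yon S).map a ≫ fieldPtHom p) ((yon S).map b ≫ fieldPtHom q)
      ((Category.assoc _ _ _).trans (e.trans (Category.assoc _ _ _).symm))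
  let r : FieldPt A := { K := Ω, field := hΩ, str := w, val := yEquiv l }
  have hr : fieldPtHom r = l := Equiv.symm_apply_apply _ _
  refine ⟨Points.mk r, ?_, ?_⟩
  · rw [Points.map_mk]
    refine Points.sound (rel_iff.2 ⟨Ω, hΩ, w, 𝟙 _, a, ?_⟩)
    rw [fieldPtHom_map, hr]
    exact ((congrArg (· ≫ (l ≫ fst)) ((yon S).map_id _)).trans (Category.id_comp _)).trans
      (sq.lift_fst _ _ _)
  · rw [Points.map_mk]
    refine Points.sound (rel_iff.2 ⟨Ω, hΩ, w, 𝟙 _, b, ?_⟩)
    rw [fieldPtHom_map, hr]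
    exact ((congrArg (· ≫ (l ≫ snd)) ((yon S).map_id _)).trans (Category.id_comp _)).trans
      (sq.lift_snd _ _ _)

theorem ofPt_eq_map {T : Over S} (g : (yon S).obj T ⟶ F) (t : ↥T.left) :
    Points.ofPt g t = Points.map g (Points.ofScheme T t) := Points.ofPt_eq_map_ofScheme g t

theorem ofPt_comp_yon {T T' : Over S} (φ : T ⟶ T') (g : (yon S).obj T' ⟶ F) (t : ↥T.left) :
    Points.ofPt ((yon S).map φ ≫ g) t = Points.ofPt g (φ.left t) := by
  rw [ofPt_eq_map, Points.map_comp, ofPt_eq_map]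
  exact congrArg (Points.map g) (Points.map_yon_map_apply φ t)

/-- Every point is the image of a point of a scheme. -/
theorem exists_ofPt (x : Points F) :
    ∃ (T : Over S) (g : (yon S).obj T ⟶ F) (t : ↥T.left), Points.ofPt g t = x := by
  obtain ⟨p, rfl⟩ := Points.mk_surjective x
  refine ⟨p.pt, fieldPtHom p, IsLocalRing.closedPoint p.K, ?_⟩
  refine (Points.ofPt_eq_map_ofScheme (T := p.pt) (fieldPtHom p) (IsLocalRing.closedPoint p.K)).trans ?_
  have key := Points.ofScheme_apply_eq_mk p.pt (str := p.str) (𝟙 _) (Category.id_comp _)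
  refine Eq.trans (congrArg (Points.map (fieldPtHom p)) key) ?_
  refine Eq.trans (Points.map_mk _ _) (congrArg Points.mk ?_)
  obtain ⟨K, str, val⟩ := p
  change (⟨K, str, _⟩ : FieldPt F) = ⟨K, str, val⟩
  congr 1
  refine Eq.trans ?_ ((J S).uliftYonedaEquiv.{u + 1}.apply_symm_apply val)
  exact ((J S).uliftYonedaEquiv_apply _).symm

theorem map_eq_ofPt_iff {V T : Over S} {f : F ⟶ G} {g : (yon S).obj T ⟶ G}
    {fst : (yon S).obj V ⟶ F} {snd : V ⟶ T} (sq : IsPullback fst ((yon S).map snd) f g)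
    (x : Points F) (t : ↥T.left) :
    Points.map f x = Points.ofPt g t ↔ ∃ v : ↥V.left, Points.ofPt fst v = x ∧ snd.left v = t := by
  constructor
  · intro h
    rw [ofPt_eq_map] at h
    obtain ⟨a, ha, hb⟩ := exists_point_of_isPullback sq x _ h
    obtain ⟨v, rfl⟩ := (Points.schemeEquiv V).surjective a
    refine ⟨v, (ofPt_eq_map fst v).trans ha, ?_⟩
    exact (Points.schemeHomeo T).injective ((Points.map_yon_map_apply snd v).symm.trans hb)
  · rintro ⟨v, rfl, rfl⟩
    rw [Points.map_ofPt, sq.w, ofPt_comp_yon]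

theorem ofPt_eq_ofPt_iff {U V W : Over S} {a : (yon S).obj U ⟶ F} {b : (yon S).obj V ⟶ F}
    {fst : W ⟶ U} {snd : W ⟶ V} (sq : IsPullback ((yon S).map fst) ((yon S).map snd) a b)
    (x : ↥U.left) (y : ↥V.left) :
    Points.ofPt a x = Points.ofPt b y ↔ ∃ w : ↥W.left, fst.left w = x ∧ snd.left w = y := by
  rw [ofPt_eq_map a, map_eq_ofPt_iff sq]
  refine exists_congr fun w => and_congr_left fun _ => ?_
  rw [ofPt_eq_map]
  refine (Eq.congr_left (Points.map_yon_map_apply fst w)).trans ?_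
  exact (Points.schemeHomeo U).injective.eq_iff

/-- A representable surjective map is surjective on points. -/
theorem surjective_map_of_repWith {f : F ⟶ G} (h : RepWith @Surjective f) :
    Function.Surjective (Points.map f) := by
  intro y
  obtain ⟨T, g, t, rfl⟩ := exists_ofPt y
  obtain ⟨V, snd, fst, sq⟩ := h.rep g
  have : Surjective snd.left := h.property g fst snd sq
  obtain ⟨v, hv⟩ := snd.left.surjective t
  exact ⟨Points.ofPt fst v, (map_eq_ofPt_iff sq _ t).2 ⟨v, rfl, hv⟩⟩

theorem surjective_ofPt_of_repWith {U : Over S} {a : (yon S).obj U ⟶ F}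
    (h : RepWith @Surjective a) : Function.Surjective (Points.ofPt a) := by
  intro y
  obtain ⟨x, hx⟩ := surjective_map_of_repWith h y
  obtain ⟨t, rfl⟩ := (Points.schemeEquiv U).surjective x
  exact ⟨t, (ofPt_eq_map a t).trans hx⟩

/-- A representable map whose base changes are open maps is open on points. -/
theorem isOpenMap_map_of_repWith {P : MorphismProperty Scheme.{u}}
    (hP : ∀ ⦃X Y : Scheme.{u}⦄ (φ : X ⟶ Y), P φ → IsOpenMap φ) {f : F ⟶ G} (h : RepWith P f) :
    IsOpenMap (Points.map f) := by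
  intro W hW
  rw [Points.isOpen_iff]
  intro T g
  obtain ⟨V, snd, fst, sq⟩ := h.rep g
  have : Points.ofPt g ⁻¹' (Points.map f '' W) = snd.left '' (Points.ofPt fst ⁻¹' W) := by
    ext t
    constructor
    · rintro ⟨x, hx, e⟩
      obtain ⟨v, rfl, hv⟩ := (map_eq_ofPt_iff sq x t).1 e
      exact ⟨v, hx, hv⟩
    · rintro ⟨v, hv, rfl⟩
      exact ⟨_, hv, (map_eq_ofPt_iff sq _ _).2 ⟨v, rfl, rfl⟩⟩
  rw [this]
  exact hP _ (h.property g fst snd sq) _ (Points.isOpen_iff.1 hW V fst)

theorem isOpenMap_ofPt_of_repWith {P : MorphismProperty Scheme.{u}}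
    (hP : ∀ ⦃X Y : Scheme.{u}⦄ (φ : X ⟶ Y), P φ → IsOpenMap φ) {U : Over S}
    {a : (yon S).obj U ⟶ F} (h : RepWith P a) : IsOpenMap (Points.ofPt a) := by
  have : Points.ofPt a = Points.map a ∘ Points.schemeHomeo U := funext fun t => ofPt_eq_map a t
  rw [this]
  exact (isOpenMap_map_of_repWith hP h).comp (Points.schemeHomeo U).isOpenMap

theorem etale_isOpenMap ⦃X Y : Scheme.{u}⦄ (φ : X ⟶ Y) (h : Etale φ) : IsOpenMap φ :=
  φ.isOpenMap

theorem isOpenMap_ofPt_of_etale {U : Over S} {a : (yon S).obj U ⟶ F} (h : RepWith @Etale a) :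
    IsOpenMap (Points.ofPt a) := isOpenMap_ofPt_of_repWith etale_isOpenMap h

theorem isQuotientMap_ofPt {U : Over S} {a : (yon S).obj U ⟶ F} (he : RepWith @Etale a)
    (hs : RepWith @Surjective a) : IsQuotientMap (Points.ofPt a) :=
  (isOpenMap_ofPt_of_etale he).isQuotientMap (Points.continuous_ofPt a)
    (surjective_ofPt_of_repWith hs)

theorem compactSpace_points {U : Over S} [CompactSpace ↥U.left] {a : (yon S).obj U ⟶ F}
    (hs : RepWith @Surjective a) : CompactSpace (Points F) :=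
  ⟨by
    have h := isCompact_univ.image (Points.continuous_ofPt a)
    rwa [Set.image_univ, (surjective_ofPt_of_repWith hs).range_eq] at h⟩

theorem range_map_eq_of_isPullback {A B C D : Sp S} {fst : A ⟶ B} {snd : A ⟶ C} {f : B ⟶ D}
    {g : C ⟶ D} (sq : IsPullback fst snd f g) :
    Set.range (Points.map snd) = Points.map g ⁻¹' Set.range (Points.map f) := by
  ext y
  constructor
  · rintro ⟨a, rfl⟩
    exact ⟨Points.map fst a, by rw [← Points.map_comp, ← Points.map_comp, sq.w]⟩
  · rintro ⟨x, hx⟩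
    obtain ⟨a, -, ha⟩ := exists_point_of_isPullback sq x y hx
    exact ⟨a, ha⟩

end

end Groth.AlgSpBasic
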