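import Groth.Prelude.Def_AlgSp4
import Mathlib.AlgebraicGeometry.Morphisms.UniversallyClosed
import Mathlib.AlgebraicGeometry.Morphisms.UniversallyOpen
import Mathlib.AlgebraicGeometry.Morphisms.UniversallyInjective
import Groth.Agent.AlgSpBasic.RepWith
import Groth.Agent.AlgSpBasic.Points

/-!
# Universal topological properties of representable morphisms
-/

set_option autoImplicit false
set_option backward.isDefEq.respectTransparency.types false
universe u

open CategoryTheory CategoryTheory.Limits AlgebraicGeometry Opposite AlgSp Topology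

namespace Groth.AlgSpBasic

noncomputable section

variable {S : Scheme.{u}} {F G : Sp S} {P : MorphismProperty Scheme.{u}}

theorem isClosedMap_map_of_repWith
    (hP : ∀ ⦃X Y : Scheme.{u}⦄ (φ : X ⟶ Y), P φ → IsClosedMap φ) {f : F ⟶ G} (h : RepWith P f) :
    IsClosedMap (Points.map f) := by
  intro W hW
  rw [← isOpen_compl_iff, Points.isOpen_iff]
  intro T g
  obtain ⟨V, snd, fst, sq⟩ := h.rep g
  rw [Set.preimage_compl, isOpen_compl_iff]
  have : Points.ofPt g ⁻¹' (Points.map f '' W) = snd.left '' (Points.ofPt fst ⁻¹' W) := by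
    ext t
    constructor
    · rintro ⟨x, hx, e⟩
      obtain ⟨v, rfl, hv⟩ := (map_eq_ofPt_iff sq x t).1 e
      exact ⟨v, hx, hv⟩
    · rintro ⟨v, hv, rfl⟩
      exact ⟨_, hv, (map_eq_ofPt_iff sq _ _).2 ⟨v, rfl, rfl⟩⟩
  rw [this]
  exact hP _ (h.property g fst snd sq) _ (hW.preimage (Points.continuous_ofPt fst))

theorem injective_map_of_repWith
    (hP : ∀ ⦃X Y : Scheme.{u}⦄ (φ : X ⟶ Y), P φ → Function.Injective φ) {f : F ⟶ G}
    (h : RepWith P f) : Function.Injective (Points.map f) := by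
  intro x x' e
  obtain ⟨T, g, t, hg⟩ := exists_ofPt (Points.map f x')
  obtain ⟨V, snd, fst, sq⟩ := h.rep g
  obtain ⟨v, hv, hvt⟩ := (map_eq_ofPt_iff sq x t).1 (e.trans hg.symm)
  obtain ⟨v', hv', hvt'⟩ := (map_eq_ofPt_iff sq x' t).1 hg.symm
  rw [← hv, ← hv', hP _ (h.property g fst snd sq) (hvt.trans hvt'.symm)]

theorem isQuotientMap_map_of_repWith
    (hP : ∀ ⦃X Y : Scheme.{u}⦄ (φ : X ⟶ Y), P φ → IsQuotientMap φ) {f : F ⟶ G}
    (h : RepWith P f) : IsQuotientMap (Points.map f) := by
  refine (isQuotientMap_iff _).2 ⟨isCoinducing_iff.2 fun W => ⟨fun hW => Points.isOpen_iff.2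
    fun T g => ?_, fun hW => hW.preimage (Points.continuous_map f)⟩, fun y => ?_⟩
  · obtain ⟨V, snd, fst, sq⟩ := h.rep g
    refine (hP _ (h.property g fst snd sq)).isCoinducing.isOpen_preimage.1 ?_
    have : snd.left ⁻¹' (Points.ofPt g ⁻¹' W) = Points.ofPt fst ⁻¹' (Points.map f ⁻¹' W) := by
      ext v
      simp only [Set.mem_preimage, Points.map_ofPt]
      rw [sq.w, ofPt_comp_yon]
    show IsOpen (snd.left ⁻¹' (Points.ofPt g ⁻¹' W))
    rw [this]
    exact Points.isOpen_iff.1 hW V fst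
  · obtain ⟨T, g, t, rfl⟩ := exists_ofPt y
    obtain ⟨V, snd, fst, sq⟩ := h.rep g
    obtain ⟨v, hv⟩ := (hP _ (h.property g fst snd sq)).surjective t
    exact ⟨_, (map_eq_ofPt_iff sq _ t).2 ⟨v, rfl, hv⟩⟩

theorem isHomeomorph_map_of_repWith
    (hP : ∀ ⦃X Y : Scheme.{u}⦄ (φ : X ⟶ Y), P φ → IsHomeomorph φ) {f : F ⟶ G}
    (h : RepWith P f) : IsHomeomorph (Points.map f) :=
  ⟨Points.continuous_map f, isOpenMap_map_of_repWith (fun _ _ φ hφ => (hP φ hφ).isOpenMap) h,
    injective_map_of_repWith (fun _ _ φ hφ => (hP φ hφ).injective) h,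
    (isQuotientMap_map_of_repWith (fun _ _ φ hφ => (hP φ hφ).isQuotientMap) h).surjective⟩

/-- Universal properties over schemes give the universal property over spaces. -/
theorem univSp_of_repWith {Q : MorphismProperty (Sp S)}
    (hQ : ∀ ⦃A B : Sp S⦄ (k : A ⟶ B), RepWith P k → Q k) {f : F ⟶ G} (h : RepWith P f) :
    UnivSp Q f :=
  fun _ _ _ _ _ _ sq => hQ _ (repWith_of_isPullback sq h)

/-- A universal property over spaces gives the universal property of all represented base changes. -/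
theorem repWith_of_univSp {Q : MorphismProperty (Sp S)} {P₀ : MorphismProperty Scheme.{u}}
    (hP₀ : P = MorphismProperty.universally P₀)
    (hQ : ∀ ⦃A B : Over S⦄ (k : A ⟶ B), Q ((yon S).map k) → P₀ k.left)
    {f : F ⟶ G} (hf : Representable f) (h : UnivSp Q f) : RepWith P f := by
  have : P.RespectsIso := hP₀ ▸ MorphismProperty.universally_respectsIso P₀
  refine repWith_of_representable hf fun U V g fst snd sq => ?_
  rw [hP₀]
  intro W T i₁ i₂ snd' hsq
  -- the base change, viewed over `S`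
  let k₂ : Over.mk (i₂ ≫ U.hom) ⟶ U := Over.homMk i₂
  have w : snd.left ≫ U.hom = V.hom := Over.w snd
  let k₁ : Over.mk (i₁ ≫ V.hom) ⟶ V := Over.homMk i₁
  let m : Over.mk (i₁ ≫ V.hom) ⟶ Over.mk (i₂ ≫ U.hom) := Over.homMk snd' (by
    show snd' ≫ i₂ ≫ U.hom = i₁ ≫ V.hom
    rw [← Category.assoc, hsq.w, Category.assoc, w])
  have hO : IsPullback k₁ m snd k₂ :=
    IsPullback.of_map (Over.forget S) (Over.OverMorphism.ext (by exact hsq.flip.w)) hsq.flip
  have hY := (hO.map (yon S)).paste_horiz sq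
  exact hQ m (h (IsAlgSpace.yon_obj _) _ _ _ hY)

theorem topologically_of_map_yon {φ : ∀ {α β : Type u} [TopologicalSpace α] [TopologicalSpace β],
    (α → β) → Prop} {A B : Over S} (k : A ⟶ B)
    (h : φ ((Points.schemeHomeo B).symm ∘ Points.map ((yon S).map k) ∘ Points.schemeHomeo A)) :
    topologically φ k.left := by
  have e : (Points.schemeHomeo B).symm ∘ Points.map ((yon S).map k) ∘ Points.schemeHomeo A =
      fun t => k.left t := by
    funext t
    simp [Points.map_yon_map_apply]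
  rw [e] at h
  exact h

end

end Groth.AlgSpBasic
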