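import Groth.Prelude.Def_AlgSp4
import Groth.Agent.AlgSpBasic.RepWith
import Groth.Agent.AlgSpBasic.Points
import Groth.Agent.AlgSpBasic.AlgSpace
import Groth.Agent.AlgSpBasic.Univ

/-!
# Universal topological properties: affine tests and descent
-/

set_option autoImplicit false
set_option backward.isDefEq.respectTransparency.types false
universe u

open CategoryTheory CategoryTheory.Limits AlgebraicGeometry Opposite AlgSp Topology

namespace Groth.AlgSpBasic

noncomputable section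

variable {S : Scheme.{u}}

/-- Image and preimage of sets of points commute in pullback squares. -/
theorem preimage_image_eq_of_isPullback {A B C D : Sp S} {fst : A ⟶ B} {snd : A ⟶ C} {f : B ⟶ D}
    {g : C ⟶ D} (sq : IsPullback fst snd f g) (W : Set (Points B)) :
    Points.map g ⁻¹' (Points.map f '' W) = Points.map snd '' (Points.map fst ⁻¹' W) := by
  ext y
  constructor
  · rintro ⟨x, hx, e⟩
    obtain ⟨a, ha, hb⟩ := exists_point_of_isPullback sq x y e
    exact ⟨a, show Points.map fst a ∈ W from ha ▸ hx, hb⟩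
  · rintro ⟨a, ha, rfl⟩
    exact ⟨_, ha, by rw [← Points.map_comp, ← Points.map_comp, sq.w]⟩

/-- Openness of a set of points can be tested on affine schemes. -/
theorem isOpen_points_of_affine {F : Sp S} {W : Set (Points F)}
    (h : ∀ (T : Over S), IsAffine T.left → ∀ g : (yon S).obj T ⟶ F,
      IsOpen (Points.ofPt g ⁻¹' W)) : IsOpen W := by
  refine Points.isOpen_iff.2 fun T g => ?_
  rw [T.left.affineCover.isOpenCover_opensRange.isOpen_iff_inter]
  intro i
  let k : Over.mk (T.left.affineCover.f i ≫ T.hom) ⟶ T := Over.homMk (T.left.affineCover.f i)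
  have h1 := h (Over.mk (T.left.affineCover.f i ≫ T.hom))
    (inferInstanceAs (IsAffine (T.left.affineCover.X i))) ((yon S).map k ≫ g)
  have e : Points.ofPt ((yon S).map k ≫ g) ⁻¹' W =
      (T.left.affineCover.f i) ⁻¹' (Points.ofPt g ⁻¹' W) := by
    ext t
    simp only [Set.mem_preimage, ofPt_comp_yon]
    rfl
  rw [e] at h1
  have h2 := (T.left.affineCover.f i).isOpenEmbedding.isOpenMap _ h1
  rwa [Set.image_preimage_eq_inter_range] at h2

theorem preimage_ofPt {F : Sp S} {T : Over S} (g : (yon S).obj T ⟶ F) (W : Set (Points F)) :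
    Points.ofPt g ⁻¹' W = Points.schemeHomeo T ⁻¹' (Points.map g ⁻¹' W) := by
  ext t
  show Points.ofPt g t ∈ W ↔ Points.map g (Points.ofScheme T t) ∈ W
  rw [ofPt_eq_map]

theorem isUnivOpenMor_of_affine {X Y : Sp S} {f : X ⟶ Y}
    (h : ∀ (Z : Over S), IsAffine Z.left → ∀ (g : (yon S).obj Z ⟶ Y) (P : Sp S)
      (fst : P ⟶ X) (snd : P ⟶ (yon S).obj Z), IsPullback fst snd f g →
        IsOpenMap (Points.map snd)) : IsUnivOpenMor f := by
  intro Z Z' _ g fst snd sq W hW
  refine isOpen_points_of_affine fun T hT t => ?_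
  obtain ⟨P, p₁, p₂, hP⟩ : ∃ (P : Sp S) (p₁ : P ⟶ Z') (p₂ : P ⟶ (yon S).obj T),
      IsPullback p₁ p₂ snd t := ⟨_, _, _, IsPullback.of_hasPullback snd t⟩
  have ho := h T hT _ P _ p₂ (hP.paste_horiz sq)
  rw [preimage_ofPt, preimage_image_eq_of_isPullback hP]
  exact (ho _ (hW.preimage (Points.continuous_map p₁))).preimage
    (Points.schemeHomeo T).continuous

theorem isUnivClosedMor_of_affine {X Y : Sp S} {f : X ⟶ Y}
    (h : ∀ (Z : Over S), IsAffine Z.left → ∀ (g : (yon S).obj Z ⟶ Y) (P : Sp S)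
      (fst : P ⟶ X) (snd : P ⟶ (yon S).obj Z), IsPullback fst snd f g →
        IsClosedMap (Points.map snd)) : IsUnivClosedMor f := by
  intro Z Z' _ g fst snd sq W hW
  refine isOpen_compl_iff.1 (isOpen_points_of_affine fun T hT t => ?_)
  obtain ⟨P, p₁, p₂, hP⟩ : ∃ (P : Sp S) (p₁ : P ⟶ Z') (p₂ : P ⟶ (yon S).obj T),
      IsPullback p₁ p₂ snd t := ⟨_, _, _, IsPullback.of_hasPullback snd t⟩
  have ho := h T hT _ P _ p₂ (hP.paste_horiz sq)
  rw [Set.preimage_compl, preimage_ofPt, preimage_image_eq_of_isPullback hP, isOpen_compl_iff]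
  exact (ho _ (hW.preimage (Points.continuous_map p₁))).preimage
    (Points.schemeHomeo T).continuous

/-- Base changes of universally open maps along a universally open surjection descend. -/
theorem isUnivOpenMor_of_cover {X Y : Sp S} (hY : IsAlgSpace Y) {f : X ⟶ Y} {V : Over S}
    {p : (yon S).obj V ⟶ Y} (hp : RepWith @Etale p) (hps : RepWith @Surjective p) {P : Sp S}
    {fst : P ⟶ X} {snd : P ⟶ (yon S).obj V} (sq : IsPullback fst snd f p)
    (h : IsUnivOpenMor snd) : IsUnivOpenMor f := by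
  intro Z Z' hZ g fst' snd' sq' W hW
  -- `ZV = Z ×_Y V`
  obtain ⟨ZV, q, r, hq⟩ : ∃ (ZV : Sp S) (q : ZV ⟶ Z) (r : ZV ⟶ (yon S).obj V),
      IsPullback q r g p := ⟨_, _, _, IsPullback.of_hasPullback g p⟩
  have hZV : IsAlgSpace ZV :=
    isAlgSpace_of_isPullback hq hY.diag hZ (IsAlgSpace.yon_obj _)
  have hqm : IsQuotientMap (Points.map q) :=
    (isOpenMap_map_of_repWith etale_isOpenMap (repWith_of_isPullback hq.flip hp)).isQuotientMap
      (Points.continuous_map q) (surjective_map_of_repWith (repWith_of_isPullback hq.flip hps))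
  obtain ⟨M, m₁, m₂, hM⟩ : ∃ (M : Sp S) (m₁ : M ⟶ Z') (m₂ : M ⟶ ZV),
      IsPullback m₁ m₂ snd' q := ⟨_, _, _, IsPullback.of_hasPullback snd' q⟩
  have hM' : IsPullback (m₁ ≫ fst') m₂ f (r ≫ p) := by
    rw [← hq.w]
    exact hM.paste_horiz sq'
  have e : (m₁ ≫ fst') ≫ f = (m₂ ≫ r) ≫ p := by rw [Category.assoc m₂]; exact hM'.w
  have hM'' : IsPullback (sq.lift (m₁ ≫ fst') (m₂ ≫ r) e) m₂ snd r :=
    IsPullback.of_right (by rw [sq.lift_fst]; exact hM') (sq.lift_snd _ _ _) sq
  rw [← hqm.isCoinducing.isOpen_preimage, preimage_image_eq_of_isPullback hM]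
  exact h hZV r _ m₂ hM'' _ (hW.preimage (Points.continuous_map m₁))

/-- Universal injectivity descends along maps that are surjective on points. -/
theorem isUnivInjectiveMor_of_cover {X Y : Sp S} (hY : IsAlgSpace Y) {f : X ⟶ Y} {V : Over S}
    {p : (yon S).obj V ⟶ Y} (hp : IsSurjectiveMor p) {P : Sp S} {fst : P ⟶ X}
    {snd : P ⟶ (yon S).obj V} (sq : IsPullback fst snd f p)
    (h : IsUnivInjectiveMor snd) : IsUnivInjectiveMor f := by
  intro Z Z' hZ g fst' snd' sq' x x' hxx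
  obtain ⟨ZV, q, r, hq⟩ : ∃ (ZV : Sp S) (q : ZV ⟶ Z) (r : ZV ⟶ (yon S).obj V),
      IsPullback q r g p := ⟨_, _, _, IsPullback.of_hasPullback g p⟩
  have hZV : IsAlgSpace ZV :=
    isAlgSpace_of_isPullback hq hY.diag hZ (IsAlgSpace.yon_obj _)
  obtain ⟨M, m₁, m₂, hM⟩ : ∃ (M : Sp S) (m₁ : M ⟶ Z') (m₂ : M ⟶ ZV),
      IsPullback m₁ m₂ snd' q := ⟨_, _, _, IsPullback.of_hasPullback snd' q⟩
  have hM' : IsPullback (m₁ ≫ fst') m₂ f (r ≫ p) := by
    rw [← hq.w]
    exact hM.paste_horiz sq'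
  have e : (m₁ ≫ fst') ≫ f = (m₂ ≫ r) ≫ p := by rw [Category.assoc m₂]; exact hM'.w
  have hM'' : IsPullback (sq.lift (m₁ ≫ fst') (m₂ ≫ r) e) m₂ snd r :=
    IsPullback.of_right (by rw [sq.lift_fst]; exact hM') (sq.lift_snd _ _ _) sq
  obtain ⟨v, hv⟩ := hp (Points.map g (Points.map snd' x))
  obtain ⟨z, hz, -⟩ := exists_point_of_isPullback hq (Points.map snd' x) v hv.symm
  obtain ⟨a, ha, ha'⟩ := exists_point_of_isPullback hM x z hz.symm
  obtain ⟨b, hb, hb'⟩ := exists_point_of_isPullback hM x' z (hxx.symm.trans hz.symm)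
  have := h hZV r _ m₂ hM'' (ha'.trans hb'.symm)
  rw [← ha, ← hb, this]

end

end Groth.AlgSpBasic
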