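import Groth.Agent.AlgSpBasic.LocP
import Groth.Agent.AlgSpBasic.Points
import Groth.Agent.AlgSpBasic.UnivTest

/-!
# Etale local properties of schemes and sets of points of algebraic spaces
-/

set_option autoImplicit false
set_option backward.isDefEq.respectTransparency.types false
universe u

open CategoryTheory CategoryTheory.Limits AlgebraicGeometry Topology TopologicalSpace Opposite AlgSp
open scoped Set.Notation

namespace Groth.AlgSpBasic

variable {S : Scheme.{u}}

theorem prop_iff_forall_etale_chart (P : Scheme.{u} → Prop)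
    (hP : ∀ (V : Scheme.{u}) (𝒰 : Scheme.Cover.{u} (Scheme.precoverage @Etale) V), P V ↔ ∀ i, P (𝒰.X i))
    {X : Sp S} (hX : IsAlgSpace X) :
    EtaleLocally P X ↔ ∀ (U : Over S) (a : (yon S).obj U ⟶ X), RepWith @Etale a → P U.left := by
  constructor
  · rintro ⟨U₀, p, hp, hps, hP₀⟩ U a ha
    obtain ⟨W, fst, snd, sq⟩ := exists_pullback_of_diag hX.diag p a
    have : Etale snd.left := repWith_fst_of_isPullback sq hp
    have : Surjective snd.left := repWith_fst_of_isPullback sq hps
    have : Etale fst.left := repWith_fst_of_isPullback sq.flip ha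
    let 𝒱 : Scheme.Cover.{u} (Scheme.precoverage @Etale) U₀.left :=
      Scheme.Cover.mkOfCovers (ULift.{u} Bool) (fun b => cond b.down U₀.left W.left)
        (fun b => match b with | ⟨true⟩ => 𝟙 _ | ⟨false⟩ => fst.left)
        (fun x => ⟨⟨true⟩, x, rfl⟩)
        (by rintro ⟨_ | _⟩ <;> dsimp <;> infer_instance)
    have hW : P W.left := (hP U₀.left 𝒱).mp hP₀ ⟨false⟩
    let 𝒲 : Scheme.Cover.{u} (Scheme.precoverage @Etale) U.left :=
      Scheme.Cover.mkOfCovers PUnit.{u + 1} (fun _ => W.left) (fun _ => snd.left)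
        (fun x => ⟨PUnit.unit, snd.left.surjective x⟩) (fun _ => inferInstance)
    exact (hP U.left 𝒲).mpr fun _ => hW
  · intro h
    obtain ⟨U₀, p, hp, hps⟩ := hX.atlas
    exact ⟨U₀, p, hp, hps, h U₀ p hp⟩

theorem isLocallyConstructible_preimage_scheme {A B : Scheme.{u}} (f : A ⟶ B) {T : Set B}
    (hT : IsLocallyConstructible T) : IsLocallyConstructible (f ⁻¹' T) := by
  intro x
  obtain ⟨U, hxU, hU, H⟩ := hT (f x)
  refine ⟨f ⁻¹' U, f.continuous.continuousAt.preimage_mem_nhds hxU, hU.preimage f.continuous, ?_⟩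
  have := (f ∣_ ⟨U, hU⟩).isConstructible_preimage H
  have e : (f ∣_ ⟨U, hU⟩) ⁻¹' (U ↓∩ T) = ((f ⁻¹ᵁ ⟨U, hU⟩ : A.Opens) : Set A) ↓∩ (f ⁻¹' T) := by
    ext y
    simp only [Set.mem_preimage, morphismRestrict_base]
    rfl
  rw [e] at this
  exact this

theorem isLocallyConstructible_of_preimage {A B : Scheme.{u}} (f : A ⟶ B) [Surjective f]
    [LocallyOfFinitePresentation f] (hopen : IsOpenMap f) {T : Set B}
    (hT : IsLocallyConstructible (f ⁻¹' T)) : IsLocallyConstructible T := by
  have key : ∀ b : B, ∃ O : B.Opens, b ∈ O ∧ IsLocallyConstructible ((O : Set B) ↓∩ T) := by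
    intro b
    obtain ⟨a, rfl⟩ := f.surjective b
    obtain ⟨V, hV, haV, -⟩ := exists_isAffineOpen_mem_and_subset (X := B) (x := f a) (U := ⊤) trivial
    obtain ⟨W, hW, haW, hWV⟩ := exists_isAffineOpen_mem_and_subset (X := A) (x := a)
      (U := f ⁻¹ᵁ V) haV
    let g : (W : Scheme) ⟶ (V : Scheme) := f.resLE V W hWV
    have : IsAffine (W : Scheme) := hW
    have : IsAffine (V : Scheme) := hV
    have hg : ∀ w, V.ι (g w) = f (W.ι w) := fun w => by
      rw [← Scheme.Hom.comp_apply, Scheme.Hom.resLE_comp_ι, Scheme.Hom.comp_apply]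
    have him := g.isLocallyConstructible_image
      ((hT.preimage_of_isOpenEmbedding W.ι.isOpenEmbedding))
    let O : B.Opens := ⟨f '' W, hopen _ W.2⟩
    have hOV : O ≤ V := by
      rintro _ ⟨w, hw, rfl⟩
      exact hWV hw
    refine ⟨O, ⟨a, haW, rfl⟩, ?_⟩
    have := him.preimage_of_isOpenEmbedding (B.homOfLE hOV).isOpenEmbedding
    suffices e : (B.homOfLE hOV) ⁻¹' (g '' (W.ι ⁻¹' (f ⁻¹' T))) = (O : Set B) ↓∩ T by
      rw [e] at this
      exact this
    ext o
    have ho : V.ι (B.homOfLE hOV o) = O.ι o := by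
      rw [← Scheme.Hom.comp_apply, Scheme.homOfLE_ι]
    change _ ↔ O.ι o ∈ T
    symm
    simp only [Set.mem_preimage, Set.mem_image]
    constructor
    · intro hoT
      obtain ⟨w, hw, hwo⟩ := o.2
      refine ⟨⟨w, hw⟩, ?_, V.ι.isOpenEmbedding.injective ?_⟩
      · rw [show f (W.ι ⟨w, hw⟩) = O.ι o from hwo]; exact hoT
      · rw [hg, ho]; exact hwo
    · rintro ⟨w, hwT, hwo⟩
      rw [← ho, ← hwo, hg]; exact hwT
  choose O hO hO' using key
  exact IsLocallyConstructible.of_isOpenCover
    (IsOpenCover.mk (top_le_iff.mp fun b _ => Opens.mem_iSup.mpr ⟨b, hO b⟩)) hO'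

theorem isLocallyConstructible_chart {X : Sp S} (hX : IsAlgSpace X)
    (E : Set (AlgSp.Points X)) {U : Over S} (p : (yon S).obj U ⟶ X)
    (hp : RepWith @Etale p) (hs : RepWith @Surjective p)
    (hE : IsLocallyConstructible (AlgSp.Points.ofPt p ⁻¹' E))
    {V : Over S} (a : (yon S).obj V ⟶ X) (ha : RepWith @Etale a) :
    IsLocallyConstructible (AlgSp.Points.ofPt a ⁻¹' E) := by
  obtain ⟨W, fst, snd, sq⟩ := exists_pullback_of_diag hX.diag p a
  have : Etale snd.left := repWith_fst_of_isPullback sq hp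
  have : Surjective snd.left := repWith_fst_of_isPullback sq hs
  refine isLocallyConstructible_of_preimage snd.left snd.left.isOpenMap ?_
  convert isLocallyConstructible_preimage_scheme fst.left hE using 1
  ext w
  simp only [Set.mem_preimage]
  rw [← ofPt_comp_yon, ← ofPt_comp_yon, sq.w]

end Groth.AlgSpBasic

namespace Groth.AlgSpBasic

variable {S : Scheme.{u}}

theorem exists_isOpen_noetherianSpace_of_openMap {A : Scheme.{u}} [IsLocallyNoetherian A]
    {B : Type*} [TopologicalSpace B] {f : A → B} (hfc : Continuous f) (hfo : IsOpenMap f)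
    (hfs : Function.Surjective f) (b : B) :
    ∃ O : Set B, IsOpen O ∧ b ∈ O ∧ NoetherianSpace ↥O := by
  obtain ⟨a, rfl⟩ := hfs b
  obtain ⟨W, hW, haW, -⟩ := exists_isAffineOpen_mem_and_subset (X := A) (x := a) (U := ⊤) trivial
  have : NoetherianSpace ↥W := by
    have := IsLocallyNoetherian.component_noetherian (X := A) ⟨W, hW⟩
    exact noetherianSpace_of_isAffineOpen W hW
  have := NoetherianSpace.range (fun w : W => f w.1) (hfc.comp continuous_subtype_val)
  refine ⟨f '' W, hfo _ W.2, ⟨a, haW, rfl⟩, ?_⟩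
  rw [Set.image_eq_range]
  exact this

theorem noetherianSpace_of_isCompact {B : Type*} [TopologicalSpace B] {C : Set B}
    (hC : IsCompact C) (h : ∀ b ∈ C, ∃ O : Set B, IsOpen O ∧ b ∈ O ∧ NoetherianSpace ↥O) :
    NoetherianSpace ↥C := by
  choose O hO hb hN using h
  obtain ⟨t, ht⟩ := hC.elim_finite_subcover (fun b : C => O b.1 b.2) (fun b => hO _ _)
    (fun b hbC => Set.mem_iUnion.mpr ⟨⟨b, hbC⟩, hb b hbC⟩)
  have : ∀ i : t, NoetherianSpace ↥(O i.1.1 i.1.2) := fun i => hN _ _
  have := NoetherianSpace.iUnion (fun i : t => O i.1.1 i.1.2)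
  refine NoetherianSpace.of_subset (W := ⋃ i : t, O i.1.1 i.1.2) ?_
  intro b hbC
  obtain ⟨i, hi, hbi⟩ := Set.mem_iUnion₂.mp (ht hbC)
  exact Set.mem_iUnion.mpr ⟨⟨i, hi⟩, hbi⟩

theorem exists_noetherianSpace_nhd {X : Sp S} (hX : IsLocNoethSp X) (x : AlgSp.Points X) :
    ∃ W : Set (AlgSp.Points X), IsOpen W ∧ x ∈ W ∧ NoetherianSpace ↥W := by
  obtain ⟨U, p, hp, hps, hU⟩ := hX
  obtain ⟨hc, hs⟩ := (isQuotientMap_ofPt hp hps).continuous, surjective_ofPt_of_repWith hps
  have : IsLocallyNoetherian U.left := hU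
  exact exists_isOpen_noetherianSpace_of_openMap hc (isOpenMap_ofPt_of_etale hp) hs x

theorem finite_irreducibleComponents_of_isCompact {X : Sp S} (hX : IsLocNoethSp X) {U : Over S}
    (a : (yon S).obj U ⟶ X) (ha : RepWith @Etale a)
    (W : U.left.Opens) (hW : IsCompact (W : Set ↥U.left)) : (irreducibleComponents ↥W).Finite := by
  obtain ⟨U₀, p, hp, hps, hU₀⟩ := hX
  obtain ⟨T, fst, snd, sq⟩ := exists_pullback_yon hp.rep a
  have : Etale snd.left := repWith_fst_of_isPullback sq hp
  have : Surjective snd.left := repWith_fst_of_isPullback sq hps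
  have : Etale fst.left := repWith_fst_of_isPullback sq.flip ha
  have : IsLocallyNoetherian U₀.left := hU₀
  have : IsLocallyNoetherian T.left := LocallyOfFiniteType.isLocallyNoetherian fst.left
  have : NoetherianSpace ↥W := noetherianSpace_of_isCompact hW fun b _ =>
    exists_isOpen_noetherianSpace_of_openMap snd.left.continuous snd.left.isOpenMap
      snd.left.surjective b
  exact NoetherianSpace.finite_irreducibleComponents

end Groth.AlgSpBasic
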