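import Groth.Agent.AlgSpBasic.SepLQFScheme
import Mathlib.AlgebraicGeometry.Morphisms.FlatMono
import Mathlib.AlgebraicGeometry.Morphisms.LocalFlatDescent
import Groth.Agent.DescentBase.DimEtale

/-!
# Algebraic spaces over fields
-/

set_option autoImplicit false
set_option backward.isDefEq.respectTransparency.types false
universe u

open CategoryTheory CategoryTheory.Limits AlgebraicGeometry Opposite AlgSp

namespace Groth.AlgSpBasic

variable {S : Scheme.{u}}

/-- The open subspace which is the image of an etale chart. -/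
theorem exists_openSub_chart {X : Sp S} {U : Over S} {a : (yon S).obj U ⟶ X}
    (ha : RepWith @Etale a) :
    ∃ (Y : Sp S) (ι : Y ⟶ X) (pY : (yon S).obj U ⟶ Y), RepWith @IsOpenImmersion ι ∧
      RepWith @Etale pY ∧ RepWith @Surjective pY ∧ pY ≫ ι = a := by
  have hopen : IsOpen (Set.range (Points.ofPt a)) := (isOpenMap_ofPt_of_etale ha).isOpen_range
  let ι := openSubι X (Set.range (Points.ofPt a))
  have hι : RepWith @IsOpenImmersion ι := repWith_openSubι hopen
  have : Mono ι := mono_of_repWith (fun _ _ g (_ : IsOpenImmersion g) => inferInstance) hι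
  obtain ⟨pY, hpY⟩ := (openSub_exists_lift_iff X (Set.range (Points.ofPt a)) a).2
    fun w => ⟨w, rfl⟩
  have hpY' : pY ≫ ι = a := hpY
  have hpYe : RepWith @Etale pY := by
    refine repWith_of_isPullback (a := 𝟙 _) (b := ι) ?_ ha
    refine ⟨⟨by rw [Category.id_comp, hpY']⟩, ⟨PullbackCone.IsLimit.mk _ (fun c => c.fst)
      (fun c => Category.comp_id _) (fun c => ?_)
      (fun c m h₁ _ => (Category.comp_id m).symm.trans h₁)⟩⟩
    rw [← cancel_mono ι, Category.assoc, hpY']
    exact c.condition
  refine ⟨_, ι, pY, hι, hpYe, repWith_surjective_of_ofPt hpYe.rep fun y => ?_, hpY'⟩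
  obtain ⟨T₁, g₁, t₁, rfl⟩ := exists_ofPt y
  obtain ⟨w, hw⟩ :=
    (openSub_exists_lift_iff X (Set.range (Points.ofPt a)) (g₁ ≫ ι)).1 ⟨g₁, rfl⟩ t₁
  obtain ⟨V, fst, snd, sqV⟩ := exists_pullback_yon hpYe.rep g₁
  refine ⟨w, (ofPt_eq_ofPt_iff sqV _ _).2 ?_⟩
  have := isPullback_comp_mono ι sqV
  rw [hpY'] at this
  exact (ofPt_eq_ofPt_iff this _ _).1 hw

/-- A scheme etale over a field has a discrete space. -/
theorem discreteTopology_of_etale {A : Scheme.{u}} {k : Type u} [Field k]
    (f : A ⟶ Spec (CommRingCat.of k)) [Etale f] : DiscreteTopology ↥A := by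
  have : LocallyQuasiFinite f := Groth.DescentBase.locallyQuasiFinite_of_etale f
  obtain ⟨y⟩ : Nonempty ↥(Spec (CommRingCat.of k)) := inferInstance
  have h := f.isDiscrete_preimage_singleton y
  rw [show f ⁻¹' {y} = Set.univ from Set.eq_univ_of_forall fun a =>
    Subsingleton.elim (α := ↥(Spec (CommRingCat.of k))) (f a) y] at h
  exact isDiscrete_univ_iff.1 h

/-- A monomorphism from an algebraic space to the spectrum of a field is empty or an isomorphism. -/
theorem isEmpty_or_isIso_of_mono {X : Sp S} (hX : IsAlgSpace X) {k : Type u} [Field k]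
    {str : Spec (CommRingCat.of k) ⟶ S} (f : X ⟶ (yon S).obj (Over.mk str)) [Mono f] :
    IsEmpty (Points X) ∨ IsIso f := by
  rcases isEmpty_or_nonempty (Points X) with h | ⟨⟨x⟩⟩
  · exact Or.inl h
  right
  obtain ⟨U, p, hp, hps⟩ := hX.atlas
  obtain ⟨u, -⟩ := surjective_ofPt_of_repWith hps x
  obtain ⟨W, hW, huW, -⟩ := exists_isAffineOpen_mem_and_subset (X := U.left) (x := u) (U := ⊤) trivial
  let WO : Over S := Over.mk (W.ι ≫ U.hom)
  let jW : WO ⟶ U := Over.homMk W.ι rfl
  let a := (yon S).map jW ≫ p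
  have : Etale jW.left := inferInstanceAs (Etale W.ι)
  have ha : RepWith @Etale a := repWith_comp ((repWith_yon_map_iff _ jW).2 ‹_›) hp
  obtain ⟨h, hh⟩ := (yon S).map_surjective (a ≫ f)
  obtain ⟨R, t, s, sqR⟩ := exists_pullback_yon ha.rep a
  have sqh := isPullback_comp_mono f sqR
  rw [← hh] at sqh
  have sqh' := isPullback_left (isPullback_of_yon sqh)
  have : Etale s.left := repWith_fst_of_isPullback sqR ha
  have : Nonempty ↥WO.left := ⟨⟨u, huW⟩⟩
  have : IsAffine WO.left := hW
  have : IsAffine (Over.mk str).left := inferInstanceAs (IsAffine (Spec (CommRingCat.of k)))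
  have : IsIntegral (Over.mk str).left := inferInstanceAs (IsIntegral (Spec (CommRingCat.of k)))
  have : Subsingleton ↥(Over.mk str).left :=
    inferInstanceAs (Subsingleton ↥(Spec (CommRingCat.of k)))
  have hflat : Flat h.left := inferInstance
  have hsurj : Surjective h.left :=
    ⟨fun y => ⟨Classical.arbitrary _, Subsingleton.elim _ _⟩⟩
  have hqc : QuasiCompact h.left := inferInstance
  have he : Etale h.left := by
    have hQ : (@Surjective ⊓ @Flat ⊓ @QuasiCompact : MorphismProperty Scheme.{u}) h.left :=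
      ⟨⟨hsurj, hflat⟩, hqc⟩
    refine MorphismProperty.of_isPullback_of_descendsAlong (P := @Etale)
      (Q := @Surjective ⊓ @Flat ⊓ @QuasiCompact) sqh' hQ ?_
    exact repWith_fst_of_isPullback sqR.flip ha
  have : Sheaf.IsLocallySurjective ((yon S).map h) := isLocallySurjective_of_etale _
    ((repWith_yon_map_iff _ h).2 he) ((repWith_yon_map_iff _ h).2 hsurj)
  have : Epi ((yon S).map h) := (Sheaf.isLocallySurjective_iff_epi _).1 ‹_›
  have : Epi (a ≫ f) := hh ▸ ‹_›
  have : Epi f := epi_of_epi a f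
  exact isIso_of_mono_of_epi f

/-- An algebraic space etale over a field is a scheme. -/
theorem exists_iso_of_etale_over_field {X : Sp S} (hX : IsAlgSpace X) {k : Type u} [Field k]
    {str : Spec (CommRingCat.of k) ⟶ S} {f : X ⟶ (yon S).obj (Over.mk str)} (hf : IsEtaleMor f) :
    ∃ G : Over S, Nonempty ((yon S).obj G ≅ X) := by
  obtain ⟨U, p, hp, hps⟩ := hX.atlas
  have main : ∀ u : ↥U.left, ∃ (G : Over S) (g : (yon S).obj G ⟶ X),
      RepWith @IsOpenImmersion g ∧ Points.ofPt p u ∈ Set.range (Points.ofPt g) := by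
    intro u
    obtain ⟨W, hW, huW, -⟩ :=
      exists_isAffineOpen_mem_and_subset (X := U.left) (x := u) (U := ⊤) trivial
    let WO : Over S := Over.mk (W.ι ≫ U.hom)
    let jW : WO ⟶ U := Over.homMk W.ι rfl
    have : Etale jW.left := inferInstanceAs (Etale W.ι)
    have ha : RepWith @Etale ((yon S).map jW ≫ p) :=
      repWith_comp ((repWith_yon_map_iff _ jW).2 ‹_›) hp
    obtain ⟨Y, ι, pY, hι, hpYe, hpYs, hpY⟩ := exists_openSub_chart ha
    obtain ⟨R, t, s, sqR⟩ := exists_pullback_yon hpYe.rep pY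
    obtain ⟨π, hπ⟩ := (yon S).map_surjective (pY ≫ ι ≫ f)
    have : IsAffine WO.left := hW
    have : IsAffine (Over.mk str).left := inferInstanceAs (IsAffine (Spec (CommRingCat.of k)))
    have hπe : Etale π.left := by
      refine (repWith_yon_map_iff _ π).1 ?_
      rw [hπ, ← Category.assoc, hpY]
      exact hf _ ha
    have hwt : t ≫ π = s ≫ π := (yon S).map_injective (by
      rw [Functor.map_comp, Functor.map_comp, hπ, ← Category.assoc, sqR.w, Category.assoc])
    have w : t.left ≫ π.left = s.left ≫ π.left := congrArg CommaMorphism.left hwt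
    have : Etale s.left := repWith_fst_of_isPullback sqR hpYe
    let ρ := pullback.lift t.left s.left w
    have : Mono ρ := ⟨fun {Z} g₁ g₂ e => by
      have e₁ : g₁ ≫ t.left = g₂ ≫ t.left := by
        have := e =≫ pullback.fst _ _
        simpa only [ρ, Category.assoc, pullback.lift_fst] using this
      have e₂ : g₁ ≫ s.left = g₂ ≫ s.left := by
        have := e =≫ pullback.snd _ _
        simpa only [ρ, Category.assoc, pullback.lift_snd] using this
      have eR : g₂ ≫ R.hom = g₁ ≫ R.hom := by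
        rw [← Over.w t, ← Category.assoc, ← e₁, Category.assoc]
      exact congrArg CommaMorphism.left ((isEqvRel_of_isPullback sqR).injective
        (Over.mk (g₁ ≫ R.hom)) (Over.homMk g₁ rfl) (Over.homMk g₂ eR)
        (by ext1; exact e₁) (by ext1; exact e₂))⟩
    have : Etale (ρ ≫ pullback.snd π.left π.left) := by rw [pullback.lift_snd]; infer_instance
    have : Etale ρ := Etale.of_comp ρ (pullback.snd π.left π.left)
    have : IsOpenImmersion ρ := IsOpenImmersion.of_flat_of_mono ρ
    have : Etale (pullback.fst π.left π.left ≫ π.left) := inferInstance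
    have : DiscreteTopology ↥(pullback π.left π.left) :=
      discreteTopology_of_etale (pullback.fst π.left π.left ≫ π.left)
    have : IsClosedImmersion ρ := IsClosedImmersion.of_isPreimmersion ρ (isClosed_discrete _)
    have : LocallyQuasiFinite π.left := Groth.DescentBase.locallyQuasiFinite_of_etale π.left
    obtain ⟨G, ⟨e⟩⟩ := exists_iso_of_sepLQF_chart hpYe hpYs sqR w
    refine ⟨G, e.hom ≫ ι, repWith_comp (repWith_isIso _) hι, ?_⟩
    obtain ⟨l, hl⟩ := (yon S).map_surjective (pY ≫ e.inv)
    refine ⟨l.left ⟨u, huW⟩, ?_⟩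
    rw [← ofPt_comp_yon, hl, Category.assoc, Iso.inv_hom_id_assoc, hpY, ofPt_comp_yon]
    rfl
  choose G g hg hgu using main
  refine exists_iso_yon_of_openImmersions hg fun T₁ g₁ t₁ => ?_
  obtain ⟨u, hu⟩ := surjective_ofPt_of_repWith hps (Points.ofPt g₁ t₁)
  obtain ⟨V, fst, snd, sqV⟩ := exists_pullback_yon (hg u).rep g₁
  refine ⟨u, V, (yon S).map fst, snd, sqV, ?_⟩
  obtain ⟨z, hz⟩ := hgu u
  obtain ⟨x, -, hx⟩ := (ofPt_eq_ofPt_iff sqV z t₁).mp (hz.trans hu)
  exact ⟨x, hx⟩

end Groth.AlgSpBasic
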