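import Mathlib.RingTheory.Smooth.StandardSmoothOfFree
import Mathlib.RingTheory.Smooth.Fiber
import Mathlib.RingTheory.Etale.Kaehler
import Mathlib.RingTheory.Kaehler.Polynomial
import Mathlib.RingTheory.Flat.FaithfullyFlat.Algebra
import Groth.Agent.DescentBase.FlatTower
import Groth.Agent.AlgSpBasic.SourceDescentRing

/-!
# Smoothness descends along surjective etale maps on the source
-/

set_option autoImplicit false
universe u

open TensorProduct

namespace Groth.AlgSpBasic.SourceDescent

/-- If the differentials of the images of the variables form a basis, the base change of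
differentials along `MvPolynomial κ A → T` is an isomorphism. -/
theorem mapBaseChange_bijective_of_basis {A T : Type u} {κ : Type u} [CommRing A] [CommRing T]
    [Algebra A T] [Algebra (MvPolynomial κ A) T] [IsScalarTower A (MvPolynomial κ A) T]
    (b : Module.Basis κ T Ω[T⁄A])
    (hb : ∀ i, b i = KaehlerDifferential.D A T (algebraMap (MvPolynomial κ A) T (MvPolynomial.X i))) :
    Function.Bijective (KaehlerDifferential.mapBaseChange A (MvPolynomial κ A) T) := by
  let e := ((KaehlerDifferential.mvPolynomialBasis A κ).baseChange T).equiv b (Equiv.refl κ)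
  have : KaehlerDifferential.mapBaseChange A (MvPolynomial κ A) T = e.toLinearMap := by
    refine ((KaehlerDifferential.mvPolynomialBasis A κ).baseChange T).ext fun i => ?_
    simp only [LinearEquiv.coe_coe, e, Module.Basis.equiv_apply, Equiv.refl_apply, hb]
    simp
  rw [this]
  exact e.bijective

theorem smooth_of_basis (A B C : Type u) [CommRing A] [CommRing B] [CommRing C] [Algebra A B]
    [Algebra B C] [Algebra A C] [IsScalarTower A B C] [Algebra.FinitePresentation A B]
    [Algebra.Etale B C] [Module.FaithfullyFlat B C] [Algebra.Smooth A C] {κ : Type u} [Finite κ]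
    (a : κ → B) (b : Module.Basis κ B Ω[B⁄A]) (hb : ∀ i, b i = KaehlerDifferential.D A B (a i)) :
    Algebra.Smooth A B := by
  let P := MvPolynomial κ A
  let : Algebra P B := (MvPolynomial.aeval a).toRingHom.toAlgebra
  let : Algebra P C := ((algebraMap B C).comp (algebraMap P B)).toAlgebra
  have : IsScalarTower P B C := .of_algebraMap_eq fun _ => rfl
  have : IsScalarTower A P B := .of_algebraMap_eq fun r => (MvPolynomial.aeval_C a r).symm
  have : IsScalarTower A P C := .of_algebraMap_eq fun r => by
    rw [RingHom.algebraMap_toAlgebra, RingHom.comp_apply, ← IsScalarTower.algebraMap_apply A P B,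
      ← IsScalarTower.algebraMap_apply A B C]
  have ha : ∀ i, algebraMap P B (MvPolynomial.X i) = a i := fun i => MvPolynomial.aeval_X a i
  have hB : Function.Bijective (KaehlerDifferential.mapBaseChange A P B) :=
    mapBaseChange_bijective_of_basis b fun i => by rw [ha, hb]
  let bC : Module.Basis κ C Ω[C⁄A] :=
    (b.baseChange C).map (KaehlerDifferential.tensorKaehlerEquivOfFormallyEtale A B C)
  have hC : Function.Bijective (KaehlerDifferential.mapBaseChange A P C) :=
    mapBaseChange_bijective_of_basis bC fun i => by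
      simp [bC, hb]
      rw [IsScalarTower.algebraMap_apply (MvPolynomial κ A) B C, ha]
  have hΩB : Subsingleton Ω[B⁄P] := subsingleton_of_forall_eq 0 fun x => by
    obtain ⟨y, rfl⟩ := KaehlerDifferential.map_surjective A P B x
    exact (KaehlerDifferential.exact_mapBaseChange_map A P B y).2 (hB.2 y)
  have hΩC : Subsingleton Ω[C⁄P] := subsingleton_of_forall_eq 0 fun x => by
    obtain ⟨y, rfl⟩ := KaehlerDifferential.map_surjective A P C x
    exact (KaehlerDifferential.exact_mapBaseChange_map A P C y).2 (hC.2 y)
  have hH : Subsingleton (Algebra.H1Cotangent P C) := subsingleton_of_forall_eq 0 fun x => by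
    have h0 : Algebra.H1Cotangent.δ A P C x = 0 := hC.1 (by
      rw [map_zero]
      exact Function.Exact.apply_apply_eq_zero (Algebra.H1Cotangent.exact_δ_mapBaseChange A P C) x)
    obtain ⟨y, rfl⟩ := (Algebra.H1Cotangent.exact_map_δ A P C x).1 h0
    have : Subsingleton (Algebra.H1Cotangent A C) := inferInstance
    rw [Subsingleton.elim y 0, map_zero]
  have : Algebra.FormallyEtale P C := (Algebra.formallyEtale_iff _ _).2 ⟨hΩC, hH⟩
  have : Algebra.FinitePresentation P C :=
    Algebra.FinitePresentation.of_restrict_scalars_finitePresentation A P C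
  have : Algebra.Etale P C := ⟨inferInstance, inferInstance⟩
  have : Algebra.FinitePresentation P B :=
    Algebra.FinitePresentation.of_restrict_scalars_finitePresentation A P B
  have : Module.Flat P B := Groth.DescentBase.flat_of_flat_of_faithfullyFlat P B C
  have : Algebra.FormallyUnramified P B := ⟨hΩB⟩
  have : Algebra.Etale P B := Algebra.Etale.of_formallyUnramified_of_flat
  have : Algebra.Smooth A P :=
    ⟨(inferInstance : Algebra.FormallySmooth A (MvPolynomial κ A)),
      (inferInstance : Algebra.FinitePresentation A (MvPolynomial κ A))⟩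
  exact Algebra.Smooth.comp A P B

/-- If `B → C` is etale, faithfully flat and `A → C` is smooth, then `A → B` is smooth. -/
theorem smooth_of_etale_surjective (A B C : Type u) [CommRing A] [CommRing B] [CommRing C]
    [Algebra A B] [Algebra B C] [Algebra A C] [IsScalarTower A B C] [Algebra.Etale B C]
    [Algebra.Smooth A C] (hs : Function.Surjective (PrimeSpectrum.comap (algebraMap B C))) :
    Algebra.Smooth A B := by
  have := finitePresentation_of_smooth_surjective A B C hs
  have : Module.FaithfullyFlat B C := .of_comap_surjective hs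
  have : Module.Flat C (C ⊗[B] Ω[B⁄A]) :=
    .of_linearEquiv (KaehlerDifferential.tensorKaehlerEquivOfFormallyEtale A B C)
  have : Module.Flat B Ω[B⁄A] := Module.Flat.of_flat_tensorProduct B Ω[B⁄A] C
  refine ⟨Algebra.smoothLocus_eq_univ_iff.mp (Set.eq_univ_iff_forall.mpr fun q => ?_), ‹_›⟩
  let Bq := Localization.AtPrime q.asIdeal
  let l₂ : Ω[B⁄A] →ₗ[B] Ω[Bq⁄A] := KaehlerDifferential.map A A B Bq
  have : Module.FinitePresentation Bq Ω[Bq⁄A] :=
    FinitePresentation.of_isBaseChange l₂
      ((isLocalizedModule_iff_isBaseChange q.asIdeal.primeCompl Bq l₂).1 inferInstance)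
  have : Module.Flat Bq Ω[Bq⁄A] := Module.Flat.of_isLocalizedModule Bq q.asIdeal.primeCompl l₂
  obtain ⟨κ, a, b, hb⟩ := Module.exists_basis_of_span_of_flat _
    (KaehlerDifferential.span_range_map_derivation_of_isLocalization A B Bq q.asIdeal.primeCompl)
  let e : (κ →₀ B) →ₗ[B] Ω[B⁄A] :=
    Finsupp.linearCombination B fun i : κ ↦ KaehlerDifferential.D A B (a i)
  let l₁ : (κ →₀ B) →ₗ[B] (κ →₀ Bq) :=
    Finsupp.mapRange.linearMap (Algebra.linearMap B Bq)
  let eₚ : (κ →₀ Bq) →ₗ[Bq] Ω[Bq⁄A] :=
    IsLocalizedModule.mapExtendScalars q.asIdeal.primeCompl l₁ l₂ Bq e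
  have : eₚ = b.repr.symm := by
    ext i
    trans IsLocalizedModule.map q.asIdeal.primeCompl l₁ l₂ e <| l₁ <| Finsupp.single i 1
    · simp [eₚ, -IsLocalizedModule.map_apply, l₁]
    · simp [l₂, e, hb]
  have heₚ : Function.Bijective eₚ := this ▸ b.repr.symm.bijective
  have : Finite κ := Module.Finite.finite_basis b
  obtain ⟨g, hg, h⟩ := Module.FinitePresentation.exists_notMem_bijective e q.asIdeal l₁ l₂ heₚ
  let Bg := Localization.Away g
  let l₁ₜ : (κ →₀ B) →ₗ[B] (κ →₀ Bg) := Finsupp.mapRange.linearMap (Algebra.linearMap B _)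
  let l₂ₜ : Ω[B⁄A] →ₗ[B] Ω[Bg⁄A] := KaehlerDifferential.map A A B Bg
  rw [← IsLocalizedModule.map_bijective_iff_localizedModuleMap_bijective l₁ₜ l₂ₜ] at h
  let eₜ : (κ →₀ Bg) →ₗ[Bg] Ω[Bg⁄A] :=
    IsLocalizedModule.mapExtendScalars (Submonoid.powers g) l₁ₜ l₂ₜ Bg e
  let bg : Module.Basis κ Bg Ω[Bg⁄A] := .ofRepr (LinearEquiv.ofBijective eₜ h).symm
  have hbg : ∀ i, bg i = KaehlerDifferential.D A Bg (algebraMap B Bg (a i)) := fun i => by
    simp +zetaDelta [IsLocalizedModule.map_linearCombination]
  have : Algebra.FinitePresentation B Bg := IsLocalization.Away.finitePresentation g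
  have : Algebra.FinitePresentation A Bg := .trans A B Bg
  have : Algebra.Smooth B Bg := ⟨.of_isLocalization (.powers g), inferInstance⟩
  have : Algebra.Smooth A (C ⊗[B] Bg) := Algebra.Smooth.comp A C (C ⊗[B] Bg)
  have : Algebra.Smooth A (Bg ⊗[B] C) :=
    Algebra.Smooth.of_equiv ((Algebra.TensorProduct.comm B C Bg).restrictScalars A)
  have : Algebra.Smooth A Bg := smooth_of_basis A Bg (Bg ⊗[B] C) _ bg hbg
  exact Algebra.basicOpen_subset_smoothLocus_iff_smooth.2 this hg

end Groth.AlgSpBasic.SourceDescent
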