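import Groth.Agent.AlgSpBasic.LocP
import Groth.Agent.AlgSpBasic.Points
import Groth.Agent.AlgSpBasic.SmoothSourceRing
import Groth.Agent.EtaleBase.FpqcDescent
import Groth.Agent.FlatMor2.FlatComp
import Mathlib.AlgebraicGeometry.Morphisms.LocalFlatDescent
import Mathlib.AlgebraicGeometry.Morphisms.Smooth
import Mathlib.RingTheory.Unramified.LocalStructure

/-!
# More properties local for the etale topology on source and target
-/

set_option autoImplicit false
set_option backward.isDefEq.respectTransparency.types false
universe u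

open CategoryTheory CategoryTheory.Limits AlgebraicGeometry AlgSp

namespace Groth.AlgSpBasic

theorem locallyQuasiFinite_of_formallyUnramified {X Y : Scheme.{u}} (f : X ⟶ Y)
    [LocallyOfFiniteType f] [FormallyUnramified f] : LocallyQuasiFinite f := by
  wlog hY : IsAffine Y generalizing X Y
  · rw [IsZariskiLocalAtTarget.iff_of_openCover (P := @LocallyQuasiFinite) Y.affineCover]
    intro i
    have _ := MorphismProperty.pullback_snd (P := @LocallyOfFiniteType) f (Y.affineCover.f i) inferInstance
    have _ := MorphismProperty.pullback_snd (P := @FormallyUnramified) f (Y.affineCover.f i) inferInstance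
    exact this (pullback.snd f (Y.affineCover.f i)) inferInstance
  wlog hX : IsAffine X generalizing X Y
  · rw [IsZariskiLocalAtSource.iff_of_openCover (P := @LocallyQuasiFinite) X.affineCover]
    intro i
    have _ := (IsZariskiLocalAtSource.iff_of_openCover (P := @FormallyUnramified) X.affineCover).1 ‹_› i
    exact this _ inferInstance inferInstance
  have h₁ := (HasRingHomProperty.iff_of_isAffine (P := @LocallyOfFiniteType)).1 ‹LocallyOfFiniteType f›
  have h₂ := (HasRingHomProperty.iff_of_isAffine (P := @FormallyUnramified)).1 ‹FormallyUnramified f›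
  rw [HasRingHomProperty.iff_of_isAffine (P := @LocallyQuasiFinite)]
  algebraize [f.appTop.hom]
  have : Algebra.FormallyUnramified Γ(Y, ⊤) Γ(X, ⊤) := h₂
  have : Algebra.QuasiFinite Γ(Y, ⊤) Γ(X, ⊤) := inferInstance
  exact RingHom.quasiFinite_algebraMap.2 this

theorem SourceDescent.smooth_of_comp_surjective {W X Z : Scheme.{u}} (χ : W ⟶ X) (h : X ⟶ Z)
    [Surjective χ] [Etale χ] [Smooth (χ ≫ h)] : Smooth h :=
  SourceDescent.of_comp_surjective_of_ring @Smooth @Etale
    (fun _ _ f (_ : Etale f) => f.isOpenMap)
    (fun {A B C} f g hg hs hfg => by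
      algebraize [f.hom, g.hom, g.hom.comp f.hom]
      have : Algebra.Smooth A C := hfg.toAlgebra
      have : Algebra.Etale B C := hg.toAlgebra
      exact RingHom.smooth_algebraMap.2 (SourceDescent.smooth_of_etale_surjective A B C hs))
    χ h inferInstance inferInstance

instance descendsAlong_flat :
    MorphismProperty.DescendsAlong @Flat.{u}
      (@Surjective ⊓ @Flat ⊓ @LocallyOfFinitePresentation) := by
  refine MorphismProperty.DescendsAlong.mk' fun {X Y Z f g} _ hf h => ?_
  have : Surjective f := hf.1.1
  have : Flat f := hf.1.2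
  have : Flat (pullback.fst f g) := h
  have : Flat (pullback.snd f g ≫ g) := by
    rw [← pullback.condition]
    infer_instance
  exact Groth.FlatMor2.flat_of_comp_surjective (pullback.snd f g) g

instance flat_isLocalAtTarget_fppf :
    MorphismProperty.IsLocalAtTarget @Flat.{u} Scheme.fppfPrecoverage :=
  isLocalAtTarget_fppf _

instance formallyUnramified_isLocalAtTarget_fppf :
    MorphismProperty.IsLocalAtTarget @FormallyUnramified.{u} Scheme.fppfPrecoverage :=
  isLocalAtTarget_fppf _

instance locallyQuasiFinite_isLocalAtTarget_fppf :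
    MorphismProperty.IsLocalAtTarget @LocallyQuasiFinite.{u} Scheme.fppfPrecoverage :=
  isLocalAtTarget_fppf _

instance : EtaleLocal @Flat.{u} where
  of_etale _ _ f _ := inferInstance
  localAtTarget := inferInstance
  of_comp_surjective _ _ _ χ h _ _ (_ : Flat (χ ≫ h)) :=
    Groth.FlatMor2.flat_of_comp_surjective χ h

instance : EtaleLocal @Smooth.{u} where
  of_etale _ _ f _ := inferInstance
  localAtTarget := inferInstance
  of_comp_surjective _ _ _ χ h _ _ (_ : Smooth (χ ≫ h)) :=
    SourceDescent.smooth_of_comp_surjective χ h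

instance : EtaleLocal ((@LocallyQuasiFinite : MorphismProperty Scheme.{u}) ⊓ @LocallyOfFiniteType) where
  of_etale _ _ f hf := ⟨locallyQuasiFinite_of_formallyUnramified f, inferInstance⟩
  localAtTarget := inferInstance
  of_comp_surjective _ _ _ χ h _ _ H := by
    obtain ⟨_, _⟩ := H
    exact ⟨SourceDescent.locallyQuasiFinite_of_comp_surjective χ h,
      SourceDescent.locallyOfFiniteType_of_comp_surjective χ h⟩

instance : EtaleLocal ((@LocallyOfFiniteType : MorphismProperty Scheme.{u}) ⊓ @FormallyUnramified) where
  of_etale _ _ f hf := ⟨inferInstance, inferInstance⟩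
  localAtTarget := inferInstance
  of_comp_surjective _ _ _ χ h _ _ H := by
    obtain ⟨_, _⟩ := H
    exact ⟨SourceDescent.locallyOfFiniteType_of_comp_surjective χ h,
      SourceDescent.formallyUnramified_of_comp_surjective χ h⟩

/-- The seven standard properties are etale local. -/
theorem etaleLocal_of_std (P : MorphismProperty Scheme.{u})
    (hP : P = @LocallyOfFiniteType ∨ P = @LocallyOfFinitePresentation ∨ P = @Flat ∨ P = @Smooth ∨
      P = @Etale ∨
      (∀ ⦃A B : Scheme.{u}⦄ (g : A ⟶ B), P g ↔ (LocallyQuasiFinite g ∧ LocallyOfFiniteType g)) ∨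
      (∀ ⦃A B : Scheme.{u}⦄ (g : A ⟶ B), P g ↔ (LocallyOfFiniteType g ∧ FormallyUnramified g))) :
    EtaleLocal P := by
  rcases hP with rfl | rfl | rfl | rfl | rfl | h | h
  iterate 5 infer_instance
  · have e : P = ((@LocallyQuasiFinite : MorphismProperty Scheme.{u}) ⊓ @LocallyOfFiniteType : MorphismProperty Scheme.{u}) := by
      ext A B g
      exact h g
    rw [e]
    infer_instance
  · have e : P = ((@LocallyOfFiniteType : MorphismProperty Scheme.{u}) ⊓ @FormallyUnramified : MorphismProperty Scheme.{u}) := by
      ext A B g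
      exact h g
    rw [e]
    infer_instance

end Groth.AlgSpBasic

namespace Groth.AlgSpBasic

variable {S : Scheme.{u}} {X Y : Sp S}

/-- A flat morphism locally of finite presentation is open on points. -/
theorem isOpenMap_map_of_locP (hX : IsAlgSpace X) (hY : IsAlgSpace Y) {f : X ⟶ Y}
    (hfl : LocP @Flat f) (hfp : LocP @LocallyOfFinitePresentation f) :
    IsOpenMap (Points.map f) := by
  intro W hW
  obtain ⟨U, V, a, b, h, ha, has, hb, hbs, comm⟩ := exists_charts hX hY f
  have : Flat h.left := hfl a b h ha hb comm
  have : LocallyOfFinitePresentation h.left := hfp a b h ha hb comm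
  have e : ∀ u, Points.map f (Points.ofPt a u) = Points.ofPt b (h.left u) := fun u => by
    rw [Points.map_ofPt, comm, ofPt_comp_yon]
  have : Points.map f '' W = Points.ofPt b '' (h.left '' (Points.ofPt a ⁻¹' W)) := by
    ext y
    constructor
    · rintro ⟨x, hx, rfl⟩
      obtain ⟨u, rfl⟩ := surjective_ofPt_of_repWith has x
      exact ⟨_, ⟨u, hx, rfl⟩, (e u).symm⟩
    · rintro ⟨_, ⟨u, hu, rfl⟩, rfl⟩
      exact ⟨_, hu, e u⟩
  rw [this]
  exact isOpenMap_ofPt_of_etale hb _ (h.left.isOpenMap _ (hW.preimage (Points.continuous_ofPt a)))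

end Groth.AlgSpBasic
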