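import Groth.Agent.AlgSpBasic.LocP
import Groth.Agent.AlgSpBasic.Points
import Groth.Agent.DescentBase.DimEtale

/-!
# Etale-local invariants at points of algebraic spaces
-/

set_option autoImplicit false
set_option backward.isDefEq.respectTransparency.types false
universe u v

open CategoryTheory CategoryTheory.Limits AlgebraicGeometry Topology TopologicalSpace Opposite AlgSp

namespace Groth.AlgSpBasic

variable {S : Scheme.{u}}

/-- An invariant of pointed schemes which does not change along etale maps. -/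
def EtaleInvariant {α : Type v} (inv : ∀ U : Scheme.{u}, ↥U → α) : Prop :=
  ∀ ⦃U V : Scheme.{u}⦄ (f : U ⟶ V) [Etale f] (u : U), inv U u = inv V (f u)

theorem strictMono_of_etale {U V : Scheme.{u}} (f : U ⟶ V) [Etale f] :
    StrictMono (f : U → V) := by
  intro a b hab
  have : LocallyQuasiFinite f := Groth.DescentBase.locallyQuasiFinite_of_etale f
  have hba : b ⤳ a := hab.le
  refine lt_iff_le_not_ge.mpr ⟨hba.map f.continuous, fun hab' => hab.ne ?_⟩
  have he : f a = f b := (Specializes.antisymm hab' (hba.map f.continuous)).eq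
  have := (f.isDiscrete_preimage_singleton (f b)).to_subtype
  have h1 : (⟨b, rfl⟩ : ↥(f ⁻¹' {f b})) ⤳ ⟨a, he⟩ := subtype_specializes_iff _ _ |>.mpr hba
  exact (congrArg Subtype.val h1.eq).symm

theorem exists_ltSeries_of_etale {U V : Scheme.{u}} (f : U ⟶ V) [Etale f] (l : LTSeries V) :
    ∀ a, f a = l.head → ∃ l' : LTSeries U, l'.head = a ∧ l'.length = l.length := by
  induction l using RelSeries.inductionOn with
  | singleton x => exact fun a _ => ⟨RelSeries.singleton _ a, rfl, rfl⟩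
  | cons p x hx ih =>
    intro a ha
    rw [RelSeries.head_cons] at ha
    obtain ⟨a', h1, h2⟩ := Flat.generalizingMap f (show p.head ⤳ f a by rw [ha]; exact le_of_lt hx)
    obtain ⟨l', hl', hlen⟩ := ih a' h2
    have hlt : a < l'.head := by
      rw [hl']
      refine lt_iff_le_not_ge.mpr ⟨h1, fun h' => (show x < p.head from hx).ne ?_⟩
      rw [← ha, ← h2, (Specializes.antisymm h' h1).eq]
    exact ⟨l'.cons a hlt, RelSeries.head_cons .., by
      rw [RelSeries.cons_length, RelSeries.cons_length, hlen]⟩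

theorem coheight_eq_of_etale {U V : Scheme.{u}} (f : U ⟶ V) [Etale f] (u : U) :
    Order.coheight u = Order.coheight (f u) := by
  refine le_antisymm (Order.coheight_le_coheight_apply_of_strictMono _ (strictMono_of_etale f) u) ?_
  rw [Order.coheight_eq]
  refine iSup₂_le fun l hl => ?_
  by_cases hl' : l.head = f u
  · obtain ⟨l', h, hlen⟩ := exists_ltSeries_of_etale f l u hl'.symm
    rw [← hlen, ← h]
    exact Order.length_le_coheight le_rfl
  · obtain ⟨l', h, hlen⟩ := exists_ltSeries_of_etale f (l.cons (f u) (lt_iff_le_not_ge.mpr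
      ⟨hl, fun h' => hl' (Specializes.antisymm hl h').eq⟩)) u
      (RelSeries.head_cons ..).symm
    rw [RelSeries.cons_length] at hlen
    refine le_trans ?_ (Order.length_le_coheight (p := l') h.ge)
    rw [hlen]; exact_mod_cast Nat.le_succ _

theorem etaleInvariant_ringKrullDim :
    EtaleInvariant fun (U : Scheme.{u}) u => ringKrullDim ↥(U.presheaf.stalk u) :=
  fun _ _ f _ u => by
    dsimp only
    rw [ringKrullDim_stalk_eq_coheight, ringKrullDim_stalk_eq_coheight, coheight_eq_of_etale f u]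

theorem etaleInvariant_localDim :
    EtaleInvariant fun (U : Scheme.{u}) u => FlatMor.localDim ↥U u :=
  fun _ _ f _ u => Groth.DescentBase.localDim_eq_of_etale f u

theorem inv_eq_of_ofPt_eq {α : Type v} {inv : ∀ U : Scheme.{u}, ↥U → α} (hinv : EtaleInvariant inv)
    {X : Sp S} (hX : IsAlgSpace X) {U V : Over S} {a : (yon S).obj U ⟶ X} {b : (yon S).obj V ⟶ X}
    (ha : RepWith @Etale a) (hb : RepWith @Etale b) {x : ↥U.left} {y : ↥V.left}
    (h : AlgSp.Points.ofPt a x = AlgSp.Points.ofPt b y) : inv U.left x = inv V.left y := by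
  obtain ⟨W, fst, snd, sq⟩ := exists_pullback_of_diag hX.diag a b
  have : Etale snd.left := repWith_fst_of_isPullback sq ha
  have : Etale fst.left := repWith_fst_of_isPullback sq.flip hb
  obtain ⟨w, rfl, rfl⟩ := (ofPt_eq_ofPt_iff sq x y).mp h
  exact (hinv fst.left w).symm.trans (hinv snd.left w)

theorem hasAt_iff_forall {α : Type v} {inv : ∀ U : Scheme.{u}, ↥U → α} (hinv : EtaleInvariant inv)
    {X : Sp S} (hX : IsAlgSpace X) (x : AlgSp.Points X) (d : α) :
    HasAt (fun U u => inv U u = d) X x ↔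
      ∀ (U : Over S) (a : (yon S).obj U ⟶ X) (u : ↥U.left),
        RepWith @Etale a → AlgSp.Points.ofPt a u = x → inv U.left u = d := by
  constructor
  · rintro ⟨V, b, v, hb, rfl, hd⟩ U a u ha h
    exact (inv_eq_of_ofPt_eq hinv hX ha hb h).trans hd
  · intro h
    obtain ⟨U, p, hp, hps⟩ := hX.atlas
    obtain ⟨u, hu⟩ := surjective_ofPt_of_repWith hps x
    exact ⟨U, p, u, hp, hu, h U p u hp hu⟩

theorem hasAt_iff_of_isEtaleMor {α : Type v} {inv : ∀ U : Scheme.{u}, ↥U → α}
    (hinv : EtaleInvariant inv) {X Y : Sp S} (hX : IsAlgSpace X) (hY : IsAlgSpace Y) {f : X ⟶ Y}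
    (hf : IsEtaleMor f) (x : AlgSp.Points X) (d : α) :
    HasAt (fun U u => inv U u = d) X x ↔ HasAt (fun U u => inv U u = d) Y (AlgSp.Points.map f x) := by
  constructor
  · rintro ⟨U, a, u, ha, rfl, hd⟩
    exact ⟨U, a ≫ f, u, hf a ha, (Points.map_ofPt _ _ _).symm, hd⟩
  · intro h
    obtain ⟨U, p, hp, hps⟩ := hX.atlas
    obtain ⟨u, rfl⟩ := surjective_ofPt_of_repWith hps x
    exact ⟨U, p, u, hp, rfl,
      (hasAt_iff_forall hinv hY _ d).mp h U (p ≫ f) u (hf p hp) (Points.map_ofPt _ _ _).symm⟩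

theorem exists_ringKrullDim_stalk_eq_zero {A : Scheme.{u}} (O : A.Opens) (hO : (O : Set A).Nonempty) :
    ∃ x ∈ O, ringKrullDim ↥(A.presheaf.stalk x) = 0 := by
  obtain ⟨a, ha⟩ := hO
  obtain ⟨W, hW, haW, hWO⟩ := exists_isAffineOpen_mem_and_subset (X := A) (x := a) (U := O) ha
  obtain ⟨q, hq, -⟩ := Ideal.exists_minimalPrimes_le (I := ⊥)
    (J := (hW.primeIdealOf ⟨a, haW⟩).asIdeal) bot_le
  have : q.IsPrime := hq.1.1
  let P : PrimeSpectrum Γ(A, W) := ⟨q, hq.1.1⟩
  have hxW : hW.fromSpec P ∈ W := hW.range_fromSpec.subset ⟨P, rfl⟩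
  refine ⟨hW.fromSpec P, hWO hxW, ?_⟩
  let _ := TopCat.Presheaf.algebra_section_stalk A.presheaf ⟨hW.fromSpec P, hxW⟩
  have := hW.isLocalization_stalk ⟨hW.fromSpec P, hxW⟩
  rw [IsLocalization.AtPrime.ringKrullDim_eq_height (hW.primeIdealOf ⟨hW.fromSpec P, hxW⟩).asIdeal]
  have e : hW.primeIdealOf ⟨hW.fromSpec P, hxW⟩ = P :=
    hW.fromSpec.isOpenEmbedding.injective (hW.fromSpec_primeIdealOf ⟨hW.fromSpec P, hxW⟩)
  rw [e]
  rw [Ideal.height_eq_zero_iff.mpr hq]; rfl

theorem dense_codimZero {X : Sp S} (hX : IsAlgSpace X) :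
    Dense {x : AlgSp.Points X |
      HasAt (fun U u => ringKrullDim ↥(U.presheaf.stalk u) = 0) X x} := by
  rw [dense_iff_inter_open]
  intro O hO ⟨x, hx⟩
  obtain ⟨U, p, hp, hps⟩ := hX.atlas
  obtain ⟨u, hu⟩ := surjective_ofPt_of_repWith hps x
  obtain ⟨w, hw, hd⟩ := exists_ringKrullDim_stalk_eq_zero
    (⟨AlgSp.Points.ofPt p ⁻¹' O, hO.preimage (isQuotientMap_ofPt hp hps).continuous⟩ : U.left.Opens)
    ⟨u, by rw [SetLike.mem_coe]; exact (by rw [hu]; exact hx : AlgSp.Points.ofPt p u ∈ O)⟩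
  exact ⟨_, hw, U, p, w, hp, rfl, hd⟩

end Groth.AlgSpBasic
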