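import Groth.Agent.AlgSpBasic.AffineMor
import Groth.Agent.AlgSpBasic.LocalDim
import Groth.Agent.S9683

/-!
# Dimension and integral morphisms
-/

set_option autoImplicit false
set_option backward.isDefEq.respectTransparency.types false
universe u

open CategoryTheory CategoryTheory.Limits AlgebraicGeometry Opposite TopologicalSpace AlgSp

namespace Groth.AlgSpBasic

theorem topologicalKrullDim_eq_points (X : Scheme.{u}) :
    topologicalKrullDim ↥X = Order.krullDim (↥X) :=
  Order.krullDim_eq_of_orderIso irreducibleSetEquivPoints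

theorem topologicalKrullDim_le_of_strictMono {U V : Scheme.{u}} (f : U ⟶ V)
    (h : StrictMono (f : U → V)) : topologicalKrullDim ↥U ≤ topologicalKrullDim ↥V := by
  rw [topologicalKrullDim_eq_points, topologicalKrullDim_eq_points]
  exact Order.krullDim_le_of_strictMono _ h

theorem topologicalKrullDim_le_of_lifts {U V : Scheme.{u}} (f : U ⟶ V)
    (h : ∀ l : LTSeries V, ∃ l' : LTSeries U, l'.length = l.length) :
    topologicalKrullDim ↥V ≤ topologicalKrullDim ↥U := by
  rw [topologicalKrullDim_eq_points, topologicalKrullDim_eq_points]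
  refine iSup_le fun l => ?_
  obtain ⟨l', hl⟩ := h l
  rw [← hl]
  exact le_iSup (fun p : LTSeries U => (p.length : WithBot ℕ∞)) l'

theorem topologicalKrullDim_le_of_etale_surjective {U V : Scheme.{u}} (f : U ⟶ V) [Etale f]
    [Surjective f] : topologicalKrullDim ↥V ≤ topologicalKrullDim ↥U :=
  topologicalKrullDim_le_of_lifts f fun l => by
    obtain ⟨a, ha⟩ := f.surjective l.head
    obtain ⟨l', -, hl⟩ := exists_ltSeries_of_etale f l a ha
    exact ⟨l', hl⟩

theorem strictMono_of_integral {U V : Scheme.{u}} (f : U ⟶ V) [IsIntegralHom f] :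
    StrictMono (f : U → V) := by
  intro a b hab
  have hba : b ⤳ a := hab.le
  refine lt_iff_le_not_ge.mpr ⟨hba.map f.continuous, fun hab' => hab.ne ?_⟩
  exact (Groth.Agent.S9683.eq_of_specializes f hba
    (Specializes.antisymm (hba.map f.continuous) hab').eq).symm

theorem topologicalKrullDim_le_of_integral_surjective {U V : Scheme.{u}} (f : U ⟶ V)
    [IsIntegralHom f] [Surjective f] : topologicalKrullDim ↥V ≤ topologicalKrullDim ↥U := by
  refine topologicalKrullDim_le_of_lifts f fun l => ?_
  suffices ∀ l : LTSeries V, ∃ l' : LTSeries U, f l'.head = l.head ∧ l'.length = l.length from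
    (this l).imp fun _ h => h.2
  intro l
  induction l using RelSeries.inductionOn with
  | singleton x =>
    obtain ⟨a, ha⟩ := f.surjective x
    exact ⟨RelSeries.singleton _ a, ha, rfl⟩
  | cons p x hx ih =>
    obtain ⟨l', hl', hlen⟩ := ih
    have hsp : f l'.head ⤳ x := by rw [hl']; exact le_of_lt hx
    obtain ⟨a, ha, hfa⟩ := f.isClosedMap.specializingMap hsp
    have hlt : a < l'.head := by
      refine lt_iff_le_not_ge.mpr ⟨ha, fun h' => (show x < p.head from hx).ne ?_⟩
      rw [← hfa, ← hl', (Specializes.antisymm h' ha).eq]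
    exact ⟨l'.cons a hlt, (congrArg f (RelSeries.head_cons ..)).trans
      (hfa.trans (RelSeries.head_cons ..).symm),
      by rw [RelSeries.cons_length, RelSeries.cons_length, hlen]⟩

variable {S : Scheme.{u}}

theorem topologicalKrullDim_le_dim {X : Sp S} {U : Over S} {a : (yon S).obj U ⟶ X}
    (ha : RepWith @Etale a) : topologicalKrullDim ↥U.left ≤ AlgSp.dim X :=
  le_iSup₂_of_le U a (le_iSup (fun _ : RepWith @Etale a => topologicalKrullDim ↥U.left) ha)

theorem dim_le_of_isIntegralMor {X Y : Sp S} (hX : IsAlgSpace X) (hY : IsAlgSpace Y) (f : X ⟶ Y)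
    (hf : IsIntegralMor f) : AlgSp.dim X ≤ AlgSp.dim Y := by
  obtain ⟨V, b, hb, hbs⟩ := hY.atlas
  have hr := isIntegralMor_iff_repWith.1 hf
  obtain ⟨W, w, q, sqW⟩ := hr.rep b
  have : IsIntegralHom w.left := hr.property _ _ _ sqW
  have hq : RepWith @Etale q := repWith_of_isPullback sqW.flip hb
  have hqs : RepWith @Surjective q := repWith_of_isPullback sqW.flip hbs
  refine iSup₂_le fun U a => iSup_le fun ha => ?_
  obtain ⟨T, t₁, t₂, sqT⟩ := exists_pullback_of_diag hX.diag a q
  have : Etale t₁.left := hq.property _ _ _ sqT.flip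
  have : Surjective t₁.left := hqs.property _ _ _ sqT.flip
  have : Etale t₂.left := ha.property _ _ _ sqT
  exact (topologicalKrullDim_le_of_etale_surjective t₁.left).trans
    ((topologicalKrullDim_le_of_strictMono t₂.left (strictMono_of_etale _)).trans
      ((topologicalKrullDim_le_of_strictMono w.left (strictMono_of_integral _)).trans
        (topologicalKrullDim_le_dim hb)))

theorem dim_le_of_isIntegralMor_surjective {X Y : Sp S} (f : X ⟶ Y)
    (hf : IsIntegralMor f) (hs : IsSurjectiveMor f) :
    AlgSp.dim Y ≤ AlgSp.dim X := by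
  have hr := isIntegralMor_iff_repWith.1 hf
  refine iSup₂_le fun V b => iSup_le fun hb => ?_
  obtain ⟨W, w, q, sqW⟩ := hr.rep b
  have : IsIntegralHom w.left := hr.property _ _ _ sqW
  have hq : RepWith @Etale q := repWith_of_isPullback sqW.flip hb
  have : Surjective w.left := ⟨fun v => by
    obtain ⟨x, hx⟩ := hs (AlgSp.Points.ofPt b v)
    obtain ⟨z, -, hz⟩ := exists_point_of_isPullback sqW x (AlgSp.Points.ofScheme V v)
      (hx.trans (ofPt_eq_map b v))
    obtain ⟨z', rfl⟩ := (AlgSp.Points.schemeHomeo W).surjective z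
    exact ⟨z', (AlgSp.Points.schemeHomeo V).injective
      ((AlgSp.Points.map_yon_map_apply w z').symm.trans hz)⟩⟩
  exact (topologicalKrullDim_le_of_integral_surjective w.left).trans (topologicalKrullDim_le_dim hq)

end Groth.AlgSpBasic
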