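import Mathlib.AlgebraicGeometry.Morphisms.QuasiFinite
import Groth.Agent.AlgSpBasic.Topology
import Groth.Agent.AlgSpBasic.Diag
import Groth.Agent.AlgSpBasic.AlgSpace

/-!
# Properties of the diagonal of an algebraic space and of relative diagonals
-/

set_option autoImplicit false
set_option backward.isDefEq.respectTransparency.types false
universe u v w

open CategoryTheory CategoryTheory.Limits AlgebraicGeometry Opposite AlgSp

namespace Groth.AlgSpBasic

section General

variable {C : Type v} [Category.{w} C]

theorem isPullback_of_mono_comp {A B D : C} {f : A ⟶ B} {i : B ⟶ D} [Mono i] {h : A ⟶ D}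
    (w : f ≫ i = h) : IsPullback (𝟙 A) f h i := by
  refine ⟨⟨by simp [w]⟩, ⟨PullbackCone.IsLimit.mk _ (fun s => s.fst) (fun s => by simp) ?_ ?_⟩⟩
  · intro s
    apply (cancel_mono i).1
    rw [Category.assoc, w, s.condition]
  · intro s m h₁ _
    simpa using h₁

theorem isPullback_prod_map_fst [HasBinaryProducts C] {U X : C} (p : U ⟶ X) (Z : C) :
    IsPullback prod.fst (prod.map p (𝟙 Z)) p prod.fst := by
  refine ⟨⟨(prod.map_fst _ _).symm⟩,
    ⟨PullbackCone.IsLimit.mk _ (fun s => prod.lift s.fst (s.snd ≫ prod.snd)) ?_ ?_ ?_⟩⟩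
  · intro s; exact prod.lift_fst _ _
  · intro s
    apply prod.hom_ext
    · rw [Category.assoc, prod.map_fst, prod.lift_fst_assoc, s.condition]
    · rw [Category.assoc, prod.map_snd, prod.lift_snd_assoc, Category.comp_id]
  · intro s m h₁ h₂
    apply prod.hom_ext
    · rw [prod.lift_fst]; exact h₁
    · rw [prod.lift_snd, ← h₂, Category.assoc, prod.map_snd, Category.comp_id]

theorem isPullback_prod_map_snd [HasBinaryProducts C] {U X : C} (p : U ⟶ X) (Z : C) :
    IsPullback prod.snd (prod.map (𝟙 Z) p) p prod.snd := by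
  refine ⟨⟨(prod.map_snd _ _).symm⟩,
    ⟨PullbackCone.IsLimit.mk _ (fun s => prod.lift (s.snd ≫ prod.fst) s.fst) ?_ ?_ ?_⟩⟩
  · intro s; exact prod.lift_snd _ _
  · intro s
    apply prod.hom_ext
    · rw [Category.assoc, prod.map_fst, prod.lift_fst_assoc, Category.comp_id]
    · rw [Category.assoc, prod.map_snd, prod.lift_snd_assoc, s.condition]
  · intro s m h₁ h₂
    apply prod.hom_ext
    · rw [prod.lift_fst, ← h₂, Category.assoc, prod.map_fst, Category.comp_id]
    · rw [prod.lift_snd]; exact h₁

end General

variable {S : Scheme.{u}} {P : MorphismProperty Scheme.{u}} {F G : Sp S}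

theorem repWith_prod_map [P.IsStableUnderBaseChange] [P.IsStableUnderComposition]
    {A B C D : Sp S} {p : A ⟶ C} {q : B ⟶ D} (hp : RepWith P p) (hq : RepWith P q) :
    RepWith P (prod.map p q) := by
  have e : prod.map p q = prod.map p (𝟙 B) ≫ prod.map (𝟙 C) q := by
    rw [prod.map_map, Category.comp_id, Category.id_comp]
  rw [e]
  exact repWith_comp (repWith_of_isPullback (isPullback_prod_map_fst p B) hp)
    (repWith_of_isPullback (isPullback_prod_map_snd q C) hq)

theorem mono_left_of_isPullback {U V : Over S} {f : F ⟶ G} [Mono f] {g : (yon S).obj U ⟶ G}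
    {fst : (yon S).obj V ⟶ F} {snd : V ⟶ U} (sq : IsPullback fst ((yon S).map snd) f g) :
    Mono snd.left := by
  have h1 : Mono ((yon S).map snd) :=
    (MorphismProperty.monomorphisms (Sp S)).of_isPullback sq (inferInstanceAs (Mono f))
  have h2 : Mono snd := (yon S).mono_of_mono_map h1
  exact inferInstanceAs (Mono ((Over.forget S).map snd))

theorem repWith_monomorphisms_of_mono {f : F ⟶ G} (hf : Representable f) [Mono f] :
    RepWith (MorphismProperty.monomorphisms Scheme.{u}) f :=
  ⟨hf, fun _ _ _ _ _ sq => mono_left_of_isPullback sq⟩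

/-- The properties that the diagonals share. -/
abbrev MonoLFT : MorphismProperty Scheme.{u} :=
  MorphismProperty.monomorphisms Scheme.{u} ⊓ @LocallyOfFiniteType

theorem monoLFT_le : (MonoLFT : MorphismProperty Scheme.{u}) ≤
    (@IsSeparated.{u} ⊓ (@LocallyQuasiFinite.{u} ⊓ @LocallyOfFiniteType.{u}) :
      MorphismProperty Scheme.{u}) := by
  rintro X Y f ⟨hm, hl⟩
  have : Mono f := hm
  have : LocallyOfFiniteType f := hl
  exact ⟨inferInstance, LocallyQuasiFinite.of_injective f.injective, hl⟩

theorem locallyOfFiniteType_diag {X : Sp S} (hX : IsAlgSpace X) :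
    RepWith @LocallyOfFiniteType (Limits.diag X) := by
  obtain ⟨U, p, he, hs⟩ := hX.atlas
  obtain ⟨R, fst, snd, sq⟩ := exists_pullback_of_diag hX.diag p p
  let b := prodComparison (yon S) U U ≫ prod.map p p
  have he' : RepWith @Etale b :=
    MorphismProperty.RespectsIso.precomp _ _ _ (repWith_prod_map he he)
  have hs' : RepWith @Surjective b :=
    MorphismProperty.RespectsIso.precomp _ _ _ (repWith_prod_map hs hs)
  have := isLocallySurjective_of_etale b he' hs'
  refine repWith_of_isLocallySurjective _ hX.diag b _ _ (isPullback_diag_yon sq) ?_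
  refine (repWith_yon_map_iff _ _).2 ?_
  have h : Etale fst.left := repWith_fst_of_isPullback sq.flip he
  have e : (prod.lift fst snd).left ≫ (prod.fst : U ⨯ U ⟶ U).left = fst.left :=
    (Over.comp_left _ _ _ _ _).symm.trans (congrArg (fun k => k.left) (prod.lift_fst fst snd))
  have : LocallyOfFiniteType ((prod.lift fst snd).left ≫ (prod.fst : U ⨯ U ⟶ U).left) := by
    rw [e]; infer_instance
  exact locallyOfFiniteType_of_comp (prod.lift fst snd).left (prod.fst : U ⨯ U ⟶ U).left

theorem monoLFT_diag {X : Sp S} (hX : IsAlgSpace X) : RepWith MonoLFT (Limits.diag X) :=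
  repWith_inf_iff.2 ⟨repWith_monomorphisms_of_mono hX.diag, locallyOfFiniteType_diag hX⟩

/-- The relative diagonal is a base change of the absolute one along a monomorphism. -/
theorem repWith_diagonal_of_repWith_diag (h : RepWith P (Limits.diag F)) (f : F ⟶ G) :
    RepWith P (pullback.diagonal f) := by
  let ι : pullback f f ⟶ F ⨯ F := prod.lift (pullback.fst f f) (pullback.snd f f)
  have : Mono ι := ⟨fun a b hab => by
    apply pullback.hom_ext
    · simpa [ι, Category.assoc, prod.lift_fst] using hab =≫ prod.fst
    · simpa [ι, Category.assoc, prod.lift_snd] using hab =≫ prod.snd⟩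
  refine repWith_of_isPullback (isPullback_of_mono_comp (i := ι) (h := Limits.diag F) ?_) h
  apply prod.hom_ext
  · rw [Category.assoc, prod.lift_fst, pullback.diagonal_fst]
    exact (prod.lift_fst _ _).symm
  · rw [Category.assoc, prod.lift_snd, pullback.diagonal_snd]
    exact (prod.lift_snd _ _).symm

theorem monoLFT_diagonal {X : Sp S} (hX : IsAlgSpace X) {Y : Sp S} (f : X ⟶ Y) :
    RepWith MonoLFT (pullback.diagonal f) :=
  repWith_diagonal_of_repWith_diag (monoLFT_diag hX) f

theorem repWith_mapDesc {X Y Z T : Sp S} (f : X ⟶ Z) (g : Y ⟶ Z) (h : Z ⟶ T)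
    (hd : RepWith P (pullback.diagonal h)) : RepWith P (pullback.mapDesc f g h) :=
  repWith_of_isPullback (pullback_map_diagonal_isPullback f g h) hd

theorem repWith_section {X T : Sp S} (f : X ⟶ T) (s : T ⟶ X) (hs : s ≫ f = 𝟙 T)
    (hd : RepWith P (pullback.diagonal f)) : RepWith P s := by
  let g : X ⟶ pullback f f := pullback.lift (f ≫ s) (𝟙 X) (by simp [hs])
  refine repWith_of_isPullback (f := pullback.diagonal f) (a := s) (b := g) ⟨⟨?_⟩,
    ⟨PullbackCone.IsLimit.mk _ (fun c => c.snd ≫ f) ?_ ?_ ?_⟩⟩ hd
  · apply pullback.hom_ext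
    · rw [Category.assoc, Category.assoc, pullback.lift_fst, pullback.diagonal_fst,
        ← Category.assoc s f, hs, Category.id_comp, Category.comp_id]
    · rw [Category.assoc, Category.assoc, pullback.lift_snd, pullback.diagonal_snd,
        Category.comp_id]
  · intro c
    have h₁ := c.condition =≫ pullback.fst f f
    rw [Category.assoc, Category.assoc, pullback.lift_fst, pullback.diagonal_fst,
      Category.comp_id] at h₁
    rw [h₁, Category.assoc]
  · intro c
    have h₁ := c.condition =≫ pullback.fst f f
    have h₂ := c.condition =≫ pullback.snd f f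
    rw [Category.assoc, Category.assoc, pullback.lift_fst, pullback.diagonal_fst,
      Category.comp_id] at h₁
    rw [Category.assoc, Category.assoc, pullback.lift_snd, pullback.diagonal_snd,
      Category.comp_id, Category.comp_id] at h₂
    rw [Category.assoc, ← h₁, h₂]
  · intro c m _ h₂
    rw [← h₂, Category.assoc, hs, Category.comp_id]

end Groth.AlgSpBasic
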