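import Mathlib.AlgebraicGeometry.Morphisms.Descent
import Groth.Prelude.Def_AlgSp4
import Groth.Agent.AlgSpBasic.RepWith
import Groth.Agent.AlgSpBasic.Topology
import Groth.Agent.AlgSpBasic.Points

/-!
# Quasi-compact algebraic spaces and charts
-/

set_option autoImplicit false
set_option backward.isDefEq.respectTransparency.types false
universe u

open CategoryTheory CategoryTheory.Limits AlgebraicGeometry Opposite AlgSp Topology

namespace Groth.AlgSpBasic

noncomputable section

variable {S : Scheme.{u}}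

theorem repWith_surjective_of_points {F G : Sp S} {f : F ⟶ G} (hf : Representable f)
    (h : Function.Surjective (Points.map f)) : RepWith @Surjective f := by
  refine repWith_of_representable hf fun U V g fst snd sq => ⟨fun t => ?_⟩
  obtain ⟨x, hx⟩ := h (Points.ofPt g t)
  obtain ⟨v, -, hv⟩ := (map_eq_ofPt_iff sq x t).1 hx
  exact ⟨v, hv⟩

theorem repWith_surjective_of_ofPt {F : Sp S} {U : Over S} {a : (yon S).obj U ⟶ F}
    (ha : Representable a) (h : Function.Surjective (Points.ofPt a)) : RepWith @Surjective a :=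
  repWith_surjective_of_points ha fun y => by
    obtain ⟨t, rfl⟩ := h y
    exact ⟨Points.ofScheme U t, (ofPt_eq_map a t).symm⟩

variable {X : Sp S} {U : Over S} {p : (yon S).obj U ⟶ X}

/-- A compact open of the chart still covering all points gives an affine chart. -/
theorem exists_affine_chart_of_opens (he : RepWith @Etale p) (K : U.left.Opens)
    (hK : IsCompact (K : Set ↥U.left)) (hs : Points.ofPt p '' (K : Set ↥U.left) = Set.univ) :
    ∃ (V : Over S) (q : (yon S).obj V ⟶ X),
      IsAffine V.left ∧ RepWith @Etale q ∧ RepWith @Surjective q := by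
  have : CompactSpace ↥K.toScheme := isCompact_iff_compactSpace.1 hK
  obtain ⟨Y, φ, hφs, hφe, hY⟩ :=
    K.toScheme.exists_hom_isAffine_of_isZariskiLocalAtSource @Etale
  let j : Over.mk ((φ ≫ K.ι) ≫ U.hom) ⟶ U := Over.homMk (φ ≫ K.ι)
  have hj : RepWith @Etale ((yon S).map j) :=
    (repWith_yon_map_iff _ j).2 (show Etale (φ ≫ K.ι) from inferInstance)
  refine ⟨_, (yon S).map j ≫ p, hY, repWith_comp hj he,
    repWith_surjective_of_ofPt (repWith_comp hj he).rep fun x => ?_⟩
  obtain ⟨u, hu, rfl⟩ := hs.ge (Set.mem_univ x)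
  obtain ⟨v, hv⟩ := φ.surjective ⟨u, hu⟩
  refine ⟨v, ?_⟩
  rw [ofPt_comp_yon]
  exact congrArg (Points.ofPt p) (congrArg (fun z => K.ι z) hv)

theorem exists_affine_chart_of_compactSpace (hX : IsAlgSpace X) [CompactSpace (Points X)] :
    ∃ (V : Over S) (q : (yon S).obj V ⟶ X),
      IsAffine V.left ∧ RepWith @Etale q ∧ RepWith @Surjective q := by
  obtain ⟨U, p, he, hs⟩ := hX.atlas
  let 𝒰 := U.left.affineCover
  have hcov : Set.univ ⊆ ⋃ i, Points.ofPt p '' ((𝒰.f i).opensRange : Set ↥U.left) := by
    intro x _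
    obtain ⟨u, rfl⟩ := surjective_ofPt_of_repWith hs x
    obtain ⟨i, y, hy⟩ := 𝒰.exists_eq u
    exact Set.mem_iUnion.2 ⟨i, u, ⟨y, hy⟩, rfl⟩
  obtain ⟨t, ht⟩ := isCompact_univ.elim_finite_subcover _
    (fun i => isOpenMap_ofPt_of_etale he _ (𝒰.f i).opensRange.isOpen) hcov
  refine exists_affine_chart_of_opens he (⨆ i ∈ t, (𝒰.f i).opensRange) ?_ ?_
  · simp only [TopologicalSpace.Opens.coe_iSup]
    exact t.finite_toSet.isCompact_biUnion fun i _ =>
      isCompact_range (𝒰.f i).continuous
  · simp only [TopologicalSpace.Opens.coe_iSup, Set.image_iUnion]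
    exact Set.eq_univ_of_univ_subset ht

theorem isQuasiCompactSp_iff_compactSpace (hX : IsAlgSpace X) :
    IsQuasiCompactSp X ↔ CompactSpace (Points X) := by
  constructor
  · rintro ⟨U, p, -, hs, hU⟩
    exact compactSpace_points hs
  · intro h
    obtain ⟨V, q, hV, he, hs⟩ := exists_affine_chart_of_compactSpace hX
    exact ⟨V, q, he, hs, inferInstance⟩

theorem exists_affine_chart (hX : IsAlgSpace X) (h : IsQuasiCompactSp X) :
    ∃ (V : Over S) (q : (yon S).obj V ⟶ X),
      IsAffine V.left ∧ RepWith @Etale q ∧ RepWith @Surjective q :=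
  have := (isQuasiCompactSp_iff_compactSpace hX).1 h
  exists_affine_chart_of_compactSpace hX

end

end Groth.AlgSpBasic
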