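import Mathlib.AlgebraicGeometry.Morphisms.QuasiCompact
import Groth.Prelude.Def_AlgSp4
import Groth.Agent.AlgSpBasic.RepWith
import Groth.Agent.AlgSpBasic.Points
import Groth.Agent.AlgSpBasic.AlgSpace
import Groth.Agent.AlgSpBasic.Compact
import Groth.Agent.AlgSpBasic.DiagProps

/-!
# Quasi-compact morphisms of algebraic spaces
-/

set_option autoImplicit false
set_option backward.isDefEq.respectTransparency.types false
universe u

open CategoryTheory CategoryTheory.Limits AlgebraicGeometry Opposite AlgSp Topology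

namespace Groth.AlgSpBasic

noncomputable section

variable {S : Scheme.{u}} {X Y W : Sp S}

theorem isQuasiCompactSp_yon_iff (U : Over S) :
    IsQuasiCompactSp ((yon S).obj U) ↔ CompactSpace ↥U.left := by
  rw [isQuasiCompactSp_iff_compactSpace (IsAlgSpace.yon_obj U)]
  exact ⟨fun _ => (Points.schemeHomeo U).symm.compactSpace,
    fun _ => (Points.schemeHomeo U).compactSpace⟩

theorem isQuasiCompactSp_of_surjective (hX : IsQuasiCompactSp X) (hXa : IsAlgSpace X)
    (hY : IsAlgSpace Y) (f : X ⟶ Y) (hf : Function.Surjective (Points.map f)) :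
    IsQuasiCompactSp Y := by
  have := (isQuasiCompactSp_iff_compactSpace hXa).1 hX
  exact (isQuasiCompactSp_iff_compactSpace hY).2 (hf.compactSpace (Points.continuous_map f))

theorem isQuasiCompactSp_of_iso (e : X ≅ Y) (hX : IsQuasiCompactSp X) : IsQuasiCompactSp Y := by
  obtain ⟨U, p, hp, hps, hU⟩ := hX
  exact ⟨U, p ≫ e.hom, repWith_comp hp (repWith_isIso e.hom),
    repWith_comp hps (repWith_isIso e.hom), hU⟩

/-- Quasi-compactness can be tested on affine schemes. -/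
theorem isQuasiCompactMor_of_affine (hX : IsAlgSpace X) (hY : IsAlgSpace Y) {f : X ⟶ Y}
    (h : ∀ (Z : Over S), IsAffine Z.left → ∀ (g : (yon S).obj Z ⟶ Y) (P : Sp S)
      (fst : P ⟶ X) (snd : P ⟶ (yon S).obj Z), IsPullback fst snd f g → IsQuasiCompactSp P) :
    IsQuasiCompactMor f := by
  intro Z Z' hZ hq g fst snd sq
  obtain ⟨V, q, hV, -, hqs⟩ := exists_affine_chart hZ hq
  obtain ⟨P, p₁, p₂, hP⟩ : ∃ (P : Sp S) (p₁ : P ⟶ Z') (p₂ : P ⟶ (yon S).obj V),
      IsPullback p₁ p₂ snd q := ⟨_, _, _, IsPullback.of_hasPullback snd q⟩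
  have hZ' := isAlgSpace_of_isPullback sq hY.diag hX hZ
  exact isQuasiCompactSp_of_surjective (h V hV _ P _ p₂ (hP.paste_horiz sq))
    (isAlgSpace_of_isPullback hP hZ.diag hZ' (IsAlgSpace.yon_obj V)) hZ' p₁
    (surjective_map_of_repWith (repWith_of_isPullback hP.flip hqs))

theorem isQuasiCompactMor_of_repWith (hX : IsAlgSpace X) (hY : IsAlgSpace Y) {f : X ⟶ Y}
    (h : RepWith @QuasiCompact f) : IsQuasiCompactMor f := by
  refine isQuasiCompactMor_of_affine hX hY fun Z hZ g P fst snd sq => ?_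
  obtain ⟨V, q₂, q₁, hV⟩ := h.rep g
  have : QuasiCompact q₂.left := h.property g q₁ q₂ hV
  refine isQuasiCompactSp_of_iso (hV.isoIsPullback _ _ sq) ((isQuasiCompactSp_yon_iff V).2 ?_)
  exact QuasiCompact.compactSpace_of_compactSpace q₂.left

theorem repWith_of_isQuasiCompactMor {f : X ⟶ Y} (hf : Representable f)
    (h : IsQuasiCompactMor f) : RepWith @QuasiCompact f := by
  refine repWith_of_representable hf fun T V g fst snd sq => ?_
  refine quasiCompact_iff_forall_isAffineOpen.2 fun K hK => ?_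
  let j : Over.mk (K.ι ≫ T.hom) ⟶ T := Over.homMk K.ι
  let k : Over.mk ((snd.left ⁻¹ᵁ K).ι ≫ V.hom) ⟶ V := Over.homMk (snd.left ⁻¹ᵁ K).ι
  let m : Over.mk ((snd.left ⁻¹ᵁ K).ι ≫ V.hom) ⟶ Over.mk (K.ι ≫ T.hom) :=
    Over.homMk (snd.left ∣_ K) (by
      show (snd.left ∣_ K) ≫ K.ι ≫ T.hom = (snd.left ⁻¹ᵁ K).ι ≫ V.hom
      rw [← Category.assoc, morphismRestrict_ι, Category.assoc, Over.w snd])
  have hp : IsPullback k m snd j :=
    IsPullback.of_map (Over.forget S) (Over.OverMorphism.ext (morphismRestrict_ι _ _).symm)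
      (isPullback_morphismRestrict snd.left K).flip
  have hK' : CompactSpace ↥(Over.mk (K.ι ≫ T.hom)).left :=
    isCompact_iff_compactSpace.1 hK.isCompact
  have := (isQuasiCompactSp_yon_iff _).1 (h (IsAlgSpace.yon_obj _)
    ((isQuasiCompactSp_yon_iff _).2 hK') _ _ _ ((hp.map (yon S)).paste_horiz sq))
  exact isCompact_iff_compactSpace.2 this

theorem isQuasiCompactMor_of_surjective (hY : IsAlgSpace Y) (hW : IsAlgSpace W)
    (hX : IsAlgSpace X) {f : X ⟶ Y} {q : Y ⟶ W} (hf : IsSurjectiveMor f)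
    (hp : IsQuasiCompactMor (f ≫ q)) : IsQuasiCompactMor q := by
  intro Z Q hZ hq g fst snd sq
  obtain ⟨P, p₁, p₂, hP⟩ : ∃ (P : Sp S) (p₁ : P ⟶ X) (p₂ : P ⟶ Q),
      IsPullback p₁ p₂ f fst := ⟨_, _, _, IsPullback.of_hasPullback f fst⟩
  have hQ := isAlgSpace_of_isPullback sq hW.diag hY hZ
  refine isQuasiCompactSp_of_surjective (hp hZ hq g p₁ (p₂ ≫ snd) (hP.paste_vert sq))
    (isAlgSpace_of_isPullback hP hY.diag hX hQ) hQ p₂ fun z => ?_
  obtain ⟨x, hx⟩ := hf (Points.map fst z)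
  obtain ⟨a, -, ha⟩ := exists_point_of_isPullback hP x z hx
  exact ⟨a, ha⟩

theorem isQuasiCompactMor_of_cancel (hX : IsAlgSpace X) (hY : IsAlgSpace Y) (hW : IsAlgSpace W)
    {f : X ⟶ Y} {g : Y ⟶ W} (hgf : IsQuasiCompactMor (f ≫ g)) (hg : IsQuasiSeparatedMor g) :
    IsQuasiCompactMor f := by
  refine isQuasiCompactMor_of_affine hX hY fun Z hZ t P fst snd sq => ?_
  have hB : IsQuasiCompactSp (pullback (f ≫ g) (t ≫ g)) :=
    hgf (IsAlgSpace.yon_obj Z) ((isQuasiCompactSp_yon_iff Z).2 inferInstance) _ _ _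
      (IsPullback.of_hasPullback (f ≫ g) (t ≫ g))
  have hBa : IsAlgSpace (pullback (f ≫ g) (t ≫ g)) :=
    isAlgSpace_of_isPullback (IsPullback.of_hasPullback _ _) hW.diag hX (IsAlgSpace.yon_obj Z)
  have hAa : IsAlgSpace (pullback f t) :=
    isAlgSpace_of_isPullback (IsPullback.of_hasPullback _ _) hY.diag hX (IsAlgSpace.yon_obj Z)
  refine isQuasiCompactSp_of_iso ((IsPullback.of_hasPullback f t).isoIsPullback _ _ sq) ?_
  exact isQuasiCompactMor_of_repWith hAa hBa (repWith_mapDesc f t g hg) hBa hB (𝟙 _)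
    (𝟙 _) (pullback.mapDesc f t g) (IsPullback.of_horiz_isIso ⟨by simp⟩)

/-- Quasi-compactness descends along a morphism which is open and surjective on points after
base change to affines. -/
theorem isQuasiCompactMor_of_cover {Y' X' : Sp S} (hX : IsAlgSpace X) (hY : IsAlgSpace Y)
    (hY' : IsAlgSpace Y') (hX' : IsAlgSpace X') {f : X ⟶ Y} {g : Y' ⟶ Y} {fst : X' ⟶ X}
    {f' : X' ⟶ Y'} (sq : IsPullback fst f' f g) (hgo : IsUnivOpenMor g) (hgs : IsSurjectiveMor g)
    (h : IsQuasiCompactMor f') : IsQuasiCompactMor f := by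
  classical
  refine isQuasiCompactMor_of_affine hX hY fun Z hZ t P fst₀ snd₀ sq₀ => ?_
  obtain ⟨Z₁, r, z, hZ₁⟩ : ∃ (Z₁ : Sp S) (r : Z₁ ⟶ Y') (z : Z₁ ⟶ (yon S).obj Z),
      IsPullback r z g t := ⟨_, _, _, IsPullback.of_hasPullback g t⟩
  have hZ₁a := isAlgSpace_of_isPullback hZ₁ hY.diag hY' (IsAlgSpace.yon_obj Z)
  obtain ⟨U, a, ha, has⟩ := hZ₁a.atlas
  obtain ⟨φ, hφ⟩ := (yon S).map_surjective (a ≫ z)
  have e : φ.left = (Points.schemeHomeo Z).symm ∘ Points.map z ∘ Points.ofPt a := by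
    funext u
    rw [Function.comp_apply, Function.comp_apply, Homeomorph.eq_symm_apply, Points.map_ofPt, ← hφ,
      ofPt_eq_map]
    exact (Points.map_yon_map_apply φ u).symm
  have hφo : IsOpenMap φ.left := by
    rw [e]
    exact (Points.schemeHomeo Z).symm.isOpenMap.comp
      ((hgo (IsAlgSpace.yon_obj Z) t r z hZ₁).comp (isOpenMap_ofPt_of_etale ha))
  have hφs : Function.Surjective φ.left := by
    rw [e]
    refine (Points.schemeHomeo Z).symm.surjective.comp (Function.Surjective.comp ?_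
      (surjective_ofPt_of_repWith has))
    intro y
    obtain ⟨y', hy'⟩ := hgs (Points.map t y)
    obtain ⟨w, -, hw⟩ := exists_point_of_isPullback hZ₁ y' y hy'
    exact ⟨w, hw⟩
  obtain ⟨K₀, hK, hKs⟩ := hφo.exists_opens_image_eq_of_prespectralSpace φ.left.continuous
    (by simp [Set.range_eq_univ.2 hφs]) isOpen_univ isCompact_univ
  let K : U.left.Opens := K₀
  let k : Over.mk (K.ι ≫ U.hom) ⟶ U := Over.homMk K.ι
  have hKc : CompactSpace ↥(Over.mk (K.ι ≫ U.hom)).left := isCompact_iff_compactSpace.1 hK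
  let s : (yon S).obj (Over.mk (K.ι ≫ U.hom)) ⟶ Y' := (yon S).map k ≫ a ≫ r
  obtain ⟨Q, q₁, q₂, hQ⟩ : ∃ (Q : Sp S) (q₁ : Q ⟶ X') (q₂ : Q ⟶ _),
      IsPullback q₁ q₂ f' s := ⟨_, _, _, IsPullback.of_hasPullback f' s⟩
  have hQc := h (IsAlgSpace.yon_obj _) ((isQuasiCompactSp_yon_iff _).2 hKc) _ _ _ hQ
  have hQa := isAlgSpace_of_isPullback hQ hY'.diag hX' (IsAlgSpace.yon_obj _)
  have hPa := isAlgSpace_of_isPullback sq₀ hY.diag hX (IsAlgSpace.yon_obj Z)
  have hw : s ≫ g = (yon S).map (k ≫ φ) ≫ t := by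
    rw [Functor.map_comp, hφ]
    simp only [s, Category.assoc, hZ₁.w]
  have hbig : IsPullback (q₁ ≫ fst) q₂ f ((yon S).map (k ≫ φ) ≫ t) := by
    rw [← hw]; exact hQ.paste_horiz sq
  let l : Q ⟶ P := sq₀.lift (q₁ ≫ fst) (q₂ ≫ (yon S).map (k ≫ φ))
    (by rw [Category.assoc q₂]; exact hbig.w)
  have hl : IsPullback l q₂ snd₀ ((yon S).map (k ≫ φ)) :=
    IsPullback.of_right (by rw [sq₀.lift_fst]; exact hbig) (sq₀.lift_snd _ _ _) sq₀
  refine isQuasiCompactSp_of_surjective hQc hQa hPa l fun x => ?_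
  obtain ⟨y, hy⟩ := (Points.schemeHomeo Z).surjective (Points.map snd₀ x)
  obtain ⟨u, hu, huy⟩ := hKs.ge (Set.mem_univ y)
  obtain ⟨q, hq, -⟩ := exists_point_of_isPullback hl x
    (Points.ofScheme (Over.mk (K.ι ≫ U.hom)) ⟨u, hu⟩) (by
      refine hy.symm.trans ?_
      rw [← huy]
      exact (Points.map_yon_map_apply (k ≫ φ) ⟨u, hu⟩).symm)
  exact ⟨q, hq⟩

end

end Groth.AlgSpBasic
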