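import Mathlib.CategoryTheory.Sites.RegularEpi
import Groth.Agent.AlgSpBasic.RepWith
import Groth.Agent.AlgSpBasic.Topology
import Groth.Agent.AlgSpBasic.Diag

/-!
# The equivalence relation of an atlas and the quotient property
-/

set_option autoImplicit false
universe u

open CategoryTheory CategoryTheory.Limits AlgebraicGeometry Opposite AlgSp

namespace Groth.AlgSpBasic

variable {S : Scheme.{u}} {F : Sp S} {R U : Over S} {s t : R ⟶ U} {p : (yon S).obj U ⟶ F}

theorem isEqvRel_of_isPullback (sq : IsPullback ((yon S).map t) ((yon S).map s) p p) :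
    IsEqvRel s t where
  injective T r r' ht hs := (yon S).map_injective (sq.hom_ext
    (by rw [← Functor.map_comp, ← Functor.map_comp, ht])
    (by rw [← Functor.map_comp, ← Functor.map_comp, hs]))
  equivalence T := by
    have key : ∀ a b : T ⟶ U, (∃ r : T ⟶ R, r ≫ t = a ∧ r ≫ s = b) ↔
        (yon S).map a ≫ p = (yon S).map b ≫ p := by
      intro a b
      constructor
      · rintro ⟨r, rfl, rfl⟩
        rw [Functor.map_comp, Functor.map_comp, Category.assoc, Category.assoc, sq.w]
      · intro e
        obtain ⟨r, hr⟩ := (yon S).map_surjective (sq.lift _ _ e)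
        exact ⟨r, (yon S).map_injective (by rw [Functor.map_comp, hr, sq.lift_fst]),
          (yon S).map_injective (by rw [Functor.map_comp, hr, sq.lift_snd])⟩
    refine ⟨fun a => (key a a).2 rfl, fun h => (key _ _).2 ((key _ _).1 h).symm, fun h h' => ?_⟩
    exact (key _ _).2 (((key _ _).1 h).trans ((key _ _).1 h'))

theorem isEtaleEqvRel_of_isPullback (sq : IsPullback ((yon S).map t) ((yon S).map s) p p)
    (he : RepWith @Etale p) : IsEtaleEqvRel s t where
  toIsEqvRel := isEqvRel_of_isPullback sq
  etale_left := repWith_fst_of_isPullback sq he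
  etale_right := repWith_fst_of_isPullback sq.flip he

/-- A locally surjective map of sheaves is the coequalizer of its kernel pair. -/
theorem isColimit_of_isLocallySurjective {A X Y : Sp S} {f : X ⟶ Y} [Sheaf.IsLocallySurjective f]
    {a b : A ⟶ X} (sq : IsPullback a b f f) : Nonempty (IsColimit (Cofork.ofπ f sq.w)) := by
  have : Epi f := inferInstance
  have : IsRegularEpi f := IsRegularEpiCategory.regularEpiOfEpi f
  exact ⟨(show IsKernelPair f a b from sq).toCoequalizer'⟩

end Groth.AlgSpBasic
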