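import Groth.Agent.AlgSpBasic.EtaleFibres
import Groth.Agent.AlgSpBasic.FiniteEtaleQuotOrbits
import Groth.Agent.AlgSpBasic.LocalDim
import Groth.Agent.GitQuot.FiniteAffine
import Groth.Agent.PropsBasic.GenericFinite
import Groth.Agent.AlgSp2.MonoCriteria
import Groth.Agent.AlgSp2.Decency

/-!
# Schematic points of algebraic spaces and dense open subschemes
-/

set_option autoImplicit false
set_option backward.isDefEq.respectTransparency.types false
universe u

open CategoryTheory CategoryTheory.Limits AlgebraicGeometry Opposite TopologicalSpace AlgSp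

namespace Groth.AlgSpBasic

variable {S : Scheme.{u}}

/-- A point with an open neighbourhood which is a scheme. -/
def IsSchematicPt (X : Sp S) (x : AlgSp.Points X) : Prop :=
  ∃ (G : Over S) (g : (yon S).obj G ⟶ X),
    RepWith @IsOpenImmersion g ∧ x ∈ Set.range (AlgSp.Points.ofPt g)

theorem isOpen_schematicPt (X : Sp S) : IsOpen {x | IsSchematicPt X x} := by
  refine isOpen_iff_forall_mem_open.2 fun x ⟨G, g, hg, hx⟩ => ?_
  exact ⟨_, fun y hy => ⟨G, g, hg, hy⟩,
    (isOpenMap_ofPt_of_repWith (fun _ _ φ (h : IsOpenImmersion φ) => φ.isOpenEmbedding.isOpenMap)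
      hg).isOpen_range, hx⟩

/-- The schematic points form an open subspace which is a scheme. -/
theorem exists_schematic_openSub (X : Space S) :
    ∃ (X' : Space S) (j : X' ⟶ X), RepWith @IsOpenImmersion j.hom ∧ X'.obj.obj.IsRepresentable ∧
      Set.range (AlgSp.Points.map j.hom) = {x | IsSchematicPt X.obj x} := by
  let Wo := {x | IsSchematicPt X.obj x}
  have hW : IsOpen Wo := isOpen_schematicPt X.obj
  let ι := openSubι X.obj Wo
  have hι : RepWith @IsOpenImmersion ι := repWith_openSubι hW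
  have : Mono ι := mono_of_repWith (fun _ _ g (_ : IsOpenImmersion g) => inferInstance) hι
  obtain ⟨U, p, hp, hps⟩ := X.property.atlas
  let Idx : Type u := {u : ↥U.left // IsSchematicPt X.obj (AlgSp.Points.ofPt p u)}
  choose G g hg hgu using fun i : Idx => i.2
  have hfac : ∀ i, ∃ g' : (yon S).obj (G i) ⟶ openSub X.obj Wo, g' ≫ ι = g i := fun i =>
    (openSub_exists_lift_iff X.obj Wo (g i)).2 fun z => ⟨G i, g i, hg i, z, rfl⟩
  choose g' hg' using hfac
  have hg'o : ∀ i, RepWith @IsOpenImmersion (g' i) := fun i => by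
    refine repWith_of_isPullback (a := 𝟙 _) (b := ι) ?_ (hg i)
    refine ⟨⟨by rw [Category.id_comp, hg']⟩, ⟨PullbackCone.IsLimit.mk _ (fun c => c.fst)
      (fun c => Category.comp_id _) (fun c => ?_)
      (fun c m h₁ _ => (Category.comp_id m).symm.trans h₁)⟩⟩
    rw [← cancel_mono ι, Category.assoc, hg']
    exact c.condition
  obtain ⟨G₀, ⟨e⟩⟩ := exists_iso_yon_of_openImmersions hg'o fun T h t => by
    have ht : AlgSp.Points.ofPt (h ≫ ι) t ∈ Wo :=
      (openSub_exists_lift_iff X.obj Wo (h ≫ ι)).1 ⟨h, rfl⟩ t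
    obtain ⟨u, hu⟩ := surjective_ofPt_of_repWith hps (AlgSp.Points.ofPt (h ≫ ι) t)
    let i : Idx := ⟨u, by rw [hu]; exact ht⟩
    obtain ⟨V, fst, snd, sq⟩ := exists_pullback_yon (hg'o i).rep h
    refine ⟨i, V, (yon S).map fst, snd, sq, ?_⟩
    have sq' := isPullback_comp_mono ι sq
    rw [hg'] at sq'
    obtain ⟨z, hz⟩ := hgu i
    obtain ⟨v, -, hv⟩ := (ofPt_eq_ofPt_iff sq' z t).1 (hz.trans hu)
    exact ⟨v, hv⟩
  refine ⟨⟨openSub X.obj Wo, isAlgSpace_openSub X.property hW⟩,
    ObjectProperty.homMk ι, hι, isRepresentable_of_iso e, ?_⟩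
  exact range_map_openSubι

variable {X : Sp S}

/-- Over an open of an affine chart over which the kernel pair is finite the space is a scheme. -/
theorem isSchematicPt_of_finite {W P : Over S} [IsAffine W.left] {a : (yon S).obj W ⟶ X}
    (ha : RepWith @Etale a) {t s : P ⟶ W} (sq : IsPullback ((yon S).map t) ((yon S).map s) a a)
    (D : W.left.Opens) [IsFinite (s.left ∣_ D)] {w : ↥W.left} (hw : w ∈ D) :
    IsSchematicPt X (AlgSp.Points.ofPt a w) := by
  let DO : Over S := Over.mk (D.ι ≫ W.hom)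
  let jD : DO ⟶ W := Over.homMk D.ι rfl
  let aD := (yon S).map jD ≫ a
  have : Etale jD.left := inferInstanceAs (Etale D.ι)
  have haD : RepWith @Etale aD := repWith_comp ((repWith_yon_map_iff _ jD).2 ‹_›) ha
  obtain ⟨Y, ι, pY, hι, hpYe, hpYs, hpY⟩ := exists_openSub_chart haD
  have : Mono ι := mono_of_repWith (fun _ _ g (_ : IsOpenImmersion g) => inferInstance) hι
  -- the saturation of `D` in the chart
  obtain ⟨V, j, fst, sqV⟩ := hι.rep a
  have : IsOpenImmersion j.left := hι.property a fst j sqV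
  have hfe : RepWith @Etale fst := repWith_of_isPullback sqV.flip ha
  obtain ⟨l, hl⟩ := (yon S).map_surjective (sqV.lift pY ((yon S).map jD) hpY)
  have hlp : (yon S).map l ≫ fst = pY := by rw [hl, sqV.lift_fst]
  have hfs : RepWith @Surjective fst := repWith_surjective_of_ofPt hfe.rep fun y => by
    obtain ⟨d, rfl⟩ := surjective_ofPt_of_repWith hpYs y
    exact ⟨l.left d, by rw [← ofPt_comp_yon, hlp]⟩
  -- finiteness
  let PD : Over S := Over.mk ((s.left ⁻¹ᵁ D).ι ≫ P.hom)
  let k : PD ⟶ P := Over.homMk (s.left ⁻¹ᵁ D).ι rfl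
  let sD : PD ⟶ DO := Over.homMk (s.left ∣_ D) (by
    change s.left ∣_ D ≫ D.ι ≫ W.hom = (s.left ⁻¹ᵁ D).ι ≫ P.hom
    rw [morphismRestrict_ι_assoc, Over.w s])
  have hres : IsPullback sD.left k.left jD.left s.left := isPullback_morphismRestrict s.left D
  have hres' : IsPullback sD k jD s :=
    IsPullback.of_map (Over.forget S) (by ext1; exact hres.w) hres
  have sqD : IsPullback ((yon S).map sD) ((yon S).map k ≫ (yon S).map t) aD a :=
    (hres'.map (yon S)).paste_vert sq.flip
  obtain ⟨Q, qV, qD, sqQ⟩ := exists_pullback_yon hfe.rep pY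
  have sqQ' : IsPullback ((yon S).map qD) ((yon S).map qV ≫ (yon S).map j) aD a := by
    have := sqQ.flip.paste_vert sqV
    rwa [hpY] at this
  let eQ : Q ≅ PD := (yon S).preimageIso (sqQ'.isoIsPullback _ _ sqD)
  have heQ : eQ.hom ≫ sD = qD := (yon S).map_injective (by
    rw [Functor.map_comp]
    change (yon S).map ((yon S).preimage _) ≫ _ = _
    rw [Functor.map_preimage]
    exact IsPullback.isoIsPullback_hom_fst _ _ sqQ' sqD)
  have : IsIso eQ.hom.left := inferInstanceAs (IsIso ((Over.forget S).map eQ.hom))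
  have hqD : IsFinite qD.left := by
    rw [← heQ, Over.comp_left]
    exact (MorphismProperty.cancel_left_of_respectsIso @IsFinite eQ.hom.left _).2
      ‹IsFinite (s.left ∣_ D)›
  have : Sheaf.IsLocallySurjective pY := isLocallySurjective_of_etale pY hpYe hpYs
  have : MorphismProperty.IsLocalAtTarget (@IsFinite.{u}) Scheme.fppfPrecoverage :=
    isLocalAtTarget_fppf _
  have hff : RepWith @IsFinite fst := repWith_of_isLocallySurjective fst hfe.rep pY _ _ sqQ
    ((repWith_yon_map_iff _ qD).2 hqD)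
  obtain ⟨R, t', s', sqR⟩ := exists_pullback_yon hfe.rep fst
  have : IsFinite s'.left := hff.property fst _ _ sqR
  obtain ⟨G, ⟨e⟩⟩ := exists_iso_of_finite_etale_orbits hfe hfs sqR fun x => by
    obtain ⟨A, hA, hAE⟩ := Groth.GitQuot.exists_affineOpen_of_finite j.left
      (t'.left '' (s'.left ⁻¹' {x})) ((s'.left.finite_preimage_singleton x).image _)
    exact ⟨A, hA, hAE⟩
  refine ⟨G, e.hom ≫ ι, repWith_comp (repWith_isIso _) hι, ?_⟩
  obtain ⟨m, hm⟩ := (yon S).map_surjective (pY ≫ e.inv)
  refine ⟨m.left ⟨w, hw⟩, ?_⟩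
  rw [← ofPt_comp_yon, hm, Category.assoc, Iso.inv_hom_id_assoc, hpY, ofPt_comp_yon]
  rfl

/-- The projection of the kernel pair of an affine chart is separated. -/
theorem isSeparated_kernelPair {W P : Over S} [IsAffine W.left] {a : (yon S).obj W ⟶ X}
    {t s : P ⟶ W} (sq : IsPullback ((yon S).map t) ((yon S).map s) a a) :
    IsSeparated s.left := by
  let c : P.left ⟶ pullback W.hom W.hom :=
    pullback.lift t.left s.left ((Over.w t).trans (Over.w s).symm)
  have : Mono c := ⟨fun {Z} g g' h => by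
    have h₁ : g ≫ t.left = g' ≫ t.left := by rw [← pullback.lift_fst t.left s.left ((Over.w t).trans (Over.w s).symm), ← Category.assoc, ← Category.assoc]; exact congrArg (· ≫ pullback.fst _ _) h
    have h₂ : g ≫ s.left = g' ≫ s.left := by rw [← pullback.lift_snd t.left s.left ((Over.w t).trans (Over.w s).symm), ← Category.assoc, ← Category.assoc]; exact congrArg (· ≫ pullback.snd _ _) h
    have hw : g' ≫ P.hom = g ≫ P.hom := by
      rw [← Over.w t, ← Category.assoc, ← h₁, Category.assoc]
    exact congrArg CommaMorphism.left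
      ((isEqvRel_of_isPullback sq).injective (Over.mk (g ≫ P.hom)) (Over.homMk g rfl)
        (Over.homMk g' hw) (by ext1; exact h₁) (by ext1; exact h₂))⟩
  have : IsSeparated W.hom := inferInstance
  have : IsSeparated (c ≫ pullback.snd _ _) := inferInstance
  rwa [pullback.lift_snd] at this

/-- A point with zero-dimensional local ring is not a proper specialization. -/
theorem eq_of_specializes_of_ringKrullDim_eq_zero {A : Scheme.{u}} {w : A}
    (h : ringKrullDim ↥(A.presheaf.stalk w) = 0) (y : A) (hy : y ⤳ w) : y = w := by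
  rw [ringKrullDim_stalk_eq_coheight] at h
  have hmax : IsMax w := Order.coheight_eq_zero.1 (by exact_mod_cast h)
  exact (Specializes.antisymm (hmax hy) hy).eq.symm

/-- A point over a maximal point of a chart, at which the kernel pair is quasi-compact with finite
fibre, is schematic. -/
theorem isSchematicPt_of_maximal {W P : Over S} [IsAffine W.left] {a : (yon S).obj W ⟶ X}
    (ha : RepWith @Etale a) {t s : P ⟶ W} (sq : IsPullback ((yon S).map t) ((yon S).map s) a a)
    (D : W.left.Opens) [QuasiCompact (s.left ∣_ D)] {w : ↥W.left} (hwD : w ∈ D)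
    (hw : ∀ y : ↥W.left, y ⤳ w → y = w) (hfin : (s.left ⁻¹' {w}).Finite) :
    IsSchematicPt X (AlgSp.Points.ofPt a w) := by
  have : Etale s.left := repWith_fst_of_isPullback sq ha
  have : IsSeparated s.left := isSeparated_kernelPair sq
  have : LocallyOfFiniteType (s.left ∣_ D) :=
    IsZariskiLocalAtTarget.restrict (P := @LocallyOfFiniteType) inferInstance D
  have : IsSeparated (s.left ∣_ D) :=
    IsZariskiLocalAtTarget.restrict (P := @IsSeparated) inferInstance D
  have hη : closure {(⟨w, hwD⟩ : D.toScheme)} ∈ irreducibleComponents ↥D.toScheme :=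
    (Groth.PropsBasic2.closure_mem_irreducibleComponents_iff _).2 fun y hy =>
      Subtype.ext (hw y.1 (hy.map continuous_subtype_val))
  have hfin' : (⇑(s.left ∣_ D) ⁻¹' {(⟨w, hwD⟩ : D.toScheme)}).Finite := by
    refine (hfin.preimage (s.left ⁻¹ᵁ D).ι.isOpenEmbedding.injective.injOn).subset ?_
    intro p hp
    have h1 := congrArg Subtype.val (show (s.left ∣_ D) p = ⟨w, hwD⟩ from hp)
    rw [morphismRestrict_base] at h1
    exact h1
  obtain ⟨V, -, hwV, hV⟩ :=
    Groth.PropsBasic.GenericFinite.exists_affine_nhd_isFinite (s.left ∣_ D) hη hfin'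
  have : IsFinite (s.left ∣_ D.ι ''ᵁ V) :=
    (MorphismProperty.arrow_mk_iso_iff @IsFinite (morphismRestrictRestrict s.left D V)).1 hV
  exact isSchematicPt_of_finite ha sq (D.ι ''ᵁ V) ⟨⟨w, hwD⟩, hwV, rfl⟩

/-- An affine chart with finite fibres of the kernel pair has a schematic point. -/
theorem exists_isSchematicPt {W P : Over S} [IsAffine W.left] [Nonempty ↥W.left]
    {a : (yon S).obj W ⟶ X} (ha : RepWith @Etale a) {t s : P ⟶ W}
    (sq : IsPullback ((yon S).map t) ((yon S).map s) a a)
    (hfin : ∀ w, (s.left ⁻¹' {w}).Finite) :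
    ∃ w : ↥W.left, IsSchematicPt X (AlgSp.Points.ofPt a w) := by
  have : Etale s.left := repWith_fst_of_isPullback sq ha
  have : IsSeparated s.left := isSeparated_kernelPair sq
  obtain ⟨D, hD, hqc⟩ := exists_opens_quasiCompact s.left hfin
  obtain ⟨w, hwD, hw0⟩ := exists_ringKrullDim_stalk_eq_zero D hD
  refine ⟨w, isSchematicPt_of_maximal ha sq D hwD ?_ (hfin w)⟩
  exact eq_of_specializes_of_ringKrullDim_eq_zero hw0

theorem finite_setOf_ofPt_eq (hd : IsDecent X) {W : Over S} [CompactSpace ↥W.left]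
    {a : (yon S).obj W ⟶ X} (ha : RepWith @Etale a) (x : AlgSp.Points X) :
    {w : ↥W.left | AlgSp.Points.ofPt a w = x}.Finite := by
  obtain ⟨p, rfl, hm, hq⟩ := hd x
  obtain ⟨A, fst, snd, sqA⟩ := exists_pullback_yon ha.rep p.toHom
  have : QuasiCompact fst.left := hq.property _ _ _ sqA.flip
  have : CompactSpace ↥A.left := QuasiCompact.compactSpace_of_compactSpace fst.left
  have : Etale snd.left := ha.property _ _ _ sqA
  have : DiscreteTopology ↥A.left := discreteTopology_of_etale (k := p.K) snd.left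
  have : Finite ↥A.left := finite_of_compact_of_discrete
  refine (Set.finite_range fst.left).subset fun w hw => ?_
  obtain ⟨z, hz, -⟩ := (ofPt_eq_ofPt_iff sqA w (IsLocalRing.closedPoint p.K)).1
    (hw.trans (AlgSp.Points.ofPt_toHom p _).symm)
  exact ⟨z, hz⟩

/-- In a decent space the kernel pairs of affine charts have finite fibres. -/
theorem finite_fibre_kernelPair (hX : IsAlgSpace X) (hd : IsDecent X) {W P : Over S}
    [CompactSpace ↥W.left] {a : (yon S).obj W ⟶ X} (ha : RepWith @Etale a) {t s : P ⟶ W}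
    (sq : IsPullback ((yon S).map t) ((yon S).map s) a a) (w : ↥W.left) :
    (s.left ⁻¹' {w}).Finite := by
  refine ((finite_setOf_ofPt_eq hd ha (AlgSp.Points.ofPt a w)).biUnion fun w' hw' => ?_).subset
    (fun r (hr : s.left r = w) => Set.mem_biUnion (t := fun w' => {r | s.left r = w ∧ t.left r = w'})
      (x := t.left r) ?_ ⟨hr, rfl⟩)
  · obtain ⟨p, hp, hm, -⟩ := hd (AlgSp.Points.ofPt a w)
    exact Groth.AlgSp2.finite_fibre_of_mono ha sq p (Groth.AlgSp2.representable_fieldPt hX p) w w'
      (hw'.trans hp.symm)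
  · exact (ofPt_eq_ofPt_iff sq (t.left r) w).2 ⟨r, rfl, hr⟩

/-- The schematic points are dense if every nonempty open contains the image of a chart with finite
fibres. -/
theorem dense_isSchematicPt
    (hfin : ∀ (u : AlgSp.Points X), ∃ (U : Over S) (p : (yon S).obj U ⟶ X), RepWith @Etale p ∧
      u ∈ Set.range (AlgSp.Points.ofPt p) ∧
      ∀ (A : U.left.Opens), IsAffineOpen A →
        ∀ (P : Over S) (t s : P ⟶ Over.mk (A.ι ≫ U.hom)),
        IsPullback ((yon S).map t) ((yon S).map s)
          ((yon S).map (Over.homMk A.ι rfl : Over.mk (A.ι ≫ U.hom) ⟶ U) ≫ p)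
          ((yon S).map (Over.homMk A.ι rfl : Over.mk (A.ι ≫ U.hom) ⟶ U) ≫ p) →
        ∀ w, (s.left ⁻¹' {w}).Finite) :
    Dense {x | IsSchematicPt X x} := by
  rw [dense_iff_inter_open]
  intro O hO ⟨x, hx⟩
  obtain ⟨U, p, hp, ⟨u, rfl⟩, hA⟩ := hfin x
  obtain ⟨A, hA', huA, hAO⟩ := exists_isAffineOpen_mem_and_subset (X := U.left) (x := u)
    (U := ⟨AlgSp.Points.ofPt p ⁻¹' O, hO.preimage (AlgSp.Points.continuous_ofPt p)⟩) hx
  let AO : Over S := Over.mk (A.ι ≫ U.hom)
  let jA : AO ⟶ U := Over.homMk A.ι rfl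
  have : Etale jA.left := inferInstanceAs (Etale A.ι)
  have ha : RepWith @Etale ((yon S).map jA ≫ p) :=
    repWith_comp ((repWith_yon_map_iff _ jA).2 ‹_›) hp
  have : IsAffine AO.left := hA'
  have : Nonempty ↥AO.left := ⟨⟨u, huA⟩⟩
  obtain ⟨P, t, s, sq⟩ := exists_pullback_yon ha.rep ((yon S).map jA ≫ p)
  obtain ⟨w, hw⟩ := exists_isSchematicPt ha sq (hA A hA' P t s sq)
  refine ⟨_, ?_, hw⟩
  rw [ofPt_comp_yon]
  exact hAO w.2

theorem dense_isSchematicPt_of_isDecent (hX : IsAlgSpace X) (hd : IsDecent X) :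
    Dense {x | IsSchematicPt X x} := by
  refine dense_isSchematicPt fun x => ?_
  obtain ⟨U, p, hp, hps⟩ := hX.atlas
  refine ⟨U, p, hp, surjective_ofPt_of_repWith hps x, fun A hA P t s sq w => ?_⟩
  let jA : Over.mk (A.ι ≫ U.hom) ⟶ U := Over.homMk A.ι rfl
  have : Etale jA.left := inferInstanceAs (Etale A.ι)
  have : CompactSpace ↥(Over.mk (A.ι ≫ U.hom)).left := isCompact_iff_compactSpace.1 hA.isCompact
  exact finite_fibre_kernelPair hX hd (repWith_comp ((repWith_yon_map_iff _ jA).2 ‹_›) hp) sq w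

end Groth.AlgSpBasic
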