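import Groth.Agent.AlgSpBasic.Filtration
import Groth.Agent.AlgSpBasic.DenseScheme

/-!
# Filtrations of algebraic spaces by open subspaces with strata that are schemes
-/

set_option autoImplicit false
set_option backward.isDefEq.respectTransparency.types false
universe u

open CategoryTheory CategoryTheory.Limits AlgebraicGeometry Topology TopologicalSpace Opposite AlgSp

namespace Groth.AlgSpBasic

noncomputable section

variable {S : Scheme.{u}}

theorem mono_openSubι {X : Sp S} {W : Set (AlgSp.Points X)} (hW : IsOpen W) :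
    Mono (openSubι X W) :=
  mono_of_repWith (fun _ _ g (_ : IsOpenImmersion g) => inferInstance) (repWith_openSubι hW)

/-- Maps into the space with image in an open subset factor through the open subspace. -/
theorem exists_openSub_factor {X Y : Sp S} {W : Set (AlgSp.Points X)} (hW : IsOpen W) (h : Y ⟶ X)
    (hh : Set.range (AlgSp.Points.map h) ⊆ W) :
    ∃ g : Y ⟶ openSub X W, g ≫ openSubι X W = h := by
  have hm := mono_openSubι hW
  have key : ∀ (T : Over S) (z : (yon S).obj T ⟶ Y),
      ∃ g : (yon S).obj T ⟶ openSub X W, g ≫ openSubι X W = z ≫ h := fun T z =>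
    (openSub_exists_lift_iff X W _).2 fun t => hh ⟨AlgSp.Points.ofPt z t, AlgSp.Points.map_ofPt _ _ _⟩
  choose y hy using key
  obtain ⟨g, hg⟩ := AlgSp2.exists_hom_of_natural y fun T T' k z => by
    rw [← cancel_mono (openSubι X W), Category.assoc, hy, hy, Category.assoc]
  refine ⟨g, AlgSp2.hom_ext_yon fun T z => ?_⟩
  rw [← Category.assoc, hg, hy]

theorem isIso_openSubι_univ {X : Sp S} {W : Set (AlgSp.Points X)} (hW : W = Set.univ) :
    IsIso (openSubι X W) := by
  have := mono_openSubι (hW ▸ isOpen_univ : IsOpen W)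
  obtain ⟨g, hg⟩ := exists_openSub_factor (hW ▸ isOpen_univ : IsOpen W) (𝟙 X)
    (by rw [hW]; exact Set.subset_univ _)
  exact ⟨g, by rw [← cancel_mono (openSubι X W), Category.assoc, hg, Category.comp_id,
    Category.id_comp], hg⟩

variable (X : AlgSp.Space S) {U : Over S} [IsAffine U.left] {a : (yon S).obj U ⟶ X.obj}
  (ha : RepWith @Etale a)

include ha in
/-- The filtration data attached to an affine chart. -/
theorem exists_filtration (hs : RepWith @Surjective a) :
    ∃ (Uo : ℕ → AlgSp.Space S) (j : ∀ p, Uo p ⟶ X) (k : ∀ p, Uo (p + 1) ⟶ Uo p)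
      (T : ℕ → AlgSp.Space S) (i : ∀ p, T p ⟶ Uo p),
      (∀ p, RepWith @IsOpenImmersion (j p).hom) ∧ (∀ p, k p ≫ j p = j (p + 1)) ∧ IsIso (j 1) ∧
      (∀ p, IsRedInduced (Set.range (AlgSp.Points.map (k p).hom))ᶜ (i p).hom) ∧
      (∀ p, Set.range (AlgSp.Points.map (j p).hom) = confSet a p) ∧
      (∀ p, confSet a p \ confSet a (p + 1) ⊆ Set.range (AlgSp.Points.map ((i p) ≫ (j p)).hom)) ∧
      (∀ p, 1 ≤ p → ∃ (V : Over S) (f : (yon S).obj V ⟶ (Uo p).obj), V.left.IsSeparated ∧
        (RepWith @QuasiCompact a → CompactSpace ↥V.left) ∧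
        RepWith @Etale f ∧ RepWith @Surjective f ∧
        ∀ (P : AlgSp.Sp S) (fst : P ⟶ (T p).obj) (snd : P ⟶ (yon S).obj V),
          IsPullback fst snd (i p).hom f → IsIso fst) := by
  have ho : ∀ p, IsOpen (confSet a p) := fun p => isOpen_confSet X.property ha p
  let Uo : ℕ → AlgSp.Space S := fun p =>
    ⟨openSub X.obj (confSet a p), isAlgSpace_openSub X.property (ho p)⟩
  let j : ∀ p, Uo p ⟶ X := fun p => ObjectProperty.homMk (openSubι X.obj (confSet a p))
  have hk : ∀ p, ∃ g : openSub X.obj (confSet a (p + 1)) ⟶ openSub X.obj (confSet a p),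
      g ≫ openSubι X.obj (confSet a p) = openSubι X.obj (confSet a (p + 1)) := fun p =>
    exists_openSub_factor (ho p) _
      (by rw [range_map_openSubι]; exact confSet_antitone (Nat.le_succ p))
  choose k₀ hk₀ using hk
  let k : ∀ p, Uo (p + 1) ⟶ Uo p := fun p => ObjectProperty.homMk (k₀ p)
  have hinj : ∀ p, Function.Injective (AlgSp.Points.map (openSubι X.obj (confSet a p))) := fun p =>
    have := mono_openSubι (ho p)
    Groth.AlgSp2.map_injective_of_mono _
  have hrk : ∀ p, Set.range (AlgSp.Points.map (k₀ p)) =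
      AlgSp.Points.map (openSubι X.obj (confSet a p)) ⁻¹' confSet a (p + 1) := fun p => by
    ext y
    constructor
    · rintro ⟨z, rfl⟩
      show _ ∈ confSet a (p + 1)
      rw [← AlgSp.Points.map_comp, hk₀]
      exact range_map_openSubι.le ⟨z, rfl⟩
    · intro hy
      obtain ⟨z, hz⟩ := (range_map_openSubι (X := X.obj) (W := confSet a (p + 1))).ge hy
      refine ⟨z, hinj p ?_⟩
      rw [← AlgSp.Points.map_comp, hk₀, hz]
  have hT : ∀ p, ∃ (Z : Sp S) (i : Z ⟶ (Uo p).obj), IsAlgSpace Z ∧
      IsRedInduced (Set.range (AlgSp.Points.map (k₀ p)))ᶜ i := fun p =>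
    AlgSp3.exists_isRedInduced (Uo p).property (by
      rw [hrk, isClosed_compl_iff]
      exact (ho (p + 1)).preimage (AlgSp.Points.continuous_map _))
  choose T₀ i₀ hT₀ hi₀ using hT
  let T : ℕ → AlgSp.Space S := fun p => ⟨T₀ p, hT₀ p⟩
  let i : ∀ p, T p ⟶ Uo p := fun p => ObjectProperty.homMk (i₀ p)
  refine ⟨Uo, j, k, T, i, fun p => repWith_openSubι (ho p),
    fun p => ObjectProperty.hom_ext _ (hk₀ p), ?_, hi₀, fun p => range_map_openSubι, ?_, ?_⟩
  · have h1 : IsIso (openSubι X.obj (confSet a 1)) :=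
      isIso_openSubι_univ (confSet_one fun x => surjective_ofPt_of_repWith hs x)
    obtain ⟨g, hg, hg'⟩ := h1.out
    exact ⟨ObjectProperty.homMk g, ObjectProperty.hom_ext _ hg, ObjectProperty.hom_ext _ hg'⟩
  · rintro p x ⟨hx, hx'⟩
    obtain ⟨y, rfl⟩ := (range_map_openSubι (X := X.obj) (W := confSet a p)).ge hx
    have hy : y ∉ Set.range (AlgSp.Points.map (k₀ p)) := by rw [hrk]; exact hx'
    obtain ⟨z, hz⟩ := (hi₀ p).2.1.ge hy
    refine ⟨z, ?_⟩
    show AlgSp.Points.map (i₀ p ≫ openSubι X.obj (confSet a p)) z = _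
    rw [AlgSp.Points.map_comp, hz]
  · rintro p hp
    obtain ⟨n, rfl⟩ : ∃ n, p = n + 1 := ⟨p - 1, by omega⟩
    obtain ⟨D⟩ := exists_distinctSpace X.property ha n
    obtain ⟨Q⟩ := exists_unorderedSpace X.property ha D
    have := mono_openSubι (ho (n + 1))
    obtain ⟨f, hf⟩ := (openSub_exists_lift_iff X.obj (confSet a (n + 1)) Q.f).2 fun t =>
      Q.range_ofPt.le ⟨t, rfl⟩
    have hfe : RepWith @Etale f :=
      repWith_of_isPullback (isPullback_id_of_mono f (openSubι X.obj (confSet a (n + 1))))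
        (hf ▸ Q.f_etale)
    have hfs : RepWith @Surjective f := repWith_surjective_of_ofPt hfe.rep fun y => by
      have hy : AlgSp.Points.map (openSubι X.obj (confSet a (n + 1))) y ∈ confSet a (n + 1) :=
        range_map_openSubι.le ⟨y, rfl⟩
      obtain ⟨v, hv⟩ := Q.range_ofPt.ge hy
      refine ⟨v, hinj (n + 1) ?_⟩
      rw [AlgSp.Points.map_ofPt, hf, hv]
    refine ⟨Q.V, f, Q.sep, Q.compact, hfe, hfs, fun P fst snd sq => ?_⟩
    have := isLocallySurjective_of_etale fst (repWith_of_isPullback sq.flip hfe)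
      (repWith_of_isPullback sq.flip hfs)
    have : Epi fst := inferInstance
    have : Mono fst := ⟨fun {Z} z₁ z₂ e => AlgSp2.hom_ext_yon fun T' z => by
      obtain ⟨v, hv⟩ := (yon S).map_surjective ((z ≫ z₁) ≫ snd)
      obtain ⟨v', hv'⟩ := (yon S).map_surjective ((z ≫ z₂) ≫ snd)
      have h₁ : (yon S).map v ≫ f = ((z ≫ z₁) ≫ fst) ≫ i₀ (n + 1) := by
        rw [hv, Category.assoc, Category.assoc, ← sq.w]; rfl
      have h₂ : (yon S).map v' ≫ f = ((z ≫ z₁) ≫ fst) ≫ i₀ (n + 1) := by
        rw [hv', Category.assoc, Category.assoc, ← sq.w, Category.assoc z z₁, e]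
        simp only [Category.assoc]; rfl
      have hvv : v = v' := Q.eq_of_comp_eq (by
          rw [← hf, ← Category.assoc, h₁, ← h₂, Category.assoc]) fun t => by
        rw [← hf, ← Category.assoc, h₁, ← AlgSp.Points.map_ofPt, ← AlgSp.Points.map_ofPt]
        intro hmem
        have hn := (hi₀ (n + 1)).2.1.le ⟨AlgSp.Points.ofPt ((z ≫ z₁) ≫ fst) t, rfl⟩
        rw [hrk] at hn
        exact hn hmem
      apply sq.hom_ext
      · simp only [Category.assoc, e]
      · rw [← hv, ← hv', hvv]⟩
    exact isIso_of_mono_of_epi fst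

include ha in
/-- The strata contain all points represented by quasi-compact points. -/
theorem exists_mem_strata (hX : IsAlgSpace X.obj) (u : ↥U.left) (q : FieldPt X.obj)
    (hq : RepWith @QuasiCompact q.toHom) (hu : AlgSp.Points.ofPt a u = AlgSp.Points.mk q) :
    ∃ p, 1 ≤ p ∧ AlgSp.Points.mk q ∈ confSet a p \ confSet a (p + 1) := by
  classical
  have h := exists_not_mem_confSet hX ha q hq
  refine ⟨Nat.find h - 1, ?_⟩
  have h₁ : 2 ≤ Nat.find h := by
    by_contra hlt
    refine Nat.find_spec h (confSet_antitone (show Nat.find h ≤ 1 by omega) ?_)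
    rw [← hu]
    exact ofPt_mem_confSet_one u
  refine ⟨by omega, by_contra fun hne => Nat.find_min h (show Nat.find h - 1 < Nat.find h by omega) hne, ?_⟩
  rw [show Nat.find h - 1 + 1 = Nat.find h by omega]
  exact Nat.find_spec h

end

end Groth.AlgSpBasic
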