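import Mathlib.AlgebraicGeometry.Morphisms.Immersion
import Groth.Prelude.Def_AlgSp4
import Groth.Prelude.Def_AlgSpSub
import Groth.Agent.AlgSpBasic.RepWith
import Groth.Agent.AlgSpBasic.Topology
import Groth.Agent.AlgSpBasic.Points
import Groth.Agent.AlgSpBasic.Univ
import Groth.Agent.AlgSpBasic.DiagProps

/-!
# Immersions of algebraic spaces: topology and factorisation
-/

set_option autoImplicit false
set_option backward.isDefEq.respectTransparency.types false
universe u

open CategoryTheory CategoryTheory.Limits AlgebraicGeometry Opposite AlgSp Topology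

namespace Groth.AlgSpBasic

noncomputable section

variable {S : Scheme.{u}} {Z X Y : Sp S}

/-- Images are detected on an open quotient chart. -/
theorem range_left_eq_preimage {U V : Over S} {i : Z ⟶ X} {a : (yon S).obj U ⟶ X}
    {fst : (yon S).obj V ⟶ Z} {snd : V ⟶ U} (sq : IsPullback fst ((yon S).map snd) i a) :
    Set.range snd.left = Points.ofPt a ⁻¹' Set.range (Points.map i) := by
  ext t
  constructor
  · rintro ⟨v, rfl⟩
    exact ⟨_, (map_eq_ofPt_iff sq (Points.ofPt fst v) _).2 ⟨v, rfl, rfl⟩⟩
  · rintro ⟨x, hx⟩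
    obtain ⟨v, -, hv⟩ := (map_eq_ofPt_iff sq x t).1 hx
    exact ⟨v, hv⟩

/-- An immersion of algebraic spaces is an embedding on points with locally closed image. -/
theorem isEmbedding_map_of_immersion (hX : IsAlgSpace X) {i : Z ⟶ X}
    (hi : RepWith @IsImmersion i) :
    IsEmbedding (Points.map i) ∧ IsLocallyClosed (Set.range (Points.map i)) := by
  obtain ⟨U, a, ha, has⟩ := hX.atlas
  obtain ⟨V, snd, fst, sq⟩ := hi.rep a
  have : IsImmersion snd.left := hi.property a fst snd sq
  have he : IsEmbedding snd.left := snd.left.isEmbedding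
  have hq := isQuotientMap_ofPt ha has
  have ho := isOpenMap_ofPt_of_etale ha
  have hinj : Function.Injective (Points.map i) :=
    injective_map_of_repWith (fun _ _ φ (_ : IsImmersion φ) => φ.isEmbedding.injective) hi
  have hfs : RepWith @Surjective fst := repWith_of_isPullback sq.flip has
  refine ⟨⟨⟨?_⟩, hinj⟩, ?_⟩
  · refine le_antisymm (Points.continuous_map i).le_induced fun W hW => ?_
    let C := closure (Points.map i '' Wᶜ)
    refine isOpen_induced_iff.2 ⟨Cᶜ, isClosed_closure.isOpen_compl, ?_⟩
    ext z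
    obtain ⟨v, rfl⟩ := surjective_ofPt_of_repWith hfs z
    have e : Points.map i (Points.ofPt fst v) = Points.ofPt a (snd.left v) := by
      rw [Points.map_ofPt, sq.w, ofPt_comp_yon]
    have him : Points.ofPt a ⁻¹' (Points.map i '' Wᶜ) =
        snd.left '' (Points.ofPt fst ⁻¹' Wᶜ) := by
      ext t
      constructor
      · rintro ⟨x, hx, hxt⟩
        obtain ⟨w, rfl, rfl⟩ := (map_eq_ofPt_iff sq x t).1 hxt
        exact ⟨w, hx, rfl⟩
      · rintro ⟨w, hw, rfl⟩
        exact ⟨_, hw, (map_eq_ofPt_iff sq _ _).2 ⟨w, rfl, rfl⟩⟩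
    rw [Set.mem_preimage, Set.mem_compl_iff, e, ← Set.mem_preimage (f := Points.ofPt a),
      ho.preimage_closure_eq_closure_preimage (Points.continuous_ofPt a), him,
      ← Set.mem_preimage (f := snd.left),
      ← he.closure_eq_preimage_closure_image,
      (hW.isClosed_compl.preimage (Points.continuous_ofPt fst)).closure_eq]
    exact not_not
  · rw [isLocallyClosed_iff_isOpen_coborder, ← hq.isCoinducing.isOpen_preimage,
      ← coborder_preimage ho (Points.continuous_ofPt a), ← range_left_eq_preimage sq]
    exact snd.left.isLocallyClosed_range.isOpen_coborder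

/-- A monomorphism that factors a chart is an isomorphism. -/
theorem isIso_of_mono_of_chart {j : Z ⟶ Y} [Mono j] {U : Over S} {a : (yon S).obj U ⟶ Y}
    (ha : RepWith @Etale a) (has : RepWith @Surjective a) {l : (yon S).obj U ⟶ Z}
    (hl : l ≫ j = a) : IsIso j := by
  have := isLocallySurjective_of_etale a ha has
  have : Epi (l ≫ j) := by rw [hl]; infer_instance
  have : Epi j := epi_of_epi l j
  exact isIso_of_mono_of_epi j

/-- Lifts along an immersion, given that every scheme-theoretic base change is an isomorphism. -/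
theorem exists_lift_of_isIso_left {i : Z ⟶ X} (hi : Representable i) [Mono i] (f : Y ⟶ X)
    {U : Over S} {a : (yon S).obj U ⟶ Y} (ha : RepWith @Etale a) (has : RepWith @Surjective a)
    (h : ∀ {V : Over S} {fst : (yon S).obj V ⟶ Z} {snd : V ⟶ U},
      IsPullback fst ((yon S).map snd) i (a ≫ f) → IsIso snd.left) :
    ∃ g : Y ⟶ Z, g ≫ i = f := by
  obtain ⟨V, snd, fst, sq⟩ := hi (a ≫ f)
  have := h sq
  have : IsIso ((Over.forget S).map snd) := this
  have : IsIso snd := isIso_of_reflects_iso snd (Over.forget S)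
  have hP := IsPullback.of_hasPullback i f
  let l : (yon S).obj U ⟶ pullback i f :=
    pullback.lift (inv ((yon S).map snd) ≫ fst) a (by
      rw [Category.assoc, sq.w, IsIso.inv_hom_id_assoc])
  have : IsIso (pullback.snd i f) :=
    isIso_of_mono_of_chart ha has (l := l) (pullback.lift_snd _ _ _)
  exact ⟨inv (pullback.snd i f) ≫ pullback.fst i f, by
    rw [Category.assoc, pullback.condition, IsIso.inv_hom_id_assoc]⟩

theorem exists_lift_of_range_openImmersion {j : Z ⟶ X} (hY : IsAlgSpace Y)
    (hj : RepWith @IsOpenImmersion j) [Mono j] (f : Y ⟶ X)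
    (h : Set.range (Points.map f) ⊆ Set.range (Points.map j)) : ∃ g : Y ⟶ Z, g ≫ j = f := by
  obtain ⟨U, a, ha, has⟩ := hY.atlas
  refine exists_lift_of_isIso_left hj.rep f ha has fun {V fst snd} sq => ?_
  have : IsOpenImmersion snd.left := hj.property _ fst snd sq
  have : Epi snd.left.base := (TopCat.epi_iff_surjective _).2 (by
    refine fun t => (range_left_eq_preimage sq).ge ?_
    exact h ⟨Points.ofPt a t, Points.map_ofPt _ _ _⟩)
  exact IsOpenImmersion.isIso snd.left

theorem exists_lift_of_range_closedImmersion {i : Z ⟶ X} (hi : RepWith @IsClosedImmersion i)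
    [Mono i] (hY : IsReducedSp Y) (f : Y ⟶ X)
    (h : Set.range (Points.map f) ⊆ Set.range (Points.map i)) : ∃ g : Y ⟶ Z, g ≫ i = f := by
  obtain ⟨U, a, ha, has, hU⟩ := hY
  refine exists_lift_of_isIso_left hi.rep f ha has fun {V fst snd} sq => ?_
  have : IsClosedImmersion snd.left := hi.property _ fst snd sq
  have : Surjective snd.left := ⟨fun t => (range_left_eq_preimage sq).ge
    (h ⟨Points.ofPt a t, Points.map_ofPt _ _ _⟩)⟩
  have := hU
  exact isIso_of_isClosedImmersion_of_surjective snd.left

end

end Groth.AlgSpBasic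

namespace Groth.AlgSpBasic

theorem mono_of_repWith {S : Scheme.{u}} {P : MorphismProperty Scheme.{u}} {Z X : Sp S} {i : Z ⟶ X}
    (hP : ∀ ⦃A B : Scheme.{u}⦄ (g : A ⟶ B), P g → Mono g) (hi : RepWith P i) : Mono i :=
  monomorphisms_repWith_mono ⟨hi.rep, fun _ _ g fst snd sq => hP _ (hi.property g fst snd sq)⟩

end Groth.AlgSpBasic
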