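import Groth.Prelude.Def_AlgSp4
import Groth.Agent.AlgSpBasic.RepWith
import Groth.Agent.AlgSpBasic.Topology
import Groth.Agent.AlgSpBasic.Points
import Groth.Agent.AlgSpBasic.AlgSpace
import Mathlib.CategoryTheory.Sites.Subsheaf

/-!
# Pullback squares on sections, open subspaces
-/

set_option autoImplicit false
set_option backward.isDefEq.respectTransparency.types false
universe u

open CategoryTheory CategoryTheory.Limits AlgebraicGeometry Opposite AlgSp

namespace Groth.AlgSpBasic

noncomputable section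

variable {S : Scheme.{u}}

/-- A square of sheaves is a pullback as soon as it is one on maps from schemes. -/
theorem isPullback_of_lifts {A B C D : Sp S} {fst : A ⟶ B} {snd : A ⟶ C} {f : B ⟶ D} {g : C ⟶ D}
    (w : fst ≫ f = snd ≫ g)
    (h : ∀ (T : Over S) (b : (yon S).obj T ⟶ B) (c : (yon S).obj T ⟶ C), b ≫ f = c ≫ g →
      ∃ a : (yon S).obj T ⟶ A, a ≫ fst = b ∧ a ≫ snd = c)
    (hu : ∀ (T : Over S) (a a' : (yon S).obj T ⟶ A), a ≫ fst = a' ≫ fst → a ≫ snd = a' ≫ snd →
      a = a') : IsPullback fst snd f g := by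
  refine IsPullback.of_map_of_faithful (sheafToPresheaf (J S) (Type (u + 1)))
    (IsPullback.of_forall_isPullback_app fun T => ?_)
  rw [Types.isPullback_iff]
  have key : ∀ {X Y : Sp S} (k : X ⟶ Y) (x : X.obj.obj T),
      yEquiv.symm (k.hom.app T x) = yEquiv.symm x ≫ k := fun k x =>
    ((J S).uliftYonedaEquiv_symm_naturality_right (unop T) k x).symm
  refine ⟨congr_app (congrArg (fun k => k.hom) w) T, fun x x' hx => ?_, fun b c hbc => ?_⟩
  · refine (yEquiv (U := unop T) (F := A)).symm.injective (hu _ _ _ ?_ ?_)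
    · rw [← key, ← key]; exact congrArg yEquiv.symm hx.1
    · rw [← key, ← key]; exact congrArg yEquiv.symm hx.2
  · obtain ⟨a, ha₁, ha₂⟩ := h (unop T) (yEquiv.symm b) (yEquiv.symm c)
      (by rw [← key, ← key]; exact congrArg yEquiv.symm hbc)
    refine ⟨yEquiv a, ?_, ?_⟩
    · refine (yEquiv (U := unop T) (F := B)).symm.injective ?_
      refine (key fst (yEquiv a)).trans ?_
      rw [Equiv.symm_apply_apply]; exact ha₁
    · refine (yEquiv (U := unop T) (F := C)).symm.injective ?_
      refine (key snd (yEquiv a)).trans ?_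
      rw [Equiv.symm_apply_apply]; exact ha₂

variable (X : Sp S) (W : Set (Points X))

/-- The sections of `X` all of whose points lie in `W`. -/
def openSubfunctor : Subfunctor X.obj where
  obj T := {x | ∀ t : ↥(unop T).left, Points.ofPt (yEquiv.symm x) t ∈ W}
  map {T T'} i x hx t := by
    have e : yEquiv.symm (X.obj.map i x) = (yon S).map i.unop ≫ yEquiv.symm x :=
      (J S).uliftYonedaEquiv_symm_map i x
    rw [e, ofPt_comp_yon]
    exact hx _

theorem openSubfunctor_isSheaf : Presheaf.IsSheaf (J S) (openSubfunctor X W).toFunctor := by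
  rw [isSheaf_iff_isSheaf_of_type,
    Subfunctor.isSheaf_iff (h := (isSheaf_iff_isSheaf_of_type _ _).1 X.property)]
  intro T x hx t
  obtain ⟨C, hC, h⟩ := exists_cover_of_mem (X := unop T) hx
  obtain ⟨𝒰, h𝒰⟩ := Presieve.exists_eq_preZeroHypercover C
  subst h𝒰
  have hmem := Scheme.ofArrows_mem_precoverage_iff _ |>.1 hC
  obtain ⟨i, v, hv⟩ := hmem.1 t
  have hi : X.obj.map (Over.homMk (𝒰.f i) : Over.mk (𝒰.f i ≫ (unop T).hom) ⟶ unop T).op x ∈
      (openSubfunctor X W).obj _ := h (𝒰.f i) ⟨i⟩
  have := hi v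
  have e : yEquiv.symm (X.obj.map (Over.homMk (𝒰.f i) : Over.mk (𝒰.f i ≫ (unop T).hom) ⟶
      unop T).op x) = (yon S).map (Over.homMk (𝒰.f i)) ≫ yEquiv.symm x :=
    (J S).uliftYonedaEquiv_symm_map _ x
  rw [e, ofPt_comp_yon] at this
  rw [← hv]
  exact this

/-- The open subspace on `W`. -/
def openSub : Sp S := ⟨(openSubfunctor X W).toFunctor, openSubfunctor_isSheaf X W⟩

/-- The inclusion of the open subspace on `W`. -/
def openSubι : openSub X W ⟶ X := ObjectProperty.homMk (openSubfunctor X W).ι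

theorem openSub_exists_lift_iff {T : Over S} (g : (yon S).obj T ⟶ X) :
    (∃ g' : (yon S).obj T ⟶ openSub X W, g' ≫ openSubι X W = g) ↔ ∀ t, Points.ofPt g t ∈ W := by
  constructor
  · rintro ⟨g', rfl⟩ t
    have h := (yEquiv g').2 t
    have e : g' ≫ openSubι X W = yEquiv.symm (yEquiv g').1 := by
      apply yEquiv.injective
      rw [Equiv.apply_symm_apply]
      exact (J S).uliftYonedaEquiv_comp g' (openSubι X W)
    rwa [e]
  · intro h
    refine ⟨yEquiv.symm (⟨yEquiv g, fun t => by rw [Equiv.symm_apply_apply]; exact h t⟩ :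
      (openSub X W).obj.obj (op T)), ?_⟩
    apply yEquiv.injective
    refine ((J S).uliftYonedaEquiv_comp _ (openSubι X W)).trans ?_
    rw [Equiv.apply_symm_apply]
    rfl

theorem openSub_hom_ext {T : Over S} {a b : (yon S).obj T ⟶ openSub X W}
    (h : a ≫ openSubι X W = b ≫ openSubι X W) : a = b := by
  apply yEquiv.injective
  apply Subtype.ext
  exact ((J S).uliftYonedaEquiv_comp a (openSubι X W)).symm.trans
    ((congrArg yEquiv h).trans ((J S).uliftYonedaEquiv_comp b (openSubι X W)))

variable {X W}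

theorem repWith_openSubι (hW : IsOpen W) : RepWith @IsOpenImmersion (openSubι X W) := by
  refine repWith_of_exists fun T g => ?_
  let V : T.left.Opens := ⟨Points.ofPt g ⁻¹' W, Points.isOpen_iff.1 hW T g⟩
  let i : Over.mk (V.ι ≫ T.hom) ⟶ T := Over.homMk V.ι
  have hV : ∀ v, Points.ofPt ((yon S).map i ≫ g) v ∈ W := fun v => by
    rw [ofPt_comp_yon]; exact v.2
  obtain ⟨l, hl⟩ := (openSub_exists_lift_iff X W _).2 hV
  refine ⟨_, l, i, isPullback_of_lifts hl ?_ ?_, inferInstanceAs (IsOpenImmersion V.ι)⟩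
  · intro Z b c hbc
    obtain ⟨φ, rfl⟩ := (yon S).map_surjective c
    have hmem := (openSub_exists_lift_iff X W _).1 ⟨b, hbc⟩
    have hr : Set.range φ.left ⊆ Set.range V.ι := by
      rintro _ ⟨z, rfl⟩
      rw [Scheme.Opens.range_ι]
      show Points.ofPt g (φ.left z) ∈ W
      rw [← ofPt_comp_yon]
      exact hmem z
    let ψ : Z ⟶ Over.mk (V.ι ≫ T.hom) := Over.homMk (IsOpenImmersion.lift V.ι φ.left hr) (by
      show IsOpenImmersion.lift V.ι φ.left hr ≫ V.ι ≫ T.hom = _
      rw [← Category.assoc, IsOpenImmersion.lift_fac, Over.w])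
    have hψ : ψ ≫ i = φ := Over.OverMorphism.ext (IsOpenImmersion.lift_fac _ _ _)
    refine ⟨(yon S).map ψ, openSub_hom_ext X W ?_, by rw [← Functor.map_comp, hψ]⟩
    rw [Category.assoc, hl, hbc, ← Category.assoc, ← Functor.map_comp, hψ]
  · intro Z a a' _ h
    obtain ⟨a, rfl⟩ := (yon S).map_surjective a
    obtain ⟨a', rfl⟩ := (yon S).map_surjective a'
    rw [← Functor.map_comp, ← Functor.map_comp] at h
    have := (yon S).map_injective h
    congr 1
    exact Over.OverMorphism.ext ((cancel_mono V.ι).1 (congrArg (fun k => k.left) this))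

theorem range_map_openSubι : Set.range (Points.map (openSubι X W)) = W := by
  apply Set.Subset.antisymm
  · rintro _ ⟨y, rfl⟩
    obtain ⟨T, g, t, rfl⟩ := exists_ofPt y
    rw [Points.map_ofPt]
    exact (openSub_exists_lift_iff X W _).1 ⟨g, rfl⟩ t
  · intro x hx
    obtain ⟨p, rfl⟩ := Points.mk_surjective x
    obtain ⟨T, g, t, e⟩ := exists_ofPt (Points.mk p)
    -- replace `g` by the point `Spec κ(t) ⟶ T`
    let i : Over.mk (T.left.fromSpecResidueField t ≫ T.hom) ⟶ T :=
      Over.homMk (T.left.fromSpecResidueField t)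
    have hi : ∀ z, Points.ofPt ((yon S).map i ≫ g) z ∈ W := fun z => by
      rw [ofPt_comp_yon, show i.left z = t from ?_, e]
      · exact hx
      · exact Scheme.fromSpecResidueField_apply _ _
    obtain ⟨l, hl⟩ := (openSub_exists_lift_iff X W _).2 hi
    refine ⟨Points.ofPt l (IsLocalRing.closedPoint _), ?_⟩
    rw [Points.map_ofPt, hl, ofPt_comp_yon, ← e]
    exact congrArg (Points.ofPt g) (Scheme.fromSpecResidueField_apply _ _)

theorem isAlgSpace_openSub (hX : IsAlgSpace X) (hW : IsOpen W) : IsAlgSpace (openSub X W) :=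
  isAlgSpace_of_representable hX _ (repWith_openSubι hW).rep

end

end Groth.AlgSpBasic
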