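import Groth.Prelude.Def_AlgSp3
import Groth.Agent.AlgSpBasic.RepWith

/-!
# The diagonal and base change
-/

set_option autoImplicit false
set_option backward.isDefEq.respectTransparency.types false
universe u

open CategoryTheory CategoryTheory.Limits AlgebraicGeometry AlgSp

namespace Groth.AlgSpBasic

noncomputable section

variable {S : Scheme.{u}} {F G : Sp S}

/-- The diagonal commutes with base change. -/
theorem isPullback_diagonal_baseChange {V T : Sp S} {f : F ⟶ G} {g : T ⟶ G} {fst : V ⟶ F}
    {snd : V ⟶ T} (sq : IsPullback fst snd f g) :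
    IsPullback fst (pullback.diagonal snd) (pullback.diagonal f)
      (pullback.map snd snd f f fst fst g sq.w.symm sq.w.symm) := by
  have w : fst ≫ pullback.diagonal f =
      pullback.diagonal snd ≫ pullback.map snd snd f f fst fst g sq.w.symm sq.w.symm := by
    apply pullback.hom_ext
    · rw [Category.assoc, Category.assoc, pullback.diagonal_fst, Category.comp_id, pullback.map,
        pullback.lift_fst, ← Category.assoc, pullback.diagonal_fst, Category.id_comp]
    · rw [Category.assoc, Category.assoc, pullback.diagonal_snd, Category.comp_id, pullback.map,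
        pullback.lift_snd, ← Category.assoc, pullback.diagonal_snd, Category.id_comp]
  refine IsPullback.mk ⟨w⟩ ⟨PullbackCone.IsLimit.mk _
    (fun c => sq.lift c.fst (c.snd ≫ pullback.fst snd snd ≫ snd) ?_) ?_ ?_ ?_⟩
  · have h1 := c.condition =≫ pullback.fst f f
    simp only [Category.assoc, pullback.lift_fst, pullback.diagonal_fst, Category.comp_id] at h1
    rw [h1]
    simp [sq.w]
  · intro c; exact sq.lift_fst _ _ _
  · intro c
    have h1 := c.condition =≫ pullback.fst f f
    have h2 := c.condition =≫ pullback.snd f f
    simp only [Category.assoc, pullback.lift_fst, pullback.lift_snd, pullback.diagonal_fst,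
      pullback.diagonal_snd, Category.comp_id] at h1 h2
    apply pullback.hom_ext <;> apply sq.hom_ext
    · simp [sq.lift_fst, h1]
    · simp [sq.lift_snd]
    · simp [sq.lift_fst, h2]
    · simp [sq.lift_snd, pullback.condition]
  · intro c m hm₁ hm₂
    apply sq.hom_ext
    · rw [sq.lift_fst]; exact hm₁
    · rw [sq.lift_snd, ← hm₂]; simp

/-- For a representable morphism, properties of the diagonal can be read on base changes to
schemes. -/
theorem repWith_diagonal_iff_of_representable (Q : MorphismProperty Scheme.{u})
    [Q.IsStableUnderBaseChange] (P : MorphismProperty Scheme.{u}) [P.RespectsIso]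
    (hQP : ∀ ⦃A B : Scheme.{u}⦄ (g : A ⟶ B), P g ↔ Q (pullback.diagonal g)) {f : F ⟶ G}
    (hf : Representable f) : RepWith Q (pullback.diagonal f) ↔ RepWith P f := by
  have : Q.RespectsIso := MorphismProperty.IsStableUnderBaseChange.respectsIso
  constructor
  · intro h
    refine repWith_of_representable hf fun T V g fst snd sq => (hQP _).2 ?_
    exact (repWith_diagonal_yon_map_iff Q snd).1
      (repWith_of_isPullback (isPullback_diagonal_baseChange sq) h)
  · intro h
    refine repWith_of_exists fun T t => ?_
    let a := t ≫ pullback.fst f f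
    let b := t ≫ pullback.snd f f
    have e : a ≫ f = b ≫ f := by simp [a, b, pullback.condition]
    obtain ⟨V, snd, fst, sq⟩ := hf (a ≫ f)
    have h' := (repWith_diagonal_yon_map_iff Q snd).2 ((hQP _).1 (h.property (a ≫ f) fst snd sq))
    let σ : (yon S).obj T ⟶ pullback ((yon S).map snd) ((yon S).map snd) :=
      pullback.lift (sq.lift a (𝟙 _) (Category.id_comp _).symm)
        (sq.lift b (𝟙 _) (by rw [← e]; exact (Category.id_comp _).symm)) (by simp [sq.lift_snd])
    obtain ⟨W, w, v, hW⟩ := h'.rep σ
    refine ⟨W, v ≫ fst, w, ?_, h'.property σ v w hW⟩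
    have := hW.paste_horiz (isPullback_diagonal_baseChange sq)
    have et : σ ≫ pullback.map ((yon S).map snd) ((yon S).map snd) f f fst fst (a ≫ f)
        sq.w.symm sq.w.symm = t := by
      apply pullback.hom_ext
      · rw [Category.assoc, pullback.map, pullback.lift_fst, ← Category.assoc]
        simp only [σ]
        rw [pullback.lift_fst, sq.lift_fst]
      · rw [Category.assoc, pullback.map, pullback.lift_snd, ← Category.assoc]
        simp only [σ]
        rw [pullback.lift_snd, sq.lift_fst]
    rwa [et] at this

end

end Groth.AlgSpBasic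

namespace Groth.AlgSpBasic

variable {S : Scheme.{u}}

/-- If `a ≫ b` and the diagonal of `b` have a property stable under composition and base change, so
does `a`. -/
theorem repWith_of_comp_of_diagonal (P : MorphismProperty Scheme.{u}) [P.IsStableUnderBaseChange]
    [P.IsStableUnderComposition] [P.ContainsIdentities] {Z Y X : Sp S} {a : Z ⟶ Y} {b : Y ⟶ X}
    (hab : RepWith P (a ≫ b)) (hb : RepWith P (pullback.diagonal b)) : RepWith P a := by
  have : P.RespectsIso := MorphismProperty.IsStableUnderBaseChange.respectsIso
  have h₁ : RepWith P (pullback.mapDesc a (𝟙 Y) b) :=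
    repWith_of_isPullback (pullback_map_diagonal_isPullback a (𝟙 Y) b) hb
  have h₂ : RepWith P (pullback.snd (a ≫ b) (𝟙 Y ≫ b)) := by
    refine repWith_of_isPullback (IsPullback.of_hasPullback (a ≫ b) (𝟙 Y ≫ b)) hab
  have h₃ := repWith_comp (repWith_comp (repWith_isIso (inv (pullback.fst a (𝟙 Y)))) h₁) h₂
  have e : (inv (pullback.fst a (𝟙 Y)) ≫ pullback.mapDesc a (𝟙 Y) b) ≫
      pullback.snd (a ≫ b) (𝟙 Y ≫ b) = a := by
    rw [Category.assoc, pullback.mapDesc, pullback.map, pullback.lift_snd, Category.comp_id,
      IsIso.inv_comp_eq]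
    exact ((Category.comp_id _).symm.trans pullback.condition.symm)
  rwa [e] at h₃

end Groth.AlgSpBasic
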