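import Groth.Prelude.Def_AlgSp4
import Groth.Agent.AlgSpBasic.RepWith
import Groth.Agent.AlgSpBasic.Univ
import Groth.Agent.AlgSpBasic.LocP
import Groth.Agent.AlgSpBasic.QComp
import Groth.Agent.AlgSpBasic.DiagBaseChange
import Groth.Agent.AlgSpBasic.Immersion

/-!
# Stability of separated, finite type, universally closed and proper morphisms
-/

set_option autoImplicit false
set_option backward.isDefEq.respectTransparency.types false
universe u

open CategoryTheory CategoryTheory.Limits AlgebraicGeometry AlgSp Topology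

namespace Groth.AlgSpBasic

noncomputable section

variable {S : Scheme.{u}} {X Y Z X' Y' : Sp S}

theorem repWith_diagonal_baseChange {P : MorphismProperty Scheme.{u}} {f : X ⟶ Y} {g : Y' ⟶ Y}
    {fst : X' ⟶ X} {f' : X' ⟶ Y'} (sq : IsPullback fst f' f g)
    (h : RepWith P (pullback.diagonal f)) : RepWith P (pullback.diagonal f') :=
  repWith_of_isPullback (isPullback_diagonal_baseChange sq) h

theorem repWith_diagonal_comp {P : MorphismProperty Scheme.{u}} [P.IsStableUnderComposition]
    {f : X ⟶ Y} {g : Y ⟶ Z} (hf : RepWith P (pullback.diagonal f))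
    (hg : RepWith P (pullback.diagonal g)) : RepWith P (pullback.diagonal (f ≫ g)) := by
  have e : pullback.diagonal f ≫ pullback.mapDesc f f g = pullback.diagonal (f ≫ g) := by
    apply pullback.hom_ext
    · rw [Category.assoc, pullback.mapDesc, pullback.map, pullback.lift_fst, Category.comp_id,
        pullback.diagonal_fst, pullback.diagonal_fst]
    · rw [Category.assoc, pullback.mapDesc, pullback.map, pullback.lift_snd, Category.comp_id,
        pullback.diagonal_snd, pullback.diagonal_snd]
  rw [← e]
  exact repWith_comp hf (repWith_mapDesc f f g hg)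

theorem isQuasiCompactMor_comp (hY : IsAlgSpace Y) (hZ : IsAlgSpace Z) {f : X ⟶ Y}
    {g : Y ⟶ Z} (hf : IsQuasiCompactMor f) (hg : IsQuasiCompactMor g) :
    IsQuasiCompactMor (f ≫ g) := by
  intro T T' hT hq t fst snd sq
  have hP := IsPullback.of_hasPullback g t
  have hPa := isAlgSpace_of_isPullback hP hZ.diag hY hT
  let l : T' ⟶ pullback g t := hP.lift (fst ≫ f) snd (by rw [Category.assoc]; exact sq.w)
  exact hf hPa (hg hT hq t _ _ hP) _ fst l
    (IsPullback.of_bot (by rw [hP.lift_snd]; exact sq) (hP.lift_fst _ _ _).symm hP)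

theorem isUnivClosedMor_comp (hY : IsAlgSpace Y) (hZ : IsAlgSpace Z) {f : X ⟶ Y}
    {g : Y ⟶ Z} (hf : IsUnivClosedMor f) (hg : IsUnivClosedMor g) :
    IsUnivClosedMor (f ≫ g) := by
  intro T T' hT t fst snd sq
  have hP := IsPullback.of_hasPullback g t
  have hPa := isAlgSpace_of_isPullback hP hZ.diag hY hT
  let l : T' ⟶ pullback g t := hP.lift (fst ≫ f) snd (by rw [Category.assoc]; exact sq.w)
  have h₁ := hf hPa _ fst l
    (IsPullback.of_bot (by rw [hP.lift_snd]; exact sq) (hP.lift_fst _ _ _).symm hP)
  have h₂ := hg hT t _ _ hP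
  show IsClosedMap (Points.map snd)
  intro W hW
  rw [show snd = l ≫ pullback.snd g t from (hP.lift_snd _ _ _).symm]
  have e : Points.map (l ≫ pullback.snd g t) = Points.map (pullback.snd g t) ∘ Points.map l :=
    funext fun x => Points.map_comp _ _ x
  rw [e, Set.image_comp]
  exact h₂ _ (h₁ W hW)

end

end Groth.AlgSpBasic
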