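import Mathlib.AlgebraicGeometry.Morphisms.QuasiSeparated
import Mathlib.AlgebraicGeometry.Pullbacks
import Groth.Prelude.Def_AlgSp3
import Groth.Agent.EtaleBase.FpqcDescent
import Groth.Agent.AlgSpBasic.RepWith
import Groth.Agent.AlgSpBasic.Topology
import Groth.Agent.AlgSpBasic.Diag
import Groth.Agent.AlgSpBasic.DiagProps

/-!
# Criteria for separation conditions
-/

set_option autoImplicit false
set_option backward.isDefEq.respectTransparency.types false
universe u

open CategoryTheory CategoryTheory.Limits AlgebraicGeometry Opposite AlgSp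

namespace Groth.AlgSpBasic

noncomputable section

variable {S : Scheme.{u}} {F X : Sp S}

instance quasiCompact_isLocalAtTarget_fppf :
    MorphismProperty.IsLocalAtTarget @QuasiCompact.{u} Scheme.fppfPrecoverage :=
  isLocalAtTarget_fppf _

/-- The base change of a product map. -/
theorem map_lift_comp {U V K : Over S} (k : K ⟶ U ⨯ V) (a : (yon S).obj U ⟶ F)
    (b : (yon S).obj V ⟶ F) :
    (yon S).map (Limits.diag K) ≫ prodComparison (yon S) K K ≫
      prod.map ((yon S).map (k ≫ prod.fst) ≫ a) ((yon S).map (k ≫ prod.snd) ≫ b) =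
    (yon S).map k ≫ prodComparison (yon S) U V ≫ prod.map a b := by
  have e₁ : Limits.diag K ≫ prod.fst = 𝟙 K := prod.lift_fst _ _
  have e₂ : Limits.diag K ≫ prod.snd = 𝟙 K := prod.lift_snd _ _
  apply prod.hom_ext
  · simp only [Category.assoc, prodComparison, prod.map_fst, prod.lift_fst_assoc]
    simp only [← Category.assoc, ← Functor.map_comp]
    rw [e₁, Category.id_comp]
  · simp only [Category.assoc, prodComparison, prod.map_snd, prod.lift_snd_assoc]
    simp only [← Category.assoc, ← Functor.map_comp]
    rw [e₂, Category.id_comp]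

/-- A property of the diagonal can be tested on pairs of affine schemes. -/
theorem repWith_diag_of_affine (P : MorphismProperty Scheme.{u}) [P.IsStableUnderBaseChange]
    [IsZariskiLocalAtTarget P] (hF : Representable (Limits.diag F))
    (h : ∀ (U V W : Over S) (a : (yon S).obj U ⟶ F) (b : (yon S).obj V ⟶ F) (fst : W ⟶ U)
      (snd : W ⟶ V), IsAffine U.left → IsAffine V.left →
      IsPullback ((yon S).map fst) ((yon S).map snd) a b → P (prod.lift fst snd).left) :
    RepWith P (Limits.diag F) := by
  refine repWith_diag (fun U V a b => exists_pullback_of_diag hF a b) fun U V W a b fst snd sq => ?_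
  rw [IsZariskiLocalAtTarget.iff_of_openCover (P := P) (U ⨯ V).left.affineCover]
  intro i
  let K : Over S := Over.mk ((U ⨯ V).left.affineCover.f i ≫ (U ⨯ V).hom)
  let k : K ⟶ U ⨯ V := Over.homMk ((U ⨯ V).left.affineCover.f i)
  have hK : IsAffine K.left := inferInstanceAs (IsAffine ((U ⨯ V).left.affineCover.X i))
  obtain ⟨W', w₁, w₂, sq'⟩ := exists_pullback_of_diag hF ((yon S).map (k ≫ prod.fst) ≫ a)
    ((yon S).map (k ≫ prod.snd) ≫ b)
  have hp := h K K W' _ _ w₁ w₂ hK hK sq'
  obtain ⟨M, m₁, m₂, hd⟩ : ∃ (M : Over S) (m₁ : M ⟶ W') (m₂ : M ⟶ K),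
      IsPullback m₁ m₂ (prod.lift w₁ w₂) (Limits.diag K) :=
    ⟨_, _, _, IsPullback.of_hasPullback _ _⟩
  have hbig := (hd.map (yon S)).paste_horiz (isPullback_diag_yon sq')
  rw [map_lift_comp k a b] at hbig
  have hW := isPullback_diag_yon sq
  obtain ⟨l, hl⟩ := (yon S).map_surjective (hW.lift _ ((yon S).map m₂ ≫ (yon S).map k)
    (hbig.w.trans (Category.assoc _ _ _).symm))
  have hpb : IsPullback ((yon S).map l) ((yon S).map m₂) ((yon S).map (prod.lift fst snd))
      ((yon S).map k) :=
    IsPullback.of_right (by rw [hl, hW.lift_fst]; exact hbig) (by rw [hl, hW.lift_snd]) hW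
  have h₁ := isPullback_left (isPullback_of_yon hpb)
  have h₂ : P m₂.left := P.of_isPullback (isPullback_left hd) hp
  change P (pullback.snd (prod.lift fst snd).left k.left)
  rwa [← h₁.isoPullback_hom_snd, P.cancel_left_of_respectsIso] at h₂

theorem isPullback_prod_left (U V : Over S) :
    IsPullback (prod.fst : U ⨯ V ⟶ U).left (prod.snd : U ⨯ V ⟶ V).left U.hom V.hom := by
  have h : IsPullback (prod.fst : U ⨯ V ⟶ U) prod.snd (Over.mkIdTerminal.from U)
      (Over.mkIdTerminal.from V) :=
    IsPullback.of_isLimit_binaryFan_of_isTerminal (prodIsProd U V) Over.mkIdTerminal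
  have := isPullback_left h
  have e : ∀ Y : Over S, (Over.mkIdTerminal.from Y).left = Y.hom := fun Y => by
    have h := Over.w (Over.mkIdTerminal.from Y)
    simp only [Over.mk_hom] at h
    exact (Category.comp_id _).symm.trans h
  rwa [e U, e V] at this

theorem lift_left_fst {U V W : Over S} (fst : W ⟶ U) (snd : W ⟶ V) :
    (prod.lift fst snd).left ≫ (prod.fst : U ⨯ V ⟶ U).left = fst.left :=
  (Over.comp_left _ _ _ _ _).symm.trans (congrArg (fun k => k.left) (prod.lift_fst fst snd))

theorem lift_left_snd {U V W : Over S} (fst : W ⟶ U) (snd : W ⟶ V) :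
    (prod.lift fst snd).left ≫ (prod.snd : U ⨯ V ⟶ V).left = snd.left :=
  (Over.comp_left _ _ _ _ _).symm.trans (congrArg (fun k => k.left) (prod.lift_snd fst snd))

/-- A map from a scheme separated over the base to an algebraic space is separated. -/
theorem repWith_isSeparated_of_isSeparated (hX : IsAlgSpace X) {U : Over S}
    (a : (yon S).obj U ⟶ X) [IsSeparated U.hom] : RepWith @IsSeparated a := by
  refine repWith_of_representable (representable_of_diag hX.diag a) fun T V g fst snd sq => ?_
  obtain ⟨l, hl⟩ := (yon S).map_surjective fst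
  subst hl
  have : IsSeparated (prod.lift l snd).left :=
    (monoLFT_le _ (prop_lift_of_repWith_diag (monoLFT_diag hX) sq)).1
  have : IsSeparated (prod.snd : U ⨯ T ⟶ T).left :=
    MorphismProperty.of_isPullback (P := @IsSeparated) (isPullback_prod_left U T) ‹IsSeparated U.hom›
  rw [← lift_left_snd l snd]
  infer_instance

/-- Properties of the diagonal can be read on one chart. -/
theorem repWith_diag_of_chart (P : MorphismProperty Scheme.{u}) [P.IsStableUnderBaseChange]
    [P.IsLocalAtTarget Scheme.fppfPrecoverage] (hX : Representable (Limits.diag X)) {U R : Over S}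
    {p : (yon S).obj U ⟶ X} (hp : RepWith @Etale p) (hs : RepWith @Surjective p) {t s : R ⟶ U}
    (sq : IsPullback ((yon S).map t) ((yon S).map s) p p) (h : P (prod.lift t s).left) :
    RepWith P (Limits.diag X) := by
  let b := prodComparison (yon S) U U ≫ prod.map p p
  have he' : RepWith @Etale b :=
    MorphismProperty.RespectsIso.precomp _ _ _ (repWith_prod_map hp hp)
  have hs' : RepWith @Surjective b :=
    MorphismProperty.RespectsIso.precomp _ _ _ (repWith_prod_map hs hs)
  have := isLocallySurjective_of_etale b he' hs'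
  exact repWith_of_isLocallySurjective _ hX b _ _ (isPullback_diag_yon sq)
    ((repWith_yon_map_iff _ _).2 h)

end

end Groth.AlgSpBasic
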