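import Mathlib.AlgebraicGeometry.Morphisms.UniversallyInjective
import Groth.Agent.AlgSp2.MonoPoint
import Groth.Agent.AlgSpBasic.Proper
import Groth.Agent.AlgSpBasic.Sep
import Groth.Agent.AlgSpBasic.UnivTest
import Groth.Agent.AlgSpBasic.LocPInst
import Groth.Agent.AlgSpBasic.OpenSub
import Groth.Agent.AlgSpBasic.Immersion

/-!
# Separation conditions and properness are local on the target; quasi-separated spaces
-/

set_option autoImplicit false
set_option backward.isDefEq.respectTransparency.types false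
universe u

open CategoryTheory CategoryTheory.Limits AlgebraicGeometry Opposite AlgSp Topology

namespace Groth.AlgSpBasic

noncomputable section

variable {S : Scheme.{u}} {X Y Z : Sp S}

instance isClosedImmersion_isLocalAtTarget_fppf :
    MorphismProperty.IsLocalAtTarget @IsClosedImmersion.{u} Scheme.fppfPrecoverage :=
  isLocalAtTarget_fppf _

/-- Properties of the relative diagonal can be tested over affine schemes. -/
theorem repWith_diagonal_of_affine (Q : MorphismProperty Scheme.{u}) [Q.IsStableUnderBaseChange]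
    [IsZariskiLocalAtTarget Q] (hX : IsAlgSpace X) {f : X ⟶ Y}
    (h : ∀ (T : Over S), IsAffine T.left → ∀ (g : (yon S).obj T ⟶ Y) (P : Sp S)
      (fst : P ⟶ X) (snd : P ⟶ (yon S).obj T), IsPullback fst snd f g →
      RepWith Q (pullback.diagonal snd)) :
    RepWith Q (pullback.diagonal f) := by
  have : Q.RespectsIso := MorphismProperty.IsStableUnderBaseChange.respectsIso
  refine repWith_of_representable (monoLFT_diagonal hX f).rep fun T V t fst snd sqV => ?_
  rw [IsZariskiLocalAtTarget.iff_of_openCover (P := Q) T.left.affineCover]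
  intro i
  let K : Over S := Over.mk (T.left.affineCover.f i ≫ T.hom)
  let k : K ⟶ T := Over.homMk (T.left.affineCover.f i)
  let g : (yon S).obj K ⟶ Y := ((yon S).map k ≫ t) ≫ pullback.fst f f ≫ f
  obtain ⟨P, p₁, p₂, hP⟩ : ∃ (P : Sp S) (p₁ : P ⟶ X) (p₂ : P ⟶ (yon S).obj K),
      IsPullback p₁ p₂ f g := ⟨_, _, _, IsPullback.of_hasPullback f g⟩
  let x₁ := hP.lift (((yon S).map k ≫ t) ≫ pullback.fst f f) (𝟙 _)
    (by simp only [g, Category.assoc, Category.id_comp])
  let x₂ := hP.lift (((yon S).map k ≫ t) ≫ pullback.snd f f) (𝟙 _)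
    (by simp only [g, Category.assoc, Category.id_comp, pullback.condition])
  let σ : (yon S).obj K ⟶ pullback p₂ p₂ :=
    pullback.lift x₁ x₂ (by simp only [x₁, x₂, hP.lift_snd])
  have hσ : σ ≫ pullback.map p₂ p₂ f f p₁ p₁ g hP.w.symm hP.w.symm = (yon S).map k ≫ t := by
    apply pullback.hom_ext
    · rw [Category.assoc, pullback.map, pullback.lift_fst, ← Category.assoc]
      simp only [σ]
      rw [pullback.lift_fst, hP.lift_fst]
    · rw [Category.assoc, pullback.map, pullback.lift_snd, ← Category.assoc]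
      simp only [σ]
      rw [pullback.lift_snd, hP.lift_fst]
  have hd := h K (inferInstanceAs (IsAffine (T.left.affineCover.X i))) g P p₁ p₂ hP
  obtain ⟨W, w, v, hW⟩ := hd.rep σ
  have hQ : Q w.left := hd.property σ v w hW
  have big := hW.paste_horiz (isPullback_diagonal_baseChange hP)
  rw [hσ] at big
  obtain ⟨l, hl⟩ := (yon S).map_surjective
    (sqV.lift (v ≫ p₁) ((yon S).map w ≫ (yon S).map k) (big.w.trans (Category.assoc _ _ _).symm))
  have hpb : IsPullback ((yon S).map l) ((yon S).map w) ((yon S).map snd) ((yon S).map k) :=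
    IsPullback.of_right (by rw [hl, sqV.lift_fst]; exact big) (by rw [hl, sqV.lift_snd]) sqV
  have h₁ := isPullback_left (isPullback_of_yon hpb)
  change Q (pullback.snd snd.left k.left)
  rwa [← h₁.isoPullback_hom_snd, Q.cancel_left_of_respectsIso] at hQ

/-- The base change of a map into `Y` to `X ×_Y X`. -/
theorem isPullback_map_diagonalObj {V : Sp S} {f : X ⟶ Y} {p : V ⟶ Y} {P : Sp S} {fst : P ⟶ X}
    {snd : P ⟶ V} (sq : IsPullback fst snd f p) :
    IsPullback (pullback.map snd snd f f fst fst p sq.w.symm sq.w.symm)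
      (pullback.fst snd snd ≫ snd) (pullback.fst f f ≫ f) p := by
  have w : pullback.map snd snd f f fst fst p sq.w.symm sq.w.symm ≫ pullback.fst f f ≫ f =
      (pullback.fst snd snd ≫ snd) ≫ p := by
    rw [pullback.map, pullback.lift_fst_assoc, Category.assoc, sq.w, Category.assoc]
  refine IsPullback.mk ⟨w⟩ ⟨PullbackCone.IsLimit.mk _
    (fun c => pullback.lift (sq.lift (c.fst ≫ pullback.fst f f) c.snd ?_)
      (sq.lift (c.fst ≫ pullback.snd f f) c.snd ?_) ?_) ?_ ?_ ?_⟩
  · rw [Category.assoc]; exact c.condition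
  · rw [Category.assoc, ← pullback.condition]; exact c.condition
  · simp [sq.lift_snd]
  · intro c
    apply pullback.hom_ext
    · rw [Category.assoc, pullback.map, pullback.lift_fst, pullback.lift_fst_assoc, sq.lift_fst]
    · rw [Category.assoc, pullback.map, pullback.lift_snd, pullback.lift_snd_assoc, sq.lift_fst]
  · intro c
    rw [pullback.lift_fst_assoc, sq.lift_snd]
  · intro c m h₁ h₂
    apply pullback.hom_ext <;> apply sq.hom_ext
    · rw [pullback.lift_fst, sq.lift_fst, ← h₁, Category.assoc, Category.assoc, pullback.map,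
        pullback.lift_fst]
    · rw [pullback.lift_fst, sq.lift_snd, ← h₂, Category.assoc]
    · rw [pullback.lift_snd, sq.lift_fst, ← h₁, Category.assoc, Category.assoc, pullback.map,
        pullback.lift_snd]
    · rw [pullback.lift_snd, sq.lift_snd, ← h₂, Category.assoc]
      exact congrArg (m ≫ ·) pullback.condition.symm

/-- Properties of the relative diagonal descend along etale coverings of the target. -/
theorem repWith_diagonal_of_cover (Q : MorphismProperty Scheme.{u}) [Q.IsStableUnderBaseChange]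
    [Q.IsLocalAtTarget Scheme.fppfPrecoverage] (hX : IsAlgSpace X) (hY : IsAlgSpace Y) {f : X ⟶ Y}
    {V : Over S} {p : (yon S).obj V ⟶ Y} (hp : RepWith @Etale p) (hps : RepWith @Surjective p)
    {P : Sp S} {fst : P ⟶ X} {snd : P ⟶ (yon S).obj V} (sq : IsPullback fst snd f p)
    (h : RepWith Q (pullback.diagonal snd)) : RepWith Q (pullback.diagonal f) := by
  have hP := isAlgSpace_of_isPullback sq hY.diag hX (IsAlgSpace.yon_obj V)
  have hPP := isAlgSpace_of_isPullback (IsPullback.of_hasPullback snd snd)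
    (IsAlgSpace.yon_obj V).diag hP hP
  obtain ⟨U, a, ha, has⟩ := hPP.atlas
  let M := pullback.map snd snd f f fst fst p sq.w.symm sq.w.symm
  have hM := isPullback_map_diagonalObj sq
  have h₁ : RepWith @Etale (a ≫ M) := repWith_comp ha (repWith_of_isPullback hM.flip hp)
  have h₂ : RepWith @Surjective (a ≫ M) := repWith_comp has (repWith_of_isPullback hM.flip hps)
  have := isLocallySurjective_of_etale (a ≫ M) h₁ h₂
  obtain ⟨W, w, v, hW⟩ := h.rep a
  exact repWith_of_isLocallySurjective _ (monoLFT_diagonal hX f).rep (a ≫ M) (v ≫ fst) _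
    (hW.paste_horiz (isPullback_diagonal_baseChange sq))
    ((repWith_yon_map_iff Q w).2 (h.property a v w hW))

theorem isUnivOpenMor_of_etale {f : X ⟶ Y} (h : RepWith @Etale f) : IsUnivOpenMor f :=
  fun _ _ _ _ _ _ sq => isOpenMap_map_of_repWith etale_isOpenMap (repWith_of_isPullback sq h)

theorem isUnivClosedMor_of_cover {X Y : Sp S} (hY : IsAlgSpace Y) {f : X ⟶ Y} {V : Over S}
    {p : (yon S).obj V ⟶ Y} (hp : RepWith @Etale p) (hps : RepWith @Surjective p) {P : Sp S}
    {fst : P ⟶ X} {snd : P ⟶ (yon S).obj V} (sq : IsPullback fst snd f p)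
    (h : IsUnivClosedMor snd) : IsUnivClosedMor f := by
  intro Z Z' hZ g fst' snd' sq' W hW
  obtain ⟨ZV, q, r, hq⟩ : ∃ (ZV : Sp S) (q : ZV ⟶ Z) (r : ZV ⟶ (yon S).obj V),
      IsPullback q r g p := ⟨_, _, _, IsPullback.of_hasPullback g p⟩
  have hZV : IsAlgSpace ZV :=
    isAlgSpace_of_isPullback hq hY.diag hZ (IsAlgSpace.yon_obj _)
  have hqm : IsQuotientMap (Points.map q) :=
    (isOpenMap_map_of_repWith etale_isOpenMap (repWith_of_isPullback hq.flip hp)).isQuotientMap
      (Points.continuous_map q) (surjective_map_of_repWith (repWith_of_isPullback hq.flip hps))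
  obtain ⟨M, m₁, m₂, hM⟩ : ∃ (M : Sp S) (m₁ : M ⟶ Z') (m₂ : M ⟶ ZV),
      IsPullback m₁ m₂ snd' q := ⟨_, _, _, IsPullback.of_hasPullback snd' q⟩
  have hM' : IsPullback (m₁ ≫ fst') m₂ f (r ≫ p) := by
    rw [← hq.w]
    exact hM.paste_horiz sq'
  have e : (m₁ ≫ fst') ≫ f = (m₂ ≫ r) ≫ p := by rw [Category.assoc m₂]; exact hM'.w
  have hM'' : IsPullback (sq.lift (m₁ ≫ fst') (m₂ ≫ r) e) m₂ snd r :=
    IsPullback.of_right (by rw [sq.lift_fst]; exact hM') (sq.lift_snd _ _ _) sq
  rw [← hqm.isCoinducing.isClosed_preimage, preimage_image_eq_of_isPullback hM]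
  exact h hZV r _ m₂ hM'' _ (hW.preimage (Points.continuous_map m₁))

/-- Local finite type can be tested over affine schemes. -/
theorem locP_of_affine (Q : MorphismProperty Scheme.{u}) [EtaleLocal Q] [IsZariskiLocalAtTarget Q]
    (hX : IsAlgSpace X) (hY : IsAlgSpace Y) {f : X ⟶ Y}
    (h : ∀ (T : Over S), IsAffine T.left → ∀ (g : (yon S).obj T ⟶ Y) (P : Sp S)
      (fst : P ⟶ X) (snd : P ⟶ (yon S).obj T), IsPullback fst snd f g → LocP Q snd) :
    LocP Q f := by
  intro U V a b k ha hb comm
  rw [IsZariskiLocalAtTarget.iff_of_openCover (P := Q) V.left.affineCover]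
  intro i
  let K : Over S := Over.mk (V.left.affineCover.f i ≫ V.hom)
  let c : K ⟶ V := Over.homMk (V.left.affineCover.f i)
  have hc : RepWith @Etale ((yon S).map c) := (repWith_yon_map_iff _ c).2
    (inferInstance : Etale (V.left.affineCover.f i))
  obtain ⟨P, p₁, p₂, hP⟩ : ∃ (P : Sp S) (p₁ : P ⟶ X) (p₂ : P ⟶ (yon S).obj K),
      IsPullback p₁ p₂ f ((yon S).map c ≫ b) := ⟨_, _, _, IsPullback.of_hasPullback _ _⟩
  have hPa := isAlgSpace_of_isPullback hP hY.diag hX (IsAlgSpace.yon_obj K)
  obtain ⟨UK, u₁, u₂, hUK⟩ : ∃ (UK : Over S) (u₁ : UK ⟶ U) (u₂ : UK ⟶ K),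
      IsPullback u₁ u₂ k c := ⟨_, _, _, IsPullback.of_hasPullback k c⟩
  have ha' : RepWith @Etale ((yon S).map u₁ ≫ a) :=
    repWith_comp (repWith_of_isPullback (hUK.map (yon S)).flip hc) ha
  have e : ((yon S).map u₁ ≫ a) ≫ f = (yon S).map u₂ ≫ (yon S).map c ≫ b := by
    rw [Category.assoc, comm, ← Category.assoc, ← Category.assoc, ← Functor.map_comp,
      ← Functor.map_comp, hUK.w]
  let l := hP.lift ((yon S).map u₁ ≫ a) ((yon S).map u₂) e
  have hl : RepWith @Etale l := by
    have h₁ : LocP @Etale (l ≫ p₁) := by rw [hP.lift_fst]; exact locP_of_repWith ha'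
    have h₂ := locP_of_comp_of_cancel' (P := @Etale) (Q := @Etale)
      (fun _ _ _ f g (_ : Etale (f ≫ g)) (_ : Etale g) => Etale.of_comp f g)
      (IsAlgSpace.yon_obj UK) hPa hX h₁
      (locP_of_repWith (repWith_of_isPullback hP.flip (repWith_comp hc hb)))
    have h₃ := isEtaleMor_of_locP hPa h₂ (𝟙 _) (repWith_id _ UK)
    rwa [Category.id_comp] at h₃
  have h' : Q u₂.left := h K (inferInstanceAs (IsAffine (V.left.affineCover.X i))) _ P p₁ p₂ hP
    l (𝟙 _) u₂ hl (repWith_id _ K) (by rw [Category.comp_id]; exact hP.lift_snd _ _ _)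
  change Q (pullback.snd k.left c.left)
  rwa [← (isPullback_left hUK).isoPullback_hom_snd, Q.cancel_left_of_respectsIso] at h'

/-- The preimage of a quasi-compact open is quasi-compact. -/
theorem isCompact_preimage_of_isQuasiCompactMor (hX : IsAlgSpace X) (hY : IsAlgSpace Y)
    {f : X ⟶ Y} (hf : IsQuasiCompactMor f) {V : Set (Points Y)} (hV : IsOpen V)
    (hVc : IsCompact V) : IsCompact (Points.map f ⁻¹' V) := by
  have hO := isAlgSpace_openSub hY hV
  have hj := repWith_openSubι (X := Y) hV
  have hemb := (isEmbedding_map_of_immersion hY (repWith_mono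
    (fun _ _ g (_ : IsOpenImmersion g) => (inferInstance : IsImmersion g)) hj)).1
  have hq : IsQuasiCompactSp (openSub Y V) := (isQuasiCompactSp_iff_compactSpace hO).2
    ⟨hemb.isCompact_iff.2 (by rw [Set.image_univ, range_map_openSubι]; exact hVc)⟩
  have hP := IsPullback.of_hasPullback f (openSubι Y V)
  have := (isQuasiCompactSp_iff_compactSpace
    (isAlgSpace_of_isPullback hP hY.diag hX hO)).1 (hf hO hq _ _ _ hP)
  have e := range_map_eq_of_isPullback hP.flip
  rw [range_map_openSubι] at e
  rw [← e]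
  exact isCompact_range (Points.continuous_map _)

/-- Over a quasi-separated base a map from a quasi-compact space to a quasi-separated one is
quasi-compact. -/
theorem isQuasiCompactMor_of_source [QuasiSeparatedSpace ↥S] (hX : IsAlgSpace X) (hY : IsAlgSpace Y)
    (hq : IsQuasiCompactSp X) (hs : IsQuasiSeparatedSp Y) (f : X ⟶ Y) : IsQuasiCompactMor f := by
  refine isQuasiCompactMor_of_affine hX hY fun T hT g P fst snd sq => ?_
  obtain ⟨U, a, hU, ha, has⟩ := exists_affine_chart hX hq
  obtain ⟨W, w₁, w₂, r, hW, -, -, hr⟩ := exists_chart_of_isPullback sq hY.diag a (𝟙 _)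
  have : CompactSpace ↥W.left := by
    have : QuasiCompact (prod.lift w₁ w₂).left := prop_lift_of_repWith_diag hs hW
    have : QuasiCompact (prod.fst : U ⨯ T ⟶ U).left :=
      MorphismProperty.of_isPullback (P := @QuasiCompact) (isPullback_prod_left U T).flip
        (inferInstance : QuasiCompact T.hom)
    have : CompactSpace ↥(U ⨯ T).left :=
      QuasiCompact.compactSpace_of_compactSpace (prod.fst : U ⨯ T ⟶ U).left
    exact QuasiCompact.compactSpace_of_compactSpace (prod.lift w₁ w₂).left
  exact isQuasiCompactSp_of_surjective ((isQuasiCompactSp_yon_iff W).2 this)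
    (IsAlgSpace.yon_obj W) (isAlgSpace_of_isPullback sq hY.diag hX (IsAlgSpace.yon_obj T)) r
    (surjective_map_of_repWith (hr @Surjective has (repWith_id _ T)))

/-- A fibre product of quasi-separated spaces over a quasi-separated space is quasi-separated. -/
theorem isQuasiSeparatedSp_of_isPullback {P : Sp S} (hP : IsAlgSpace P) (hX : IsQuasiSeparatedSp X)
    (hY : IsQuasiSeparatedSp Y) (hZ : IsQuasiSeparatedSp Z) {fst : P ⟶ X} {snd : P ⟶ Z}
    {f : X ⟶ Y} {g : Z ⟶ Y} (sq : IsPullback fst snd f g) : IsQuasiSeparatedSp P := by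
  let ι : P ⟶ X ⨯ Z := prod.lift fst snd
  let m : P ⨯ P ⟶ (X ⨯ X) ⨯ (Z ⨯ Z) := prod.lift (prod.map fst fst) (prod.map snd snd)
  have : Mono m := ⟨fun a b hab => by
    have h₁ := hab =≫ prod.fst
    have h₂ := hab =≫ prod.snd
    simp only [Category.assoc, m, prod.lift_fst, prod.lift_snd] at h₁ h₂
    apply prod.hom_ext <;> apply sq.hom_ext
    · simpa using h₁ =≫ prod.fst
    · simpa using h₂ =≫ prod.fst
    · simpa using h₁ =≫ prod.snd
    · simpa using h₂ =≫ prod.snd⟩
  have e : Limits.diag P ≫ m = ι ≫ prod.map (Limits.diag X) (Limits.diag Z) := by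
    apply prod.hom_ext <;> apply prod.hom_ext <;>
      simp [m, ι, prod.lift_fst, prod.lift_snd, prod.lift_fst_assoc, prod.lift_snd_assoc]
  have hι : RepWith @QuasiCompact ι := by
    refine repWith_of_isPullback (f := Limits.diag Y) (a := fst ≫ f) (b := prod.map f g) ?_ hY
    exact isPullback_diag_of_isPullback sq
  have := monomorphisms_repWith_mono (repWith_inf_iff.1 (monoLFT_diag hP)).1
  exact repWith_of_isPullback (isPullback_of_mono_comp e)
    (repWith_comp hι (repWith_prod_map hX hZ))

/-- A space quasi-separated over a quasi-separated space is quasi-separated. -/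
theorem isQuasiSeparatedSp_of_mor {f : X ⟶ Y} (hf : IsQuasiSeparatedMor f)
    (hY : IsQuasiSeparatedSp Y) : IsQuasiSeparatedSp X := by
  have h : RepWith @QuasiCompact (prod.lift (pullback.fst f f) (pullback.snd f f)) :=
    repWith_of_isPullback (f := Limits.diag Y) (b := prod.map f f)
      (isPullback_diag_of_isPullback (IsPullback.of_hasPullback f f)) hY
  have e : pullback.diagonal f ≫ prod.lift (pullback.fst f f) (pullback.snd f f) =
      Limits.diag X := by
    apply prod.hom_ext <;> simp [prod.lift_fst, prod.lift_snd]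
  have := repWith_comp hf h
  rwa [e] at this

theorem isUnivClosedMor_of_surjective (hX : IsAlgSpace X) (hY : IsAlgSpace Y) {W : Sp S}
    {f : X ⟶ Y} {q : Y ⟶ W} (hf : IsSurjectiveMor f) (hp : IsUnivClosedMor (f ≫ q)) :
    IsUnivClosedMor q := by
  intro T Q hT g fst snd sq C hC
  obtain ⟨P, p₁, p₂, hP⟩ : ∃ (P : Sp S) (p₁ : P ⟶ X) (p₂ : P ⟶ Q),
      IsPullback p₁ p₂ f fst := ⟨_, _, _, IsPullback.of_hasPullback f fst⟩
  have hs : Function.Surjective (Points.map p₂) := fun z => by
    obtain ⟨x, hx⟩ := hf (Points.map fst z)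
    obtain ⟨a, -, ha⟩ := exists_point_of_isPullback hP x z hx
    exact ⟨a, ha⟩
  have h := hp hT g p₁ (p₂ ≫ snd) (hP.paste_vert sq) _ (hC.preimage (Points.continuous_map p₂))
  have e : Points.map (p₂ ≫ snd) = Points.map snd ∘ Points.map p₂ :=
    funext fun x => Points.map_comp _ _ x
  rwa [e, Set.image_comp, Set.image_preimage_eq _ hs] at h

/-- A surjective diagonal separates points after base change. -/
theorem isUnivInjectiveMor_of_diagonal {f : X ⟶ Y}
    (h : IsSurjectiveMor (pullback.diagonal f)) : IsUnivInjectiveMor f := by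
  intro T T' _ g fst snd sq x x' hxx
  obtain ⟨z, hz, hz'⟩ := exists_point_of_isPullback (IsPullback.of_hasPullback snd snd) x x' hxx
  obtain ⟨w, hw⟩ := h (Points.map (pullback.map snd snd f f fst fst g sq.w.symm sq.w.symm) z)
  obtain ⟨v, -, hv⟩ := exists_point_of_isPullback (isPullback_diagonal_baseChange sq) w z hw
  rw [← hz, ← hz', ← hv, ← Points.map_comp, ← Points.map_comp, pullback.diagonal_fst,
    pullback.diagonal_snd]

theorem surjective_diagonal_of_univInjective (hX : IsAlgSpace X) {f : X ⟶ Y}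
    (h : IsUnivInjectiveMor f) : IsSurjectiveMor (pullback.diagonal f) := by
  intro z
  refine ⟨Points.map (pullback.snd f f) z, ?_⟩
  apply h hX f _ _ (IsPullback.of_hasPullback f f)
  rw [← Points.map_comp, pullback.diagonal_snd, Points.map_id]

theorem ofPt_fieldPtHom (p : FieldPt X) :
    Points.ofPt (fieldPtHom p) (IsLocalRing.closedPoint p.K) = Points.mk p := by
  refine (Points.ofPt_eq_map_ofScheme (T := p.pt) (fieldPtHom p)
    (IsLocalRing.closedPoint p.K)).trans ?_
  have key := Points.ofScheme_apply_eq_mk p.pt (str := p.str) (𝟙 _) (Category.id_comp _)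
  refine Eq.trans (congrArg (Points.map (fieldPtHom p)) key) ?_
  refine Eq.trans (Points.map_mk _ _) (congrArg Points.mk ?_)
  obtain ⟨K, str, val⟩ := p
  change (⟨K, str, _⟩ : FieldPt X) = ⟨K, str, val⟩
  congr 1
  refine Eq.trans ?_ ((J S).uliftYonedaEquiv.{u + 1}.apply_symm_apply val)
  exact ((J S).uliftYonedaEquiv_apply _).symm

theorem surjective_diagonal_of_injective {f : X ⟶ Y}
    (h : ∀ (K : Type u) [Field K] (str : Spec (CommRingCat.of K) ⟶ S),
      Function.Injective (fun a : (yon S).obj (Over.mk str) ⟶ X => a ≫ f)) :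
    IsSurjectiveMor (pullback.diagonal f) := by
  intro z
  obtain ⟨p, rfl⟩ := Points.mk_surjective z
  have e : (fieldPtHom p ≫ pullback.fst f f) = fieldPtHom p ≫ pullback.snd f f :=
    h p.K p.str (by simp only [Category.assoc, pullback.condition])
  have e' : (fieldPtHom p ≫ pullback.fst f f) ≫ pullback.diagonal f = fieldPtHom p := by
    apply pullback.hom_ext <;> simp [e]
  refine ⟨Points.ofPt (fieldPtHom p ≫ pullback.fst f f) (IsLocalRing.closedPoint p.K), ?_⟩
  rw [Points.map_ofPt, e']
  exact ofPt_fieldPtHom p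

theorem injective_of_surjective_diagonal (hX : IsAlgSpace X) {f : X ⟶ Y}
    (h : IsSurjectiveMor (pullback.diagonal f)) (K : Type u) [Field K]
    (str : Spec (CommRingCat.of K) ⟶ S) :
    Function.Injective (fun a : (yon S).obj (Over.mk str) ⟶ X => a ≫ f) := by
  intro a b (e : a ≫ f = b ≫ f)
  have hm := (repWith_inf_iff.1 (monoLFT_diagonal hX f)).1
  obtain ⟨V, snd, fst, sq⟩ := hm.rep (pullback.lift a b e)
  have : Mono snd.left := hm.property _ fst snd sq
  obtain ⟨x, hx⟩ := h (Points.ofPt (pullback.lift a b e) (IsLocalRing.closedPoint K))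
  obtain ⟨v, -, -⟩ := (map_eq_ofPt_iff sq x _).1 hx
  have : Nonempty ↥V.left := ⟨v⟩
  have : IsIso snd.left := Groth.AlgSp2.isIso_of_mono_to_field snd.left
  have : IsIso ((Over.forget S).map snd) := this
  have : IsIso snd := isIso_of_reflects_iso snd (Over.forget S)
  have hh := (inv ((yon S).map snd)) ≫= sq.w
  rw [IsIso.inv_hom_id_assoc] at hh
  have h₁ := hh =≫ pullback.fst f f
  have h₂ := hh =≫ pullback.snd f f
  rw [Category.assoc, Category.assoc, pullback.diagonal_fst, Category.comp_id, pullback.lift_fst] at h₁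
  rw [Category.assoc, Category.assoc, pullback.diagonal_snd, Category.comp_id, pullback.lift_snd] at h₂
  rw [← h₁, h₂]

end

end Groth.AlgSpBasic
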