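import Mathlib.AlgebraicGeometry.Morphisms.UniversallyClosed
import Groth.Agent.AlgSpBasic.SepLocal

/-!
# Universally closed morphisms of algebraic spaces are quasi-compact
-/

set_option autoImplicit false
set_option backward.isDefEq.respectTransparency.types false
universe u

open CategoryTheory CategoryTheory.Limits AlgebraicGeometry Opposite AlgSp Topology

namespace Groth.AlgSpBasic

noncomputable section

variable {S : Scheme.{u}} {X Y : Sp S}

/-- The space of points of a space universally closed over an affine scheme is compact. -/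
theorem compactSpace_points_of_univClosed {P : Sp S} (hP : IsAlgSpace P) {Z : Over S}
    [IsAffine Z.left] {snd : P ⟶ (yon S).obj Z} (h : IsUnivClosedMor snd) :
    CompactSpace (Points P) := by
  classical
  obtain ⟨U, a, ha, has⟩ := hP.atlas
  let 𝒰 := U.left.affineCover
  let V (i : 𝒰.I₀) : Set (Points P) := Points.ofPt a '' ((𝒰.f i).opensRange : Set ↥U.left)
  have hVo : ∀ i, IsOpen (V i) := fun i =>
    isOpenMap_ofPt_of_etale ha _ (𝒰.f i).opensRange.isOpen
  have hVc : ∀ i, IsCompact (V i) := fun i =>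
    (isCompact_range (𝒰.f i).continuous).image (Points.continuous_ofPt a)
  have hV : ∀ x, ∃ i, x ∈ V i := fun x => by
    obtain ⟨u, rfl⟩ := surjective_ofPt_of_repWith has x
    obtain ⟨i, y, hy⟩ := 𝒰.exists_eq u
    exact ⟨i, u, ⟨y, hy⟩, rfl⟩
  let R := Γ(Z.left, ⊤)
  let e : Spec R ⟶ Z.left := Z.left.isoSpec.inv
  let M := MvPolynomial 𝒰.I₀ R
  let π : Spec (.of M) ⟶ Z.left := Spec.map (CommRingCat.ofHom MvPolynomial.C) ≫ e
  let T : Over S := Over.mk (π ≫ Z.hom)
  let q : T ⟶ Z := Over.homMk π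
  obtain ⟨P', p₁, p₂, hP'⟩ : ∃ (P' : Sp S) (p₁ : P' ⟶ P) (p₂ : P' ⟶ (yon S).obj T),
      IsPullback p₁ p₂ snd ((yon S).map q) := ⟨_, _, _, IsPullback.of_hasPullback _ _⟩
  let τ : Points P' → PrimeSpectrum M := fun z => (Points.schemeHomeo T).symm (Points.map p₂ z)
  have hτ : Continuous τ :=
    (Points.schemeHomeo T).symm.continuous.comp (Points.continuous_map p₂)
  let C : Set (Points P') :=
    (⋃ i, τ ⁻¹' (PrimeSpectrum.basicOpen (MvPolynomial.X i : M) : Set (PrimeSpectrum M)) ∩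
      Points.map p₁ ⁻¹' V i)ᶜ
  have hC : IsClosed C := isClosed_compl_iff.2 (isOpen_iUnion fun i =>
    ((PrimeSpectrum.basicOpen (MvPolynomial.X i : M)).isOpen.preimage hτ).inter
      ((hVo i).preimage (Points.continuous_map p₁)))
  have hO : IsOpen (τ '' C)ᶜ := by
    refine isOpen_compl_iff.2 ?_
    show IsClosed ((fun z => (Points.schemeHomeo T).symm (Points.map p₂ z)) '' C)
    rw [← Set.image_image]
    exact (Points.schemeHomeo T).symm.isClosedMap _
      (h (IsAlgSpace.yon_obj T) ((yon S).map q) p₁ p₂ hP' C hC)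
  let φ (σ : Finset 𝒰.I₀) : M →+* R :=
    MvPolynomial.eval₂Hom (RingHom.id R) (fun i => if i ∈ σ then 1 else 0)
  let ψ : M →+* R := MvPolynomial.eval₂Hom (RingHom.id R) (fun _ => 1)
  have key : ∀ y : PrimeSpectrum R, ∃ (W : Set (PrimeSpectrum R)) (σ : Finset 𝒰.I₀), IsOpen W ∧
      y ∈ W ∧ ∀ x : Points P,
        Points.map snd x ∈ (fun y' : PrimeSpectrum R => Points.schemeHomeo Z (e y')) '' W →
          ∃ i ∈ σ, x ∈ V i := by
    intro y
    have ht : PrimeSpectrum.comap ψ y ∈ (τ '' C)ᶜ := by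
      rintro ⟨z, hz, hzt⟩
      refine hz ?_
      obtain ⟨i, hi⟩ := hV (Points.map p₁ z)
      refine Set.mem_iUnion.2 ⟨i, ?_, hi⟩
      show τ z ∈ PrimeSpectrum.basicOpen (MvPolynomial.X i : M)
      rw [hzt, PrimeSpectrum.mem_basicOpen, PrimeSpectrum.comap_asIdeal, Ideal.mem_comap]
      simpa [ψ] using y.isPrime.one_notMem
    obtain ⟨U', ⟨g, rfl⟩, htg, hg⟩ :=
      PrimeSpectrum.isTopologicalBasis_basic_opens.isOpen_iff.1 hO _ ht
    let σ : Finset 𝒰.I₀ := MvPolynomial.vars g
    have hφψ : φ σ g = ψ g :=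
      MvPolynomial.eval₂Hom_congr' rfl (fun i hi _ => if_pos hi) rfl
    refine ⟨PrimeSpectrum.basicOpen (φ σ g), σ, PrimeSpectrum.isOpen_basicOpen, ?_, ?_⟩
    · show y ∈ PrimeSpectrum.basicOpen (φ σ g)
      rw [PrimeSpectrum.mem_basicOpen, hφψ]
      exact htg
    · rintro x ⟨y', hy', hx⟩
      let s : ↥T.left := PrimeSpectrum.comap (φ σ) y'
      have hs : q.left s = e y' := by
        show e (Spec.map (CommRingCat.ofHom MvPolynomial.C) s) = e y'
        congr 1
        show PrimeSpectrum.comap MvPolynomial.C (PrimeSpectrum.comap (φ σ) y') = y'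
        rw [← PrimeSpectrum.comap_comp_apply, show (φ σ).comp MvPolynomial.C = RingHom.id R from
          MvPolynomial.eval₂Hom_comp_C _ _, PrimeSpectrum.comap_id]
      obtain ⟨z, hz₁, hz₂⟩ := exists_point_of_isPullback hP' x (Points.schemeHomeo T s) (by
        rw [Points.map_yon_map_apply, hs]
        exact hx.symm)
      have hτz : τ z = s := by
        show (Points.schemeHomeo T).symm (Points.map p₂ z) = s
        rw [hz₂, Homeomorph.symm_apply_apply]
      have hsg : s ∈ PrimeSpectrum.basicOpen g := hy'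
      have hzC : z ∉ C := fun hzC => hg hsg ⟨z, hzC, hτz⟩
      obtain ⟨i, hi₁, hi₂⟩ := Set.mem_iUnion.1 (Set.notMem_compl_iff.1 hzC)
      refine ⟨i, ?_, hz₁ ▸ hi₂⟩
      by_contra hiσ
      have hi₁' : τ z ∈ PrimeSpectrum.basicOpen (MvPolynomial.X i : M) := hi₁
      rw [hτz] at hi₁'
      have : φ σ (MvPolynomial.X i) ∉ y'.asIdeal := hi₁'
      have e0 : φ σ (MvPolynomial.X i) = 0 := (MvPolynomial.eval₂_X _ _ i).trans (if_neg hiσ)
      exact this (e0 ▸ zero_mem _)
  choose W σ hWo hyW hW using key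
  obtain ⟨t, ht⟩ := isCompact_univ.elim_finite_subcover W hWo
    (fun y _ => Set.mem_iUnion.2 ⟨y, hyW y⟩)
  refine ⟨?_⟩
  have hu : (Set.univ : Set (Points P)) = ⋃ i ∈ t.biUnion σ, V i := by
    refine (Set.eq_univ_of_forall fun x => ?_).symm
    let y' : PrimeSpectrum R := Z.left.isoSpec.hom ((Points.schemeHomeo Z).symm (Points.map snd x))
    obtain ⟨y, hy, hy'⟩ := Set.mem_iUnion₂.1 (ht (Set.mem_univ y'))
    obtain ⟨i, hi, hi'⟩ := hW y x ⟨y', hy', by
      show Points.schemeHomeo Z (e y') = _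
      rw [← Scheme.Hom.comp_apply, Iso.hom_inv_id]
      exact (Points.schemeHomeo Z).apply_symm_apply _⟩
    exact Set.mem_biUnion (Finset.mem_biUnion.2 ⟨y, hy, hi⟩) hi'
  rw [hu]
  exact Finset.isCompact_biUnion _ fun i _ => hVc i

/-- Universally closed morphisms are quasi-compact. -/
theorem isQuasiCompactMor_of_univClosed (hX : IsAlgSpace X) (hY : IsAlgSpace Y) {f : X ⟶ Y}
    (h : IsUnivClosedMor f) : IsQuasiCompactMor f := by
  refine isQuasiCompactMor_of_affine hX hY fun Z hZ g P fst snd sq => ?_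
  have hP := isAlgSpace_of_isPullback sq hY.diag hX (IsAlgSpace.yon_obj Z)
  have : IsUnivClosedMor snd := fun T T' hT t p₁ p₂ sq' => h hT _ _ p₂ (sq'.paste_horiz sq)
  exact (isQuasiCompactSp_iff_compactSpace hP).2 (compactSpace_points_of_univClosed hP this)

theorem isUnivClosedMor_of_isPullback {X' Y' : Sp S} {f : X ⟶ Y} {g : Y' ⟶ Y} {fst : X' ⟶ X}
    {f' : X' ⟶ Y'} (sq : IsPullback fst f' f g) (h : IsUnivClosedMor f) : IsUnivClosedMor f' :=
  fun _ _ hT _ _ p₂ sq' => h hT _ _ p₂ (sq'.paste_horiz sq)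

theorem isQuasiCompactMor_of_isPullback {X' Y' : Sp S} {f : X ⟶ Y} {g : Y' ⟶ Y} {fst : X' ⟶ X}
    {f' : X' ⟶ Y'} (sq : IsPullback fst f' f g) (h : IsQuasiCompactMor f) :
    IsQuasiCompactMor f' :=
  fun _ _ hT hq _ _ p₂ sq' => h hT hq _ _ p₂ (sq'.paste_horiz sq)

variable {W : Sp S}

/-- The square of a morphism over a base is a composite of two of its base changes. -/
theorem exists_square_factorization (hX : IsAlgSpace X) (hY : IsAlgSpace Y) (hW : IsAlgSpace W)
    (f : X ⟶ Y) (q : Y ⟶ W) :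
    ∃ (M : Sp S) (m₁ : pullback (f ≫ q) (f ≫ q) ⟶ M) (m₂ : M ⟶ pullback q q) (a₁ b₁ : _)
      (a₂ b₂ : _), IsAlgSpace M ∧ IsPullback (a₁ : pullback (f ≫ q) (f ≫ q) ⟶ X) m₁ f (b₁ : M ⟶ Y) ∧
      IsPullback (a₂ : M ⟶ X) m₂ f (b₂ : pullback q q ⟶ Y) ∧
      pullback.diagonal (f ≫ q) ≫ m₁ ≫ m₂ = f ≫ pullback.diagonal q := by
  have hM := IsPullback.of_hasPullback q (f ≫ q)
  have hXX := IsPullback.of_hasPullback (f ≫ q) (f ≫ q)
  have hYY := IsPullback.of_hasPullback q q
  let m₁ := hM.lift (pullback.fst (f ≫ q) (f ≫ q) ≫ f) (pullback.snd _ _)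
    (by simp only [Category.assoc, pullback.condition])
  let m₂ := hYY.lift (pullback.fst q (f ≫ q)) (pullback.snd q (f ≫ q) ≫ f)
    (by simp only [Category.assoc, pullback.condition])
  refine ⟨pullback q (f ≫ q), m₁, m₂, pullback.fst _ _, pullback.fst _ _, pullback.snd _ _,
    pullback.snd _ _, isAlgSpace_of_isPullback hM hW.diag hY hX, ?_, ?_, ?_⟩
  · refine IsPullback.of_bot (v₁₁ := m₁) (v₁₂ := f) (v₂₁ := pullback.snd q (f ≫ q)) (v₂₂ := q) ?_ ?_ hM
    · simpa [m₁, hM.lift_snd] using hXX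
    · exact (hM.lift_fst _ _ _).symm
  · refine IsPullback.of_bot (v₁₁ := m₂) (v₁₂ := f) (v₂₁ := pullback.fst q q) (v₂₂ := q) ?_ ?_ hYY.flip
    · simpa [m₂, hYY.lift_fst] using hM.flip
    · exact (hYY.lift_snd _ _ _).symm
  · apply pullback.hom_ext
    · rw [Category.assoc, Category.assoc, hYY.lift_fst, hM.lift_fst, ← Category.assoc,
        pullback.diagonal_fst, Category.id_comp, Category.assoc, pullback.diagonal_fst,
        Category.comp_id]
    · rw [Category.assoc, Category.assoc, hYY.lift_snd, ← Category.assoc m₁, hM.lift_snd,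
        ← Category.assoc, pullback.diagonal_snd, Category.id_comp, Category.assoc,
        pullback.diagonal_snd, Category.comp_id]

/-- Quasi-separatedness descends along surjective universally closed morphisms. -/
theorem isQuasiSeparatedMor_of_surjective (hX : IsAlgSpace X) (hY : IsAlgSpace Y)
    (hW : IsAlgSpace W) {f : X ⟶ Y} {q : Y ⟶ W} (hs : IsSurjectiveMor f)
    (hc : IsUnivClosedMor f) (hp : IsQuasiSeparatedMor (f ≫ q)) : IsQuasiSeparatedMor q := by
  obtain ⟨M, m₁, m₂, a₁, b₁, a₂, b₂, hM, sq₁, sq₂, e⟩ := exists_square_factorization hX hY hW f q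
  have hXX := isAlgSpace_of_isPullback (IsPullback.of_hasPullback (f ≫ q) (f ≫ q)) hW.diag hX hX
  have hYY := isAlgSpace_of_isPullback (IsPullback.of_hasPullback q q) hW.diag hY hY
  have hf := isQuasiCompactMor_of_univClosed hX hY hc
  have h := isQuasiCompactMor_comp hXX hYY (isQuasiCompactMor_of_repWith hX hXX hp)
    (isQuasiCompactMor_comp hM hYY (isQuasiCompactMor_of_isPullback sq₁ hf)
      (isQuasiCompactMor_of_isPullback sq₂ hf))
  rw [e] at h
  exact repWith_of_isQuasiCompactMor (monoLFT_diagonal hY q).rep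
    (isQuasiCompactMor_of_surjective hY hYY hX hs h)

/-- Separatedness descends along surjective universally closed morphisms. -/
theorem isSeparatedMor_of_surjective (hX : IsAlgSpace X) (hY : IsAlgSpace Y)
    (hW : IsAlgSpace W) {f : X ⟶ Y} {q : Y ⟶ W} (hs : IsSurjectiveMor f)
    (hc : IsUnivClosedMor f) (hp : IsSeparatedMor (f ≫ q)) : IsSeparatedMor q := by
  obtain ⟨M, m₁, m₂, a₁, b₁, a₂, b₂, hM, sq₁, sq₂, e⟩ := exists_square_factorization hX hY hW f q
  have hXX := isAlgSpace_of_isPullback (IsPullback.of_hasPullback (f ≫ q) (f ≫ q)) hW.diag hX hX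
  have hYY := isAlgSpace_of_isPullback (IsPullback.of_hasPullback q q) hW.diag hY hY
  have hcl : IsUnivClosedMor (pullback.diagonal (f ≫ q)) :=
    univSp_of_repWith (P := @UniversallyClosed) (fun _ _ k hk => isClosedMap_map_of_repWith
      (fun _ _ g (hg : UniversallyClosed g) => g.isClosedMap) hk)
      (repWith_mono (fun _ _ g (_ : IsClosedImmersion g) =>
        (inferInstance : UniversallyClosed g)) hp)
  have h := isUnivClosedMor_comp hXX hYY hcl
    (isUnivClosedMor_comp hM hYY (isUnivClosedMor_of_isPullback sq₁ hc)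
      (isUnivClosedMor_of_isPullback sq₂ hc))
  rw [e] at h
  have hu : RepWith @UniversallyClosed (pullback.diagonal q) := by
    refine repWith_of_univSp universallyClosed_eq (fun A B k hk => ?_)
      (monoLFT_diagonal hY q).rep (isUnivClosedMor_of_surjective hX hY hs h)
    exact topologically_of_map_yon (φ := @fun α β _ _ => @IsClosedMap α β _ _) k
      ((Points.schemeHomeo B).symm.isClosedMap.comp
        (hk.comp (Points.schemeHomeo A).isClosedMap))
  refine repWith_mono ?_ (repWith_inf_iff.2 ⟨monoLFT_diagonal hY q, hu⟩)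
  rintro A B g ⟨⟨hm, hl⟩, hg⟩
  have i₁ : Mono g := hm
  have i₂ : LocallyOfFiniteType g := hl
  have i₃ : UniversallyClosed g := hg
  rw [IsClosedImmersion.iff_isProper_and_mono]
  exact ⟨{ }, i₁⟩

end

end Groth.AlgSpBasic
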