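import Groth.Agent.AlgSpBasic.Presentation
import Groth.Agent.AlgSp2.FpqcRep

/-!
# Quotient sheaves of equivalence relations are effective
-/

set_option autoImplicit false
set_option backward.isDefEq.respectTransparency.types false
universe u

open CategoryTheory CategoryTheory.Limits AlgebraicGeometry Opposite AlgSp

namespace Groth.AlgSpBasic

noncomputable section

variable {S : Scheme.{u}} {R U : Over S} {s t : R ⟶ U} {Q : Sp S} {π : (yon S).obj U ⟶ Q}

/-- The presheaf quotient of an equivalence relation. -/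
def relQuot (_h : IsEqvRel s t) : (Over S)ᵒᵖ ⥤ Type (u + 1) where
  obj V := ULift.{u + 1} (Quot fun a b : V.unop ⟶ U => ∃ r : V.unop ⟶ R, r ≫ t = a ∧ r ≫ s = b)
  map g := TypeCat.ofHom fun x => ULift.up (Quot.map (fun a => g.unop ≫ a)
    (fun a b ⟨r, h₁, h₂⟩ => ⟨g.unop ≫ r, by rw [Category.assoc, h₁], by rw [Category.assoc, h₂]⟩)
    x.down)
  map_id V := by
    ext ⟨x⟩
    induction x using Quot.ind with
    | mk a => simp [Quot.map]
  map_comp f g := by
    ext ⟨x⟩
    induction x using Quot.ind with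
    | mk a => simp [Quot.map]

/-- The map to the presheaf quotient. -/
def relQuotπ (h : IsEqvRel s t) : ((yon S).obj U).obj ⟶ relQuot h where
  app V := TypeCat.ofHom fun a => ULift.up (Quot.mk _ a.down)
  naturality _ _ g := by
    ext a
    rfl

/-- Points of `U` identified in the quotient sheaf are related. -/
theorem exists_rel_of_isColimit (h : IsEqvRel s t)
    (w : (yon S).map t ≫ π = (yon S).map s ≫ π) (hQ : IsColimit (Cofork.ofπ π w))
    {T : Over S} (a b : T ⟶ U) (e : (yon S).map a ≫ π = (yon S).map b ≫ π) :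
    ∃ r : T ⟶ R, r ≫ t = a ∧ r ≫ s = b := by
  let φ : (yon S).obj U ⟶ (presheafToSheaf (J S) (Type (u + 1))).obj (relQuot h) :=
    ⟨relQuotπ h ≫ toSheafify (J S) _⟩
  have hφ : (yon S).map t ≫ φ = (yon S).map s ≫ φ := by
    ext V r
    refine congrArg ((toSheafify (J S) (relQuot h)).app V) (congrArg ULift.up (Quot.sound ?_))
    exact ⟨r.down, rfl, rfl⟩
  obtain ⟨d, hd⟩ := Cofork.IsColimit.desc' hQ φ hφ
  have hd' : π ≫ d = φ := hd
  have e₂ : (yon S).map a ≫ φ = (yon S).map b ≫ φ := by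
    rw [← hd', ← Category.assoc, e, Category.assoc]
  let qa : ToType ((relQuot h).obj (op T)) := ULift.up (Quot.mk _ a)
  let qb : ToType ((relQuot h).obj (op T)) := ULift.up (Quot.mk _ b)
  have e₃ : (toSheafify (J S) (relQuot h)).app (op T) qa =
      (toSheafify (J S) (relQuot h)).app (op T) qb := by
    have h' := congrArg (fun k : (yon S).obj T ⟶ _ => k.hom.app (op T) ⟨𝟙 T⟩) e₂
    change (toSheafify (J S) (relQuot h)).app (op T) (ULift.up (Quot.mk _ (𝟙 T ≫ a))) =
      (toSheafify (J S) (relQuot h)).app (op T) (ULift.up (Quot.mk _ (𝟙 T ≫ b))) at h'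
    rwa [Category.id_comp, Category.id_comp] at h'
  have hS := Presheaf.equalizerSieve_mem (J S) (toSheafify (J S) (relQuot h)) qa qb e₃
  let Sv : Sieve T := Presheaf.equalizerSieve (F := relQuot h) qa qb
  have hr : ∀ ⦃V : Over S⦄ (g : V ⟶ T), Sv g → ∃ r : V ⟶ R, r ≫ t = g ≫ a ∧ r ≫ s = g ≫ b := by
    intro V g hg
    have hg' : Quot.mk (fun a b : V ⟶ U => ∃ r : V ⟶ R, r ≫ t = a ∧ r ≫ s = b) (g ≫ a) =
        Quot.mk _ (g ≫ b) := congrArg ULift.down hg
    exact ((h.equivalence V).eqvGen_iff).1 (Quot.eqvGen_exact hg')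
  choose r hr₁ hr₂ using hr
  have hY : ∀ W : Over S, Presieve.IsSheaf (J S) ((yon S).obj W).obj := fun W =>
    (isSheaf_iff_isSheaf_of_type _ _).1 ((yon S).obj W).property
  let z : Presieve.FamilyOfElements ((yon S).obj R).obj Sv.arrows := fun V g hg => ⟨r g hg⟩
  have hz : z.Compatible := by
    intro Y₁ Y₂ Z g₁ g₂ f₁ f₂ h₁ h₂ e
    apply ULift.ext
    show g₁ ≫ r f₁ h₁ = g₂ ≫ r f₂ h₂
    refine h.injective Z _ _ ?_ ?_
    · rw [Category.assoc, Category.assoc, hr₁, hr₁, ← Category.assoc, e, Category.assoc]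
    · rw [Category.assoc, Category.assoc, hr₂, hr₂, ← Category.assoc, e, Category.assoc]
  obtain ⟨⟨ρ⟩, hρ, -⟩ := hY R Sv hS z hz
  have hρ' : ∀ V (g : V ⟶ T) (hg : Sv g), g ≫ ρ = r g hg := fun V g hg =>
    congrArg ULift.down (hρ g hg)
  refine ⟨ρ, ?_, ?_⟩
  · exact congrArg ULift.down (((hY U).isSeparated Sv hS).ext
      (t₁ := (⟨ρ ≫ t⟩ : ULift.{u + 1} (T ⟶ U))) (t₂ := ⟨a⟩) fun {V} g hg =>
        ULift.ext _ _ (show g ≫ ρ ≫ t = g ≫ a by rw [← Category.assoc, hρ' _ _ hg, hr₁]))
  · exact congrArg ULift.down (((hY U).isSeparated Sv hS).ext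
      (t₁ := (⟨ρ ≫ s⟩ : ULift.{u + 1} (T ⟶ U))) (t₂ := ⟨b⟩) fun {V} g hg =>
        ULift.ext _ _ (show g ≫ ρ ≫ s = g ≫ b by rw [← Category.assoc, hρ' _ _ hg, hr₂]))

/-- Quotient sheaves of equivalence relations are effective. -/
theorem isPullback_of_isColimit (h : IsEqvRel s t)
    (w : (yon S).map t ≫ π = (yon S).map s ≫ π) (hQ : IsColimit (Cofork.ofπ π w)) :
    IsPullback ((yon S).map t) ((yon S).map s) π π := by
  let l : (yon S).obj R ⟶ pullback π π := pullback.lift _ _ w
  have : IsIso l := by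
    refine Groth.AlgSp2.isIso_of_bijective_comp l fun T => ⟨fun a b hab => ?_, fun g => ?_⟩
    · obtain ⟨a, rfl⟩ := (yon S).map_surjective a
      obtain ⟨b, rfl⟩ := (yon S).map_surjective b
      have h₁ := congrArg (fun k => k ≫ pullback.fst π π) hab
      have h₂ := congrArg (fun k => k ≫ pullback.snd π π) hab
      simp only [l, Category.assoc, pullback.lift_fst, pullback.lift_snd, ← Functor.map_comp] at h₁ h₂
      rw [h.injective T a b ((yon S).map_injective h₁) ((yon S).map_injective h₂)]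
    · obtain ⟨a, ha⟩ := (yon S).map_surjective (g ≫ pullback.fst π π)
      obtain ⟨b, hb⟩ := (yon S).map_surjective (g ≫ pullback.snd π π)
      obtain ⟨r, hr₁, hr₂⟩ := exists_rel_of_isColimit h w hQ a b (by
        rw [ha, hb, Category.assoc, Category.assoc, pullback.condition])
      refine ⟨(yon S).map r, ?_⟩
      apply pullback.hom_ext
      · rw [Category.assoc, pullback.lift_fst, ← Functor.map_comp, hr₁, ha]
      · rw [Category.assoc, pullback.lift_snd, ← Functor.map_comp, hr₂, hb]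
  exact IsPullback.of_iso_pullback ⟨w⟩ (asIso l) (pullback.lift_fst _ _ _) (pullback.lift_snd _ _ _)

end

end Groth.AlgSpBasic
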