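import Groth.Agent.AlgSpBasic.SepLQF
import Groth.Agent.AlgSpBasic.QuotientKernel
import Groth.Agent.AlgSpBasic.DiagProps
import Groth.Agent.AlgSpBasic.LocPInst
import Groth.Agent.AlgSpBasic.Sep

/-!
# Quotients of etale equivalence relations are algebraic spaces
-/

set_option autoImplicit false
set_option backward.isDefEq.respectTransparency.types false
universe u

open CategoryTheory CategoryTheory.Limits AlgebraicGeometry Opposite AlgSp

namespace Groth.AlgSpBasic

noncomputable section

variable {S : Scheme.{u}} {F : Sp S} {R U : Over S} {s t : R ⟶ U} {π : (yon S).obj U ⟶ F}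

theorem isLocallySurjective_prod_map [Sheaf.IsLocallySurjective π] :
    Sheaf.IsLocallySurjective (prod.map π π) := by
  have h₁ : Sheaf.IsLocallySurjective (prod.map π (𝟙 ((yon S).obj U))) :=
    isLocallySurjective_of_isPullback (isPullback_prod_map_fst π ((yon S).obj U))
  have h₂ : Sheaf.IsLocallySurjective (prod.map (𝟙 F) π) :=
    isLocallySurjective_of_isPullback (isPullback_prod_map_snd π F)
  have e : prod.map π π = prod.map π (𝟙 _) ≫ prod.map (𝟙 _) π := by
    rw [prod.map_map, Category.comp_id, Category.id_comp]
  rw [e]
  infer_instance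

/-- The diagonal of a sheaf with an etale kernel pair on a scheme is representable. -/
theorem repWith_diag_of_kernelPair [Sheaf.IsLocallySurjective π]
    (sq : IsPullback ((yon S).map t) ((yon S).map s) π π) [Etale t.left] :
    RepWith @LocallyOfFiniteType (Limits.diag F) := by
  let b := prodComparison (yon S) U U ≫ prod.map π π
  have := isLocallySurjective_prod_map (π := π)
  have hinj := (isEqvRel_of_isPullback sq).injective
  have : Mono (prod.lift t s) := ⟨fun {Z} a a' e => hinj Z a a'
    (by
      have := e =≫ prod.fst
      rwa [Category.assoc, Category.assoc, prod.lift_fst] at this)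
    (by
      have := e =≫ prod.snd
      rwa [Category.assoc, Category.assoc, prod.lift_snd] at this)⟩
  have : Mono (prod.lift t s).left :=
    inferInstanceAs (Mono ((Over.forget S).map (prod.lift t s)))
  have : IsSeparated (prod.lift t s).left := inferInstance
  have : FormallyUnramified (prod.lift t s).left := inferInstance
  have e : (prod.lift t s).left ≫ (prod.fst : U ⨯ U ⟶ U).left = t.left := lift_left_fst t s
  have : LocallyOfFiniteType (prod.lift t s).left := by
    have : LocallyOfFiniteType ((prod.lift t s).left ≫ (prod.fst : U ⨯ U ⟶ U).left) := by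
      rw [e]; infer_instance
    exact locallyOfFiniteType_of_comp _ (prod.fst : U ⨯ U ⟶ U).left
  have : LocallyQuasiFinite (prod.lift t s).left :=
    locallyQuasiFinite_of_formallyUnramified _
  exact repWith_of_sepLQF (Q := @LocallyOfFiniteType) b (isPullback_diag_yon sq) inferInstance

/-- A sheaf with a locally surjective map from a scheme whose kernel pair is an etale equivalence
relation is an algebraic space, and that map is an etale atlas. -/
theorem isAlgSpace_of_kernelPair [Sheaf.IsLocallySurjective π]
    (sq : IsPullback ((yon S).map t) ((yon S).map s) π π) [Etale t.left] [Etale s.left] :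
    IsAlgSpace F ∧ RepWith @Etale π ∧ RepWith @Surjective π := by
  have hd := (repWith_diag_of_kernelPair sq).rep
  have hr := representable_of_diag hd π
  have hs : Surjective s.left := by
    obtain ⟨r, -, hr⟩ := ((isEqvRel_of_isPullback sq).equivalence U).refl (𝟙 U)
    refine ⟨fun x => ⟨r.left x, ?_⟩⟩
    rw [← Scheme.Hom.comp_apply, ← Over.comp_left, hr]
    rfl
  have he : RepWith @Etale π := repWith_of_isLocallySurjective π hr π _ _ sq
    ((repWith_yon_map_iff _ s).2 ‹Etale s.left›)
  have hsu : RepWith @Surjective π := repWith_of_isLocallySurjective π hr π _ _ sq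
    ((repWith_yon_map_iff _ s).2 hs)
  exact ⟨⟨hd, U, π, he, hsu⟩, he, hsu⟩

/-- A sheaf with a representable etale surjection from a scheme is an algebraic space. -/
theorem isAlgSpace_of_chart (he : RepWith @Etale π) (hs : RepWith @Surjective π) : IsAlgSpace F := by
  have := isLocallySurjective_of_etale π he hs
  obtain ⟨R, t, s, sq⟩ := exists_pullback_yon he.rep π
  have : Etale s.left := repWith_fst_of_isPullback sq he
  have : Etale t.left := repWith_fst_of_isPullback sq.flip he
  exact (isAlgSpace_of_kernelPair sq).1

theorem repMap_comp_iso {V W : Over S} (g : V ⟶ W) :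
    (yon S).map g ≫ (QuotSh.repIsoUliftYoneda Scheme.fppfPrecoverage W).inv =
      (QuotSh.repIsoUliftYoneda Scheme.fppfPrecoverage V).inv ≫
        QuotSh.repMap Scheme.fppfPrecoverage g := by
  apply ObjectProperty.hom_ext
  exact (toSheafify_naturality (J S) ((yon S).map g).hom).trans rfl

/-- The quotient map out of the representable sheaf. -/
abbrev yonQuotπ (s t : R ⟶ U) :
    (yon S).obj U ⟶ QuotSh.quot Scheme.fppfPrecoverage s t :=
  (QuotSh.repIsoUliftYoneda Scheme.fppfPrecoverage U).inv ≫
    QuotSh.quotπ Scheme.fppfPrecoverage s t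

theorem yonQuot_w (s t : R ⟶ U) :
    (yon S).map t ≫ yonQuotπ s t = (yon S).map s ≫ yonQuotπ s t := by
  rw [yonQuotπ, ← Category.assoc, ← Category.assoc, repMap_comp_iso, repMap_comp_iso, Category.assoc,
    Category.assoc, QuotSh.quot_condition]

/-- The quotient sheaf is the coequalizer of the representable maps. -/
def isColimitYonQuot (s t : R ⟶ U) : IsColimit (Cofork.ofπ (yonQuotπ s t) (yonQuot_w s t)) :=
  Cofork.IsColimit.mk _
    (fun c => coequalizer.desc ((QuotSh.repIsoUliftYoneda Scheme.fppfPrecoverage U).hom ≫ c.π) (by
      rw [← cancel_epi (QuotSh.repIsoUliftYoneda Scheme.fppfPrecoverage R).inv, ← Category.assoc,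
        ← Category.assoc _ (QuotSh.repMap Scheme.fppfPrecoverage t), ← repMap_comp_iso,
        ← repMap_comp_iso, Category.assoc, Category.assoc, Iso.inv_hom_id_assoc]
      exact c.condition.symm))
    (fun c => by
      refine (Category.assoc _ _ _).trans ?_
      refine (congrArg ((QuotSh.repIsoUliftYoneda Scheme.fppfPrecoverage U).inv ≫ ·)
        (coequalizer.π_desc _ _)).trans ?_
      exact Iso.inv_hom_id_assoc _ _)
    (fun c m hm => by
      refine coequalizer.hom_ext (f := QuotSh.repMap Scheme.fppfPrecoverage s)
        (g := QuotSh.repMap Scheme.fppfPrecoverage t) (k := m) ?_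
      refine Eq.trans ?_ (coequalizer.π_desc _ _).symm
      refine ((congrArg ((QuotSh.repIsoUliftYoneda Scheme.fppfPrecoverage U).hom ≫ ·)
        (hm.symm.trans (Category.assoc _ _ _))).trans ?_).symm
      exact Iso.hom_inv_id_assoc _ _)

theorem isLocallySurjective_yonQuotπ (s t : R ⟶ U) :
    Sheaf.IsLocallySurjective (yonQuotπ s t) :=
  (Sheaf.isLocallySurjective_iff_epi _).2 (Cofork.IsColimit.epi (isColimitYonQuot s t))

theorem isPullback_yonQuot (h : IsEqvRel s t) :
    IsPullback ((yon S).map t) ((yon S).map s) (yonQuotπ s t) (yonQuotπ s t) :=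
  isPullback_of_isColimit h (yonQuot_w s t) (isColimitYonQuot s t)

end

end Groth.AlgSpBasic
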