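import Groth.Agent.AlgSpBasic.FiltrationQS
import Groth.Agent.AlgSp3.NormGlobal

/-!
# Morphisms from schemes which are finite etale over a set of points
-/

set_option autoImplicit false
set_option backward.isDefEq.respectTransparency.types false
universe u

open CategoryTheory CategoryTheory.Limits AlgebraicGeometry Topology TopologicalSpace Opposite AlgSp

namespace Groth.AlgSpBasic

noncomputable section

variable {S : Scheme.{u}} {X : Sp S} {Y : Over S}

/-- The morphism is finite etale over every scheme mapping into the given set of points. -/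
def FEOver (g : (yon S).obj Y ⟶ X) (O : Set (AlgSp.Points X)) : Prop :=
  ∀ ⦃T P : Over S⦄ (t : (yon S).obj T ⟶ X) (fst : P ⟶ Y) (snd : P ⟶ T),
    IsPullback ((yon S).map fst) ((yon S).map snd) g t → (∀ x, AlgSp.Points.ofPt t x ∈ O) →
      IsFinite snd.left ∧ Etale snd.left

/-- Being finite etale over a set can be checked on an etale chart covering it. -/
theorem feOver_of_chart (hX : IsAlgSpace X) {U N : Over S} {g : (yon S).obj Y ⟶ X}
    {p : (yon S).obj U ⟶ X} (hp : RepWith @Etale p) {ν : N ⟶ U} {q : N ⟶ Y}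
    (sq : IsPullback ((yon S).map q) ((yon S).map ν) g p) (L : U.left.Opens)
    [IsFinite (ν.left ∣_ L)] [Etale (ν.left ∣_ L)] {O : Set (AlgSp.Points X)}
    (hL : ∀ u, AlgSp.Points.ofPt p u ∈ O → u ∈ L)
    (hO : O ⊆ Set.range (AlgSp.Points.ofPt p)) : FEOver g O := by
  intro T P t fst snd sqP ht
  obtain ⟨T', c, p₁, sqT⟩ := exists_pullback_of_diag hX.diag p t
  have : Etale p₁.left := repWith_fst_of_isPullback sqT hp
  have hsurj : Surjective p₁.left := ⟨fun x => by
    obtain ⟨u, hu⟩ := hO (ht x)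
    obtain ⟨z, -, hz⟩ := (ofPt_eq_ofPt_iff sqT u x).1 hu
    exact ⟨z, hz⟩⟩
  obtain ⟨P', f₁, f₂, sqP'⟩ : ∃ (P' : Over S) (f₁ : P' ⟶ P) (f₂ : P' ⟶ T'),
      IsPullback f₁ f₂ snd p₁ := ⟨_, _, _, IsPullback.of_hasPullback snd p₁⟩
  have big : IsPullback ((yon S).map (f₁ ≫ fst)) ((yon S).map f₂) g ((yon S).map c ≫ p) := by
    rw [sqT.w, Functor.map_comp]
    exact (sqP'.map (yon S)).paste_horiz sqP
  have hcL : Set.range c.left ⊆ Set.range L.ι := by
    rintro _ ⟨z, rfl⟩
    rw [Scheme.Opens.range_ι]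
    refine hL _ ?_
    rw [← ofPt_comp_yon, sqT.w, ofPt_comp_yon]
    exact ht _
  obtain ⟨top, htop⟩ := (yon S).map_surjective (sq.lift ((yon S).map (f₁ ≫ fst))
    ((yon S).map (f₂ ≫ c)) (by rw [big.w, Functor.map_comp, Category.assoc]))
  have sq' : IsPullback ((yon S).map top) ((yon S).map f₂) ((yon S).map ν) ((yon S).map c) := by
    refine IsPullback.of_right (t := sq) ?_ ?_
    · rw [htop, sq.lift_fst]; exact big
    · rw [htop, sq.lift_snd, Functor.map_comp]
  have hl := isPullback_left (isPullback_of_yon sq')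
  let cL : T'.left ⟶ L.toScheme := IsOpenImmersion.lift L.ι c.left hcL
  have hcL' : cL ≫ L.ι = c.left := IsOpenImmersion.lift_fac _ _ _
  rw [← hcL'] at hl
  have sqr := (isPullback_morphismRestrict ν.left L).flip
  have hr : IsPullback (sqr.lift top.left (f₂.left ≫ cL) (by rw [hl.w, Category.assoc])) f₂.left
      (ν.left ∣_ L) cL := IsPullback.of_right (t := sqr) (by rw [sqr.lift_fst]; exact hl)
        (sqr.lift_snd _ _ _)
  have hfin : IsFinite f₂.left := MorphismProperty.of_isPullback (P := @IsFinite) hr ‹_›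
  have het : Etale f₂.left := MorphismProperty.of_isPullback (P := @Etale) hr ‹_›
  have hq : (@Surjective ⊓ @Flat ⊓ @LocallyOfFinitePresentation : MorphismProperty Scheme.{u})
      p₁.left := ⟨⟨hsurj, inferInstance⟩, inferInstance⟩
  exact ⟨MorphismProperty.of_isPullback_of_descendsAlong (P := @IsFinite)
      (isPullback_left sqP').flip hq hfin,
    MorphismProperty.of_isPullback_of_descendsAlong (P := @Etale)
      (isPullback_left sqP').flip hq het⟩

/-- A morphism is finite etale over its image when it becomes so over itself. -/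
theorem feOver_range (hX : IsAlgSpace X) {c : (yon S).obj Y ⟶ X} (hc : RepWith @Etale c)
    {M : Over S} {w₁ w₂ : M ⟶ Y} (sq : IsPullback ((yon S).map w₁) ((yon S).map w₂) c c)
    [IsFinite w₂.left] [Etale w₂.left] : FEOver c (Set.range (AlgSp.Points.ofPt c)) := by
  have : IsFinite (w₂.left ∣_ ⊤) := IsZariskiLocalAtTarget.restrict ‹_› _
  have : Etale (w₂.left ∣_ ⊤) := IsZariskiLocalAtTarget.restrict ‹_› _
  exact feOver_of_chart hX hc sq ⊤ (fun _ _ => trivial) le_rfl

theorem FEOver.mono {g : (yon S).obj Y ⟶ X} {O O' : Set (AlgSp.Points X)} (h : FEOver g O)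
    (hle : O' ⊆ O) : FEOver g O' := fun _ _ t fst snd sq ht => h t fst snd sq fun x => hle (ht x)

theorem feOver_union {g : (yon S).obj Y ⟶ X} {O₁ O₂ : Set (AlgSp.Points X)} (h₁ : FEOver g O₁)
    (h₂ : FEOver g O₂) (o₁ : IsOpen O₁) (o₂ : IsOpen O₂) : FEOver g (O₁ ∪ O₂) := by
  intro T P t fst snd sq ht
  let L : Bool → T.left.Opens := fun b =>
    ⟨AlgSp.Points.ofPt t ⁻¹' (cond b O₁ O₂),
      (by cases b <;> assumption : IsOpen (cond b O₁ O₂)).preimage (AlgSp.Points.continuous_ofPt t)⟩
  have hcov : (⨆ b, L b) = ⊤ := eq_top_iff.2 fun x _ => by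
    rcases ht x with h | h
    · exact Opens.mem_iSup.2 ⟨true, h⟩
    · exact Opens.mem_iSup.2 ⟨false, h⟩
  have key : ∀ b, IsFinite (snd.left ∣_ L b) ∧ Etale (snd.left ∣_ L b) := fun b => by
    obtain ⟨νL, sqL⟩ := AlgSp3.exists_isPullback_resι snd (L b)
    have big := (sqL.map (yon S)).paste_horiz sq
    rw [← Functor.map_comp] at big
    have hb : ∀ x : ↥(AlgSp3.resObj (L b)).left,
        AlgSp.Points.ofPt ((yon S).map (AlgSp3.resι (L b)) ≫ t) x ∈ cond b O₁ O₂ := fun x => by
      rw [ofPt_comp_yon]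
      exact x.2
    have hiso : ∀ (Q : MorphismProperty Scheme.{u}) [Q.RespectsIso], Q νL.left →
        Q (snd.left ∣_ L b) := fun Q _ hQ => by
      have hl := isPullback_left sqL
      have hr := (isPullback_morphismRestrict snd.left (L b)).flip
      rw [← hl.isoIsPullback_hom_snd _ _ hr, Q.cancel_left_of_respectsIso] at hQ
      exact hQ
    cases b
    · obtain ⟨hf, he⟩ := h₂ _ _ νL big hb
      exact ⟨hiso @IsFinite hf, hiso @Etale he⟩
    · obtain ⟨hf, he⟩ := h₁ _ _ νL big hb
      exact ⟨hiso @IsFinite hf, hiso @Etale he⟩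
  exact ⟨IsZariskiLocalAtTarget.of_iSup_eq_top (P := @IsFinite) L hcov fun b => (key b).1,
    IsZariskiLocalAtTarget.of_iSup_eq_top (P := @Etale) L hcov fun b => (key b).2⟩

end

end Groth.AlgSpBasic
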