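import Groth.Agent.AlgSpBasic.IntegralTop
import Groth.Agent.AlgSpBasic.FiltrationSpaces
import Groth.Agent.AlgSp2.SigmaGlue
import Groth.Agent.AlgSpBasic.FiniteEtaleOver

/-!
# Integral surjections from schemes onto quasi-compact quasi-separated spaces
-/

set_option autoImplicit false
set_option backward.isDefEq.respectTransparency.types false
universe u

open CategoryTheory CategoryTheory.Limits AlgebraicGeometry Topology TopologicalSpace Opposite AlgSp

namespace Groth.AlgSpBasic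

noncomputable section

variable {S : Scheme.{u}}

/-- A morphism out of a disjoint union is integral when it is on each piece. -/
theorem isIntegralHom_of_two {P P₁ P₂ T : Scheme.{u}} (j₁ : P₁ ⟶ P) (j₂ : P₂ ⟶ P)
    [IsOpenImmersion j₁] [IsOpenImmersion j₂] (hd : Disjoint (Set.range j₁) (Set.range j₂))
    (hc : Set.range j₁ ∪ Set.range j₂ = Set.univ) (s : P ⟶ T) [IsIntegralHom (j₁ ≫ s)]
    [IsIntegralHom (j₂ ≫ s)] : IsIntegralHom s := by
  let e : P₁ ⨿ P₂ ⟶ P := coprod.desc j₁ j₂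
  have he : IsIso e := by
    have hcompl : IsCompl j₁.opensRange j₂.opensRange := by
      constructor
      · rw [disjoint_iff]
        exact TopologicalSpace.Opens.ext (Set.disjoint_iff_inter_eq_empty.1 hd)
      · rw [codisjoint_iff]
        exact TopologicalSpace.Opens.ext hc
    obtain ⟨hl⟩ := nonempty_isColimit_binaryCofanMk_of_isCompl j₁ j₂ hcompl
    have : e = ((coprodIsCoprod P₁ P₂).coconePointUniqueUpToIso hl).hom := by
      apply coprod.hom_ext
      · rw [coprod.inl_desc]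
        exact ((coprodIsCoprod P₁ P₂).comp_coconePointUniqueUpToIso_hom hl ⟨WalkingPair.left⟩).symm
      · rw [coprod.inr_desc]
        exact ((coprodIsCoprod P₁ P₂).comp_coconePointUniqueUpToIso_hom hl ⟨WalkingPair.right⟩).symm
    rw [this]
    infer_instance
  have h : e ≫ s = coprod.desc (j₁ ≫ s) (j₂ ≫ s) := by
    apply coprod.hom_ext <;> simp [e]
  rw [← MorphismProperty.cancel_left_of_respectsIso @IsIntegralHom e s, h]
  infer_instance

/-- Locally on the source the morphism factors through the chart. -/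
def LocalFactor {X : Sp S} {U Y : Over S} (a : (yon S).obj U ⟶ X) (g : (yon S).obj Y ⟶ X) : Prop :=
  ∀ y : ↥Y.left, ∃ (V : Over S) (j : V ⟶ Y) (c : V ⟶ U), IsOpenImmersion j.left ∧
    y ∈ Set.range j.left ∧ (yon S).map c ≫ a = (yon S).map j ≫ g

theorem localFactor_opens {X : Sp S} {U Y : Over S} {a : (yon S).obj U ⟶ X}
    {g : (yon S).obj Y ⟶ X} (h : LocalFactor a g) (y : ↥Y.left) :
    ∃ (W : Y.left.Opens) (c : Over.mk (W.ι ≫ Y.hom) ⟶ U), y ∈ W ∧
      (yon S).map c ≫ a = (yon S).map (Over.homMk W.ι rfl : Over.mk (W.ι ≫ Y.hom) ⟶ Y) ≫ g := by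
  obtain ⟨V, j, c, hj, hy, e⟩ := h y
  let l : Over.mk (j.left.opensRange.ι ≫ Y.hom) ⟶ V :=
    Over.homMk (IsOpenImmersion.lift j.left j.left.opensRange.ι (by simp)) (by
      show _ ≫ V.hom = _
      rw [← Over.w j, ← Category.assoc, IsOpenImmersion.lift_fac]
      rfl)
  refine ⟨j.left.opensRange, l ≫ c, hy, ?_⟩
  rw [Functor.map_comp, Category.assoc, e, ← Category.assoc, ← Functor.map_comp,
    show l ≫ j = (Over.homMk j.left.opensRange.ι rfl :
      Over.mk (j.left.opensRange.ι ≫ Y.hom) ⟶ Y) from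
      Over.OverMorphism.ext (IsOpenImmersion.lift_fac _ _ _)]

/-- The disjoint union of two integral morphisms from schemes. It is finite etale over the sets
over which one of the two is and which the other one misses. -/
theorem exists_integral_union' {X : Sp S} (hX : IsAlgSpace X) {U : Over S}
    (a : (yon S).obj U ⟶ X) {Y₁ Y₂ : Over S} {g₁ : (yon S).obj Y₁ ⟶ X} {g₂ : (yon S).obj Y₂ ⟶ X}
    (h₁ : RepWith @IsIntegralHom g₁) (h₂ : RepWith @IsIntegralHom g₂)
    (f₁ : LocalFactor a g₁) (f₂ : LocalFactor a g₂) :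
    ∃ (Y : Over S) (g : (yon S).obj Y ⟶ X), RepWith @IsIntegralHom g ∧ LocalFactor a g ∧
      Set.range (AlgSp.Points.ofPt g) =
        Set.range (AlgSp.Points.ofPt g₁) ∪ Set.range (AlgSp.Points.ofPt g₂) ∧
      (∀ O, FEOver g₁ O → Disjoint O (Set.range (AlgSp.Points.ofPt g₂)) → FEOver g O) ∧
      ∀ O, FEOver g₂ O → Disjoint O (Set.range (AlgSp.Points.ofPt g₁)) → FEOver g O := by
  let V : ULift.{u} Bool → Over S := fun b => cond b.down Y₁ Y₂
  let gs : ∀ b, (yon S).obj (V b) ⟶ X := fun b => match b with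
    | ⟨true⟩ => g₁
    | ⟨false⟩ => g₂
  obtain ⟨g, hg, -⟩ := AlgSp2.exists_glue V gs
  let Y := AlgSp2.sigmaObj V
  let inc := AlgSp2.sigmaIncl V
  have hinc : ∀ b, IsOpenImmersion (inc b).left := fun b =>
    inferInstanceAs (IsOpenImmersion (Sigma.ι (fun b => (V b).left) b))
  have hfs : ∀ b, RepWith @IsIntegralHom (gs b) := fun b => match b with
    | ⟨true⟩ => h₁
    | ⟨false⟩ => h₂
  have hff : ∀ b, LocalFactor a (gs b) := fun b => match b with
    | ⟨true⟩ => f₁
    | ⟨false⟩ => f₂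
  have hcov : ∀ y : ↥Y.left, ∃ b z, (inc b).left z = y := fun y =>
    (sigmaOpenCover fun b => (V b).left).exists_eq y
  have hpieces : ∀ {T P : Over S} (t : (yon S).obj T ⟶ X) (l : P ⟶ Y) (snd : P ⟶ T),
      IsPullback ((yon S).map l) ((yon S).map snd) g t → ∀ b,
      ∃ (Pb : Over S) (jb : Pb ⟶ P) (qb : Pb ⟶ V b),
        IsPullback qb jb (inc b) l ∧ IsOpenImmersion jb.left ∧
          IsPullback ((yon S).map qb) ((yon S).map (jb ≫ snd)) (gs b) t := fun t l snd sq b => by
    have := hinc b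
    have sqb := IsPullback.of_hasPullback (inc b) l
    refine ⟨_, pullback.snd _ _, pullback.fst _ _, sqb,
      MorphismProperty.of_isPullback (P := @IsOpenImmersion) (isPullback_left sqb) (hinc b), ?_⟩
    have big := (sqb.map (yon S)).paste_vert sq
    rw [← Functor.map_comp, hg b] at big
    exact big
  have hfe : ∀ b O, FEOver (gs b) O →
      (∀ b', b' ≠ b → Disjoint O (Set.range (AlgSp.Points.ofPt (gs b')))) → FEOver g O := by
    intro b O hO hd T P t l snd sq ht
    obtain ⟨Pb, jb, qb, sqb, hjo, big⟩ := hpieces t l snd sq b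
    obtain ⟨hf, he⟩ := hO t qb _ big ht
    have : Surjective jb.left := ⟨fun x => by
      obtain ⟨b', z, hz⟩ := hcov (l.left x)
      by_cases hb : b' = b
      · subst hb
        obtain ⟨p, -, hp⟩ := Scheme.exists_preimage_of_isPullback (isPullback_left sqb) z x hz
        exact ⟨p, hp⟩
      · refine ((hd b' hb).le_bot (show AlgSp.Points.ofPt t (snd.left x) ∈ O ⊓ _ from
          ⟨ht _, z, ?_⟩)).elim
        rw [← hg b', ofPt_comp_yon, hz, ← ofPt_comp_yon, sq.w, ofPt_comp_yon]⟩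
    have : IsIso jb.left := (isIso_iff_isOpenImmersion_and_surjective _).2 ⟨hjo, ‹_›⟩
    exact ⟨(MorphismProperty.cancel_left_of_respectsIso @IsFinite jb.left snd.left).1 hf,
      (MorphismProperty.cancel_left_of_respectsIso @Etale jb.left snd.left).1 he⟩
  refine ⟨Y, g, ?_, fun y => ?_, ?_, fun O h hd => hfe ⟨true⟩ O h ?_,
    fun O h hd => hfe ⟨false⟩ O h ?_⟩
  · refine repWith_of_representable (representable_of_diag hX.diag g) fun T P t fst snd sq => ?_
    obtain ⟨l, rfl⟩ := (yon S).map_surjective fst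
    have hP : ∀ b, ∃ (Pb : Over S) (jb : Pb ⟶ P) (qb : Pb ⟶ V b),
        IsPullback qb jb (inc b) l ∧ IsOpenImmersion jb.left ∧
          IsIntegralHom (jb.left ≫ snd.left) := fun b => by
      obtain ⟨Pb, jb, qb, sqb, hjo, big⟩ := hpieces t l snd sq b
      exact ⟨Pb, jb, qb, sqb, hjo, (hfs b).property t _ _ big⟩
    choose Pb jb qb sqb hjo hji using hP
    have := hjo
    have := hji
    refine isIntegralHom_of_two (jb ⟨true⟩).left (jb ⟨false⟩).left ?_ ?_ snd.left
    · rw [Set.disjoint_iff]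
      rintro x ⟨⟨p, hp⟩, ⟨p', hp'⟩⟩
      have e₁ : (inc ⟨true⟩).left ((qb ⟨true⟩).left p) = l.left x := by
        rw [← hp]; exact congrArg (fun k : _ ⟶ Y => k.left p) (sqb ⟨true⟩).w
      have e₂ : (inc ⟨false⟩).left ((qb ⟨false⟩).left p') = l.left x := by
        rw [← hp']; exact congrArg (fun k : _ ⟶ Y => k.left p') (sqb ⟨false⟩).w
      refine (disjoint_opensRange_sigmaι (fun b => (V b).left) ⟨true⟩ ⟨false⟩ (by simp)).le_bot
        (show l.left x ∈ _ ⊓ _ from ⟨⟨_, e₁⟩, ⟨_, e₂⟩⟩)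
    · refine Set.eq_univ_of_forall fun x => ?_
      obtain ⟨⟨b⟩, z, hz⟩ := hcov (l.left x)
      obtain ⟨p, -, hp⟩ := Scheme.exists_preimage_of_isPullback (isPullback_left (sqb ⟨b⟩)) z x hz
      cases b
      · exact Or.inr ⟨p, hp⟩
      · exact Or.inl ⟨p, hp⟩
  · obtain ⟨b, z, rfl⟩ := hcov y
    obtain ⟨Vz, j, c, hj, ⟨v, rfl⟩, e⟩ := hff b z
    have := hinc b
    refine ⟨Vz, j ≫ inc b, c, inferInstanceAs (IsOpenImmersion (j.left ≫ (inc b).left)), ⟨v, rfl⟩, ?_⟩
    rw [e, Functor.map_comp, Category.assoc]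
    exact congrArg _ (hg b).symm
  · refine Set.Subset.antisymm ?_ ?_
    · rintro _ ⟨y, rfl⟩
      obtain ⟨b, z, rfl⟩ := hcov y
      rw [← ofPt_comp_yon, hg b]
      obtain ⟨⟨⟩⟩ := b
      · exact Or.inr ⟨z, rfl⟩
      · exact Or.inl ⟨z, rfl⟩
    · rintro x (⟨y, rfl⟩ | ⟨y, rfl⟩)
      · refine ⟨(inc ⟨true⟩).left y, ?_⟩
        rw [← ofPt_comp_yon, hg]
      · refine ⟨(inc ⟨false⟩).left y, ?_⟩
        rw [← ofPt_comp_yon, hg]
  · rintro ⟨⟨⟩⟩ hb
    · exact hd
    · exact absurd rfl hb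
  · rintro ⟨⟨⟩⟩ hb
    · exact absurd rfl hb
    · exact hd

theorem exists_integral_union {X : Sp S} (hX : IsAlgSpace X) {U : Over S}
    (a : (yon S).obj U ⟶ X) {Y₁ Y₂ : Over S} {g₁ : (yon S).obj Y₁ ⟶ X} {g₂ : (yon S).obj Y₂ ⟶ X}
    (h₁ : RepWith @IsIntegralHom g₁) (h₂ : RepWith @IsIntegralHom g₂)
    (f₁ : LocalFactor a g₁) (f₂ : LocalFactor a g₂) :
    ∃ (Y : Over S) (g : (yon S).obj Y ⟶ X), RepWith @IsIntegralHom g ∧ LocalFactor a g ∧
      Set.range (AlgSp.Points.ofPt g₁) ∪ Set.range (AlgSp.Points.ofPt g₂) ⊆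
        Set.range (AlgSp.Points.ofPt g) := by
  obtain ⟨Y, g, hi, hf, hr, -, -⟩ := exists_integral_union' hX a h₁ h₂ f₁ f₂
  exact ⟨Y, g, hi, hf, hr.ge⟩

theorem isQuasiSeparatedSp_of_mono {X Z : Sp S} (hqs : IsQuasiSeparatedSp X) (i : Z ⟶ X) [Mono i] :
    IsQuasiSeparatedSp Z := by
  refine repWith_of_isPullback (f := Limits.diag X) (a := i) (b := prod.map i i) ⟨⟨?_⟩,
    ⟨PullbackCone.IsLimit.mk _ (fun c => c.snd ≫ prod.fst) ?_ ?_ ?_⟩⟩ hqs
  · apply Limits.prod.hom_ext
    · simp [Category.assoc]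
    · simp [Category.assoc]
  · intro c
    have h₁ := c.condition =≫ prod.fst
    simp only [Category.assoc, prod.lift_fst, Category.comp_id, prod.map_fst] at h₁
    rw [Category.assoc, h₁]
  · intro c
    have h₁ := c.condition =≫ prod.fst
    have h₂ := c.condition =≫ prod.snd
    simp only [Category.assoc, prod.lift_fst, prod.lift_snd, Category.comp_id, prod.map_fst,
      prod.map_snd] at h₁ h₂
    apply Limits.prod.hom_ext
    · simp only [Category.assoc, prod.lift_fst, Category.comp_id]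
    · rw [Category.assoc, prod.lift_snd, Category.comp_id, ← cancel_mono i, Category.assoc,
        ← h₁, h₂, Category.assoc]
  · intro c m hm₁ hm₂
    rw [← hm₂, Category.assoc, prod.lift_fst, Category.comp_id]

/-- Every quasi-compact quasi-separated space with an affine chart receives an integral surjection
from a scheme factoring locally through the chart. -/
theorem exists_integral_of_confSet [QuasiSeparatedSpace ↥S] : ∀ (n : ℕ) {X : Sp S},
    IsAlgSpace X → IsQuasiSeparatedSp X → ∀ {U : Over S}, IsAffine U.left →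
    ∀ (a : (yon S).obj U ⟶ X), RepWith @Etale a → RepWith @Surjective a → confSet a (n + 1) = ∅ →
    ∃ (Y : Over S) (g : (yon S).obj Y ⟶ X), RepWith @IsIntegralHom g ∧ LocalFactor a g ∧
      Function.Surjective (AlgSp.Points.ofPt g) := by
  intro n
  induction n with
  | zero =>
    intro X hX _ U hU a ha has hn
    have hempty : ∀ x : AlgSp.Points X, False := fun x => by
      have hu := confSet_one (a := a) fun x => surjective_ofPt_of_repWith has x
      rw [hn] at hu
      exact (hu.ge (Set.mem_univ x)).elim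
    refine ⟨U, a, repWith_of_representable ha.rep fun T P t fst snd sq => ?_,
      fun y => (hempty (AlgSp.Points.ofPt a y)).elim, fun x => (hempty x).elim⟩
    have : IsEmpty ↥P.left := ⟨fun p => hempty (AlgSp.Points.ofPt t (snd.left p))⟩
    infer_instance
  | succ n ih =>
    intro X hX hqs U hU a ha has hn
    obtain ⟨Y₁, g₁, hg₁, hr, hf⟩ := exists_integral_top hX hqs ha has (n := n) hn
    have hf₁ : LocalFactor a g₁ := fun y => by
      obtain ⟨W, c, hy, e⟩ := hf y
      exact ⟨Over.mk (W.ι ≫ Y₁.hom), Over.homMk W.ι rfl, c,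
        inferInstanceAs (IsOpenImmersion W.ι), ⟨(⟨y, hy⟩ : ↥W.toScheme), rfl⟩, e⟩
    obtain ⟨Z, iz, hZ, hiz, hrz, -⟩ := AlgSp3.exists_isRedInduced hX
      (isClosed_compl_iff.2 (isOpen_confSet hX ha (n + 1)))
    have : Mono iz := mono_of_repWith (fun _ _ g (_ : IsClosedImmersion g) => inferInstance) hiz
    obtain ⟨U', v, a', sq⟩ := hiz.rep a
    have : IsClosedImmersion v.left := hiz.property a a' v sq
    have hU' : IsAffine U'.left := isAffine_of_isAffineHom v.left
    have hempty : confSet a' (n + 1) = ∅ := by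
      refine Set.eq_empty_of_forall_notMem ?_
      rintro _ ⟨q, f, hq, hfi, rfl⟩
      have hv : Mono v := (Over.forget S).mono_of_mono_map (f := v)
        (inferInstance : Mono v.left)
      refine (hrz.le ⟨AlgSp.Points.mk q, rfl⟩ : AlgSp.Points.map iz (AlgSp.Points.mk q) ∈
        (confSet a (n + 1))ᶜ) ⟨q.map iz, fun i => f i ≫ v, fun i => ?_, fun i j e => hfi ?_, ?_⟩
      · rw [FieldPt.toHom_map, ← hq i, Functor.map_comp, Category.assoc, Category.assoc, sq.w]
        rfl
      · exact (cancel_mono v).1 e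
      · exact (AlgSp.Points.map_mk _ _).symm
    obtain ⟨Y₂, g₂, hg₂, hf₂, hs₂⟩ := ih hZ (isQuasiSeparatedSp_of_mono hqs iz) hU' a'
      (repWith_of_isPullback sq.flip ha) (repWith_of_isPullback sq.flip has) hempty
    have hg₂' : RepWith @IsIntegralHom (g₂ ≫ iz) :=
      repWith_comp hg₂ (repWith_mono (Q := @IsIntegralHom)
        (fun _ _ k (_ : IsClosedImmersion k) => inferInstance) hiz)
    have hf₂' : LocalFactor a (g₂ ≫ iz) := fun y => by
      obtain ⟨V, j, c, hj, hy, e⟩ := hf₂ y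
      refine ⟨V, j, c ≫ v, hj, hy, ?_⟩
      rw [Functor.map_comp, Category.assoc, ← sq.w, reassoc_of% e]
    obtain ⟨Y, g, hgi, hgf, hgr⟩ := exists_integral_union hX a hg₁ hg₂' hf₁ hf₂'
    refine ⟨Y, g, hgi, hgf, fun x => ?_⟩
    by_cases hx : x ∈ confSet a (n + 1)
    · exact hgr (Or.inl (hr hx))
    · obtain ⟨z, rfl⟩ := hrz.ge hx
      obtain ⟨y, rfl⟩ := hs₂ z
      exact hgr (Or.inr ⟨y, (AlgSp.Points.map_ofPt _ _ _).symm⟩)

/-- An affine refinement of a given chart of a quasi-compact space. -/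
theorem exists_affine_subchart {X : Sp S} (hX : IsAlgSpace X) (hqc : IsQuasiCompactSp X)
    {U : Over S} {b : (yon S).obj U ⟶ X} (hb : RepWith @Etale b) (hbs : RepWith @Surjective b) :
    ∃ (V : Over S) (j : V ⟶ U), IsAffine V.left ∧ RepWith @Etale ((yon S).map j ≫ b) ∧
      RepWith @Surjective ((yon S).map j ≫ b) := by
  have := (isQuasiCompactSp_iff_compactSpace hX).1 hqc
  let 𝒰 := U.left.affineCover
  have hcov : Set.univ ⊆ ⋃ i, AlgSp.Points.ofPt b '' ((𝒰.f i).opensRange : Set ↥U.left) := by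
    intro x _
    obtain ⟨u, rfl⟩ := surjective_ofPt_of_repWith hbs x
    obtain ⟨i, y, hy⟩ := 𝒰.exists_eq u
    exact Set.mem_iUnion.2 ⟨i, u, ⟨y, hy⟩, rfl⟩
  obtain ⟨t, ht⟩ := isCompact_univ.elim_finite_subcover _
    (fun i => isOpenMap_ofPt_of_etale hb _ (𝒰.f i).opensRange.isOpen) hcov
  let K : U.left.Opens := ⨆ i ∈ t, (𝒰.f i).opensRange
  have hK : IsCompact (K : Set ↥U.left) := by
    simp only [K, TopologicalSpace.Opens.coe_iSup]
    exact t.finite_toSet.isCompact_biUnion fun i _ => isCompact_range (𝒰.f i).continuous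
  have : CompactSpace ↥K.toScheme := isCompact_iff_compactSpace.1 hK
  obtain ⟨Y, φ, hφs, hφe, hY⟩ :=
    K.toScheme.exists_hom_isAffine_of_isZariskiLocalAtSource @Etale
  let j : Over.mk ((φ ≫ K.ι) ≫ U.hom) ⟶ U := Over.homMk (φ ≫ K.ι)
  have hje : RepWith @Etale ((yon S).map j) :=
    (repWith_yon_map_iff _ j).2 (show Etale (φ ≫ K.ι) from inferInstance)
  refine ⟨_, j, hY, repWith_comp hje hb,
    repWith_surjective_of_ofPt (repWith_comp hje hb).rep fun x => ?_⟩
  obtain ⟨i, hi⟩ := Set.mem_iUnion.1 (ht (Set.mem_univ x))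
  obtain ⟨hit, u, hu, rfl⟩ := Set.mem_iUnion.1 hi
  have huK : u ∈ K := by
    have : ((𝒰.f i).opensRange) ≤ K := le_biSup (fun i => (𝒰.f i).opensRange) hit
    exact this hu
  obtain ⟨v, hv⟩ := φ.surjective ⟨u, huK⟩
  refine ⟨v, ?_⟩
  rw [ofPt_comp_yon]
  exact congrArg (AlgSp.Points.ofPt b) (congrArg (fun z => K.ι z) hv)

/-- A quasi-compact quasi-separated space receives an integral surjection from a scheme factoring
locally through a given chart. -/
theorem exists_integral_cover [QuasiSeparatedSpace ↥S] {X : Sp S} (hX : IsAlgSpace X)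
    (hqc : IsQuasiCompactSp X) (hqs : IsQuasiSeparatedSp X) {U : Over S}
    {b : (yon S).obj U ⟶ X} (hb : RepWith @Etale b) (hbs : RepWith @Surjective b) :
    ∃ (Y : Over S) (g : (yon S).obj Y ⟶ X), RepWith @IsIntegralHom g ∧ RepWith @Surjective g ∧
      LocalFactor b g := by
  obtain ⟨V, j, hV, ha, has⟩ := exists_affine_subchart hX hqc hb hbs
  obtain ⟨N, hN⟩ := exists_degFibresLE_of_qs hX hqs ha
  obtain ⟨Y, g, hg, hf, hs⟩ := exists_integral_of_confSet N hX hqs hV _ ha has
    (confSet_eq_empty_of_degFibresLE hX ha hN)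
  refine ⟨Y, g, hg, repWith_surjective_of_ofPt hg.rep hs, fun y => ?_⟩
  obtain ⟨W, k, c, hk, hy, e⟩ := hf y
  exact ⟨W, k, c ≫ j, hk, hy, by rw [Functor.map_comp, Category.assoc, e]⟩

end

end Groth.AlgSpBasic
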