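import Mathlib.RingTheory.Flat.Equalizer
import Mathlib.RingTheory.Flat.Basic
import Mathlib.RingTheory.TensorProduct.Basic
import Mathlib.RingTheory.TensorProduct.Maps

/-!
# Effective descent for algebras along flat ring maps

A descent datum on a `B`-algebra `C` relative to `A → B` is written as an `A`-algebra map
`ρ : C → B ⊗[A] C`.
-/

set_option autoImplicit false
universe u

open TensorProduct

namespace Groth.AlgSpBasic

variable {A B C : Type u} [CommRing A] [CommRing B] [CommRing C] [Algebra A B] [Algebra A C]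
  [Algebra B C] [IsScalarTower A B C]

variable (B) in
/-- The action map `B ⊗[A] C → C`. -/
noncomputable def actMap : B ⊗[A] C →ₐ[A] C :=
  Algebra.TensorProduct.productMap (IsScalarTower.toAlgHom A B C) (AlgHom.id A C)

/-- The map `B ⊗[A] O → C` out of the descended algebra. -/
noncomputable def descMap (ρ : C →ₐ[A] B ⊗[A] C) :
    B ⊗[A] (AlgHom.equalizer (Algebra.TensorProduct.includeRight : C →ₐ[A] B ⊗[A] C) ρ) →ₐ[A] C :=
  Algebra.TensorProduct.productMap (IsScalarTower.toAlgHom A B C)
    (AlgHom.equalizer (Algebra.TensorProduct.includeRight : C →ₐ[A] B ⊗[A] C) ρ).val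

/-- Descent data for algebras along flat maps are effective. -/
theorem descMap_bijective [Module.Flat A B] (ρ : C →ₐ[A] B ⊗[A] C)
    (hε : (actMap B).comp ρ = AlgHom.id A C)
    (hB : ∀ b : B, ρ (algebraMap B C b) = b ⊗ₜ 1)
    (hco : (Algebra.TensorProduct.map (AlgHom.id A B)
        (Algebra.TensorProduct.includeRight : C →ₐ[A] B ⊗[A] C)).comp ρ =
      (Algebra.TensorProduct.map (AlgHom.id A B) ρ).comp ρ) :
    Function.Bijective (descMap ρ) := by
  let ι : C →ₐ[A] B ⊗[A] C := Algebra.TensorProduct.includeRight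
  let O := AlgHom.equalizer ι ρ
  let i : B ⊗[A] O →ₗ[A] B ⊗[A] C := O.val.toLinearMap.lTensor B
  let ι' := Algebra.TensorProduct.map (AlgHom.id A B) ι
  let ρ' := Algebra.TensorProduct.map (AlgHom.id A B) ρ
  let δ : B ⊗[A] (B ⊗[A] C) →ₐ[A] B ⊗[A] C :=
    Algebra.TensorProduct.productMap Algebra.TensorProduct.includeLeft (AlgHom.id A _)
  have hδι : ∀ x, δ (ι' x) = x := by
    intro x
    induction x with
    | zero => simp
    | tmul b c => simp [δ, ι', ι]
    | add x y hx hy => rw [map_add, map_add, hx, hy]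
  have hδρ : ∀ x, δ (ρ' x) = ρ (actMap B x) := by
    intro x
    induction x with
    | zero => simp
    | tmul b c => simp [δ, ρ', actMap, hB]
    | add x y hx hy => rw [map_add, map_add, map_add, map_add, hx, hy]
  have hm : ∀ x, descMap ρ x = actMap B (i x) := by
    intro x
    induction x with
    | zero => simp
    | tmul b c => simp [descMap, actMap, i, O, ι]
    | add x y hx hy => rw [map_add, map_add, map_add, hx, hy]
  have hex : Function.Exact i ((ι.toLinearMap - ρ.toLinearMap).lTensor B) := by
    refine Module.Flat.lTensor_exact B fun y => ?_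
    rw [LinearMap.sub_apply, sub_eq_zero]
    exact ⟨fun h => ⟨⟨y, h⟩, rfl⟩, fun ⟨z, hz⟩ => hz ▸ z.2⟩
  have hι' : ∀ x, ι.toLinearMap.lTensor B x = ι' x := by
    intro x
    induction x with
    | zero => simp
    | tmul b c => simp [ι']
    | add x y hx hy => rw [map_add, map_add, hx, hy]
  have hρ' : ∀ x, ρ.toLinearMap.lTensor B x = ρ' x := by
    intro x
    induction x with
    | zero => simp
    | tmul b c => simp [ρ']
    | add x y hx hy => rw [map_add, map_add, hx, hy]
  have hiff : ∀ x, ι' x = ρ' x ↔ x ∈ Set.range i := fun x => by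
    rw [← hex x, LinearMap.lTensor_sub, LinearMap.sub_apply, sub_eq_zero, hι', hρ']
  have hinj : ∀ x, ρ (descMap ρ x) = i x := fun x => by
    rw [hm, ← hδρ, ← (hiff (i x)).2 ⟨x, rfl⟩, hδι]
  refine ⟨fun x y hxy => ?_, fun c => ?_⟩
  · refine Module.Flat.lTensor_preserves_injective_linearMap (M := B) O.val.toLinearMap
      Subtype.val_injective ?_
    show i x = i y
    rw [← hinj, ← hinj, hxy]
  · obtain ⟨z, hz⟩ := (hiff (ρ c)).1 (AlgHom.congr_fun hco c)
    exact ⟨z, by rw [hm, hz]; exact AlgHom.congr_fun hε c⟩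

end Groth.AlgSpBasic
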