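import Mathlib.AlgebraicGeometry.Pullbacks
import Groth.Agent.AlgSpBasic.AffineDescentRing
import Groth.Agent.AlgSpBasic.Presentation
import Groth.Agent.AlgSpBasic.Topology

/-!
# Effective descent for sheaves affine over an affine scheme
-/

set_option autoImplicit false
set_option backward.isDefEq.respectTransparency.types false
universe u

open CategoryTheory CategoryTheory.Limits AlgebraicGeometry Opposite AlgSp TensorProduct

namespace Groth.AlgSpBasic

noncomputable section

variable {S : Scheme.{u}}

/-- Base changes of locally surjective maps are locally surjective. -/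
theorem isLocallySurjective_of_isPullback {F G F' G' : Sp S} {a : F' ⟶ F} {b : F' ⟶ G'} {f : F ⟶ G}
    {g : G' ⟶ G} (sq : IsPullback a b f g) [Sheaf.IsLocallySurjective f] :
    Sheaf.IsLocallySurjective b := by
  constructor
  intro U x
  refine GrothendieckTopology.superset_covering _ ?_
    (Presheaf.imageSieve_mem (J S) f.hom (U := op U) (g.hom.app (op U) x))
  intro V i ⟨y, hy⟩
  have e : yEquiv.symm y ≫ f = ((yon S).map i ≫ yEquiv.symm x) ≫ g := by
    apply yEquiv.injective
    refine ((J S).uliftYonedaEquiv_comp _ f).trans ?_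
    rw [Equiv.apply_symm_apply, Category.assoc]
    refine Eq.trans ?_ ((J S).uliftYonedaEquiv_naturality _ i)
    refine hy.trans (congrArg _ ?_)
    refine Eq.trans ?_ ((J S).uliftYonedaEquiv_comp _ g).symm
    rw [Equiv.apply_symm_apply]
  refine ⟨yEquiv (sq.lift _ _ e), ?_⟩
  refine ((J S).uliftYonedaEquiv_comp _ b).symm.trans ?_
  rw [sq.lift_snd]
  refine ((J S).uliftYonedaEquiv_naturality _ i).symm.trans ?_
  rw [Equiv.apply_symm_apply]

section Ring

variable (A : Type u) [CommRing A] (g : Spec (.of A) ⟶ S)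

/-- The spectrum of an `A`-algebra, over `S`. -/
abbrev ovSpec (R : Type u) [CommRing R] [Algebra A R] : Over S :=
  Over.mk (Spec.map (CommRingCat.ofHom (algebraMap A R)) ≫ g)

variable {A}

/-- The map of spectra of an algebra map, over `S`. -/
abbrev ovMap {R R' : Type u} [CommRing R] [CommRing R'] [Algebra A R] [Algebra A R']
    (φ : R →ₐ[A] R') : ovSpec A g R' ⟶ ovSpec A g R :=
  Over.homMk (Spec.map (CommRingCat.ofHom φ.toRingHom)) (by
    show Spec.map _ ≫ Spec.map _ ≫ g = Spec.map _ ≫ g
    rw [← Category.assoc, ← Spec.map_comp, ← CommRingCat.ofHom_comp]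
    congr 3
    exact φ.comp_algebraMap)

theorem ovMap_comp {R R' R'' : Type u} [CommRing R] [CommRing R'] [CommRing R''] [Algebra A R]
    [Algebra A R'] [Algebra A R''] (φ : R →ₐ[A] R') (ψ : R' →ₐ[A] R'') :
    ovMap g ψ ≫ ovMap g φ = ovMap g (ψ.comp φ) := by
  apply Over.OverMorphism.ext
  show Spec.map _ ≫ Spec.map _ = Spec.map _
  rw [← Spec.map_comp, ← CommRingCat.ofHom_comp]
  rfl

theorem ovMap_id {R : Type u} [CommRing R] [Algebra A R] :
    ovMap g (AlgHom.id A R) = 𝟙 (ovSpec A g R) := by
  apply Over.OverMorphism.ext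
  show Spec.map _ = 𝟙 _
  exact Spec.map_id _

theorem ovMap_injective {R R' : Type u} [CommRing R] [CommRing R'] [Algebra A R] [Algebra A R']
    {φ ψ : R →ₐ[A] R'} (h : ovMap g φ = ovMap g ψ) : φ = ψ := by
  have := congrArg CommRingCat.Hom.hom (Spec.map_injective (congrArg CommaMorphism.left h))
  exact AlgHom.ext fun x => RingHom.congr_fun this x

theorem exists_ovMap_eq {R R' : Type u} [CommRing R] [CommRing R'] [Algebra A R] [Algebra A R']
    (m : ovSpec A g R' ⟶ ovSpec A g R)
    (hm : m ≫ ovMap g (Algebra.ofId A R) = ovMap g (Algebra.ofId A R')) :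
    ∃ φ : R →ₐ[A] R', ovMap g φ = m := by
  obtain ⟨f, hf⟩ := Spec.map_surjective m.left
  have e : CommRingCat.ofHom (algebraMap A R) ≫ f = CommRingCat.ofHom (algebraMap A R') := by
    apply Spec.map_injective
    rw [Spec.map_comp, hf]
    exact congrArg CommaMorphism.left hm
  exact ⟨{ f.hom with commutes' := fun x => ConcreteCategory.congr_hom e x },
    Over.OverMorphism.ext hf⟩

theorem isPullback_ovMap (R R' : Type u) [CommRing R] [CommRing R'] [Algebra A R] [Algebra A R'] :
    IsPullback (ovMap g (Algebra.TensorProduct.includeRight : R' →ₐ[A] R ⊗[A] R'))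
      (ovMap g (Algebra.TensorProduct.includeLeft : R →ₐ[A] R ⊗[A] R'))
      (ovMap g (Algebra.ofId A R')) (ovMap g (Algebra.ofId A R)) := by
  refine IsPullback.of_map (Over.forget S) ?_ ?_
  · rw [ovMap_comp, ovMap_comp]
    exact congrArg _ (Subsingleton.elim _ _)
  · exact (isPullback_SpecMap_of_isPushout _ _ _ _
      (CommRingCat.isPushout_tensorProduct A R R')).flip

variable {B C : Type u} [CommRing B] [CommRing C] [Algebra A B] [Algebra A C] [Algebra B C]
  [IsScalarTower A B C]

/-- A sheaf over `Spec A` becoming `Spec C` over a flat cover `Spec B` is affine. -/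
theorem exists_affine_desc_spec [Module.Flat A B] {P : Sp S}
    {u : P ⟶ (yon S).obj (ovSpec A g A)}
    [Sheaf.IsLocallySurjective ((yon S).map (ovMap g (Algebra.ofId A B)))]
    {fst : (yon S).obj (ovSpec A g C) ⟶ P}
    (sq : IsPullback fst ((yon S).map (ovMap g (IsScalarTower.toAlgHom A B C))) u
      ((yon S).map (ovMap g (Algebra.ofId A B)))) :
    ∃ (W : Over S) (i : W ⟶ ovSpec A g A) (e : (yon S).obj W ≅ P),
      IsAffine W.left ∧ e.hom ≫ u = (yon S).map i := by
  have base : ∀ {R R' : Type u} [CommRing R] [CommRing R'] [Algebra A R] [Algebra A R']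
      (φ : R →ₐ[A] R'), ovMap g φ ≫ ovMap g (Algebra.ofId A R) = ovMap g (Algebra.ofId A R') := by
    intros
    rw [ovMap_comp]
    exact congrArg _ (Subsingleton.elim _ _)
  let kk := ovMap g (Algebra.ofId A B)
  let ww := ovMap g (IsScalarTower.toAlgHom A B C)
  let ι : C →ₐ[A] B ⊗[A] C := Algebra.TensorProduct.includeRight
  let z₂ := ovMap g (Algebra.TensorProduct.includeLeft : B →ₐ[A] B ⊗[A] C)
  have hu : fst ≫ u = (yon S).map (ovMap g (Algebra.ofId A C)) := by
    rw [sq.w, ← Functor.map_comp, base]
  obtain ⟨r₂, hr₂⟩ := (yon S).map_surjective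
    (sq.lift ((yon S).map (ovMap g ι) ≫ fst) ((yon S).map z₂) (by
      rw [Category.assoc, hu, ← Functor.map_comp, ← Functor.map_comp, base, base]))
  have hr₂f : (yon S).map r₂ ≫ fst = (yon S).map (ovMap g ι) ≫ fst := by
    rw [hr₂, sq.lift_fst]
  have hr₂z : r₂ ≫ ww = z₂ :=
    (yon S).map_injective (by rw [Functor.map_comp, hr₂, sq.lift_snd])
  obtain ⟨ρ, rfl⟩ := exists_ovMap_eq g r₂ (by
    apply (yon S).map_injective
    rw [Functor.map_comp, ← hu, ← Category.assoc, hr₂f, Category.assoc, hu, ← Functor.map_comp,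
      base])
  have hρB : ∀ b : B, ρ (algebraMap B C b) = b ⊗ₜ 1 := fun b => by
    rw [ovMap_comp] at hr₂z
    exact AlgHom.congr_fun (ovMap_injective g hr₂z) b
  have hε : (actMap B).comp ρ = AlgHom.id A C := by
    apply ovMap_injective g
    rw [← ovMap_comp, ovMap_id]
    apply (yon S).map_injective
    apply sq.hom_ext
    · rw [Functor.map_comp, Category.assoc, hr₂f, ← Category.assoc, ← Functor.map_comp, ovMap_comp,
        show (actMap B).comp ι = AlgHom.id A C from AlgHom.ext fun x => by simp [actMap, ι],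
        ovMap_id]
    · rw [← Functor.map_comp, ← Functor.map_comp, Category.assoc, hr₂z, Category.id_comp,
        ovMap_comp]
      congr 2
      exact AlgHom.ext fun x => by simp [actMap]
  have hco : (Algebra.TensorProduct.map (AlgHom.id A B) ι).comp ρ =
      (Algebra.TensorProduct.map (AlgHom.id A B) ρ).comp ρ := by
    apply ovMap_injective g
    rw [← ovMap_comp, ← ovMap_comp]
    apply (yon S).map_injective
    apply sq.hom_ext
    · rw [Functor.map_comp, Functor.map_comp, Category.assoc, Category.assoc, hr₂f, ← Category.assoc,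
        ← Category.assoc, ← Functor.map_comp, ← Functor.map_comp, ovMap_comp, ovMap_comp,
        show (Algebra.TensorProduct.map (AlgHom.id A B) ρ).comp ι =
          (Algebra.TensorProduct.includeRight : B ⊗[A] C →ₐ[A] B ⊗[A] (B ⊗[A] C)).comp ρ from
            AlgHom.ext fun x => by simp [ι],
        show (Algebra.TensorProduct.map (AlgHom.id A B) ι).comp ι =
          (Algebra.TensorProduct.includeRight : B ⊗[A] C →ₐ[A] B ⊗[A] (B ⊗[A] C)).comp ι from
            AlgHom.ext fun x => by simp [ι],
        ← ovMap_comp, ← ovMap_comp, Functor.map_comp, Functor.map_comp, Category.assoc,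
        Category.assoc, hr₂f]
    · rw [← Functor.map_comp, ← Functor.map_comp, Category.assoc, Category.assoc, hr₂z, ovMap_comp,
        ovMap_comp]
      congr 2
      exact AlgHom.ext fun x => by simp
  have hbij := descMap_bijective ρ hε hρB hco
  let O := AlgHom.equalizer ι ρ
  let Q := ovSpec A g O
  let q : ovSpec A g C ⟶ Q := ovMap g O.val
  let qA : Q ⟶ ovSpec A g A := ovMap g (Algebra.ofId A O)
  let eC : B ⊗[A] O ≃ₐ[A] C := AlgEquiv.ofBijective (descMap ρ) hbij
  -- the descended scheme pulls back to `Spec C`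
  have sqQ : IsPullback q ww qA kk := by
    refine (isPullback_ovMap g B O).of_iso
      { hom := ovMap g eC.symm.toAlgHom, inv := ovMap g eC.toAlgHom
        hom_inv_id := ?_, inv_hom_id := ?_ } (Iso.refl _) (Iso.refl _) (Iso.refl _) ?_ ?_ ?_ ?_
    · rw [ovMap_comp, eC.symm_comp, ovMap_id]
    · rw [ovMap_comp, eC.comp_symm, ovMap_id]
    · rw [Iso.refl_hom, Category.comp_id, ovMap_comp]
      congr 1
      exact AlgHom.ext fun x => eC.injective (by simp [eC, descMap])
    · rw [Iso.refl_hom, Category.comp_id, ovMap_comp]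
      congr 1
      exact AlgHom.ext fun x => eC.injective (by simp [eC, descMap])
    · simp [qA]
    · simp [kk]
  have sqQ' := sqQ.map (yon S)
  have hfl : Sheaf.IsLocallySurjective fst := isLocallySurjective_of_isPullback sq.flip
  -- descend `q` along `fst`
  have hker : ∀ {T : Sp S} (a b : T ⟶ (yon S).obj (ovSpec A g C)), a ≫ fst = b ≫ fst →
      a ≫ (yon S).map q = b ≫ (yon S).map q := by
    intro T a b e
    have sq₂ : IsPullback ((yon S).map (ovMap g ι)) ((yon S).map z₂)
        ((yon S).map (ovMap g (Algebra.ofId A C))) ((yon S).map kk) :=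
      (isPullback_ovMap g B C).map (yon S)
    have e' : a ≫ (yon S).map (ovMap g (Algebra.ofId A C)) =
        (b ≫ (yon S).map ww) ≫ (yon S).map kk := by
      rw [← hu, ← Category.assoc, e, Category.assoc, sq.w, Category.assoc]
    let l := sq₂.lift a (b ≫ (yon S).map ww) e'
    have hl : l ≫ (yon S).map (ovMap g ρ) = b := by
      apply sq.hom_ext
      · rw [Category.assoc, hr₂f, ← Category.assoc, sq₂.lift_fst, e]
      · rw [Category.assoc, ← Functor.map_comp, hr₂z, sq₂.lift_snd]
    have hq : ovMap g ι ≫ q = ovMap g ρ ≫ q := by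
      simp only [q]
      rw [ovMap_comp, ovMap_comp]
      exact congrArg _ (AlgHom.ext fun x => x.2)
    rw [← hl, Category.assoc, ← Functor.map_comp, ← hq, Functor.map_comp, ← Category.assoc,
      sq₂.lift_fst]
  obtain ⟨hcol⟩ := isColimit_of_isLocallySurjective (IsPullback.of_hasPullback fst fst)
  obtain ⟨v, hv⟩ := Cofork.IsColimit.desc' hcol ((yon S).map q) (hker _ _ pullback.condition)
  have hv' : fst ≫ v = (yon S).map q := hv
  have hvu : v ≫ (yon S).map qA = u := by
    have : Epi fst := inferInstance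
    rw [← cancel_epi fst, ← Category.assoc, hv', ← Functor.map_comp, hu, base]
  have hmono : Mono v := by
    refine ⟨fun {T} a b e => ?_⟩
    have hP := IsPullback.of_hasPullback (a ≫ u) ((yon S).map kk)
    have : Sheaf.IsLocallySurjective (pullback.fst (a ≫ u) ((yon S).map kk)) :=
      isLocallySurjective_of_isPullback hP.flip
    have : Epi (pullback.fst (a ≫ u) ((yon S).map kk)) := inferInstance
    have eu : a ≫ u = b ≫ u := by rw [← hvu, ← Category.assoc, e, Category.assoc]
    rw [← cancel_epi (pullback.fst (a ≫ u) ((yon S).map kk))]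
    let la := sq.lift (pullback.fst (a ≫ u) ((yon S).map kk) ≫ a) (pullback.snd _ _)
      (by rw [Category.assoc]; exact pullback.condition)
    let lb := sq.lift (pullback.fst (a ≫ u) ((yon S).map kk) ≫ b) (pullback.snd _ _)
      (by rw [Category.assoc, ← eu]; exact pullback.condition)
    have : la = lb := by
      apply sqQ'.hom_ext
      · rw [← hv', ← Category.assoc, ← Category.assoc, sq.lift_fst, sq.lift_fst, Category.assoc, e,
          Category.assoc]
      · rw [sq.lift_snd, sq.lift_snd]
    have h2 := this =≫ fst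
    rwa [sq.lift_fst, sq.lift_fst] at h2
  have hqs : Sheaf.IsLocallySurjective ((yon S).map q) :=
    isLocallySurjective_of_isPullback sqQ'.flip
  have : Sheaf.IsLocallySurjective v := by
    have : Sheaf.IsLocallySurjective (fst ≫ v) := hv' ▸ hqs
    refine ⟨fun {U} x => GrothendieckTopology.superset_covering _ ?_
      (Presheaf.imageSieve_mem (J S) (fst ≫ v).hom (U := op U) x)⟩
    rintro V i ⟨y, hy⟩
    exact ⟨fst.hom.app (op V) y, hy⟩
  have : IsIso v := isIso_of_mono_of_epi v
  exact ⟨Q, qA, (asIso v).symm, inferInstanceAs (IsAffine (Spec _)), by simp [← hvu]⟩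

end Ring

/-- A sheaf over an affine scheme which becomes affine over an fppf cover is affine. -/
theorem exists_affine_desc {P : Sp S} {Z Z' : Over S} [IsAffine Z.left] [IsAffine Z'.left]
    (u : P ⟶ (yon S).obj Z) (k : Z' ⟶ Z) [Flat k.left] [Surjective k.left]
    [LocallyOfFinitePresentation k.left] {W' : Over S} [IsAffine W'.left]
    {fst : (yon S).obj W' ⟶ P} {w : W' ⟶ Z'}
    (sq : IsPullback fst ((yon S).map w) u ((yon S).map k)) :
    ∃ (W : Over S) (i : W ⟶ Z) (e : (yon S).obj W ≅ P),
      IsAffine W.left ∧ e.hom ≫ u = (yon S).map i := by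
  let A := Γ(Z.left, ⊤)
  let B := Γ(Z'.left, ⊤)
  let C := Γ(W'.left, ⊤)
  algebraize [k.left.appTop.hom]
  algebraize [w.left.appTop.hom, (w.left.appTop.hom).comp k.left.appTop.hom]
  have : Module.Flat A B :=
    HasRingHomProperty.appTop (P := @Flat) k.left (inferInstance : Flat k.left)
  let g : Spec A ⟶ S := Z.left.isoSpec.inv ≫ Z.hom
  have hk : Spec.map k.left.appTop ≫ Z.left.isoSpec.inv = Z'.left.isoSpec.inv ≫ k.left :=
    Scheme.isoSpec_inv_naturality k.left
  have hw : Spec.map w.left.appTop ≫ Z'.left.isoSpec.inv = W'.left.isoSpec.inv ≫ w.left :=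
    Scheme.isoSpec_inv_naturality w.left
  let eA : ovSpec A g A ≅ Z := Over.isoMk Z.left.isoSpec.symm (by
    show Z.left.isoSpec.inv ≫ Z.hom = Spec.map _ ≫ g
    rw [show CommRingCat.ofHom (algebraMap A A) = 𝟙 A from rfl, Spec.map_id, Category.id_comp])
  let eB : ovSpec A g B ≅ Z' := Over.isoMk Z'.left.isoSpec.symm (by
    show Z'.left.isoSpec.inv ≫ Z'.hom = Spec.map k.left.appTop ≫ g
    rw [← Category.assoc, hk, Category.assoc, Over.w k])
  let eC : ovSpec A g C ≅ W' := Over.isoMk W'.left.isoSpec.symm (by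
    show W'.left.isoSpec.inv ≫ W'.hom = Spec.map (k.left.appTop ≫ w.left.appTop) ≫ g
    rw [Spec.map_comp, Category.assoc, ← Category.assoc (Spec.map k.left.appTop), hk,
      Category.assoc, Over.w k, ← Category.assoc, hw, Category.assoc, Over.w w])
  have hkk : ovMap g (Algebra.ofId A B) ≫ eA.hom = eB.hom ≫ k := Over.OverMorphism.ext hk
  have hww : ovMap g (IsScalarTower.toAlgHom A B C) ≫ eB.hom = eC.hom ≫ w :=
    Over.OverMorphism.ext hw
  let EA := (yon S).mapIso eA
  let EB := (yon S).mapIso eB
  have hkk' : (yon S).map (ovMap g (Algebra.ofId A B)) = EB.hom ≫ (yon S).map k ≫ EA.inv := by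
    rw [← Category.assoc, Iso.eq_comp_inv]
    simp only [EA, EB, Functor.mapIso_hom, ← Functor.map_comp, hkk]
  have : Sheaf.IsLocallySurjective ((yon S).map k) := isLocallySurjective_of_repWith _
    ((repWith_yon_map_iff _ k).2 (inferInstance : Flat k.left))
    ((repWith_yon_map_iff _ k).2 (inferInstance : LocallyOfFinitePresentation k.left))
    ((repWith_yon_map_iff _ k).2 (inferInstance : Surjective k.left))
  have : Sheaf.IsLocallySurjective ((yon S).map (ovMap g (Algebra.ofId A B))) := by
    rw [hkk']; infer_instance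
  have sq' : IsPullback ((yon S).map eC.hom ≫ fst)
      ((yon S).map (ovMap g (IsScalarTower.toAlgHom A B C))) (u ≫ EA.inv)
      ((yon S).map (ovMap g (Algebra.ofId A B))) := by
    refine sq.of_iso ((yon S).mapIso eC).symm (Iso.refl _) EB.symm EA.symm ?_ ?_ ?_ ?_
    · simp only [Iso.symm_hom, Functor.mapIso_inv, Iso.refl_hom, Category.comp_id,
        ← Category.assoc, ← Functor.map_comp, Iso.inv_hom_id, CategoryTheory.Functor.map_id,
        Category.id_comp]
    · simp only [Iso.symm_hom, Functor.mapIso_inv, EB, ← Functor.map_comp]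
      congr 1
      rw [Iso.comp_inv_eq, Category.assoc, hww, Iso.inv_hom_id_assoc]
    · simp
    · simp [hkk']
  obtain ⟨W, i, e, hW, he⟩ := exists_affine_desc_spec g sq'
  refine ⟨W, i ≫ eA.hom, e, hW, ?_⟩
  rw [Functor.map_comp, ← he, Category.assoc, Category.assoc]
  simp [EA, ← Functor.map_comp]

end

end Groth.AlgSpBasic
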