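import Mathlib.AlgebraicGeometry.Gluing
import Groth.Agent.AlgSpBasic.Immersion
import Groth.Agent.AlgSp2.FlatMono
import Groth.Agent.AlgSpBasic.AffineDescent

/-!
# Sheaves locally representable by open immersions are representable
-/

set_option autoImplicit false
set_option backward.isDefEq.respectTransparency.types false
universe u

open CategoryTheory CategoryTheory.Limits AlgebraicGeometry Opposite AlgSp

namespace Groth.AlgSpBasic

noncomputable section

variable {S : Scheme.{u}} {F : Sp S}

/-- Maps out of a scheme glue along open coverings. -/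
theorem exists_glue_of_openCover {U : Over S} (𝒰 : U.left.OpenCover)
    (a : ∀ i, (yon S).obj (Over.mk (𝒰.f i ≫ U.hom)) ⟶ F)
    (h : ∀ i j (T : Over S) (p : T ⟶ Over.mk (𝒰.f i ≫ U.hom)) (q : T ⟶ Over.mk (𝒰.f j ≫ U.hom)),
      p.left ≫ 𝒰.f i = q.left ≫ 𝒰.f j → (yon S).map p ≫ a i = (yon S).map q ≫ a j) :
    ∃ g : (yon S).obj U ⟶ F, ∀ i,
      (yon S).map (Over.homMk (𝒰.f i) rfl : Over.mk (𝒰.f i ≫ U.hom) ⟶ U) ≫ g = a i := by
  have hs : Presieve.IsSheaf (J S) F.obj := (isSheaf_iff_isSheaf_of_type _ _).1 F.property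
  let R := Presieve.ofArrows _
    fun i => (Over.homMk (𝒰.f i) rfl : Over.mk (𝒰.f i ≫ U.hom) ⟶ U)
  have hR : Sieve.generate R ∈ J S U := by
    rw [J_eq, GrothendieckTopology.mem_over_iff]
    refine GrothendieckTopology.superset_covering _ ?_
      (Precoverage.generate_mem_toGrothendieck
        (Scheme.zariskiPrecoverage_le_fppfPrecoverage _ 𝒰.mem₀))
    rw [Sieve.generate_le_iff]
    rintro _ _ ⟨i⟩
    rw [Sieve.overEquiv_iff]
    exact Sieve.le_generate _ _ _ ⟨i⟩
  have hR' := (Presieve.isSheafFor_iff_generate _).2 (hs _ hR)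
  obtain ⟨t, ht, -⟩ := (Presieve.isSheafFor_arrows_iff _ _).1 hR' (fun i => yEquiv (a i))
    fun i j T p q e => by
      refine ((J S).uliftYonedaEquiv_naturality (a i) p).trans ?_
      refine Eq.trans ?_ ((J S).uliftYonedaEquiv_naturality (a j) q).symm
      exact congrArg _ (h i j T p q (congrArg CommaMorphism.left e))
  refine ⟨yEquiv.symm t, fun i => yEquiv.injective ?_⟩
  refine ((J S).uliftYonedaEquiv_naturality _ _).symm.trans ?_
  rw [Equiv.apply_symm_apply]
  exact ht i

variable {ι : Type u} {X : ι → Over S} {f : ∀ i, (yon S).obj (X i) ⟶ F}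
  (hf : ∀ i, RepWith @IsOpenImmersion (f i))

open Functor.relativelyRepresentable

/-- Triple overlaps as scheme theoretic pullbacks. -/
def tripleIso (i j k : ι) :
    (pullback₃ (hf i).rep (f j) (f k)).left ≅
      pullback ((hf i).rep.fst' (f j)).left ((hf i).rep.fst' (f k)).left :=
  ((IsPullback.of_hasPullback ((hf i).rep.fst' (f j)) ((hf i).rep.fst' (f k))).map
    (Over.forget S)).isoPullback

theorem tripleIso_inv_fst (i j k : ι) :
    (tripleIso hf i j k).inv ≫ (pullback.fst ((hf i).rep.fst' (f j)) ((hf i).rep.fst' (f k))).left =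
      pullback.fst _ _ :=
  IsPullback.isoPullback_inv_fst _

theorem tripleIso_hom_snd (i j k : ι) :
    (tripleIso hf i j k).hom ≫ pullback.snd _ _ =
      (pullback.snd ((hf i).rep.fst' (f j)) ((hf i).rep.fst' (f k))).left :=
  IsPullback.isoPullback_hom_snd _

/-- The cyclic permutation of triple overlaps. -/
def tripleRot (i j k : ι) :
    pullback₃ (hf i).rep (f j) (f k) ⟶ pullback₃ (hf j).rep (f k) (f i) :=
  lift₃ (hf j).rep (f k) (f i) (pullback₃.p₂ (hf i).rep (f j) (f k))
    (pullback₃.p₃ (hf i).rep (f j) (f k)) (pullback₃.p₁ (hf i).rep (f j) (f k))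
    (by simp) (by simp)

theorem tripleRot_snd (i j k : ι) :
    tripleRot hf i j k ≫ pullback.snd _ _ = pullback.fst _ _ ≫ (hf i).rep.symmetry (hf j).rep := by
  apply (hf j).rep.hom_ext'
  · refine ((Category.assoc _ _ _).trans ((congrArg (tripleRot hf i j k ≫ ·)
      (pullback₃.snd_fst'_eq_p₁ (hf j).rep (f k) (f i))).trans (lift₃_p₁ ..))).trans ?_
    exact ((Category.assoc _ _ _).trans
      (congrArg (pullback.fst _ _ ≫ ·) (symmetry_fst (hf i).rep (hf j).rep))).symm
  · refine ((Category.assoc _ _ _).trans ((congrArg (tripleRot hf i j k ≫ ·)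
      (pullback₃.snd_snd_eq_p₃ (hf j).rep (f k) (f i))).trans (lift₃_p₃ ..))).trans ?_
    exact ((Category.assoc _ _ _).trans
      (congrArg (pullback.fst _ _ ≫ ·) (symmetry_snd (hf i).rep (hf j).rep))).symm

theorem tripleRot_cocycle (i j k : ι) :
    (tripleRot hf i j k).left ≫ (tripleRot hf j k i).left ≫ (tripleRot hf k i j).left = 𝟙 _ := by
  have e : tripleRot hf i j k ≫ tripleRot hf j k i ≫ tripleRot hf k i j = 𝟙 _ := by
    apply pullback₃.hom_ext <;> simp [tripleRot]
  exact congrArg CommaMorphism.left e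

/-- The gluing datum of a family of open immersions from schemes into a sheaf. -/
def glueDataSp : Scheme.GlueData where
  J := ι
  U i := (X i).left
  V := fun (i, j) => ((hf i).rep.pullback (f j)).left
  f i j := ((hf i).rep.fst' (f j)).left
  f_mono i j :=
    have : IsOpenImmersion ((hf i).rep.fst' (f j)).left :=
      (hf j).property _ _ _ ((hf i).rep.isPullback' (f j)).flip
    inferInstance
  f_id i := by
    have : Mono (f i) := mono_of_repWith (fun _ _ g (_ : IsOpenImmersion g) => inferInstance) (hf i)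
    have : IsIso ((yon S).map ((hf i).rep.fst' (f i))) :=
      ((hf i).rep.isPullback' (f i)).isIso_fst_of_mono
    have : IsIso ((hf i).rep.fst' (f i)) := isIso_of_reflects_iso _ (yon S)
    exact inferInstanceAs (IsIso ((Over.forget S).map ((hf i).rep.fst' (f i))))
  t i j := ((hf i).rep.symmetry (hf j).rep).left
  t_id i := by
    have : Mono (f i) := mono_of_repWith (fun _ _ g (_ : IsOpenImmersion g) => inferInstance) (hf i)
    have e : (hf i).rep.fst' (f i) = (hf i).rep.snd (f i) := (yon S).map_injective
      ((cancel_mono (f i)).1 ((hf i).rep.isPullback' (f i)).w)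
    have h : (hf i).rep.symmetry (hf i).rep = 𝟙 _ := by
      apply (hf i).rep.hom_ext' <;> simp [e]
    simp [h]
  t' i j k := (tripleIso hf i j k).inv ≫ (tripleRot hf i j k).left ≫ (tripleIso hf j k i).hom
  t_fac i j k := by
    rw [Category.assoc, Category.assoc, tripleIso_hom_snd]
    have h := congrArg CommaMorphism.left (tripleRot_snd hf i j k)
    change (tripleRot hf i j k).left ≫ _ = _ ≫ _ at h
    exact (congrArg ((tripleIso hf i j k).inv ≫ ·) h).trans
      ((Category.assoc _ _ _).symm.trans (congrArg (· ≫ _) (tripleIso_inv_fst hf i j k)))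
  cocycle i j k := by
    simp only [Category.assoc, Iso.hom_inv_id_assoc]
    rw [← Category.assoc (tripleRot hf j k i).left, ← Category.assoc (tripleRot hf i j k).left,
      tripleRot_cocycle]
    exact ((congrArg ((tripleIso hf i j k).inv ≫ ·) (Category.id_comp _)).trans
      (Iso.inv_hom_id _))
  f_open i j := (hf j).property _ _ _ ((hf i).rep.isPullback' (f j)).flip

theorem isPullback_glued (i j : ι) :
    IsPullback ((glueDataSp hf).f i j) (((hf i).rep.snd (f j)).left)
      ((glueDataSp hf).ι i) ((glueDataSp hf).ι j) := by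
  have h : ((hf i).rep.snd (f j)).left =
      (glueDataSp hf).t i j ≫ (glueDataSp hf).f j i :=
    (congrArg CommaMorphism.left ((hf i).rep.symmetry_fst (hf j).rep)).symm
  rw [h]
  exact IsPullback.of_isLimit ((glueDataSp hf).vPullbackConeIsLimit i j)

theorem glueDataSp_w (i j : ι) :
    (glueDataSp hf).f i j ≫ (X i).hom =
      (glueDataSp hf).t i j ≫ (glueDataSp hf).f j i ≫ (X j).hom := by
  change ((hf i).rep.fst' (f j)).left ≫ (X i).hom =
    ((hf i).rep.symmetry (hf j).rep).left ≫ ((hf j).rep.fst' (f i)).left ≫ (X j).hom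
  erw [Over.w, Over.w, Over.w]

include hf in
/-- A sheaf covered by open immersions from schemes is representable. -/
theorem exists_iso_yon_of_openImmersions
    (hsurj : ∀ (T : Over S) (g : (yon S).obj T ⟶ F) (t : ↥T.left),
      ∃ (i : ι) (V : Over S) (fst : (yon S).obj V ⟶ (yon S).obj (X i)) (snd : V ⟶ T),
        IsPullback fst ((yon S).map snd) (f i) g ∧ t ∈ Set.range snd.left) :
    ∃ G : Over S, Nonempty ((yon S).obj G ≅ F) := by
  let D := glueDataSp hf
  let σ : D.glued ⟶ S := Scheme.Cover.glueMorphisms D.openCover (fun i => (X i).hom) fun i j => by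
    have h := glueDataSp_w hf i j
    let e' := (IsPullback.of_isLimit (D.vPullbackConeIsLimit i j)).isoPullback
    have hfst : e'.hom ≫ pullback.fst _ _ = D.f i j := IsPullback.isoPullback_hom_fst _
    have hsnd : e'.hom ≫ pullback.snd _ _ = D.t i j ≫ D.f j i := IsPullback.isoPullback_hom_snd _
    refine (cancel_epi e'.hom).1 ?_
    refine ((Category.assoc _ _ _).symm.trans (congrArg (· ≫ (X i).hom) hfst)).trans (h.trans ?_)
    refine (Category.assoc _ _ _).symm.trans ?_
    exact (congrArg (· ≫ (X j).hom) hsnd).symm.trans (Category.assoc _ _ _)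
  have hσ : ∀ i, D.ι i ≫ σ = (X i).hom := fun i => Scheme.Cover.ι_glueMorphisms D.openCover _ _ i
  let G : Over S := Over.mk σ
  let m (i : ι) : X i ⟶ G := Over.homMk (D.ι i) (hσ i)
  let e (i : ι) : Over.mk (D.openCover.f i ≫ G.hom) ≅ X i := Over.isoMk (Iso.refl _) (by
    show 𝟙 _ ≫ (X i).hom = D.ι i ≫ σ
    rw [Category.id_comp, hσ])
  have hglue : ∀ i j, (hf i).rep.fst' (f j) ≫ m i = (hf i).rep.snd (f j) ≫ m j := by
    intro i j
    apply Over.OverMorphism.ext
    have h1 := D.glue_condition i j
    have h2 := congrArg CommaMorphism.left ((hf i).rep.symmetry_fst (hf j).rep)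
    show D.f i j ≫ D.ι i = ((hf i).rep.snd (f j)).left ≫ D.ι j
    rw [← h1, ← Category.assoc]
    exact congrArg (· ≫ D.ι j) h2
  obtain ⟨v, hv'⟩ := exists_glue_of_openCover (F := F) (U := G) D.openCover
    (fun i => (yon S).map (e i).hom ≫ f i) fun i j T p q h => by
      change p.left ≫ D.ι i = q.left ≫ D.ι j at h
      obtain ⟨y, hy₁, hy₂⟩ := IsPullback.exists_lift (isPullback_glued hf i j) p.left q.left h
      let y' : T ⟶ (hf i).rep.pullback (f j) := Over.homMk y (by
        have hp : p.left ≫ (X i).hom = T.hom :=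
          (congrArg (· ≫ (X i).hom) (Category.comp_id p.left).symm).trans (Over.w (p ≫ (e i).hom))
        exact ((congrArg (y ≫ ·) (Over.w ((hf i).rep.fst' (f j))).symm).trans
          ((Category.assoc _ _ _).symm.trans (congrArg (· ≫ (X i).hom) hy₁))).trans hp)
      have e₁ : p ≫ (e i).hom = y' ≫ (hf i).rep.fst' (f j) :=
        Over.OverMorphism.ext ((Category.comp_id p.left).trans hy₁.symm)
      have e₂ : q ≫ (e j).hom = y' ≫ (hf i).rep.snd (f j) :=
        Over.OverMorphism.ext ((Category.comp_id q.left).trans hy₂.symm)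
      rw [← Category.assoc, ← Category.assoc, ← Functor.map_comp, ← Functor.map_comp, e₁, e₂,
        Functor.map_comp, Functor.map_comp, Category.assoc, Category.assoc,
        ((hf i).rep.isPullback' (f j)).w]
  have hv : ∀ i, (yon S).map (m i) ≫ v = f i := fun i => by
    rw [← cancel_epi ((yon S).map (e i).hom), ← hv' i, ← Category.assoc, ← Functor.map_comp]
    congr 2
  have hsu : Sheaf.IsLocallySurjective v := by
    constructor
    intro T x
    let g : (yon S).obj T ⟶ F := yEquiv.symm x
    choose i V fst snd sq ht using hsurj T g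
    let 𝒱 : T.left.OpenCover := Scheme.Cover.mkOfCovers ↥T.left (fun t => (V t).left)
      (fun t => (snd t).left)
      (fun t => by obtain ⟨y, hy⟩ := ht t; exact ⟨t, y, hy⟩)
      (fun t => (hf (i t)).property g (fst t) (snd t) (sq t))
    refine GrothendieckTopology.superset_covering _ ?_ (R := Presheaf.imageSieve v.hom x)
      (S := Sieve.generate (Presieve.ofArrows V snd)) ?_
    · rw [Sieve.generate_le_iff]
      rintro _ _ ⟨t⟩
      obtain ⟨l, hl⟩ := (yon S).map_surjective (fst t)
      refine ⟨yEquiv ((yon S).map (l ≫ m (i t))), ?_⟩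
      refine ((J S).uliftYonedaEquiv_comp _ v).symm.trans ?_
      rw [Functor.map_comp, Category.assoc, hv, hl, (sq t).w]
      refine ((J S).uliftYonedaEquiv_naturality g _).symm.trans ?_
      rw [Equiv.apply_symm_apply]
    · rw [GrothendieckTopology.mem_over_iff]
      refine GrothendieckTopology.superset_covering _ ?_
        (Precoverage.generate_mem_toGrothendieck
          (Scheme.zariskiPrecoverage_le_fppfPrecoverage _ 𝒱.mem₀))
      rw [Sieve.generate_le_iff]
      rintro _ _ ⟨t⟩
      rw [Sieve.overEquiv_iff]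
      exact ⟨V t, Over.homMk (𝟙 _) ((Category.id_comp _).trans (Over.w (snd t)).symm), snd t, ⟨t⟩,
        Over.OverMorphism.ext (Category.id_comp _)⟩
  have hmono : ∀ {T : Over S} (a b : T ⟶ G),
      (yon S).map a ≫ v = (yon S).map b ≫ v → a = b := by
    intro T a b h
    apply Over.OverMorphism.ext
    refine (Scheme.Cover.hom_ext ((D.openCover.pullback₁ a.left).bind fun i =>
      D.openCover.pullback₁ ((D.openCover.pullback₁ a.left).f i ≫ b.left)) _ _ ?_)
    rintro ⟨i, j⟩
    let c := pullback.fst ((pullback.fst a.left (D.openCover.f i)) ≫ b.left) (D.openCover.f j) ≫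
      pullback.fst a.left (D.openCover.f i)
    let W : Over S := Over.mk (c ≫ T.hom)
    let w : W ⟶ T := Over.homMk c
    let pi : W ⟶ X i := Over.homMk (pullback.fst ((pullback.fst a.left (D.openCover.f i)) ≫ b.left)
        (D.openCover.f j) ≫ pullback.snd a.left (D.openCover.f i)) (by
      rw [← hσ i, ← Over.w w, ← Over.w a]
      simp only [w, c, Over.homMk_left, Category.assoc]
      exact congrArg (pullback.fst _ _ ≫ ·) (congrArg (· ≫ σ) pullback.condition.symm))
    let pj : W ⟶ X j := Over.homMk (pullback.snd ((pullback.fst a.left (D.openCover.f i)) ≫ b.left)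
        (D.openCover.f j)) (by
      rw [← hσ j, ← Over.w w, ← Over.w b]
      simp only [w, c, Over.homMk_left, Category.assoc]
      exact ((pullback.condition_assoc σ).symm))
    have ea : w ≫ a = pi ≫ m i := Over.OverMorphism.ext (by
      simp only [w, c, pi, m, Over.comp_left, Over.homMk_left, Category.assoc]
      exact congrArg (pullback.fst _ _ ≫ ·) pullback.condition)
    have eb : w ≫ b = pj ≫ m j := Over.OverMorphism.ext (by
      simp only [w, c, pj, m, Over.comp_left, Over.homMk_left, Category.assoc]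
      exact pullback.condition)
    have h' := congrArg ((yon S).map w ≫ ·) h
    simp only [← Category.assoc, ← Functor.map_comp] at h'
    rw [ea, eb, Functor.map_comp, Functor.map_comp, Category.assoc, Category.assoc, hv, hv] at h'
    show (w ≫ a).left = (w ≫ b).left
    rw [ea, eb]
    congr 1
    calc pi ≫ m i = (hf i).rep.lift' pi pj h' ≫ (hf i).rep.fst' (f j) ≫ m i := by
          rw [← Category.assoc, lift'_fst]
      _ = pj ≫ m j := by rw [hglue, ← Category.assoc, lift'_snd]
  have : Mono v := Groth.AlgSp2.mono_of_injective v fun W a b h => hmono a b h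
  have : IsIso v := isIso_of_mono_of_epi v
  exact ⟨G, ⟨asIso v⟩⟩

end

end Groth.AlgSpBasic
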