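import Mathlib.AlgebraicGeometry.Morphisms.Finite
import Groth.Prelude.Def_AlgSpMor5
import Groth.Prelude.Def_AlgSpCov
import Groth.Agent.EtaleBase.FpqcDescent
import Groth.Agent.AlgSpBasic.Glue
import Groth.Agent.AlgSpBasic.SepLocal

/-!
# Affine, integral and finite morphisms of algebraic spaces
-/

set_option autoImplicit false
set_option backward.isDefEq.respectTransparency.types false
universe u

open CategoryTheory CategoryTheory.Limits AlgebraicGeometry Opposite AlgSp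

namespace Groth.AlgSpBasic

noncomputable section

variable {S : Scheme.{u}} {X Y : Sp S} {Q : MorphismProperty Scheme.{u}}

/-- Every pullback to an affine scheme is an affine scheme whose projection has `Q`. -/
def AffWith (Q : MorphismProperty Scheme.{u}) (f : X ⟶ Y) : Prop :=
  ∀ ⦃Z : Over S⦄, IsAffine Z.left → ∀ (g : (yon S).obj Z ⟶ Y),
    ∃ (W : Over S) (i : W ⟶ Z) (fst : (yon S).obj W ⟶ X),
      IsPullback fst ((yon S).map i) f g ∧ IsAffine W.left ∧ Q i.left

theorem affWith_isIntegralHom_iff {f : X ⟶ Y} : AffWith @IsIntegralHom f ↔ IsIntegralMor f :=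
  Iff.rfl

theorem affWith_isFinite_iff {f : X ⟶ Y} : AffWith @IsFinite f ↔ IsFiniteMor f := Iff.rfl

theorem affWith_isAffineHom_iff {f : X ⟶ Y} : AffWith @IsAffineHom f ↔ IsAffineMor f := by
  refine ⟨fun h Z hZ g => ?_, fun h Z hZ g => ?_⟩
  · obtain ⟨W, i, fst, sq, hW, -⟩ := h hZ g
    exact ⟨W, i, fst, sq, hW⟩
  · obtain ⟨W, i, fst, sq, hW⟩ := h hZ g
    exact ⟨W, i, fst, sq, hW, (inferInstance : IsAffineHom i.left)⟩

theorem affWith_mono {Q' : MorphismProperty Scheme.{u}} (hQ : Q ≤ Q') {f : X ⟶ Y}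
    (h : AffWith Q f) : AffWith Q' f := fun Z hZ g => by
  obtain ⟨W, i, fst, sq, hW, hi⟩ := h hZ g
  exact ⟨W, i, fst, sq, hW, hQ _ hi⟩

theorem affWith_of_repWith (hQ : Q ≤ @IsAffineHom) {f : X ⟶ Y} (h : RepWith Q f) :
    AffWith Q f := fun Z hZ g => by
  obtain ⟨W, i, fst, sq⟩ := h.rep g
  have hi : Q i.left := h.property g fst i sq
  have : IsAffineHom i.left := hQ _ hi
  exact ⟨W, i, fst, sq, isAffine_of_isAffineHom i.left, hi⟩

/-- An affine scheme mapping etale surjectively to an affine scheme through a given covering. -/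
theorem exists_affine_refinement {M T : Over S} (m : M ⟶ T) [Etale m.left] [Surjective m.left]
    [IsAffine T.left] :
    ∃ (T' : Over S) (k : T' ⟶ M), IsAffine T'.left ∧ Etale k.left ∧ Surjective (k ≫ m).left := by
  let 𝒰 := M.left.affineCover
  have hcov : Set.univ ⊆ ⋃ i, m.left '' ((𝒰.f i).opensRange : Set ↥M.left) := by
    intro x _
    obtain ⟨u, rfl⟩ := m.left.surjective x
    obtain ⟨i, y, hy⟩ := 𝒰.exists_eq u
    exact Set.mem_iUnion.2 ⟨i, u, ⟨y, hy⟩, rfl⟩
  obtain ⟨t, ht⟩ := isCompact_univ.elim_finite_subcover _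
    (fun i => etale_isOpenMap m.left inferInstance _ (𝒰.f i).opensRange.isOpen) hcov
  let K : M.left.Opens := ⨆ i ∈ t, (𝒰.f i).opensRange
  have hK : IsCompact (K : Set ↥M.left) := by
    simp only [K, TopologicalSpace.Opens.coe_iSup]
    exact t.finite_toSet.isCompact_biUnion fun i _ => isCompact_range (𝒰.f i).continuous
  have : CompactSpace ↥K.toScheme := isCompact_iff_compactSpace.1 hK
  obtain ⟨T₀, φ, hφs, hφe, hT₀⟩ :=
    K.toScheme.exists_hom_isAffine_of_isZariskiLocalAtSource @Etale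
  refine ⟨Over.mk ((φ ≫ K.ι) ≫ M.hom), Over.homMk (φ ≫ K.ι), hT₀,
    (inferInstance : Etale (φ ≫ K.ι)), ⟨fun x => ?_⟩⟩
  obtain ⟨i, hi, u, hu, rfl⟩ := Set.mem_iUnion₂.1 (ht (Set.mem_univ x))
  obtain ⟨v, hv⟩ := φ.surjective
    ⟨u, TopologicalSpace.Opens.mem_iSup.2 ⟨i, TopologicalSpace.Opens.mem_iSup.2 ⟨hi, hu⟩⟩⟩
  exact ⟨v, congrArg (fun z => m.left (K.ι z)) hv⟩

/-- Descent of affine pullbacks along an affine etale cover of an affine scheme. -/
theorem exists_affine_isPullback_of_cover [Q.IsStableUnderBaseChange]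
    [Q.DescendsAlong (@Surjective ⊓ @Flat ⊓ @QuasiCompact)] {f : X ⟶ Y} {T : Over S}
    [IsAffine T.left] (g : (yon S).obj T ⟶ Y) {T' : Over S} [IsAffine T'.left] (k : T' ⟶ T)
    [Etale k.left] [Surjective k.left] {W' : Over S} [IsAffine W'.left]
    {fst' : (yon S).obj W' ⟶ X} {w : W' ⟶ T'}
    (sq' : IsPullback fst' ((yon S).map w) f ((yon S).map k ≫ g)) (hQ : Q w.left) :
    ∃ (W : Over S) (i : W ⟶ T) (fst : (yon S).obj W ⟶ X),
      IsPullback fst ((yon S).map i) f g ∧ IsAffine W.left ∧ Q i.left := by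
  obtain ⟨P, p₁, p₂, sqP⟩ : ∃ (P : Sp S) (p₁ : P ⟶ X) (p₂ : P ⟶ (yon S).obj T),
      IsPullback p₁ p₂ f g := ⟨_, _, _, IsPullback.of_hasPullback f g⟩
  let l := sqP.lift fst' ((yon S).map w ≫ (yon S).map k) (by rw [Category.assoc]; exact sq'.w)
  have hl : IsPullback l ((yon S).map w) p₂ ((yon S).map k) :=
    IsPullback.of_right (by rw [sqP.lift_fst]; exact sq') (sqP.lift_snd _ _ _) sqP
  obtain ⟨W, i, e, hW, he⟩ := exists_affine_desc p₂ k hl
  refine ⟨W, i, e.hom ≫ p₁, ?_, hW, ?_⟩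
  · exact sqP.of_iso e.symm (Iso.refl _) (Iso.refl _) (Iso.refl _) (by simp) (by simp [← he])
      (by simp) (by simp)
  · obtain ⟨l', hl'⟩ := (yon S).map_surjective (l ≫ e.inv)
    have h2 : IsPullback ((yon S).map l') ((yon S).map w) ((yon S).map i) ((yon S).map k) := by
      rw [hl']
      exact hl.of_iso (Iso.refl _) e.symm (Iso.refl _) (Iso.refl _) (by simp) (by simp)
        (by simp [← he]) (by simp)
    refine MorphismProperty.of_isPullback_of_descendsAlong
      (P := Q) (Q := @Surjective ⊓ @Flat ⊓ @QuasiCompact)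
      (isPullback_left (isPullback_of_yon h2)).flip
      ⟨⟨inferInstance, inferInstance⟩, inferInstance⟩ hQ

theorem affWith_of_isPullback {X' Y' : Sp S} {f : X ⟶ Y} {g : Y' ⟶ Y} {fst : X' ⟶ X}
    {f' : X' ⟶ Y'} (sq : IsPullback fst f' f g) (h : AffWith Q f) : AffWith Q f' := fun Z hZ t => by
  obtain ⟨W, i, p, hp, hW, hi⟩ := h hZ (t ≫ g)
  refine ⟨W, i, sq.lift p ((yon S).map i ≫ t) (by rw [Category.assoc]; exact hp.w), ?_, hW, hi⟩
  exact IsPullback.of_right (by rw [sq.lift_fst]; exact hp) (sq.lift_snd _ _ _) sq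

/-- Affineness descends along etale coverings of the target. -/
theorem affWith_of_cover [Q.IsStableUnderBaseChange]
    [Q.DescendsAlong (@Surjective ⊓ @Flat ⊓ @QuasiCompact)] (hY : IsAlgSpace Y) {f : X ⟶ Y}
    {V : Over S} {p : (yon S).obj V ⟶ Y} (hp : RepWith @Etale p) (hps : RepWith @Surjective p)
    {P : Sp S} {fst : P ⟶ X} {snd : P ⟶ (yon S).obj V} (sq : IsPullback fst snd f p)
    (h : AffWith Q snd) : AffWith Q f := by
  intro T hT g
  obtain ⟨M, m₁, m₂, hM⟩ := exists_pullback_of_diag hY.diag g p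
  have : Etale m₁.left := repWith_fst_of_isPullback hM.flip hp
  have : Surjective m₁.left := repWith_fst_of_isPullback hM.flip hps
  obtain ⟨T', k, hT', hk, hks⟩ := exists_affine_refinement m₁
  obtain ⟨W', w, p', hp', hW', hw⟩ := h hT' ((yon S).map (k ≫ m₂))
  have : Etale (k ≫ m₁).left := by
    have := hk
    exact inferInstanceAs (Etale (k.left ≫ m₁.left))
  refine exists_affine_isPullback_of_cover g (k ≫ m₁) (fst' := p' ≫ fst) (w := w) ?_ hw
  have e : (yon S).map (k ≫ m₂) ≫ p = (yon S).map (k ≫ m₁) ≫ g := by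
    rw [Functor.map_comp, Functor.map_comp, Category.assoc, Category.assoc, hM.w]
  rw [← e]
  exact hp'.paste_horiz sq

/-- Representability and properties of a morphism can be checked Zariski locally on the schemes
mapping to the target. -/
theorem repWith_of_local [Q.IsStableUnderBaseChange] [IsZariskiLocalAtTarget Q] {f : X ⟶ Y}
    (h : ∀ (T : Over S) (g : (yon S).obj T ⟶ Y) (t : ↥T.left),
      ∃ (T' : Over S) (c : T' ⟶ T) (W : Over S) (w : W ⟶ T') (fst : (yon S).obj W ⟶ X),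
        IsOpenImmersion c.left ∧ t ∈ Set.range c.left ∧
          IsPullback fst ((yon S).map w) f ((yon S).map c ≫ g) ∧ Q w.left) :
    RepWith Q f := by
  refine repWith_of_exists fun T g => ?_
  choose T' c W w fst hc ht sq hw using h T g
  obtain ⟨P, p₁, p₂, sqP⟩ : ∃ (P : Sp S) (p₁ : P ⟶ X) (p₂ : P ⟶ (yon S).obj T),
      IsPullback p₁ p₂ f g := ⟨_, _, _, IsPullback.of_hasPullback f g⟩
  let φ (t : ↥T.left) : (yon S).obj (W t) ⟶ P := sqP.lift (fst t)
    ((yon S).map (w t) ≫ (yon S).map (c t)) (by rw [Category.assoc]; exact (sq t).w)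
  have hφ : ∀ t, IsPullback (φ t) ((yon S).map (w t)) p₂ ((yon S).map (c t)) := fun t =>
    IsPullback.of_right (by rw [sqP.lift_fst]; exact sq t) (sqP.lift_snd _ _ _) sqP
  have hφo : ∀ t, RepWith @IsOpenImmersion (φ t) := fun t =>
    repWith_of_isPullback (hφ t).flip ((repWith_yon_map_iff _ (c t)).2 (hc t))
  obtain ⟨G, ⟨e⟩⟩ := exists_iso_yon_of_openImmersions hφo fun T₀ g₀ t₀ => by
    obtain ⟨ψ, hψ⟩ := (yon S).map_surjective (g₀ ≫ p₂)
    let t := ψ.left t₀
    obtain ⟨y, hy⟩ := ht t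
    obtain ⟨V, snd, q, sqV⟩ := (hφo t).rep g₀
    obtain ⟨z, hz, -⟩ := exists_point_of_isPullback (hφ t) (Points.ofPt g₀ t₀)
      (Points.ofScheme (T' t) y) (by
        rw [Points.map_ofPt, ← hψ]
        refine Eq.trans ?_ (Points.map_yon_map_apply (c t) y).symm
        rw [hy, ofPt_eq_map]
        exact Points.map_yon_map_apply ψ t₀)
    obtain ⟨v, -, hv⟩ := (map_eq_ofPt_iff sqV z t₀).1 hz
    exact ⟨t, V, q, snd, sqV, v, hv⟩
  obtain ⟨i, hi⟩ := (yon S).map_surjective (e.hom ≫ p₂)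
  refine ⟨G, e.hom ≫ p₁, i, sqP.of_iso e.symm (Iso.refl _) (Iso.refl _) (Iso.refl _) (by simp)
    (by simp [hi]) (by simp) (by simp), ?_⟩
  let 𝒰 : T.left.OpenCover := Scheme.Cover.mkOfCovers ↥T.left (fun t => (T' t).left)
    (fun t => (c t).left) (fun t => ⟨t, ht t⟩) hc
  rw [IsZariskiLocalAtTarget.iff_of_openCover (P := Q) 𝒰]
  intro t
  obtain ⟨a, ha⟩ := (yon S).map_surjective (φ t ≫ e.inv)
  have h2 : IsPullback ((yon S).map a) ((yon S).map (w t)) ((yon S).map i) ((yon S).map (c t)) := by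
    rw [ha]
    exact (hφ t).of_iso (Iso.refl _) e.symm (Iso.refl _) (Iso.refl _) (by simp) (by simp)
      (by simp [hi]) (by simp)
  have h3 := isPullback_left (isPullback_of_yon h2)
  change Q (pullback.snd i.left (c t).left)
  rw [← Q.cancel_left_of_respectsIso h3.isoPullback.hom, h3.isoPullback_hom_snd]
  exact hw t

theorem repWith_of_affWith [Q.IsStableUnderBaseChange] [IsZariskiLocalAtTarget Q] {f : X ⟶ Y}
    (h : AffWith Q f) : RepWith Q f := by
  refine repWith_of_local fun T g t => ?_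
  obtain ⟨i, y, hy⟩ := T.left.affineCover.exists_eq t
  let c : Over.mk (T.left.affineCover.f i ≫ T.hom) ⟶ T := Over.homMk (T.left.affineCover.f i)
  obtain ⟨W, w, fst, sq, -, hw⟩ :=
    h (Z := Over.mk (T.left.affineCover.f i ≫ T.hom))
      (inferInstanceAs (IsAffine (T.left.affineCover.X i))) ((yon S).map c ≫ g)
  exact ⟨_, c, W, w, fst, inferInstanceAs (IsOpenImmersion (T.left.affineCover.f i)), ⟨y, hy⟩,
    sq, hw⟩

theorem isIntegralHom_le_isAffineHom :
    (@IsIntegralHom : MorphismProperty Scheme.{u}) ≤ @IsAffineHom :=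
  fun _ _ g (_ : IsIntegralHom g) => inferInstance

theorem isFinite_le_isAffineHom : (@IsFinite : MorphismProperty Scheme.{u}) ≤ @IsAffineHom :=
  fun _ _ g (_ : IsFinite g) => inferInstance

theorem isAffineMor_iff_repWith {f : X ⟶ Y} : IsAffineMor f ↔ RepWith @IsAffineHom f :=
  affWith_isAffineHom_iff.symm.trans ⟨repWith_of_affWith, affWith_of_repWith le_rfl⟩

theorem isIntegralMor_iff_repWith {f : X ⟶ Y} : IsIntegralMor f ↔ RepWith @IsIntegralHom f :=
  affWith_isIntegralHom_iff.symm.trans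
    ⟨repWith_of_affWith, affWith_of_repWith isIntegralHom_le_isAffineHom⟩

theorem isFiniteMor_iff_repWith {f : X ⟶ Y} : IsFiniteMor f ↔ RepWith @IsFinite f :=
  affWith_isFinite_iff.symm.trans
    ⟨repWith_of_affWith, affWith_of_repWith isFinite_le_isAffineHom⟩

/-- A property checked on a Zariski covering of the target by algebraic spaces. -/
theorem repWith_of_zarCover [Q.IsStableUnderBaseChange] [IsZariskiLocalAtTarget Q] {f : X ⟶ Y}
    {ι : Type u} {Yi : ι → Sp S} {j : ∀ i, Yi i ⟶ Y} (hj : IsZarCover Yi j) {Xi : ι → Sp S}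
    {p : ∀ i, Xi i ⟶ X} {q : ∀ i, Xi i ⟶ Yi i} (sq : ∀ i, IsPullback (p i) (q i) f (j i))
    (h : ∀ i, RepWith Q (q i)) : RepWith Q f := by
  refine repWith_of_local fun T g t => ?_
  obtain ⟨i, y, hy⟩ := hj.2 (Points.ofPt g t)
  obtain ⟨T', c, b, hb⟩ := (hj.1 i).rep g
  obtain ⟨v, -, hv⟩ := (map_eq_ofPt_iff hb y t).1 hy
  obtain ⟨W, w, a, hW⟩ := (h i).rep b
  refine ⟨T', c, W, w, a ≫ p i, (hj.1 i).property g b c hb, ⟨v, hv⟩, ?_,
    (h i).property b a w hW⟩
  rw [← hb.w]
  exact hW.paste_horiz (sq i)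

end

end Groth.AlgSpBasic
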