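import Groth.Agent.AlgSpBasic.SepLQFPrep
import Groth.Agent.AlgSpBasic.Glue
import Groth.Agent.AlgSpBasic.OpenSub
import Groth.Agent.AlgSpBasic.AffineMor
import Groth.Agent.FlatMor2.EtaleFinite
import Groth.Agent.AlgSp2.FpqcRep
import Groth.Agent.AlgSpBasic.DiagBaseChange
import Groth.Agent.AlgSpBasic.LocPInst

/-!
# Algebraic spaces separated and locally quasi-finite over a scheme are schemes
-/

set_option autoImplicit false
set_option backward.isDefEq.respectTransparency.types false
universe u

open CategoryTheory CategoryTheory.Limits AlgebraicGeometry Opposite AlgSp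

namespace Groth.AlgSpBasic

variable {S : Scheme.{u}}

/-- Near every point of an affine chart the map to the invariant functions is, after an etale base
change, an isomorphism onto an open. -/
theorem exists_etale_section {X : Sp S} {U R T Q : Over S} [IsAffine U.left] [IsAffine R.left]
    [IsAffine T.left] [IsAffine Q.left] {q : X ⟶ (yon S).obj Q} {p : (yon S).obj U ⟶ X}
    (he : RepWith @Etale p) (hs : RepWith @Surjective p) {t s : R ⟶ U}
    (sq : IsPullback ((yon S).map t) ((yon S).map s) p p) {π : U ⟶ Q}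
    (hq : p ≫ q = (yon S).map π) (w : t.left ≫ π.left = s.left ≫ π.left)
    [IsClosedImmersion (pullback.lift t.left s.left w)]
    (hinj : Function.Injective π.left.appTop)
    (hinv : ∀ a, t.left.appTop a = s.left.appTop a → ∃ d, π.left.appTop d = a)
    {π₀ : U ⟶ T} {τ : Q ⟶ T} (hτ : π ≫ τ = π₀) [LocallyQuasiFinite π₀.left]
    [LocallyOfFiniteType π₀.left] (u : ↥U.left) :
    ∃ (D : Over S) (d : D ⟶ Q) (g : (yon S).obj D ⟶ X), Etale d.left ∧
      π.left u ∈ Set.range d.left ∧ IsPullback g (𝟙 _) q ((yon S).map d) := by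
  obtain ⟨T₁, g₁, u₁, hg₁, hV₁⟩ := Groth.FlatMor2.exists_hasFiniteNbhd π₀.left u
    (π₀.left.quasiFiniteAt u)
  obtain ⟨W, hW, hu₁W, -⟩ := exists_isAffineOpen_mem_and_subset (X := T₁) (x := u₁) (U := ⊤) trivial
  obtain ⟨V, hfin, -, v, hv, -, hvu⟩ := hV₁.comp (k := W.ι) (g' := W.ι ≫ g₁) rfl
    (u' := ⟨u₁, hu₁W⟩) (Groth.FlatMor2.isPreimmersion_residue_bijective W.ι _)
  have : IsAffine (W : Scheme) := hW
  have : Etale g₁ := hg₁.etale
  let g' : (W : Scheme) ⟶ T.left := W.ι ≫ g₁
  have : Etale g' := inferInstanceAs (Etale (W.ι ≫ g₁))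
  -- base change
  let Q' : Over S := Over.mk (pullback.fst τ.left g' ≫ Q.hom)
  let k : Q' ⟶ Q := Over.homMk (pullback.fst τ.left g') rfl
  have : IsAffine Q'.left := inferInstanceAs (IsAffine (pullback τ.left g'))
  have : Etale k.left := inferInstanceAs (Etale (pullback.fst τ.left g'))
  let U' : Over S := Over.mk (pullback.fst π₀.left g' ≫ U.hom)
  let jU : U' ⟶ U := Over.homMk (pullback.fst π₀.left g') rfl
  have : IsAffine U'.left := inferInstanceAs (IsAffine (pullback π₀.left g'))
  have hτ' : π.left ≫ τ.left = π₀.left := congrArg CommaMorphism.left hτ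
  let π' : U' ⟶ Q' := Over.homMk (pullback.lift (pullback.fst π₀.left g' ≫ π.left)
      (pullback.snd π₀.left g') (by rw [Category.assoc, hτ', pullback.condition])) (by
    change pullback.lift _ _ _ ≫ pullback.fst τ.left g' ≫ Q.hom = pullback.fst π₀.left g' ≫ U.hom
    rw [pullback.lift_fst_assoc, Category.assoc, Over.w π])
  have hU : IsPullback jU.left π'.left π.left k.left := by
    refine IsPullback.of_bot ?_ (pullback.lift_fst _ _ _).symm (IsPullback.of_hasPullback τ.left g')
    have e : π'.left ≫ pullback.snd τ.left g' = pullback.snd π₀.left g' := pullback.lift_snd _ _ _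
    rw [e, hτ']
    exact IsPullback.of_hasPullback π₀.left g'
  have hUO : IsPullback jU π' π k :=
    IsPullback.of_map (Over.forget S) (by ext1; exact hU.w) hU
  let R' : Over S := Over.mk (pullback.fst t.left jU.left ≫ R.hom)
  let jR : R' ⟶ R := Over.homMk (pullback.fst t.left jU.left) rfl
  have : IsAffine R'.left := inferInstanceAs (IsAffine (pullback t.left jU.left))
  let t' : R' ⟶ U' := Over.homMk (pullback.snd t.left jU.left) (by
    change pullback.snd t.left jU.left ≫ U'.hom = pullback.fst t.left jU.left ≫ R.hom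
    rw [← Over.w t, ← Category.assoc, pullback.condition, Category.assoc, Over.w jU])
  have ht₀ : IsPullback jR.left t'.left t.left jU.left := IsPullback.of_hasPullback t.left jU.left
  have ht : IsPullback jR t' t jU :=
    IsPullback.of_map (Over.forget S) (by ext1; exact ht₀.w) ht₀
  have w₁ : (jR ≫ s) ≫ π = (t' ≫ π') ≫ k := by
    rw [Category.assoc, Category.assoc, ← hUO.w, ← Category.assoc t', ← ht.w, Category.assoc]
    congr 1
    ext1
    exact w.symm
  let s' : R' ⟶ U' := hUO.lift (jR ≫ s) (t' ≫ π') w₁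
  have hs₁ : s' ≫ jU = jR ≫ s := hUO.lift_fst _ _ _
  have hs₂ : s' ≫ π' = t' ≫ π' := hUO.lift_snd _ _ _
  have w' : t'.left ≫ π'.left = s'.left ≫ π'.left := (congrArg CommaMorphism.left hs₂).symm
  have : IsClosedImmersion (pullback.lift t'.left s'.left w') :=
    isClosedImmersion_lift_baseChange (w := w) hU ht₀ (congrArg CommaMorphism.left hs₁) w'
  obtain ⟨hinj', hinv'⟩ := appTop_equalizer_flat w hU ht₀ (congrArg CommaMorphism.left hs₁) w'
    hinj hinv
  let m := pullback.fst q ((yon S).map k)
  let p' : (yon S).obj U' ⟶ pullback q ((yon S).map k) :=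
    pullback.lift ((yon S).map jU ≫ p) ((yon S).map π') (by
      rw [Category.assoc, hq, ← Functor.map_comp, ← Functor.map_comp, hUO.w])
  have hp : IsPullback ((yon S).map jU) p' p m := by
    refine IsPullback.of_bot ?_ (pullback.lift_fst _ _ _).symm (IsPullback.of_hasPullback q _)
    rw [pullback.lift_snd, hq]
    exact hUO.map (yon S)
  have hp₂ : p' ≫ pullback.snd q ((yon S).map k) = (yon S).map π' := pullback.lift_snd _ _ _
  have sq' := isPullback_kernelPair_baseChange hp sq ht hs₁ (by
    apply pullback.hom_ext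
    · rw [Category.assoc, Category.assoc, pullback.lift_fst, ← Category.assoc, ← Category.assoc,
        ← Functor.map_comp, ← Functor.map_comp, hs₁, ← ht.w, Functor.map_comp, Functor.map_comp,
        Category.assoc, Category.assoc, sq.w]
    · rw [Category.assoc, Category.assoc, hp₂, ← Functor.map_comp, ← Functor.map_comp, hs₂])
  let V' : U'.left.Opens := V
  have : IsFinite (V'.ι ≫ π'.left) := by
    have e : π'.left ≫ pullback.snd τ.left g' = pullback.snd π₀.left g' := pullback.lift_snd _ _ _
    have : IsFinite ((V'.ι ≫ π'.left) ≫ pullback.snd τ.left g') := by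
      rw [Category.assoc, e]; exact hfin
    exact IsFinite.of_comp _ (pullback.snd τ.left g')
  obtain ⟨D, hD, g, hg⟩ := exists_open_iso (repWith_of_isPullback hp he)
    (repWith_of_isPullback hp hs) sq' hp₂ w' hinj' hinv' V'
  let DO : Over S := Over.mk (D.ι ≫ Q'.hom)
  let j : DO ⟶ Q' := Over.homMk D.ι rfl
  refine ⟨DO, j ≫ k, g ≫ m, ?_, ?_, ?_⟩
  · have : Etale j.left := inferInstanceAs (Etale D.ι)
    rw [Over.comp_left]; infer_instance
  · refine ⟨⟨π'.left v, hD v hv⟩, ?_⟩
    change (D.ι ≫ k.left) ⟨π'.left v, hD v hv⟩ = π.left u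
    rw [Scheme.Hom.comp_apply]
    change k.left (π'.left v) = π.left u
    rw [← Scheme.Hom.comp_apply, ← hU.w, Scheme.Hom.comp_apply]
    exact congrArg π.left hvu
  · rw [Functor.map_comp]
    exact hg.paste_horiz (IsPullback.of_hasPullback q ((yon S).map k))

/-- The affine case. -/
theorem exists_iso_of_sepLQF_chart {X : Sp S} {U R T : Over S} [IsAffine U.left] [IsAffine T.left]
    {p : (yon S).obj U ⟶ X} (he : RepWith @Etale p) (hs : RepWith @Surjective p) {t s : R ⟶ U}
    (sq : IsPullback ((yon S).map t) ((yon S).map s) p p) {π₀ : U ⟶ T}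
    (w₀ : t.left ≫ π₀.left = s.left ≫ π₀.left)
    [IsClosedImmersion (pullback.lift t.left s.left w₀)]
    [LocallyQuasiFinite π₀.left] [LocallyOfFiniteType π₀.left] :
    ∃ G : Over S, Nonempty ((yon S).obj G ≅ X) := by
  have : IsAffine R.left := isAffine_of_isAffineHom (pullback.lift t.left s.left w₀)
  obtain ⟨Q₀, hQ₀, π₁, τ₁, w₁, hτ₁, hinj, hinv⟩ := exists_invariants w₀
  let Q : Over S := Over.mk (τ₁ ≫ T.hom)
  have : IsAffine Q.left := hQ₀
  let π : U ⟶ Q := Over.homMk π₁ (by
    change π₁ ≫ τ₁ ≫ T.hom = U.hom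
    rw [← Category.assoc, hτ₁, Over.w π₀])
  let τ : Q ⟶ T := Over.homMk τ₁ rfl
  have w : t.left ≫ π.left = s.left ≫ π.left := w₁
  have : IsClosedImmersion (pullback.lift t.left s.left w) := by
    let c : pullback π.left π.left ⟶ pullback π₀.left π₀.left :=
      pullback.lift (pullback.fst _ _) (pullback.snd _ _) (by
        rw [← hτ₁]
        exact (Category.assoc _ _ _).symm.trans
          ((congrArg (· ≫ τ₁) pullback.condition).trans (Category.assoc _ _ _)))
    have : pullback.lift t.left s.left w ≫ c = pullback.lift t.left s.left w₀ := by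
      apply pullback.hom_ext
      · exact (Category.assoc _ _ _).trans (((congrArg (_ ≫ ·) (pullback.lift_fst _ _ _)).trans
          (pullback.lift_fst _ _ _)).trans (pullback.lift_fst _ _ _).symm)
      · exact (Category.assoc _ _ _).trans (((congrArg (_ ≫ ·) (pullback.lift_snd _ _ _)).trans
          (pullback.lift_snd _ _ _)).trans (pullback.lift_snd _ _ _).symm)
    have : IsClosedImmersion (pullback.lift t.left s.left w ≫ c) := this ▸ ‹_›
    exact IsClosedImmersion.of_comp _ c
  have := isLocallySurjective_of_etale p he hs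
  obtain ⟨hc⟩ := isColimit_of_isLocallySurjective sq
  obtain ⟨q, hq⟩ : ∃ q : X ⟶ (yon S).obj Q, p ≫ q = (yon S).map π := by
    refine ⟨Cofork.IsColimit.desc hc ((yon S).map π) ?_, Cofork.IsColimit.π_desc' hc _ _⟩
    rw [← Functor.map_comp, ← Functor.map_comp]
    congr 1
    ext1
    exact w
  have hd := fun u => exists_etale_section he hs sq hq w hinj hinv (π₀ := π₀) (τ := τ)
    (by ext1; exact hτ₁) u
  choose D d g hde hdu hdg using hd
  let O : ↥U.left → Q.left.Opens := fun u =>
    have := hde u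
    ⟨Set.range (d u).left, (d u).left.isOpenMap.isOpen_range⟩
  let OO : ↥U.left → Over S := fun u => Over.mk ((O u).ι ≫ Q.hom)
  let j : ∀ u, OO u ⟶ Q := fun u => Over.homMk (O u).ι rfl
  have hj : ∀ u, RepWith @IsOpenImmersion ((yon S).map (j u)) := fun u =>
    (repWith_yon_map_iff _ _).2 (inferInstanceAs (IsOpenImmersion (O u).ι))
  have hiso : ∀ u, IsIso (pullback.snd q ((yon S).map (j u))) := by
    intro u
    have := hde u
    let d₀ : D u ⟶ OO u := Over.homMk (IsOpenImmersion.lift (O u).ι (d u).left (by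
        rw [Scheme.Opens.range_ι]; exact le_refl _)) (by
      change _ ≫ (O u).ι ≫ Q.hom = _
      rw [← Category.assoc, IsOpenImmersion.lift_fac, Over.w])
    have hd₀ : d₀ ≫ j u = d u := by ext1; exact IsOpenImmersion.lift_fac _ _ _
    have hd₀' : d₀.left ≫ (O u).ι = (d u).left := IsOpenImmersion.lift_fac _ _ _
    have : Etale (d₀.left ≫ (O u).ι) := by rw [hd₀']; infer_instance
    have : Etale d₀.left := Etale.of_comp d₀.left (O u).ι
    have : Surjective d₀.left := ⟨fun y => by
      obtain ⟨x, hx⟩ := y.2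
      refine ⟨x, (O u).ι.isOpenEmbedding.injective ?_⟩
      rw [← Scheme.Hom.comp_apply, hd₀']
      exact hx⟩
    have : Sheaf.IsLocallySurjective ((yon S).map d₀) := isLocallySurjective_of_etale _
      ((repWith_yon_map_iff _ d₀).2 ‹_›) ((repWith_yon_map_iff _ d₀).2 ‹_›)
    let l : (yon S).obj (D u) ⟶ pullback q ((yon S).map (j u)) :=
      pullback.lift (g u) ((yon S).map d₀) (by
        rw [← Functor.map_comp, hd₀, (hdg u).w, Category.id_comp])
    have hl : IsPullback l ((yon S).map (𝟙 (D u))) (pullback.snd q ((yon S).map (j u)))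
        ((yon S).map d₀) := by
      refine IsPullback.of_right ?_ (by
        rw [CategoryTheory.Functor.map_id, Category.id_comp]; exact pullback.lift_snd _ _ _) (IsPullback.of_hasPullback q _).flip.flip
      rw [pullback.lift_fst, CategoryTheory.Functor.map_id, ← Functor.map_comp, hd₀]
      exact hdg u
    have : IsSeparated (𝟙 (D u) : D u ⟶ D u).left := inferInstanceAs (IsSeparated (𝟙 (D u).left))
    have : LocallyQuasiFinite (𝟙 (D u) : D u ⟶ D u).left :=
      inferInstanceAs (LocallyQuasiFinite (𝟙 (D u).left))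
    have : LocallyOfFiniteType (𝟙 (D u) : D u ⟶ D u).left :=
      inferInstanceAs (LocallyOfFiniteType (𝟙 (D u).left))
    exact Groth.AlgSp2.isIso_of_repWith
      (repWith_of_sepLQF (Q := MorphismProperty.isomorphisms Scheme.{u}) _ hl
        (inferInstanceAs (IsIso (𝟙 (D u).left))))
  let f : ∀ u, (yon S).obj (OO u) ⟶ X := fun u =>
    have := hiso u
    inv (pullback.snd q ((yon S).map (j u))) ≫ pullback.fst q ((yon S).map (j u))
  have hf : ∀ u, RepWith @IsOpenImmersion (f u) := fun u =>
    have := hiso u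
    repWith_comp (repWith_isIso _) (repWith_of_isPullback (IsPullback.of_hasPullback q _).flip (hj u))
  refine exists_iso_yon_of_openImmersions hf fun T₁ g₁ t₁ => ?_
  obtain ⟨u, hu⟩ := surjective_ofPt_of_repWith hs (Points.ofPt g₁ t₁)
  obtain ⟨V, fst, snd, sqV⟩ := exists_pullback_yon (hf u).rep g₁
  refine ⟨u, V, (yon S).map fst, snd, sqV, ?_⟩
  have := hiso u
  have := hde u
  let UO : Over S := Over.mk ((π.left ⁻¹ᵁ O u).ι ≫ U.hom)
  let jU : UO ⟶ U := Over.homMk (π.left ⁻¹ᵁ O u).ι rfl
  let πO : UO ⟶ OO u := Over.homMk (π.left ∣_ O u) (by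
    change (π.left ∣_ O u) ≫ (O u).ι ≫ Q.hom = (π.left ⁻¹ᵁ O u).ι ≫ U.hom
    rw [morphismRestrict_ι_assoc, Over.w π])
  have hπO : jU ≫ π = πO ≫ j u := by ext1; exact (morphismRestrict_ι _ _).symm
  let l : (yon S).obj UO ⟶ pullback q ((yon S).map (j u)) :=
    pullback.lift ((yon S).map jU ≫ p) ((yon S).map πO) (by
      rw [Category.assoc, hq, ← Functor.map_comp, hπO, Functor.map_comp])
  have e : (yon S).map πO ≫ f u = (yon S).map jU ≫ p := by
    rw [← pullback.lift_snd ((yon S).map jU ≫ p) ((yon S).map πO) (by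
      rw [Category.assoc, hq, ← Functor.map_comp, hπO, Functor.map_comp])]
    simp only [f, Category.assoc, IsIso.hom_inv_id_assoc, pullback.lift_fst]
  have hu' : u ∈ π.left ⁻¹ᵁ O u := hdu u
  obtain ⟨x, -, hx⟩ := (ofPt_eq_ofPt_iff sqV (πO.left ⟨u, hu'⟩) t₁).mp (by
    rw [← ofPt_comp_yon, e, ofPt_comp_yon]
    exact hu)
  exact ⟨x, hx⟩

end Groth.AlgSpBasic

namespace Groth.AlgSpBasic

variable {S : Scheme.{u}}

theorem isRepresentable_of_iso {X : Sp S} {G : Over S} (e : (yon S).obj G ≅ X) :
    X.obj.IsRepresentable := by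
  refine ⟨G, ⟨{
    homEquiv := fun {V} => Equiv.ulift.symm.trans
      (((sheafToPresheaf _ _).mapIso e).app (op V)).toEquiv
    homEquiv_comp := ?_ }⟩⟩
  intro V V' f g
  have := congr($(e.hom.hom.naturality f.op) ⟨g⟩)
  exact this

theorem isPullback_comp_mono {C : Type*} [Category C] {P A B D D' : C} {a : P ⟶ A} {b : P ⟶ B}
    {f : A ⟶ D} {g : B ⟶ D} (m : D ⟶ D') [Mono m] (h : IsPullback a b f g) :
    IsPullback a b (f ≫ m) (g ≫ m) :=
  ⟨⟨by rw [← Category.assoc, h.w, Category.assoc]⟩, ⟨PullbackCone.IsLimit.mk _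
    (fun c => h.lift c.fst c.snd (by
      have := c.condition
      rwa [← Category.assoc, ← Category.assoc, cancel_mono] at this))
    (fun c => h.lift_fst _ _ _) (fun c => h.lift_snd _ _ _)
    (fun c m' h₁ h₂ => h.hom_ext (by rw [h₁, h.lift_fst]) (by rw [h₂, h.lift_snd]))⟩⟩

/-- An algebraic space separated and locally quasi-finite over a scheme is a scheme. -/
theorem exists_iso_of_separated_lqf {X : Sp S} (hX : IsAlgSpace X) {T : Over S}
    {f : X ⟶ (yon S).obj T} (hqf : LocP (@LocallyQuasiFinite ⊓ @LocallyOfFiniteType) f)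
    (hsep : IsSeparatedMor f) : ∃ G : Over S, Nonempty ((yon S).obj G ≅ X) := by
  obtain ⟨U, p, hp, hps⟩ := hX.atlas
  obtain ⟨π, hπ⟩ := (yon S).map_surjective (p ≫ f)
  have main : ∀ u : ↥U.left, ∃ (G : Over S) (g : (yon S).obj G ⟶ X),
      RepWith @IsOpenImmersion g ∧ Points.ofPt p u ∈ Set.range (Points.ofPt g) := by
    intro u
    obtain ⟨O, hO, huO, -⟩ :=
      exists_isAffineOpen_mem_and_subset (X := T.left) (x := π.left u) (U := ⊤) trivial
    obtain ⟨W, hW, huW, hWO⟩ := exists_isAffineOpen_mem_and_subset (X := U.left) (x := u)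
      (U := π.left ⁻¹ᵁ O) huO
    let WO : Over S := Over.mk (W.ι ≫ U.hom)
    let TO : Over S := Over.mk (O.ι ≫ T.hom)
    let jW : WO ⟶ U := Over.homMk W.ι rfl
    let jO : TO ⟶ T := Over.homMk O.ι rfl
    let π' : WO ⟶ TO := Over.homMk (π.left.resLE O W hWO) (by
      change π.left.resLE O W hWO ≫ O.ι ≫ T.hom = W.ι ≫ U.hom
      rw [Scheme.Hom.resLE_comp_ι_assoc, Over.w π])
    have hπ' : π' ≫ jO = jW ≫ π := by ext1; exact Scheme.Hom.resLE_comp_ι π.left hWO
    let a := (yon S).map jW ≫ p
    have : Etale jW.left := inferInstanceAs (Etale W.ι)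
    have hae : RepWith @Etale a := repWith_comp ((repWith_yon_map_iff _ jW).2 ‹_›) hp
    have haf : a ≫ f = (yon S).map (jW ≫ π) := by
      rw [Functor.map_comp, Category.assoc, hπ]
    have hqf' := hqf a (𝟙 _) (jW ≫ π) hae (repWith_isIso _) (by rw [haf, Category.comp_id])
    let Y := openSub X (Set.range (Points.ofPt a))
    have hopen : IsOpen (Set.range (Points.ofPt a)) := (isOpenMap_ofPt_of_etale hae).isOpen_range
    have hι : RepWith @IsOpenImmersion (openSubι X (Set.range (Points.ofPt a))) :=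
      repWith_openSubι hopen
    have : Mono (openSubι X (Set.range (Points.ofPt a))) :=
      mono_of_repWith (fun _ _ g (_ : IsOpenImmersion g) => inferInstance) hι
    obtain ⟨pY, hpY⟩ := (openSub_exists_lift_iff X (Set.range (Points.ofPt a)) a).2
      fun w => ⟨w, rfl⟩
    have hpYe : RepWith @Etale pY := by
      refine repWith_of_isPullback (a := 𝟙 _) (b := openSubι X _) ?_ hae
      refine ⟨⟨by rw [Category.id_comp, hpY]⟩, ⟨PullbackCone.IsLimit.mk _ (fun c => c.fst)
        (fun c => Category.comp_id _) (fun c => ?_)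
        (fun c m h₁ _ => (Category.comp_id m).symm.trans h₁)⟩⟩
      rw [← cancel_mono (openSubι X (Set.range (Points.ofPt a))), Category.assoc, hpY]
      exact c.condition
    have hpYs : RepWith @Surjective pY := by
      refine repWith_surjective_of_ofPt hpYe.rep fun y => ?_
      obtain ⟨T₁, g₁, t₁, rfl⟩ := exists_ofPt y
      obtain ⟨w, hw⟩ := (openSub_exists_lift_iff X (Set.range (Points.ofPt a)) (g₁ ≫ openSubι X _)).1 ⟨g₁, rfl⟩ t₁
      obtain ⟨V, fst, snd, sqV⟩ := exists_pullback_yon hpYe.rep g₁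
      refine ⟨w, (ofPt_eq_ofPt_iff sqV _ _).2 ?_⟩
      have := isPullback_comp_mono (openSubι X (Set.range (Points.ofPt a))) sqV
      rw [hpY] at this
      exact (ofPt_eq_ofPt_iff this _ _).1 hw
    obtain ⟨R, t, s, sqR⟩ := exists_pullback_yon hpYe.rep pY
    have sqa := isPullback_comp_mono (openSubι X (Set.range (Points.ofPt a))) sqR
    rw [hpY] at sqa
    obtain ⟨w, hclosed⟩ := isClosedImmersion_of_isSeparatedMor hsep sqa haf
    have hπ'' : π'.left ≫ O.ι = (jW ≫ π).left := congrArg CommaMorphism.left hπ'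
    have w' : t.left ≫ π'.left = s.left ≫ π'.left := by
      rw [← cancel_mono O.ι, Category.assoc, Category.assoc, hπ'', w]
    have : IsClosedImmersion (pullback.lift t.left s.left w') := by
      let c : pullback π'.left π'.left ⟶ pullback (jW ≫ π).left (jW ≫ π).left :=
        pullback.lift (pullback.fst _ _) (pullback.snd _ _) (by
          rw [← hπ'', ← Category.assoc, pullback.condition, Category.assoc])
      have e : pullback.lift t.left s.left w' ≫ c = pullback.lift t.left s.left w := by
        apply pullback.hom_ext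
        · rw [Category.assoc, pullback.lift_fst, pullback.lift_fst, pullback.lift_fst]
        · rw [Category.assoc, pullback.lift_snd, pullback.lift_snd, pullback.lift_snd]
      have : IsClosedImmersion (pullback.lift t.left s.left w' ≫ c) := e ▸ hclosed
      have : IsSeparated c := by
        have : IsAffine WO.left := hW
        have : IsAffine TO.left := hO
        have : IsSeparated (c ≫ pullback.fst _ _) := by
          rw [pullback.lift_fst]; infer_instance
        exact IsSeparated.of_comp c (pullback.fst _ _)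
      exact IsClosedImmersion.of_comp _ c
    have : IsAffine WO.left := hW
    have : IsAffine TO.left := hO
    have : LocallyQuasiFinite π'.left := by
      have : LocallyQuasiFinite (π'.left ≫ O.ι) := by rw [hπ'']; exact hqf'.1
      exact LocallyQuasiFinite.of_comp π'.left O.ι
    have : LocallyOfFiniteType π'.left := by
      have : LocallyOfFiniteType (π'.left ≫ O.ι) := by rw [hπ'']; exact hqf'.2
      exact locallyOfFiniteType_of_comp π'.left O.ι
    obtain ⟨G, ⟨e⟩⟩ := exists_iso_of_sepLQF_chart hpYe hpYs sqR w'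
    refine ⟨G, e.hom ≫ openSubι X _, repWith_comp (repWith_isIso _) hι, ?_⟩
    obtain ⟨l, hl⟩ := (yon S).map_surjective (pY ≫ e.inv)
    refine ⟨l.left ⟨u, huW⟩, ?_⟩
    rw [← ofPt_comp_yon, hl, Category.assoc, Iso.inv_hom_id_assoc, hpY, ofPt_comp_yon]
    rfl
  choose G g hg hgu using main
  refine exists_iso_yon_of_openImmersions hg fun T₁ g₁ t₁ => ?_
  obtain ⟨u, hu⟩ := surjective_ofPt_of_repWith hps (Points.ofPt g₁ t₁)
  obtain ⟨V, fst, snd, sqV⟩ := exists_pullback_yon (hg u).rep g₁
  refine ⟨u, V, (yon S).map fst, snd, sqV, ?_⟩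
  obtain ⟨z, hz⟩ := hgu u
  obtain ⟨x, -, hx⟩ := (ofPt_eq_ofPt_iff sqV z t₁).mp (hz.trans hu)
  exact ⟨x, hx⟩

/-- A separated locally quasi-finite morphism of algebraic spaces is representable. -/
theorem representable_of_separated_lqf {X Y : Sp S} (hX : IsAlgSpace X) (hY : IsAlgSpace Y)
    {f : X ⟶ Y} (hqf : LocP (@LocallyQuasiFinite ⊓ @LocallyOfFiniteType) f)
    (hsep : IsSeparatedMor f) : Representable f := by
  intro T g
  have sq := IsPullback.of_hasPullback f g
  have hT : IsAlgSpace ((yon S).obj T) := ((ofScheme S).obj T).property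
  have hP : IsAlgSpace (pullback f g) := isAlgSpace_of_isPullback sq hY.diag hX hT
  have hsep' : IsSeparatedMor (pullback.snd f g) :=
    repWith_of_isPullback (isPullback_diagonal_baseChange sq) hsep
  obtain ⟨G, ⟨e⟩⟩ := exists_iso_of_separated_lqf hP (locP_of_isPullback hX hY hT sq hqf) hsep'
  obtain ⟨snd, hsnd⟩ := (yon S).map_surjective (e.hom ≫ pullback.snd f g)
  exact ⟨G, snd, e.hom ≫ pullback.fst f g,
    sq.of_iso e.symm (Iso.refl _) (Iso.refl _) (Iso.refl _)
      (by simp) (by simp [hsnd]) (by simp) (by simp)⟩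

end Groth.AlgSpBasic
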