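import Groth.Agent.AlgSpBasic.AffineMor
import Groth.Agent.AlgSpBasic.OpenSub
import Groth.Agent.AlgSpBasic.Immersion
import Groth.Agent.AlgSp2.MonoEtale

/-!
# Descent of immersions along etale coverings of the target
-/

set_option autoImplicit false
set_option backward.isDefEq.respectTransparency.types false
universe u

open CategoryTheory CategoryTheory.Limits AlgebraicGeometry Opposite AlgSp Topology

namespace Groth.AlgSpBasic

noncomputable section

variable {S : Scheme.{u}} {X Y : Sp S} {V : Over S} {p : (yon S).obj V ⟶ Y} {P : Sp S}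
  {fst : P ⟶ X} {snd : P ⟶ (yon S).obj V} {f : X ⟶ Y}

theorem isClosedImmersion_le_isAffineHom :
    (@IsClosedImmersion : MorphismProperty Scheme.{u}) ≤ @IsAffineHom :=
  fun _ _ g (_ : IsClosedImmersion g) => inferInstance

theorem repWith_isClosedImmersion_of_cover (hY : IsAlgSpace Y) (hp : RepWith @Etale p)
    (hps : RepWith @Surjective p) (sq : IsPullback fst snd f p)
    (h : RepWith @IsClosedImmersion snd) : RepWith @IsClosedImmersion f :=
  repWith_of_affWith (affWith_of_cover hY hp hps sq
    (affWith_of_repWith isClosedImmersion_le_isAffineHom h))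

theorem mono_of_cover (hX : IsAlgSpace X) (hY : IsAlgSpace Y) (hp : RepWith @Etale p)
    (hps : RepWith @Surjective p) (sq : IsPullback fst snd f p) [Mono snd] : Mono f := by
  have hi : RepWith (MorphismProperty.isomorphisms Scheme.{u}) (pullback.diagonal snd) :=
    repWith_isIso _
  have : IsIso (pullback.diagonal f) :=
    Groth.AlgSp2.isIso_of_repWith (repWith_diagonal_of_cover _ hX hY hp hps sq hi)
  refine ⟨fun {Z} a b e => ?_⟩
  have h₁ : pullback.lift a b e = (pullback.lift a b e ≫ inv (pullback.diagonal f)) ≫
      pullback.diagonal f := by rw [Category.assoc, IsIso.inv_hom_id, Category.comp_id]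
  have h₂ := h₁ =≫ pullback.fst f f
  have h₃ := h₁ =≫ pullback.snd f f
  rw [pullback.lift_fst, Category.assoc, pullback.diagonal_fst, Category.comp_id] at h₂
  rw [pullback.lift_snd, Category.assoc, pullback.diagonal_snd, Category.comp_id] at h₃
  exact h₂.trans h₃.symm

theorem repWith_isOpenImmersion_of_cover (hX : IsAlgSpace X) (hY : IsAlgSpace Y)
    (hp : RepWith @Etale p) (hps : RepWith @Surjective p) (sq : IsPullback fst snd f p)
    (h : RepWith @IsOpenImmersion snd) : RepWith @IsOpenImmersion f := by
  have : Mono snd := mono_of_repWith (fun _ _ g (_ : IsOpenImmersion g) => inferInstance) h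
  have := mono_of_cover hX hY hp hps sq
  exact Groth.AlgSp2.repWith_isOpenImmersion_of_mono_etale hX hY
    (locP_of_target_cover hX hY hp hps sq
      (locP_of_repWith (repWith_mono (fun _ _ g (_ : IsOpenImmersion g) =>
        (inferInstance : Etale g)) h)))

theorem repWith_isImmersion_of_cover (hX : IsAlgSpace X) (hY : IsAlgSpace Y)
    (hp : RepWith @Etale p) (hps : RepWith @Surjective p) (sq : IsPullback fst snd f p)
    (h : RepWith @IsImmersion snd) : RepWith @IsImmersion f := by
  have : Mono snd := mono_of_repWith (fun _ _ g (_ : IsImmersion g) => inferInstance) h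
  have := mono_of_cover hX hY hp hps sq
  -- the image is locally closed
  obtain ⟨V', i, v, hV⟩ := h.rep (𝟙 _)
  have hi : IsImmersion i.left := h.property _ v i hV
  have sqV : IsPullback (v ≫ fst) ((yon S).map i) f p := by
    have := hV.paste_horiz sq
    rwa [Category.id_comp] at this
  have hlc : IsLocallyClosed (Set.range (Points.map f)) := by
    rw [isLocallyClosed_iff_isOpen_coborder,
      ← (isQuotientMap_ofPt hp hps).isCoinducing.isOpen_preimage,
      ← coborder_preimage (isOpenMap_ofPt_of_etale hp) (Points.continuous_ofPt p),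
      ← range_left_eq_preimage sqV]
    exact i.left.isLocallyClosed_range.isOpen_coborder
  let W : Set (Points Y) := coborder (Set.range (Points.map f))
  have hW : IsOpen W := hlc.isOpen_coborder
  have hO := isAlgSpace_openSub hY hW
  have hj := repWith_openSubι (X := Y) hW
  have : Mono (openSubι Y W) :=
    mono_of_repWith (fun _ _ g (_ : IsOpenImmersion g) => inferInstance) hj
  obtain ⟨f', hf'⟩ := exists_lift_of_range_openImmersion hX hj f
    (by rw [range_map_openSubι]; exact subset_coborder)
  obtain ⟨V₁, c, b, hb⟩ := hj.rep p
  have : IsOpenImmersion c.left := hj.property p b c hb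
  obtain ⟨M, m₁, m₂, hM⟩ := exists_pullback_of_diag (IsAlgSpace.yon_obj V).diag ((yon S).map i)
    ((yon S).map c)
  have sqM : IsPullback ((yon S).map m₁ ≫ v ≫ fst) ((yon S).map m₂) f' b := by
    refine IsPullback.of_right ?_ ?_ (isPullback_of_mono_comp hf')
    · rw [Category.comp_id, hb.w]
      exact hM.paste_horiz sqV
    · rw [← cancel_mono (openSubι Y W)]
      calc (((yon S).map m₁ ≫ v ≫ fst) ≫ f') ≫ openSubι Y W
          = (yon S).map m₁ ≫ (v ≫ fst) ≫ f := by rw [Category.assoc, hf', Category.assoc]
        _ = ((yon S).map m₁ ≫ (yon S).map i) ≫ p := by rw [sqV.w, Category.assoc]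
        _ = ((yon S).map m₂ ≫ (yon S).map c) ≫ p := by rw [hM.w]
        _ = ((yon S).map m₂ ≫ b) ≫ openSubι Y W := by rw [Category.assoc, ← hb.w, Category.assoc]
  have hm : IsImmersion m₂.left :=
    MorphismProperty.of_isPullback (isPullback_left (isPullback_of_yon hM)) hi
  have hcl : IsClosed (Set.range (Points.map f')) := by
    have hsub : Set.range (Points.map f') =
        Points.map (openSubι Y W) ⁻¹' closure (Set.range (Points.map f)) := by
      ext y
      constructor
      · rintro ⟨x, rfl⟩
        exact subset_closure ⟨x, by rw [← Points.map_comp, hf']⟩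
      · intro hy
        have hyW : Points.map (openSubι Y W) y ∈ W :=
          (range_map_openSubι (X := Y) (W := W)).le ⟨y, rfl⟩
        obtain ⟨x, hx⟩ := (closure_inter_coborder
          (s := Set.range (Points.map f))).le ⟨hy, hyW⟩
        refine ⟨x, ?_⟩
        apply (isEmbedding_map_of_immersion hY (repWith_mono
          (fun _ _ g (_ : IsOpenImmersion g) => (inferInstance : IsImmersion g)) hj)).1.injective
        rw [← Points.map_comp, hf', hx]
    rw [hsub]
    exact isClosed_closure.preimage (Points.continuous_map _)
  have hci : IsClosedImmersion m₂.left := by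
    refine IsClosedImmersion.of_isPreimmersion _ ?_
    rw [range_left_eq_preimage sqM]
    exact hcl.preimage (Points.continuous_ofPt b)
  have h' : RepWith @IsClosedImmersion f' := repWith_isClosedImmersion_of_cover hO
    (repWith_of_isPullback hb.flip hp) (repWith_of_isPullback hb.flip hps) sqM
    ((repWith_yon_map_iff _ m₂).2 hci)
  rw [← hf']
  exact repWith_comp (repWith_mono (fun _ _ g (_ : IsClosedImmersion g) =>
    (inferInstance : IsImmersion g)) h') (repWith_mono (fun _ _ g (_ : IsOpenImmersion g) =>
    (inferInstance : IsImmersion g)) hj)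

end

end Groth.AlgSpBasic
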