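import Groth.Agent.AlgSpBasic.DecentTop
import Groth.Agent.AlgSp2.LocallySeparated

/-!
# Criteria for decency; locally Noetherian decent spaces are quasi-separated
-/

set_option autoImplicit false
set_option backward.isDefEq.respectTransparency.types false
universe u

open CategoryTheory CategoryTheory.Limits AlgebraicGeometry Opposite TopologicalSpace AlgSp

namespace Groth.AlgSpBasic

variable {S : Scheme.{u}} {X : Sp S}

/-- Finiteness of fibres over `x` passes from a jointly surjective family of charts to affine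
charts. -/
theorem finiteAt_of_family {x : AlgSp.Points X} {ι : Type u} (U : ι → Over S)
    (φ : ∀ i, (yon S).obj (U i) ⟶ X) (hφ : ∀ i, RepWith @Etale (φ i))
    (hsurj : ∀ y : AlgSp.Points X, ∃ (i : ι) (v : ↥(U i).left), AlgSp.Points.ofPt (φ i) v = y)
    (hfin : ∀ i, (AlgSp.Points.ofPt (φ i) ⁻¹' {x}).Finite) : FiniteAt X x := by
  intro V ψ hV hψ
  have key : ∀ v : ↥V.left, ∃ O : Set ↥V.left, IsOpen O ∧ v ∈ O ∧
      (O ∩ AlgSp.Points.ofPt ψ ⁻¹' {x}).Finite := by
    intro v
    obtain ⟨i, u, hu⟩ := hsurj (AlgSp.Points.ofPt ψ v)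
    obtain ⟨Q, qU, qV, sq⟩ := exists_pullback_yon (hφ i).rep ψ
    obtain ⟨q, hqU, hqV⟩ := (ofPt_eq_ofPt_iff sq u v).1 hu
    have : Etale qU.left := repWith_fst_of_isPullback sq.flip hψ
    have : Etale qV.left := repWith_fst_of_isPullback sq (hφ i)
    obtain ⟨A, hA, huA, -⟩ :=
      exists_isAffineOpen_mem_and_subset (X := (U i).left) (x := u) (U := ⊤) trivial
    obtain ⟨K, hK, hqK, hKA⟩ := exists_isAffineOpen_mem_and_subset (X := Q.left) (x := q)
      (U := qU.left ⁻¹ᵁ A) (show qU.left q ∈ A from hqU ▸ huA)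
    let g : (K : Scheme) ⟶ (A : Scheme) := qU.left.resLE A K hKA
    have : IsAffine (A : Scheme) := hA
    have : IsAffine (K : Scheme) := hK
    have : Etale g := by
      have : Etale (g ≫ A.ι) := by rw [Scheme.Hom.resLE_comp_ι]; infer_instance
      exact Etale.of_comp g A.ι
    have : LocallyQuasiFinite g := Groth.DescentBase.locallyQuasiFinite_of_etale g
    refine ⟨qV.left '' K, etale_isOpenMap qV.left ‹_› _ K.2, ⟨q, hqK, hqV⟩, ?_⟩
    have hF : {k : (K : Scheme) | AlgSp.Points.ofPt (φ i) (A.ι (g k)) = x}.Finite :=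
      ((hfin i).preimage A.ι.isOpenEmbedding.injective.injOn).preimage' fun a _ =>
        g.finite_preimage_singleton a
    refine (hF.image fun k => qV.left k.1).subset ?_
    rintro _ ⟨⟨k, hk, rfl⟩, hkx⟩
    refine ⟨⟨k, hk⟩, ?_, rfl⟩
    show AlgSp.Points.ofPt (φ i) (A.ι (g ⟨k, hk⟩)) = x
    rw [← Scheme.Hom.comp_apply, Scheme.Hom.resLE_comp_ι, Scheme.Hom.comp_apply]
    exact ((ofPt_eq_ofPt_iff sq _ _).2 ⟨k, rfl, rfl⟩).trans hkx
  choose O hO hvO hfO using key
  have := hV
  obtain ⟨T, hT⟩ := isCompact_univ.elim_finite_subcover O hO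
    (fun v _ => Set.mem_iUnion.2 ⟨v, hvO v⟩)
  refine (T.finite_toSet.biUnion fun v _ => hfO v).subset fun w hw => ?_
  obtain ⟨v, hv, hwv⟩ := Set.mem_iUnion₂.1 (hT (Set.mem_univ w))
  exact Set.mem_biUnion (Finset.mem_coe.2 hv) ⟨hwv, hw⟩

/-- Finite fibres over a point, one of them finite also in the kernel pair, give a quasi-compact
monomorphism representing it. -/
theorem exists_monoQC_of_finiteAt (hX : IsAlgSpace X) {x : AlgSp.Points X} (hx : FiniteAt X x)
    {U R : Over S} {φ : (yon S).obj U ⟶ X} (hφ : RepWith @Etale φ) {s t : R ⟶ U}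
    (sqR : IsPullback ((yon S).map t) ((yon S).map s) φ φ) {u : ↥U.left}
    (hu : AlgSp.Points.ofPt φ u = x) (hfin : {r : ↥R.left | s.left r = u ∧ t.left r = u}.Finite) :
    ∃ p : FieldPt X, AlgSp.Points.mk p = x ∧ Mono p.toHom ∧ RepWith @QuasiCompact p.toHom := by
  obtain ⟨p, hp, hm⟩ := Groth.AlgSp2.exists_mono_of_finite_fibre hφ sqR rfl hfin
  refine ⟨p, hp.trans hu, hm,
    Groth.AlgSp2.repWith_qc_of_finite_fibres hX p fun A P a e c hA ha sqP => ?_⟩
  have : Mono e := (yon S).mono_of_mono_map (Groth.AlgSp2.mono_fst_of_isPullback sqP)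
  have : Mono e.left := inferInstanceAs (Mono ((Over.forget S).map e))
  have hf := hx A a hA ha
  have := hf.to_subtype
  refine Finite.of_injective (β := ↥(AlgSp.Points.ofPt a ⁻¹' {x})) (fun z => ⟨e.left z, ?_⟩)
    fun z z' h => e.left.injective (congrArg Subtype.val h)
  show AlgSp.Points.ofPt a (e.left z) = x
  exact ((ofPt_eq_ofPt_iff sqP _ _).2 ⟨z, rfl, rfl⟩).trans
    ((AlgSp.Points.ofPt_toHom p _).trans (hp.trans hu))

/-- A quasi-separated space is decent. -/
theorem isDecent_of_qs (hX : IsAlgSpace X) (hqs : IsQuasiSeparatedSp X) : IsDecent X := by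
  intro x
  obtain ⟨U, p, hp, hps⟩ := hX.atlas
  have key : ∀ u : ↥U.left, ∃ (A : Over S) (b : (yon S).obj A ⟶ X),
      RepWith @Etale b ∧ AlgSp.Points.ofPt p u ∈ Set.range (AlgSp.Points.ofPt b) ∧
      (AlgSp.Points.ofPt b ⁻¹' {x}).Finite ∧
      ∀ (R : Over S) (t s : R ⟶ A), IsPullback ((yon S).map t) ((yon S).map s) b b →
        ∀ w, (s.left ⁻¹' {w}).Finite := by
    intro u
    obtain ⟨O, hO, huO, -⟩ :=
      exists_isAffineOpen_mem_and_subset (X := S) (x := U.hom u) (U := ⊤) trivial
    obtain ⟨A, hA, huA, hAO⟩ :=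
      exists_isAffineOpen_mem_and_subset (X := U.left) (x := u) (U := U.hom ⁻¹ᵁ O) huO
    let AO : Over S := Over.mk (A.ι ≫ U.hom)
    let jA : AO ⟶ U := Over.homMk A.ι rfl
    have : Etale jA.left := inferInstanceAs (Etale A.ι)
    have : IsAffine AO.left := hA
    have ha : RepWith @Etale ((yon S).map jA ≫ p) :=
      repWith_comp ((repWith_yon_map_iff _ jA).2 ‹_›) hp
    have hsfin : ∀ (R : Over S) (t s : R ⟶ AO), IsPullback ((yon S).map t) ((yon S).map s)
        ((yon S).map jA ≫ p) ((yon S).map jA ≫ p) → ∀ w, (s.left ⁻¹' {w}).Finite := by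
      intro R t s sq w
      have : CompactSpace ↥R.left :=
        compactSpace_kernelPair_of_qs hqs hO (Scheme.Hom.resLE_comp_ι U.hom hAO) sq
      have : Etale s.left := repWith_fst_of_isPullback sq ha
      have : LocallyQuasiFinite s.left := Groth.DescentBase.locallyQuasiFinite_of_etale s.left
      exact s.left.finite_preimage_singleton w
    refine ⟨AO, (yon S).map jA ≫ p, ha, ⟨⟨u, huA⟩, by rw [ofPt_comp_yon]; rfl⟩, ?_, hsfin⟩
    obtain ⟨R, t, s, sq⟩ := exists_pullback_yon ha.rep ((yon S).map jA ≫ p)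
    by_cases hne : ∃ w : ↥AO.left, AlgSp.Points.ofPt ((yon S).map jA ≫ p) w = x
    · obtain ⟨w, hw⟩ := hne
      refine ((hsfin R t s sq w).image t.left).subset fun v hv => ?_
      obtain ⟨r, hrt, hrs⟩ := (ofPt_eq_ofPt_iff sq v w).1
        ((show AlgSp.Points.ofPt _ v = x from hv).trans hw.symm)
      exact ⟨r, hrs, hrt⟩
    · exact Set.Finite.subset Set.finite_empty fun v hv => hne ⟨v, hv⟩
  choose A b hb hub hbfin hpair using key
  obtain ⟨u, hu⟩ := surjective_ofPt_of_repWith hps x
  obtain ⟨w, hw⟩ := hub u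
  obtain ⟨R, t, s, sq⟩ := exists_pullback_yon (hb u).rep (b u)
  refine exists_monoQC_of_finiteAt hX (finiteAt_of_family A b hb (fun y => ?_) hbfin) (hb u) sq
    (u := w) (hw.trans hu) ((hpair u R t s sq w).subset fun r hr => hr.1)
  obtain ⟨u', rfl⟩ := surjective_ofPt_of_repWith hps y
  obtain ⟨w', hw'⟩ := hub u'
  exact ⟨u', w', hw'⟩

/-- A separated etale scheme with finite fibres over a Noetherian quasi-separated scheme is
quasi-compact. -/
theorem compactSpace_of_finite_fibres {Q A : Scheme.{u}} (f : Q ⟶ A) [Etale f] [IsSeparated f]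
    [IsLocallyNoetherian A] [CompactSpace A] (hfin : ∀ a, (f ⁻¹' {a}).Finite) : CompactSpace Q := by
  classical
  have : NoetherianSpace A := by
    have : IsNoetherian A := {}
    infer_instance
  suffices h : ∀ C : Closeds A, IsCompact (f ⁻¹' (C : Set A)) from ⟨by simpa using h ⊤⟩
  intro C
  induction C using WellFoundedLT.induction with
  | ind C ih =>
    rcases (C : Set A).eq_empty_or_nonempty with h | hne
    · rw [h]; simp
    by_cases hirr : IsPreirreducible (C : Set A)
    · have hCi : IsIrreducible (C : Set A) := ⟨hne, hirr⟩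
      let η := hCi.genericPoint
      have hη : IsGenericPoint η (C : Set A) :=
        C.isClosed.closure_eq ▸ hCi.isGenericPoint_genericPoint_closure
      obtain ⟨P₀, hP₀, hsub⟩ := exists_compact_opens_of_finite (hfin η)
      obtain ⟨n, hn⟩ := exists_notMem_many f η (hfin η)
      have hex : ∃ k, η ∉ many k f := ⟨n, hn⟩
      obtain ⟨m, hm⟩ : ∃ m, Nat.find hex = m + 1 :=
        Nat.exists_eq_succ_of_ne_zero fun e => (e ▸ Nat.find_spec hex) trivial
      have hmax : η ∉ many (m + 1) f := hm ▸ Nat.find_spec hex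
      have hηm : η ∈ many m f := not_not.1 (Nat.find_min hex (hm.symm ▸ Nat.lt_succ_self m))
      have : IsLocallyNoetherian Q := LocallyOfFiniteType.isLocallyNoetherian f
      have : CompactSpace (P₀ : Scheme) := isCompact_iff_compactSpace.1 hP₀
      let D := many m (P₀.ι ≫ f)
      have hD : IsOpen D := isOpen_many m _
      have hηD : η ∈ D := by
        rw [mem_many_iff_geomPt] at hηm
        obtain ⟨l, hl, hlf⟩ := hηm
        have hr : ∀ i, Set.range (l i) ⊆ Set.range P₀.ι := by
          rintro i _ ⟨z, rfl⟩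
          rw [Scheme.Opens.range_ι]
          refine hsub ?_
          rw [Set.mem_preimage, Set.mem_singleton_iff, ← Scheme.Hom.comp_apply, hlf,
            Subsingleton.elim z default, geomPt_default]
        show η ∈ many m (P₀.ι ≫ f)
        rw [mem_many_iff_geomPt]
        refine ⟨fun i => IsOpenImmersion.lift P₀.ι (l i) (hr i), fun i j h => hl ?_,
          fun i => by rw [IsOpenImmersion.lift_fac_assoc, hlf]⟩
        simpa using congrArg (· ≫ P₀.ι) h
      -- over `C ∩ D` all preimages are in `P₀`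
      have hle : f ⁻¹' ((C : Set A) ∩ D) ⊆ (P₀ : Set Q) := by
        rintro q ⟨hqC, hqD⟩
        by_contra hqP
        have hnm : f q ∉ many (m + 1) f := fun h =>
          hmax ((hη.specializes hqC).mem_open (isOpen_many _ f) h)
        have hpm : f q ∈ many m (P₀.ι ≫ f) := hqD
        rw [mem_many_iff_geomPt] at hpm
        obtain ⟨l, hl, hlf⟩ := hpm
        obtain ⟨l₀, hl₀, hl₀p⟩ := Scheme.exists_fac_of_etale_of_isSepClosed f (geomPt (f q)) q
          (geomPt_default (f q)).symm
        refine hnm ?_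
        rw [mem_many_iff_geomPt]
        refine ⟨Fin.cons l₀ fun i => l i ≫ P₀.ι, Fin.cons_injective_iff.2 ⟨?_, ?_⟩, fun i => ?_⟩
        · rintro ⟨i, hi⟩
          refine hqP ?_
          rw [← hl₀p, ← hi, Scheme.Hom.comp_apply]
          exact (l i default).2
        · intro i j h
          exact hl ((cancel_mono P₀.ι).1 h)
        · induction i using Fin.cases with
          | zero => exact hl₀
          | succ i => rw [Fin.cons_succ, Category.assoc, hlf]
      have hc1 : IsCompact (f ⁻¹' ((C : Set A) ∩ D)) := by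
        have : IsLocallyNoetherian (P₀ : Scheme) := inferInstance
        have : IsNoetherian (P₀ : Scheme) := {}
        have : NoetherianSpace ↥(P₀ : Scheme) := inferInstance
        have h := (NoetherianSpace.isCompact (P₀.ι ⁻¹' (f ⁻¹' ((C : Set A) ∩ D)))).image
          P₀.ι.continuous
        rwa [Set.image_preimage_eq_inter_range, Scheme.Opens.range_ι,
          Set.inter_eq_left.2 hle] at h
      have hlt : (⟨(C : Set A) ∩ Dᶜ, C.isClosed.inter hD.isClosed_compl⟩ : Closeds A) < C :=
        ⟨Set.inter_subset_left, fun h => (h hη.mem).2 hηD⟩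
      have h := hc1.union (ih _ hlt)
      rw [← Set.preimage_union] at h
      convert h using 2
      exact (Set.inter_union_compl _ D).symm
    · rw [isPreirreducible_iff_isClosed_union_isClosed] at hirr
      push Not at hirr
      obtain ⟨z₁, z₂, h₁, h₂, hC, hn₁, hn₂⟩ := hirr
      have h := (ih ⟨(C : Set A) ∩ z₁, C.isClosed.inter h₁⟩
          ⟨Set.inter_subset_left, fun h => hn₁ fun a ha => (h ha).2⟩).union
        (ih ⟨(C : Set A) ∩ z₂, C.isClosed.inter h₂⟩
          ⟨Set.inter_subset_left, fun h => hn₂ fun a ha => (h ha).2⟩)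
      rw [← Set.preimage_union] at h
      convert h using 2
      exact ((Set.inter_union_distrib_left _ z₁ z₂).symm.trans (Set.inter_eq_left.2 hC)).symm

end Groth.AlgSpBasic
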