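import Groth.Agent.AlgSpBasic.CodimZeroFibre
import Groth.Agent.AlgSpBasic.DecentCriteria

/-!
# Finite fibres over points of codimension zero
-/

set_option autoImplicit false
set_option backward.isDefEq.respectTransparency.types false
universe u

open CategoryTheory CategoryTheory.Limits AlgebraicGeometry Opposite TopologicalSpace AlgSp

namespace Groth.AlgSpBasic

variable {S : Scheme.{u}} {X Y : Sp S}

/-- A finite set of points in an open set has a quasi-compact open neighbourhood inside it. -/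
theorem exists_compact_open_nhd (hX : IsAlgSpace X) {F : Set (AlgSp.Points X)} (hF : F.Finite)
    {Ω : Set (AlgSp.Points X)} (hΩ : IsOpen Ω) (h : F ⊆ Ω) :
    ∃ K : Set (AlgSp.Points X), IsOpen K ∧ IsCompact K ∧ F ⊆ K ∧ K ⊆ Ω := by
  obtain ⟨U, p, hp, hps⟩ := hX.atlas
  have key : ∀ x ∈ F, ∃ K : Set (AlgSp.Points X), IsOpen K ∧ IsCompact K ∧ x ∈ K ∧ K ⊆ Ω := by
    intro x hx
    obtain ⟨u, rfl⟩ := surjective_ofPt_of_repWith hps x
    obtain ⟨A, hA, huA, hAΩ⟩ := exists_isAffineOpen_mem_and_subset (X := U.left) (x := u)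
      (U := ⟨AlgSp.Points.ofPt p ⁻¹' Ω, hΩ.preimage (AlgSp.Points.continuous_ofPt p)⟩) (h hx)
    exact ⟨AlgSp.Points.ofPt p '' (A : Set ↥U.left), (isOpenMap_ofPt_of_etale hp) _ A.2,
      hA.isCompact.image (AlgSp.Points.continuous_ofPt p), ⟨u, huA, rfl⟩,
      fun _ ⟨a, ha, e⟩ => e ▸ hAΩ ha⟩
  choose K hKo hKc hxK hKΩ using key
  have := hF.to_subtype
  exact ⟨⋃ x : F, K x x.2, isOpen_iUnion fun x => hKo x x.2,
    isCompact_iUnion fun x => hKc x x.2,
    fun x hx => Set.mem_iUnion.2 ⟨⟨x, hx⟩, hxK x hx⟩, Set.iUnion_subset fun x => hKΩ x x.2⟩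

/-- A morphism between quasi-separated spaces is quasi-separated. -/
theorem isQuasiSeparatedMor_of_sp (hX : IsQuasiSeparatedSp X) (f : X ⟶ Y) :
    IsQuasiSeparatedMor f := by
  have : Mono (prod.lift (pullback.fst f f) (pullback.snd f f)) := ⟨fun a b h => by
    apply pullback.hom_ext
    · simpa [prod.lift_fst] using h =≫ prod.fst
    · simpa [prod.lift_snd] using h =≫ prod.snd⟩
  have e : pullback.diagonal f ≫ prod.lift (pullback.fst f f) (pullback.snd f f) =
      Limits.diag X := by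
    apply prod.hom_ext <;> simp [prod.lift_fst, prod.lift_snd]
  exact repWith_of_isPullback (isPullback_of_mono_comp e) hX

theorem isQuasiSeparatedSp_of_openImmersion (hqs : IsQuasiSeparatedSp X) {i : Y ⟶ X}
    (hi : RepWith @IsOpenImmersion i) : IsQuasiSeparatedSp Y := by
  have : Mono i := mono_of_repWith (fun _ _ g (_ : IsOpenImmersion g) => inferInstance) hi
  have : Mono (prod.map i i) := ⟨fun a b h => by
    apply prod.hom_ext <;> rw [← cancel_mono i]
    · simpa [prod.map_fst] using h =≫ prod.fst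
    · simpa [prod.map_snd] using h =≫ prod.snd⟩
  have e : Limits.diag Y ≫ prod.map i i = i ≫ Limits.diag X := by
    apply prod.hom_ext <;> simp [prod.lift_fst, prod.lift_snd]
  refine repWith_of_isPullback (a := i) (b := prod.map i i) ?_ hqs
  refine ⟨⟨e.symm⟩, ⟨PullbackCone.IsLimit.mk _ (fun c => c.snd ≫ prod.fst) (fun c => ?_)
    (fun c => ?_) (fun c m _ h₂ => ?_)⟩⟩
  · have h := c.condition =≫ prod.fst
    simp only [Category.assoc, prod.lift_fst, prod.map_fst, Category.comp_id] at h ⊢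
    exact h.symm
  · have h₁ := c.condition =≫ prod.fst
    have h₂ := c.condition =≫ prod.snd
    simp only [Category.assoc, prod.lift_fst, prod.lift_snd, prod.map_fst, prod.map_snd,
      Category.comp_id] at h₁ h₂
    apply prod.hom_ext
    · simp [prod.lift_fst]
    · rw [← cancel_mono i]
      simp only [Category.assoc, prod.lift_snd, Category.comp_id]
      rw [← h₁, h₂]
  · rw [← h₂]; simp [prod.lift_fst]

/-- A finite morphism has finite fibres on points. -/
theorem finite_fibre_of_isFiniteMor {X Y : Space S} {f : X ⟶ Y} (hf : IsFiniteMor f.hom)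
    (y : AlgSp.Points Y.obj) : (AlgSp.Points.map f.hom ⁻¹' {y}).Finite := by
  obtain ⟨U, p, hp, hps⟩ := Y.property.atlas
  obtain ⟨u, rfl⟩ := surjective_ofPt_of_repWith hps y
  obtain ⟨W, w, fst, sq⟩ := (isFiniteMor_iff_repWith.1 hf).rep p
  have : IsFinite w.left := (isFiniteMor_iff_repWith.1 hf).property p fst w sq
  refine ((w.left.finite_preimage_singleton u).image (AlgSp.Points.ofPt fst)).subset fun x hx => ?_
  obtain ⟨z, hz₁, hz₂⟩ := exists_point_of_isPullback sq x (AlgSp.Points.ofScheme U u)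
    ((show AlgSp.Points.map f.hom x = _ from hx).trans (ofPt_eq_map p u))
  obtain ⟨z', rfl⟩ := (AlgSp.Points.schemeHomeo W).surjective z
  refine ⟨z', ?_, (ofPt_eq_map fst z').trans hz₁⟩
  exact ofScheme_injective U ((AlgSp.Points.map_yon_map_apply w z').symm.trans hz₂)

/-- Finiteness of a fibre over a point of codimension zero in terms of open subspaces. -/
theorem finite_fibre_iff_finite_nhd [QuasiSeparatedSpace ↥S] {X Y : Space S} (f : X ⟶ Y)
    (hqs : IsQuasiSeparatedMor f.hom) (hft : LocP @LocallyOfFiniteType f.hom)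
    (hY : IsQuasiSeparatedSp Y.obj) {y : AlgSp.Points Y.obj}
    (hy : HasAt (fun U u => ringKrullDim ↥(U.presheaf.stalk u) = 0) Y.obj y) :
    (AlgSp.Points.map f.hom ⁻¹' {y}).Finite ↔
      ∃ (X' Y' : Space S) (i : X' ⟶ X) (j : Y' ⟶ Y) (f' : X' ⟶ Y'), RepWith @IsOpenImmersion i.hom ∧
        RepWith @IsOpenImmersion j.hom ∧ f' ≫ j = i ≫ f ∧ y ∈ Set.range (AlgSp.Points.map j.hom) ∧
          AlgSp.Points.map f.hom ⁻¹' {y} ⊆ Set.range (AlgSp.Points.map i.hom) ∧
            IsFiniteMor f'.hom := by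
  constructor
  swap
  · rintro ⟨X', Y', i, j, f', hi, hj, e, ⟨y', hy'⟩, hsub, hfin⟩
    have : Mono j.hom := mono_of_repWith (fun _ _ g (_ : IsOpenImmersion g) => inferInstance) hj
    refine ((finite_fibre_of_isFiniteMor hfin y').image (AlgSp.Points.map i.hom)).subset fun x hx => ?_
    obtain ⟨x', rfl⟩ := hsub hx
    refine ⟨x', Groth.AlgSp2.map_injective_of_mono j.hom ?_, rfl⟩
    have e' : f'.hom ≫ j.hom = i.hom ≫ f.hom := congrArg (fun k => k.hom) e
    rw [hy', ← AlgSp.Points.map_comp, e', AlgSp.Points.map_comp]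
    exact hx
  intro hfin
  have hXqs : IsQuasiSeparatedSp X.obj := isQuasiSeparatedSp_of_mor hqs hY
  obtain ⟨KY, hKYo, hKYc, hyK, -⟩ :=
    exists_compact_open_nhd Y.property (Set.finite_singleton y) isOpen_univ (Set.subset_univ _)
  obtain ⟨KX, hKXo, hKXc, hFK, hKXsub⟩ := exists_compact_open_nhd X.property hfin
    (hKYo.preimage (AlgSp.Points.continuous_map f.hom))
    fun x (hx : AlgSp.Points.map f.hom x = y) => by rw [Set.mem_preimage, hx]; exact hyK rfl
  let ι := openSubι Y.obj KY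
  have hι : RepWith @IsOpenImmersion ι := repWith_openSubι hKYo
  have : Mono ι := mono_of_repWith (fun _ _ g (_ : IsOpenImmersion g) => inferInstance) hι
  let κ := openSubι X.obj KX
  have hκ : RepWith @IsOpenImmersion κ := repWith_openSubι hKXo
  have : Mono κ := mono_of_repWith (fun _ _ g (_ : IsOpenImmersion g) => inferInstance) hκ
  have hY₀ : IsAlgSpace (openSub Y.obj KY) := isAlgSpace_openSub Y.property hKYo
  have hX₀ : IsAlgSpace (openSub X.obj KX) := isAlgSpace_openSub X.property hKXo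
  obtain ⟨f₀, hf₀⟩ := exists_lift_of_range_openImmersion hX₀ hι (κ ≫ f.hom) (by
    rintro _ ⟨z, rfl⟩
    rw [AlgSp.Points.map_comp]
    exact (range_map_openSubι (W := KY)).ge (hKXsub ((range_map_openSubι (W := KX)).le ⟨z, rfl⟩)))
  have hX₀q : IsQuasiCompactSp (openSub X.obj KX) := (isQuasiCompactSp_iff_compactSpace hX₀).2
    ⟨((isEmbedding_map_of_immersion X.property (repWith_mono
      (fun _ _ g (_ : IsOpenImmersion g) => (inferInstance : IsImmersion g)) hκ)).1).isCompact_iff.2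
        (by rw [Set.image_univ, range_map_openSubι]; exact hKXc)⟩
  have hY₀s : IsQuasiSeparatedSp (openSub Y.obj KY) := isQuasiSeparatedSp_of_openImmersion hY hι
  have hX₀s : IsQuasiSeparatedSp (openSub X.obj KX) := isQuasiSeparatedSp_of_openImmersion hXqs hκ
  have hκe : RepWith @Etale κ :=
    repWith_mono (fun _ _ g (_ : IsOpenImmersion g) => (inferInstance : Etale g)) hκ
  have hιe : RepWith @Etale ι :=
    repWith_mono (fun _ _ g (_ : IsOpenImmersion g) => (inferInstance : Etale g)) hι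
  have hlft₀ : LocP @LocallyOfFiniteType f₀ := by
    intro U V a b h ha hb comm
    exact hft (a ≫ κ) (b ≫ ι) h (repWith_comp ha hκe) (repWith_comp hb hιe)
      (by rw [Category.assoc, ← hf₀, reassoc_of% comm])
  obtain ⟨y₀, hy₀⟩ : y ∈ Set.range (AlgSp.Points.map ι) := (range_map_openSubι (W := KY)).ge (hyK rfl)
  have hfib : ∀ z, AlgSp.Points.map f₀ z = y₀ → AlgSp.Points.map f.hom (AlgSp.Points.map κ z) = y :=
    fun z hz => by rw [← AlgSp.Points.map_comp, ← hf₀, AlgSp.Points.map_comp, hz, hy₀]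
  obtain ⟨Y', X', j, fst, snd, hj, hyj, hsq, hfst⟩ := exists_finite_nhd_codimZero
    (X := ⟨_, hX₀⟩) (Y := ⟨_, hY₀⟩) (ObjectProperty.homMk f₀) (isQuasiSeparatedMor_of_sp hX₀s f₀)
    ⟨hlft₀, isQuasiCompactMor_of_source hX₀ hY₀ hX₀q hY₀s f₀⟩ (y := y₀)
    ((hasAt_iff_of_isEtaleMor etaleInvariant_ringKrullDim hY₀ Y.property
      (fun U a ha => repWith_comp ha hιe) y₀ 0).2 (hy₀.symm ▸ hy))
    (fun z hz => fibreDimAt_zero_of_finite_fibre hX₀ hY₀ (isDecent_of_qs hX₀ hX₀s) hlft₀
      ((hfin.preimage (Groth.AlgSp2.map_injective_of_mono κ).injOn).subset fun z' hz' => hfib z' hz')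
      z hz)
  have hsnd : RepWith @IsOpenImmersion snd.hom := repWith_of_isPullback hsq hj
  refine ⟨X', Y', ObjectProperty.homMk (snd.hom ≫ κ), ObjectProperty.homMk (j.hom ≫ ι), fst,
    repWith_comp hsnd hκ, repWith_comp hj hι, ?_, ?_, ?_, hfst⟩
  · refine ObjectProperty.hom_ext _ ?_
    show fst.hom ≫ j.hom ≫ ι = (snd.hom ≫ κ) ≫ f.hom
    rw [← Category.assoc, hsq.w, Category.assoc, Category.assoc, ← hf₀]
    rfl
  · obtain ⟨y', hy'⟩ := hyj
    exact ⟨y', (AlgSp.Points.map_comp _ _ _).trans ((congrArg _ hy').trans hy₀)⟩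
  · intro x hx
    obtain ⟨z, rfl⟩ : x ∈ Set.range (AlgSp.Points.map κ) := (range_map_openSubι (W := KX)).ge (hFK hx)
    have hz : AlgSp.Points.map f₀ z = y₀ := Groth.AlgSp2.map_injective_of_mono ι (by
      rw [← AlgSp.Points.map_comp, hf₀, AlgSp.Points.map_comp, hy₀]; exact hx)
    obtain ⟨w, hw⟩ : z ∈ Set.range (AlgSp.Points.map snd.hom) := by
      rw [range_map_eq_of_isPullback hsq]
      exact Set.mem_preimage.2 (hz.symm ▸ hyj)
    exact ⟨w, (AlgSp.Points.map_comp _ _ _).trans (congrArg _ hw)⟩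

end Groth.AlgSpBasic
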