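import Groth.Agent.AlgSpBasic.FieldPoints
import Groth.Agent.Misc3Fib.Descend
import Groth.Agent.Misc3Fib.Qf
import Groth.Agent.DescentBase.DimEtale
import Groth.Prelude.Def_W4decUnivBdd

/-!
# Universally bounded fibres of morphisms from schemes to algebraic spaces

The dictionary between `W4dec.DegFibresLE` and the scheme theoretic `BddFib` calculus, composition, base
change, descent, counting of points, and étale covers.
-/

set_option autoImplicit false
set_option backward.isDefEq.respectTransparency.types false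
universe u

open CategoryTheory CategoryTheory.Limits AlgebraicGeometry Topology TopologicalSpace Opposite AlgSp

namespace Groth.AlgSpBasic

variable {S : Scheme.{u}} {F G : Sp S} {U V : Over S}

/-- The fibre over a field valued point, measured by `BddFib.FiniteOfDegLE`. -/
abbrev FibreAtLE (n : ℕ) (a : (yon S).obj U ⟶ F) (q : FieldPt F) : Prop :=
  ∃ (T : Over S) (c : T ⟶ q.pt) (snd : (yon S).obj T ⟶ (yon S).obj U),
    IsPullback ((yon S).map c) snd q.toHom a ∧
      BddFib.FiniteOfDegLE (CommRingCat.of q.K) c.left n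

theorem finiteOfDegLE_iff_finrank {K : Type u} [Field K] {T : Scheme.{u}}
    (p : T ⟶ Spec (CommRingCat.of K)) (n : ℕ) :
    BddFib.FiniteOfDegLE (CommRingCat.of K) p n ↔ IsFinite p ∧ ∀ s, p.finrank s ≤ n := by
  rw [Groth.Misc3Fib.finiteOfDegLE_iff]
  refine and_congr_right fun h => ?_
  haveI := h
  obtain ⟨z⟩ : Nonempty ↥(Spec (CommRingCat.of K)) := inferInstance
  exact ⟨fun hd s => (Groth.Misc3Fib.deg_eq_finrank p s).symm.trans_le hd,
    fun hs => (Groth.Misc3Fib.deg_eq_finrank p z).trans_le (hs z)⟩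

theorem finiteOfDegLE_mono {K : Type u} [Field K] {T : Scheme.{u}}
    {p : T ⟶ Spec (CommRingCat.of K)} {n m : ℕ}
    (h : BddFib.FiniteOfDegLE (CommRingCat.of K) p n) (hnm : n ≤ m) :
    BddFib.FiniteOfDegLE (CommRingCat.of K) p m :=
  ⟨h.1, h.2.1, h.2.2.trans hnm⟩

theorem finiteOfDegLE_of_isEmpty {K : Type u} [Field K] {T : Scheme.{u}} [IsEmpty T]
    (p : T ⟶ Spec (CommRingCat.of K)) (n : ℕ) : BddFib.FiniteOfDegLE (CommRingCat.of K) p n := by
  haveI : IsClosedImmersion p := inferInstance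
  refine (Groth.Misc3Fib.finiteOfDegLE_iff p n).2 ⟨inferInstance, ?_⟩
  letI : Algebra K Γ(T, ⊤) := BddFib.secAlgebra (CommRingCat.of K) p
  haveI : Subsingleton Γ(T, ⊤) := inferInstance
  refine le_of_eq_of_le ?_ (Nat.zero_le n)
  exact Module.finrank_zero_of_subsingleton

/-- Any two fibres over a point have the same degree. -/
theorem fibreAtLE_unique {n : ℕ} {a : (yon S).obj U ⟶ F} {q : FieldPt F} (h : FibreAtLE n a q)
    {T : Over S} {c : T ⟶ q.pt} {snd : (yon S).obj T ⟶ (yon S).obj U}
    (sq : IsPullback ((yon S).map c) snd q.toHom a) :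
    BddFib.FiniteOfDegLE (CommRingCat.of q.K) c.left n := by
  obtain ⟨T', c', snd', sq', h'⟩ := h
  let e : T ≅ T' := (yon S).preimageIso (sq.isoIsPullback _ _ sq')
  have he : e.hom ≫ c' = c := by
    apply (yon S).map_injective
    rw [Functor.map_comp]
    simp only [e, Functor.preimageIso_hom, Functor.map_preimage]
    exact sq.isoIsPullback_hom_fst _ _ sq'
  exact Groth.Misc3Fib.finiteOfDegLE_of_iso ((Over.forget S).mapIso e) c.left c'.left
    (congrArg CommaMorphism.left he) h'

theorem exists_fibre {a : (yon S).obj U ⟶ F} (ha : Representable a) (q : FieldPt F) :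
    ∃ (T : Over S) (c : T ⟶ q.pt) (snd : (yon S).obj T ⟶ (yon S).obj U),
      IsPullback ((yon S).map c) snd q.toHom a := by
  obtain ⟨T, fst, snd, sq⟩ := exists_pullback_yon ha q.toHom
  exact ⟨T, snd, (yon S).map fst, sq.flip⟩

theorem degFibresLE_iff {n : ℕ} {a : (yon S).obj U ⟶ F} (ha : Representable a) :
    W4dec.DegFibresLE n a ↔ ∀ q : FieldPt F, FibreAtLE n a q := by
  refine ⟨fun h q => ?_, fun h q T c snd sq => ?_⟩
  · obtain ⟨T, c, snd, sq⟩ := exists_fibre ha q
    exact ⟨T, c, snd, sq, (finiteOfDegLE_iff_finrank c.left n).2 (h q T c snd sq)⟩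
  · exact (finiteOfDegLE_iff_finrank c.left n).1 (fibreAtLE_unique (h q) sq)

theorem fibre_of_degFibresLE {n : ℕ} {a : (yon S).obj U ⟶ F} (h : W4dec.DegFibresLE n a)
    (q : FieldPt F) {T : Over S} {c : T ⟶ q.pt} {snd : (yon S).obj T ⟶ (yon S).obj U}
    (sq : IsPullback ((yon S).map c) snd q.toHom a) :
    BddFib.FiniteOfDegLE (CommRingCat.of q.K) c.left n :=
  (finiteOfDegLE_iff_finrank c.left n).2 (h q T c snd sq)

theorem degFibresLE_mono {n m : ℕ} {a : (yon S).obj U ⟶ F} (h : W4dec.DegFibresLE n a)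
    (hnm : n ≤ m) : W4dec.DegFibresLE m a := fun q T c snd sq =>
  ⟨(h q T c snd sq).1, fun s => ((h q T c snd sq).2 s).trans hnm⟩

/-- The field valued point with a given morphism. -/
noncomputable def mkPt {K : Type u} [Field K] {str : Spec (CommRingCat.of K) ⟶ S}
    (m : (yon S).obj (Over.mk str) ⟶ F) : FieldPt F :=
  { K := K, str := str, val := yEquiv m }

theorem mkPt_toHom {K : Type u} [Field K] {str : Spec (CommRingCat.of K) ⟶ S}
    (m : (yon S).obj (Over.mk str) ⟶ F) : (mkPt m).toHom = m :=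
  (yEquiv (U := Over.mk str) (F := F)).symm_apply_apply m

theorem isPullback_yon {W X : Over S} {f : U ⟶ X} {g : V ⟶ X} {fst : W ⟶ U} {snd : W ⟶ V}
    (sq : IsPullback fst snd f g) :
    IsPullback ((yon S).map fst) ((yon S).map snd) ((yon S).map f) ((yon S).map g) :=
  sq.map (yon S)

theorem fibreDegLE_left {n : ℕ} {f : V ⟶ U} (h : W4dec.DegFibresLE n ((yon S).map f)) :
    BddFib.FibreDegLE f.left n := by
  intro y
  let g : Over.mk (U.left.fromSpecResidueField y ≫ U.hom) ⟶ U :=
    Over.homMk (U.left.fromSpecResidueField y) rfl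
  have hs : IsPullback (pullback.fst f g).left (pullback.snd f g).left f.left g.left :=
    isPullback_left (IsPullback.of_hasPullback f g)
  have sq := isPullback_yon (IsPullback.of_hasPullback f g).flip
  have h' := fibre_of_degFibresLE h (mkPt (K := ↥(U.left.residueField y)) ((yon S).map g))
    (c := pullback.snd f g) (by rw [mkPt_toHom]; exact sq)
  exact Groth.Misc3Fib.finiteOfDegLE_of_iso hs.isoPullback.symm
    (f.left.fiberToSpecResidueField y) (pullback.snd f g).left hs.isoPullback_inv_snd h'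

theorem degFibresLE_yon {n : ℕ} {f : V ⟶ U} (h : BddFib.FibreDegLE f.left n) :
    W4dec.DegFibresLE n ((yon S).map f) := by
  intro q T c snd sq
  obtain ⟨g, hg⟩ := (yon S).map_surjective q.toHom
  obtain ⟨s, rfl⟩ := (yon S).map_surjective snd
  rw [← hg] at sq
  have hs := (isPullback_left (isPullback_of_yon sq)).flip
  exact (finiteOfDegLE_iff_finrank c.left n).1 (Groth.Misc3Fib.finiteOfDegLE_of_iso hs.isoPullback
    c.left _ hs.isoPullback_hom_snd ((Groth.Misc3Fib.fibreDegLE_iff f.left n).1 h q.K g.left))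

theorem fibreDegLE_of_isPullback {W X : Over S} {f : U ⟶ X} {g : V ⟶ X} {fst : W ⟶ U} {snd : W ⟶ V}
    (sq : IsPullback fst snd f g) {n : ℕ} (hf : BddFib.FibreDegLE f.left n) :
    BddFib.FibreDegLE snd.left n := fun y =>
  (Groth.Misc3Fib.fibre_iff_of_isPullback (isPullback_left sq) n y).2 (hf _)

/-- Degrees multiply. -/
theorem degFibresLE_comp {n m : ℕ} {f : V ⟶ U} {g : (yon S).obj U ⟶ F} (hrep : Representable g)
    (hf : BddFib.FibreDegLE f.left n) (hg : W4dec.DegFibresLE m g) :
    W4dec.DegFibresLE (n * m) ((yon S).map f ≫ g) := by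
  intro q T c snd sq
  obtain ⟨W, w, d, sqW⟩ := exists_pullback_yon hrep q.toHom
  have hs := IsPullback.of_hasPullback f w
  have big := ((isPullback_yon hs).paste_vert sqW)
  rw [← Functor.map_comp] at big
  refine (finiteOfDegLE_iff_finrank c.left _).1 (fibreAtLE_unique ?_ sq)
  refine ⟨pullback f w, pullback.snd f w ≫ d, _, big.flip, ?_⟩
  rw [Over.comp_left]
  exact Groth.Misc3Fib.finiteOfDegLE_comp _ _ (fibre_of_degFibresLE hg q sqW.flip)
    (fibreDegLE_of_isPullback hs hf)

theorem hasUnivBddFibres_comp {X : AlgSp.Space S} {f : V ⟶ U} {g : (yon S).obj U ⟶ X.obj}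
    (hf : BddFib.UnivBounded f.left) (hg : W4dec.HasUnivBddFibres g) :
    W4dec.HasUnivBddFibres ((yon S).map f ≫ g) :=
  let ⟨n, hn⟩ := hf
  let ⟨m, hm⟩ := hg
  ⟨n * m, degFibresLE_comp (X.property.representable_from_yon g) hn hm⟩

/-- Base change. -/
theorem degFibresLE_of_isPullback {n : ℕ} {g : (yon S).obj U ⟶ G} {p : F ⟶ G}
    {fst : (yon S).obj V ⟶ (yon S).obj U} {snd : (yon S).obj V ⟶ F}
    (h : IsPullback fst snd g p) (hg : W4dec.DegFibresLE n g) : W4dec.DegFibresLE n snd :=
  fun q T c t sq => hg (q.map p) T c (t ≫ fst) (by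
    rw [FieldPt.toHom_map]
    exact sq.paste_vert h.flip)

/-- A fibre bound descends to the morphism when the base change covers the image. -/
theorem degFibresLE_of_range {n : ℕ} {g : F ⟶ G} {f : (yon S).obj U ⟶ G} {f' : (yon S).obj V ⟶ F}
    {fst : (yon S).obj V ⟶ (yon S).obj U} (h : IsPullback fst f' f g)
    (him : Set.range (AlgSp.Points.ofPt f) ⊆ Set.range (AlgSp.Points.map g))
    (hf' : W4dec.DegFibresLE n f') : W4dec.DegFibresLE n f := by
  intro q T c snd sq
  refine (finiteOfDegLE_iff_finrank c.left n).1 ?_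
  rcases isEmpty_or_nonempty ↥T.left with _ | ⟨⟨t⟩⟩
  · exact finiteOfDegLE_of_isEmpty c.left n
  obtain ⟨s, rfl⟩ := (yon S).map_surjective snd
  have hu : AlgSp.Points.ofPt f (s.left t) = AlgSp.Points.mk q := by
    rw [← ofPt_comp_yon, ← sq.w, ofPt_comp_yon]
    have : c.left t = IsLocalRing.closedPoint q.K :=
      Subsingleton.elim (α := Spec (CommRingCat.of q.K)) _ _
    rw [this]
    exact Points.ofPt_toHom q _
  obtain ⟨y, hy⟩ := him ⟨_, hu⟩
  obtain ⟨q', rfl⟩ := AlgSp.Points.mk_surjective y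
  rw [Points.map_mk] at hy
  obtain ⟨Ω, hΩ, w, a, b, hab⟩ := rel_iff.1 (Points.mk_eq_mk_iff.1 hy)
  rw [fieldPtHom_map] at hab
  let e : (yon S).obj (Over.mk w) ⟶ F := (yon S).map a ≫ q'.toHom
  have hab' : e ≫ g = (yon S).map b ≫ q.toHom := (Category.assoc _ _ _).trans hab
  have sqT := IsPullback.of_hasPullback c b
  -- the fibre of `f` over the point of `G` below `e`
  have big := (isPullback_yon sqT.flip).paste_vert sq
  rw [← hab'] at big
  let l : (yon S).obj (pullback c b) ⟶ (yon S).obj V :=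
    h.lift ((yon S).map (pullback.fst c b) ≫ (yon S).map s) ((yon S).map (pullback.snd c b) ≫ e)
      (big.w.symm.trans (Category.assoc _ _ _).symm)
  have big' : IsPullback (l ≫ fst) ((yon S).map (pullback.snd c b)) f (e ≫ g) := by
    rw [show l ≫ fst = (yon S).map (pullback.fst c b) ≫ (yon S).map s from h.lift_fst _ _ _]
    exact big.flip
  have left := (IsPullback.of_right big' (h.lift_snd _ _ _) h).flip
  have h1 := fibre_of_degFibresLE hf' (mkPt e) (T := pullback c b) (c := pullback.snd c b) (snd := l)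
    (by rw [mkPt_toHom]; exact left)
  obtain ⟨i, hi⟩ : ∃ i, Spec.map i = b.left := ⟨_, Spec.map_preimage _⟩
  have hleft := isPullback_left sqT
  rw [← hi] at hleft
  exact (Groth.Misc3Fib.finiteOfDegLE_iff_of_isPullback hleft n).1 h1

/-- Descent along flat surjective morphisms on the source. -/
theorem degFibresLE_of_flat_surjective {n : ℕ} {f : U ⟶ V} [Flat f.left] [Surjective f.left]
    {h : (yon S).obj V ⟶ F} (hrep : Representable h)
    (hg : W4dec.DegFibresLE n ((yon S).map f ≫ h)) : W4dec.DegFibresLE n h := by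
  intro q T c snd sq
  obtain ⟨s, rfl⟩ := (yon S).map_surjective snd
  have hs := IsPullback.of_hasPullback f s
  have big := (isPullback_yon hs).paste_vert sq.flip
  rw [← Functor.map_comp] at big
  have h1 := fibre_of_degFibresLE hg q big.flip
  have hl := isPullback_left hs
  haveI : Flat (pullback.snd f s).left := MorphismProperty.of_isPullback hl (inferInstanceAs (Flat f.left))
  haveI : Surjective (pullback.snd f s).left :=
    MorphismProperty.of_isPullback hl (inferInstanceAs (Surjective f.left))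
  refine (finiteOfDegLE_iff_finrank c.left n).1 ?_
  exact Groth.Misc3Fib.finiteOfDegLE_of_flat_surjective (pullback.snd f s).left c.left h1

/-- The number of points in a fibre is bounded by the degree. -/
theorem encard_fibre_le {n : ℕ} {φ : (yon S).obj U ⟶ F} (hrep : Representable φ)
    (hφ : W4dec.DegFibresLE n φ) (x : AlgSp.Points F) :
    (AlgSp.Points.ofPt φ ⁻¹' {x}).encard ≤ n := by
  obtain ⟨q, rfl⟩ := AlgSp.Points.mk_surjective x
  obtain ⟨T, fst, c, sq⟩ := exists_pullback_yon hrep q.toHom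
  have h := fibre_of_degFibresLE hφ q sq.flip
  obtain ⟨hfin, hdeg⟩ := (Groth.Misc3Fib.finiteOfDegLE_iff c.left n).1 h
  haveI := hfin
  haveI : Finite ↥T.left :=
    (Groth.Misc3Fib.finite_discrete_of_isFinite (k := q.K) (T := T.left) c.left).1
  have hsub : AlgSp.Points.ofPt φ ⁻¹' {AlgSp.Points.mk q} ⊆ Set.range fst.left := by
    intro u hu
    obtain ⟨t, ht, -⟩ := (ofPt_eq_ofPt_iff sq u (IsLocalRing.closedPoint q.K)).1
      (hu.trans (Points.ofPt_toHom q _).symm)
    exact ⟨t, ht⟩
  refine (Set.encard_le_encard hsub).trans ?_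
  rw [← Set.image_univ]
  refine (Set.encard_image_le _ _).trans ?_
  rw [Set.encard_univ, ENat.card_eq_coe_natCard]
  exact_mod_cast (Groth.Misc3Fib.natCard_le (k := q.K) (T := T.left) c.left).trans hdeg

theorem isPullback_id_of_mono {W A B : Sp S} (ψ : W ⟶ A) (j : A ⟶ B) [Mono j] :
    IsPullback (𝟙 W) ψ (ψ ≫ j) j :=
  ⟨⟨by simp⟩, ⟨PullbackCone.IsLimit.mk _ (fun s => s.fst) (fun s => Category.comp_id _)
    (fun s => by rw [← cancel_mono j, Category.assoc]; exact s.condition)
    (fun s m hm _ => (Category.comp_id m).symm.trans hm)⟩⟩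

/-- A covering by finitely many morphisms with bounded fibres. -/
theorem degFibresLE_of_finite_cover {ι : Type u} [Fintype ι] {V : Over S}
    {ψ : (yon S).obj V ⟶ F} (hrep : Representable ψ) (Y : ι → Over S) (a : ∀ i, Y i ⟶ V)
    [∀ i, Flat (a i).left] (hsurj : ∀ v, ∃ i y, (a i).left y = v) (n : ι → ℕ)
    (hn : ∀ i, W4dec.DegFibresLE (n i) ((yon S).map (a i) ≫ ψ)) :
    W4dec.DegFibresLE (∑ i, n i) ψ := by
  intro q T c snd sq
  obtain ⟨s, rfl⟩ := (yon S).map_surjective snd
  let P : ι → Over S := fun i => pullback (a i) s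
  let b : ∀ i, P i ⟶ T := fun i => pullback.snd (a i) s
  have hb : ∀ i, BddFib.FiniteOfDegLE (CommRingCat.of q.K) ((b i).left ≫ c.left) (n i) := fun i => by
    have big := (isPullback_yon (IsPullback.of_hasPullback (a i) s)).paste_vert sq.flip
    rw [← Functor.map_comp] at big
    have h1 := fibre_of_degFibresLE (hn i) q (c := pullback.snd (a i) s ≫ c) big.flip
    rw [Over.comp_left] at h1
    exact h1
  have hbf : ∀ i, Flat (b i).left := fun i =>
    MorphismProperty.of_isPullback (P := @Flat)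
      (isPullback_left (IsPullback.of_hasPullback (a i) s)) (inferInstanceAs (Flat (a i).left))
  let d : (∐ fun i => (P i).left) ⟶ T.left := Sigma.desc fun i => (b i).left
  haveI : Flat d :=
    IsZariskiLocalAtSource.sigmaDesc (P := @Flat) (f := fun i => (b i).left) hbf
  haveI : Surjective d := ⟨fun t => by
    obtain ⟨i, y, hy⟩ := hsurj (s.left t)
    obtain ⟨z, -, hz⟩ := Scheme.exists_preimage_of_isPullback
      (isPullback_left (IsPullback.of_hasPullback (a i) s)) y t hy
    refine ⟨Sigma.ι (fun i => (P i).left) i z, ?_⟩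
    rw [← Scheme.Hom.comp_apply, Sigma.ι_desc]
    exact hz⟩
  refine (finiteOfDegLE_iff_finrank c.left _).1
    (Groth.Misc3Fib.finiteOfDegLE_of_flat_surjective d c.left ?_)
  -- the degree of a finite union
  have hfib : BddFib.FibreDegLE (d ≫ c.left) (∑ i, n i) := by
    refine Groth.Misc3Fib.fibreDegLE_of_isOpenCover _ (fun i => (P i).left)
      (fun i => Sigma.ι (fun i => (P i).left) i)
      (fun x => let ⟨i, y, hy⟩ := (sigmaOpenCover fun i => (P i).left).exists_eq x; ⟨i, y, hy⟩)
      n fun i => ?_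
    rw [← Category.assoc, Sigma.ι_desc]
    rw [Groth.Misc3Fib.fibreDegLE_iff]
    intro L _ z
    obtain ⟨φ, rfl⟩ := Spec.map_surjective z
    exact (Groth.Misc3Fib.finiteOfDegLE_iff_of_isPullback
      (IsPullback.of_hasPullback ((b i).left ≫ c.left) (Spec.map φ)) (n i)).2 (hb i)
  refine Groth.Misc3Fib.finiteOfDegLE_of_iso
    (asIso (pullback.fst (d ≫ c.left) (𝟙 (Spec (CommRingCat.of q.K))))).symm _ _ ?_
    ((Groth.Misc3Fib.fibreDegLE_iff _ _).1 hfib q.K (𝟙 _))
  rw [Iso.symm_hom, asIso_inv, IsIso.inv_comp_eq, pullback.condition, Category.comp_id]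

/-- An étale morphism from an affine scheme has bounded fibres as soon as an étale cover does. -/
theorem hasUnivBddFibres_of_etale_cover (X : AlgSp.Space S) {ι : Type u} (U : ι → Over S)
    (φ : ∀ i, (yon S).obj (U i) ⟶ X.obj) (hφ : ∀ i, AlgSp.RepWith @Etale (φ i))
    (hsurj : ∀ x : AlgSp.Points X.obj, ∃ (i : ι) (v : ↥(U i).left), AlgSp.Points.ofPt (φ i) v = x)
    (hb : ∀ i, W4dec.HasUnivBddFibres (φ i)) {V : Over S} [IsAffine V.left]
    (ψ : (yon S).obj V ⟶ X.obj) (hψ : AlgSp.RepWith @Etale ψ) : W4dec.HasUnivBddFibres ψ := by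
  classical
  have key : ∀ v : ↥V.left, ∃ (i : ι) (Y : Over S) (α : Y ⟶ V) (β : Y ⟶ U i) (y : ↥Y.left),
      IsAffine Y.left ∧ Etale α.left ∧ Etale β.left ∧
      (yon S).map α ≫ ψ = (yon S).map β ≫ φ i ∧ α.left y = v := by
    intro v
    obtain ⟨i, u, hu⟩ := hsurj (AlgSp.Points.ofPt ψ v)
    obtain ⟨W, a, b, sq⟩ := exists_pullback_yon hψ.rep (φ i)
    obtain ⟨w, hw, -⟩ := (ofPt_eq_ofPt_iff sq v u).1 hu.symm
    haveI : Etale b.left := repWith_fst_of_isPullback sq hψ
    haveI : Etale a.left := repWith_fst_of_isPullback sq.flip (hφ i)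
    obtain ⟨j, y, hy⟩ := W.left.affineCover.exists_eq w
    refine ⟨i, Over.mk (W.left.affineCover.f j ≫ W.hom),
      Over.homMk (W.left.affineCover.f j) rfl ≫ a,
      Over.homMk (W.left.affineCover.f j) rfl ≫ b, y, inferInstanceAs (IsAffine (W.left.affineCover.X j)),
      ?_, ?_, ?_, ?_⟩
    · exact inferInstanceAs (Etale (W.left.affineCover.f j ≫ a.left))
    · exact inferInstanceAs (Etale (W.left.affineCover.f j ≫ b.left))
    · simp only [Functor.map_comp, Category.assoc, sq.w]
    · show a.left ((W.left.affineCover.f j) y) = v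
      rw [hy]; exact hw
  choose i Y α β y hY hα hβ hw hy using key
  obtain ⟨t, ht⟩ := isCompact_univ.elim_finite_subcover (fun v => Set.range (α v).left)
    (fun v => haveI := hα v; (α v).left.isOpenMap.isOpen_range)
    (fun v _ => Set.mem_iUnion.2 ⟨v, y v, hy v⟩)
  have hbd : ∀ v, ∃ n, W4dec.DegFibresLE n ((yon S).map (α v) ≫ ψ) := fun v => by
    haveI := hβ v
    haveI := hY v
    haveI : LocallyQuasiFinite (β v).left := Groth.DescentBase.locallyQuasiFinite_of_etale _
    rw [hw v]
    exact hasUnivBddFibres_comp (Groth.Misc3Fib.univBounded_of_qf (β v).left) (hb (i v))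
  choose n hn using hbd
  haveI := fun v => hα v
  refine ⟨∑ v : ↥t, n v.1, degFibresLE_of_finite_cover hψ.rep (fun v : ↥t => Y v.1)
    (fun v => α v.1) (fun x => ?_) _ fun v => hn v.1⟩
  obtain ⟨v, hv, z, hz⟩ := Set.mem_iUnion₂.1 (ht (Set.mem_univ x))
  exact ⟨⟨v, hv⟩, z, hz⟩

end Groth.AlgSpBasic
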