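import Groth.Agent.AlgSpBasic.FiltrationSpaces
import Groth.Agent.AlgSpBasic.BddFibres
import Groth.Agent.AlgSpBasic.Sep

/-!
# Affine charts of quasi-separated spaces have bounded numbers of lifts
-/

set_option autoImplicit false
set_option backward.isDefEq.respectTransparency.types false
universe u

open CategoryTheory CategoryTheory.Limits AlgebraicGeometry Topology TopologicalSpace Opposite AlgSp

namespace Groth.AlgSpBasic

variable {S : Scheme.{u}} {X : Sp S}

/-- An affine scheme maps quasi-compactly to a quasi-separated space over a quasi-separated base. -/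
theorem repWith_quasiCompact_of_qs [QuasiSeparatedSpace ↥S] (hX : IsAlgSpace X)
    (hqs : IsQuasiSeparatedSp X) {U : Over S} [IsAffine U.left] (a : (yon S).obj U ⟶ X) :
    RepWith @QuasiCompact a := by
  refine repWith_of_representable (representable_of_diag hX.diag a) fun T V g fst snd sq => ?_
  obtain ⟨l, hl⟩ := (yon S).map_surjective fst
  subst hl
  have : QuasiCompact (prod.lift l snd).left := prop_lift_of_repWith_diag hqs sq
  have : QuasiCompact U.hom := inferInstance
  have : QuasiCompact (prod.snd : U ⨯ T ⟶ T).left :=
    MorphismProperty.of_isPullback (P := @QuasiCompact) (isPullback_prod_left U T) ‹QuasiCompact U.hom›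
  rw [← lift_left_snd l snd]
  infer_instance

/-- An affine etale chart of a quasi-separated space has bounded fibres. -/
theorem exists_degFibresLE_of_qs [QuasiSeparatedSpace ↥S] (hX : IsAlgSpace X)
    (hqs : IsQuasiSeparatedSp X) {U : Over S} [IsAffine U.left] {a : (yon S).obj U ⟶ X}
    (ha : RepWith @Etale a) : ∃ N, W4dec.DegFibresLE N a := by
  have hqc := repWith_quasiCompact_of_qs hX hqs a
  obtain ⟨R, t, s, sq⟩ := exists_pullback_of_diag hX.diag a a
  have : Etale s.left := repWith_fst_of_isPullback sq ha
  have : QuasiCompact s.left := repWith_fst_of_isPullback sq hqc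
  have : CompactSpace ↥R.left := QuasiCompact.compactSpace_of_compactSpace s.left
  have : LocallyQuasiFinite s.left := Groth.DescentBase.locallyQuasiFinite_of_etale s.left
  obtain ⟨N, hN⟩ := Groth.Misc3Fib.univBounded_of_qf s.left
  refine ⟨N, degFibresLE_of_range sq ?_ (degFibresLE_yon hN)⟩
  rintro _ ⟨u, rfl⟩
  exact ⟨AlgSp.Points.ofScheme U u, (ofPt_eq_map a u).symm⟩

end Groth.AlgSpBasic
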