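import Groth.Agent.AlgSpBasic.EqualizerFlat
import Groth.Agent.AlgSpBasic.FiniteEtaleQuot
import Groth.Agent.AlgSpBasic.Points
import Groth.Agent.AlgSpBasic.Compact

/-!
# An open of the spectrum of invariant functions over which the quotient map is an isomorphism
-/

set_option autoImplicit false
set_option backward.isDefEq.respectTransparency.types false
universe u

open CategoryTheory CategoryTheory.Limits AlgebraicGeometry Opposite AlgSp

namespace Groth.AlgSpBasic

variable {S : Scheme.{u}}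

theorem isPullback_of_mono {C : Type*} [Category C] {P A B D D' : C} {a : P ⟶ A} {b : P ⟶ B}
    {f : A ⟶ D} {g : B ⟶ D} {m : D ⟶ D'} [Mono m] (h : IsPullback a b (f ≫ m) (g ≫ m)) :
    IsPullback a b f g := by
  have w : a ≫ f = b ≫ g := by rw [← cancel_mono m, Category.assoc, Category.assoc, h.w]
  exact ⟨⟨w⟩, ⟨PullbackCone.IsLimit.mk _
    (fun c => h.lift c.fst c.snd (by rw [← Category.assoc, c.condition, Category.assoc]))
    (fun c => h.lift_fst _ _ _) (fun c => h.lift_snd _ _ _)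
    (fun c m h₁ h₂ => h.hom_ext (by rw [h₁, h.lift_fst]) (by rw [h₂, h.lift_snd]))⟩⟩

/-- The target map of the arrows starting in a piece finite over the base is finite. -/
theorem isFinite_restrict {U R Q : Scheme.{u}} (π : U ⟶ Q) {t s : R ⟶ U} (w : t ≫ π = s ≫ π)
    [IsClosedImmersion (pullback.lift t s w)] (V : U.Opens) [IsFinite (V.ι ≫ π)] :
    IsFinite ((s ⁻¹ᵁ V).ι ≫ t) := by
  have h₂ : IsPullback (pullback.map π (V.ι ≫ π) π π (𝟙 U) V.ι (𝟙 Q) (by simp) (by simp))
      (pullback.snd π (V.ι ≫ π)) (pullback.snd π π) V.ι := by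
    refine IsPullback.of_right ?_ (pullback.lift_snd _ _ _) (IsPullback.of_hasPullback π π)
    simpa only [pullback.lift_fst, Category.comp_id] using IsPullback.of_hasPullback π (V.ι ≫ π)
  let l : (s ⁻¹ᵁ V).toScheme ⟶ pullback π (V.ι ≫ π) :=
    pullback.lift ((s ⁻¹ᵁ V).ι ≫ t) (s ∣_ V) (by
      rw [Category.assoc, morphismRestrict_ι_assoc, w])
  have hl₁ : l ≫ pullback.map π (V.ι ≫ π) π π (𝟙 U) V.ι (𝟙 Q) (by simp) (by simp) =
      (s ⁻¹ᵁ V).ι ≫ pullback.lift t s w := by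
    apply pullback.hom_ext
    · simp only [l, Category.assoc, pullback.lift_fst, Category.comp_id]
    · simp only [l, Category.assoc, pullback.lift_snd, pullback.lift_snd_assoc, morphismRestrict_ι]
  have hl : IsPullback (s ⁻¹ᵁ V).ι l (pullback.lift t s w)
      (pullback.map π (V.ι ≫ π) π π (𝟙 U) V.ι (𝟙 Q) (by simp) (by simp)) := by
    refine IsPullback.of_bot ?_ hl₁.symm h₂.flip.flip
    simpa only [l, pullback.lift_snd] using (isPullback_morphismRestrict s V).flip
  have : IsClosedImmersion l := MorphismProperty.of_isPullback hl ‹_›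
  have : IsFinite (pullback.fst π (V.ι ≫ π)) := MorphismProperty.pullback_fst _ _ ‹_›
  have e : (s ⁻¹ᵁ V).ι ≫ t = l ≫ pullback.fst π (V.ι ≫ π) := (pullback.lift_fst _ _ _).symm
  rw [e]
  infer_instance

theorem exists_isIdempotentElem_basicOpen {U : Scheme.{u}} [IsAffine U] (E : U.Opens)
    (hE : IsClosed (E : Set U)) : ∃ e : Γ(U, ⊤), IsIdempotentElem e ∧ U.basicOpen e = E := by
  let E' : (Spec Γ(U, ⊤)).Opens := U.isoSpec.inv ⁻¹ᵁ E
  obtain ⟨e, he, hs⟩ := PrimeSpectrum.exists_idempotent_basicOpen_eq_of_isClopen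
    (s := (E' : Set (Spec Γ(U, ⊤)))) ⟨hE.preimage U.isoSpec.inv.continuous, E'.2⟩
  refine ⟨e, he, ?_⟩
  have h : E' = PrimeSpectrum.basicOpen e := TopologicalSpace.Opens.ext hs
  rw [← Scheme.toSpecΓ_preimage_basicOpen, ← h, ← Scheme.isoSpec_hom]
  change (U.isoSpec.hom ≫ U.isoSpec.inv) ⁻¹ᵁ E = E
  rw [Iso.hom_inv_id]
  rfl

theorem eq_of_basicOpen_eq {U : Scheme.{u}} [IsAffine U] {a b : Γ(U, ⊤)} (ha : IsIdempotentElem a)
    (hb : IsIdempotentElem b) (h : U.basicOpen a = U.basicOpen b) : a = b := by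
  refine PrimeSpectrum.basicOpen_injOn_isIdempotentElem ha hb ?_
  rw [← Scheme.toSpecΓ_preimage_basicOpen, ← Scheme.toSpecΓ_preimage_basicOpen] at h
  apply TopologicalSpace.Opens.ext
  ext x
  obtain ⟨y, rfl⟩ : ∃ y, U.toSpecΓ y = x :=
    ⟨U.isoSpec.inv x, by rw [← Scheme.isoSpec_hom, ← Scheme.Hom.comp_apply, Iso.inv_hom_id]; rfl⟩
  exact SetLike.ext_iff.1 h y

theorem isIso_of_bijective_appTop {A B : Scheme.{u}} [IsAffine A] [IsAffine B] (f : A ⟶ B)
    (h : Function.Bijective f.appTop) : IsIso f := by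
  have : IsIso f.appTop := (ConcreteCategory.isIso_iff_bijective _).mpr h
  have e : f = A.isoSpec.hom ≫ Spec.map f.appTop ≫ B.isoSpec.inv := by
    rw [← Category.assoc, Scheme.isoSpec_hom_naturality, Category.assoc, Iso.hom_inv_id,
      Category.comp_id]
  rw [e]
  infer_instance

/-- If `Q` is affine and carries exactly the invariant functions of an affine atlas of `X`, then
`X ⟶ Q` is an isomorphism above an open containing any piece of the atlas finite over `Q`. -/
theorem exists_open_iso {Q U R : Over S} {X : Sp S} [IsAffine Q.left]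
    [IsAffine U.left] [IsAffine R.left] {f : X ⟶ (yon S).obj Q} {p : (yon S).obj U ⟶ X}
    (he : RepWith @Etale p) (hsurjp : RepWith @Surjective p) {t s : R ⟶ U}
    (sq : IsPullback ((yon S).map t) ((yon S).map s) p p) {π : U ⟶ Q}
    (hπ : p ≫ f = (yon S).map π) (w : t.left ≫ π.left = s.left ≫ π.left)
    [IsClosedImmersion (pullback.lift t.left s.left w)]
    (hinj : Function.Injective π.left.appTop)
    (hinv : ∀ a, t.left.appTop a = s.left.appTop a → ∃ d, π.left.appTop d = a)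
    (V : U.left.Opens) [IsFinite (V.ι ≫ π.left)] :
    ∃ D : Q.left.Opens, (∀ v ∈ V, π.left v ∈ D) ∧
      ∃ g : (yon S).obj (Over.mk (D.ι ≫ Q.hom)) ⟶ X, IsPullback g (𝟙 _) f
        ((yon S).map (Over.homMk D.ι rfl : Over.mk (D.ι ≫ Q.hom) ⟶ Q)) := by
  have : Etale t.left := repWith_fst_of_isPullback sq.flip he
  have : Etale s.left := repWith_fst_of_isPullback sq he
  let τ := (s.left ⁻¹ᵁ V).ι ≫ t.left
  have hτ : IsFinite τ := isFinite_restrict π.left w V
  let Eo : U.left.Opens := ⟨Set.range τ, τ.isOpenMap.isOpen_range⟩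
  have hEc : IsClosed (Eo : Set ↥U.left) := τ.isClosedMap.isClosed_range
  have memE : ∀ x, x ∈ Eo ↔ ∃ y ∈ V, Points.ofPt p x = Points.ofPt p y := by
    intro x
    constructor
    · rintro ⟨r, rfl⟩
      exact ⟨s.left ((s.left ⁻¹ᵁ V).ι r), r.2,
        (ofPt_eq_ofPt_iff sq _ _).2 ⟨(s.left ⁻¹ᵁ V).ι r, (Scheme.Hom.comp_apply _ _ _).symm, rfl⟩⟩
    · rintro ⟨y, hy, hxy⟩
      obtain ⟨r, rfl, rfl⟩ := (ofPt_eq_ofPt_iff sq _ _).1 hxy
      exact ⟨⟨r, hy⟩, Scheme.Hom.comp_apply _ _ _⟩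
  have hts : t.left ⁻¹ᵁ Eo = s.left ⁻¹ᵁ Eo := by
    ext r
    change t.left r ∈ Eo ↔ s.left r ∈ Eo
    rw [memE, memE, (ofPt_eq_ofPt_iff sq (t.left r) (s.left r)).2 ⟨r, rfl, rfl⟩]
  obtain ⟨e, hei, hee⟩ := exists_isIdempotentElem_basicOpen Eo hEc
  obtain ⟨d, hd⟩ := hinv e (eq_of_basicOpen_eq (hei.map t.left.appTop.hom) (hei.map s.left.appTop.hom)
    (by rw [← Scheme.preimage_basicOpen_top, ← Scheme.preimage_basicOpen_top, hee, hts]))
  let D : Q.left.Opens := Q.left.basicOpen d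
  have hDE : π.left ⁻¹ᵁ D = Eo := by
    rw [Scheme.preimage_basicOpen_top, hd, hee]
  refine ⟨D, fun v hv => ?_, ?_⟩
  · have : v ∈ π.left ⁻¹ᵁ D := by rw [hDE, memE]; exact ⟨v, hv, rfl⟩
    exact this
  have : IsAffine (D : Scheme) := (isAffineOpen_top Q.left).basicOpen d
  let DO : Over S := Over.mk (D.ι ≫ Q.hom)
  let j : DO ⟶ Q := Over.homMk D.ι rfl
  let EO : Over S := Over.mk ((π.left ⁻¹ᵁ D).ι ≫ U.hom)
  let jE : EO ⟶ U := Over.homMk (π.left ⁻¹ᵁ D).ι rfl
  let πE : EO ⟶ DO := Over.homMk (π.left ∣_ D) (by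
    change (π.left ∣_ D) ≫ D.ι ≫ Q.hom = (π.left ⁻¹ᵁ D).ι ≫ U.hom
    rw [morphismRestrict_ι_assoc, Over.w π])
  have hπE : IsPullback jE πE π j :=
    IsPullback.of_map (Over.forget S) (by ext1; exact (morphismRestrict_ι _ _).symm)
      (isPullback_morphismRestrict π.left D).flip
  -- the invariant functions on the restricted chart
  have : IsAffine (EO.left) := by
    change IsAffine (π.left ⁻¹ᵁ D).toScheme
    exact ((isAffineOpen_top Q.left).basicOpen d).preimage π.left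
  have hts' : t.left ⁻¹ᵁ (π.left ⁻¹ᵁ D) = s.left ⁻¹ᵁ (π.left ⁻¹ᵁ D) := by rw [hDE]; exact hts
  let t' := t.left ∣_ (π.left ⁻¹ᵁ D)
  let s' : (t.left ⁻¹ᵁ (π.left ⁻¹ᵁ D)).toScheme ⟶ (π.left ⁻¹ᵁ D).toScheme :=
    (R.left.isoOfEq hts').hom ≫ (s.left ∣_ (π.left ⁻¹ᵁ D))
  have hs' : s' ≫ (π.left ⁻¹ᵁ D).ι = (t.left ⁻¹ᵁ (π.left ⁻¹ᵁ D)).ι ≫ s.left := by
    simp only [s', Category.assoc, morphismRestrict_ι, Scheme.isoOfEq_hom_ι_assoc]
  have w' : t' ≫ (π.left ∣_ D) = s' ≫ (π.left ∣_ D) := by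
    rw [← cancel_mono D.ι]
    simp only [t', Category.assoc, morphismRestrict_ι]
    rw [← Category.assoc s', hs', morphismRestrict_ι_assoc, Category.assoc, w]
  obtain ⟨hinjE, hinvE⟩ := appTop_equalizer_flat w (isPullback_morphismRestrict π.left D).flip
    (isPullback_morphismRestrict t.left (π.left ⁻¹ᵁ D)).flip hs' w' hinj hinv
  -- the space above `D` and its charts
  let XD := pullback f ((yon S).map j)
  let pE : (yon S).obj EO ⟶ XD := pullback.lift ((yon S).map jE ≫ p) ((yon S).map πE) (by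
    rw [Category.assoc, hπ, ← Functor.map_comp, ← Functor.map_comp, hπE.w])
  have hpE₁ : pE ≫ pullback.fst _ _ = (yon S).map jE ≫ p := pullback.lift_fst _ _ _
  have hpE : IsPullback ((yon S).map jE) pE p (pullback.fst f ((yon S).map j)) := by
    refine IsPullback.of_bot ?_ hpE₁.symm (IsPullback.of_hasPullback f _)
    rw [pullback.lift_snd, hπ]
    exact hπE.map (yon S)
  have : Mono j := (Over.forget S).mono_of_mono_map (inferInstanceAs (Mono D.ι))
  have hpEe : RepWith @Etale pE := repWith_of_isPullback hpE he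
  have hpEs : RepWith @Surjective pE := repWith_of_isPullback hpE hsurjp
  let VO : Over S := Over.mk (V.ι ≫ U.hom)
  let jV₀ : VO ⟶ U := Over.homMk V.ι rfl
  have hVE : V ≤ π.left ⁻¹ᵁ D := fun v hv => by rw [hDE, memE]; exact ⟨v, hv, rfl⟩
  let jV : VO ⟶ EO := Over.homMk (U.left.homOfLE hVE) (by
    change U.left.homOfLE hVE ≫ (π.left ⁻¹ᵁ D).ι ≫ U.hom = V.ι ≫ U.hom
    rw [Scheme.homOfLE_ι_assoc])
  have hjV : jV ≫ jE = jV₀ := by ext1; exact Scheme.homOfLE_ι U.left hVE
  let pV : (yon S).obj VO ⟶ XD := (yon S).map jV ≫ pE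
  have hpV : pV ≫ pullback.fst _ _ = (yon S).map jV₀ ≫ p := by
    rw [Category.assoc, hpE₁, ← Category.assoc, ← Functor.map_comp, hjV]
  have : Etale jV.left := inferInstanceAs (Etale (U.left.homOfLE hVE))
  have hpVe : RepWith @Etale pV :=
    repWith_comp ((repWith_yon_map_iff _ jV).2 ‹Etale jV.left›) hpEe
  have hmono : Mono ((yon S).map j) := inferInstance
  have hmono' : Mono (pullback.fst f ((yon S).map j)) := inferInstance
  have hpVs : RepWith @Surjective pV := by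
    refine repWith_surjective_of_ofPt hpVe.rep fun x => ?_
    obtain ⟨z, rfl⟩ := surjective_ofPt_of_repWith hpEs x
    have hz : jE.left z ∈ Eo := hDE.le z.2
    obtain ⟨y, hy, hzy⟩ := (memE _).1 hz
    refine ⟨⟨y, hy⟩, ?_⟩
    obtain ⟨W, fst, snd, sqW⟩ := exists_pullback_yon hpVe.rep pE
    refine (ofPt_eq_ofPt_iff sqW _ _).2 ?_
    have sqW' : IsPullback ((yon S).map fst) ((yon S).map snd) ((yon S).map jV₀ ≫ p)
        ((yon S).map jE ≫ p) := by
      have w₀ : (yon S).map fst ≫ (yon S).map jV₀ ≫ p = (yon S).map snd ≫ (yon S).map jE ≫ p := by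
        rw [← hpV, ← hpE₁, ← Category.assoc, sqW.w, Category.assoc]
      exact ⟨⟨w₀⟩, ⟨PullbackCone.IsLimit.mk _
        (fun c => sqW.lift c.fst c.snd (by
          rw [← cancel_mono (pullback.fst f ((yon S).map j)), Category.assoc c.fst, Category.assoc c.snd, hpV, hpE₁]
          exact c.condition))
        (fun c => sqW.lift_fst _ _ _) (fun c => sqW.lift_snd _ _ _)
        (fun c m h₁ h₂ => sqW.hom_ext (by rw [h₁, sqW.lift_fst]) (by rw [h₂, sqW.lift_snd]))⟩⟩
    refine (ofPt_eq_ofPt_iff sqW' _ _).1 ?_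
    rw [ofPt_comp_yon, ofPt_comp_yon]
    exact hzy.symm
  -- the kernel pair of the small chart
  let WO : Over S := Over.mk ((s.left ⁻¹ᵁ V).ι ≫ R.hom)
  let jW : WO ⟶ R := Over.homMk (s.left ⁻¹ᵁ V).ι rfl
  let sW : WO ⟶ VO := Over.homMk (s.left ∣_ V) (by
    change (s.left ∣_ V) ≫ V.ι ≫ U.hom = (s.left ⁻¹ᵁ V).ι ≫ R.hom
    rw [morphismRestrict_ι_assoc, Over.w s])
  have hW₀ : IsPullback jW sW s jV₀ :=
    IsPullback.of_map (Over.forget S) (by ext1; exact (morphismRestrict_ι _ _).symm)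
      (isPullback_morphismRestrict s.left V).flip
  have hW : IsPullback ((yon S).map (jW ≫ t)) ((yon S).map sW) p ((yon S).map jV₀ ≫ p) := by
    rw [Functor.map_comp]
    exact (hW₀.map (yon S)).paste_horiz sq
  let RV : Over S := Over.mk ((τ ⁻¹ᵁ V).ι ≫ WO.hom)
  let jR : RV ⟶ WO := Over.homMk (τ ⁻¹ᵁ V).ι rfl
  let tV : RV ⟶ VO := Over.homMk (τ ∣_ V) (by
    change (τ ∣_ V) ≫ V.ι ≫ U.hom = (τ ⁻¹ᵁ V).ι ≫ WO.hom
    rw [morphismRestrict_ι_assoc]
    change (τ ⁻¹ᵁ V).ι ≫ ((s.left ⁻¹ᵁ V).ι ≫ t.left) ≫ U.hom = _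
    rw [Category.assoc, Over.w t]; rfl)
  have hV₀ : IsPullback jR tV (jW ≫ t) jV₀ :=
    IsPullback.of_map (Over.forget S) (by ext1; exact (morphismRestrict_ι _ _).symm)
      (isPullback_morphismRestrict τ V).flip
  have hRV : IsPullback ((yon S).map (jR ≫ sW)) ((yon S).map tV) pV pV := by
    refine isPullback_of_mono (m := pullback.fst f ((yon S).map j)) ?_
    rw [hpV, Functor.map_comp]
    exact (hV₀.map (yon S)).paste_horiz hW.flip
  have : IsFinite tV.left := inferInstanceAs (IsFinite (τ ∣_ V))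
  have : IsAffine VO.left := by
    have : IsAffineHom (V.ι ≫ π.left) := inferInstance
    exact isAffine_of_isAffineHom (V.ι ≫ π.left)
  obtain ⟨Y, hY, ⟨φ⟩⟩ := exists_iso_of_finite_etale_chart hpVe hpVs hRV
  obtain ⟨h, hh⟩ := (yon S).map_surjective (φ.hom ≫ pullback.snd f ((yon S).map j))
  obtain ⟨ψ, hψ⟩ := (yon S).map_surjective (pE ≫ φ.inv)
  have hψh : ψ ≫ h = πE := (yon S).map_injective (by
    rw [Functor.map_comp, hψ, hh, Category.assoc, Iso.inv_hom_id_assoc, pullback.lift_snd])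
  have : Etale ψ.left := by
    refine (repWith_yon_map_iff _ ψ).1 ?_
    rw [hψ]
    exact repWith_comp hpEe (repWith_isIso φ.inv)
  have : Surjective ψ.left := by
    refine (repWith_yon_map_iff _ ψ).1 ?_
    rw [hψ]
    exact repWith_comp hpEs (repWith_isIso φ.inv)
  have hψinj : Function.Injective ψ.left.appTop :=
    ((Flat.flat_and_surjective_iff_faithfullyFlat_of_isAffine ψ.left).1 ⟨inferInstance, inferInstance⟩).injective
  have key : ∀ a, (πE.left).appTop a = ψ.left.appTop (h.left.appTop a) := fun a => by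
    rw [← hψh, Over.comp_left, Scheme.Hom.comp_appTop]; rfl
  -- the two arrows of the restricted chart agree after `ψ`
  let R' : Over S := Over.mk ((t.left ⁻¹ᵁ (π.left ⁻¹ᵁ D)).ι ≫ R.hom)
  let tE : R' ⟶ EO := Over.homMk t' (by
    change t' ≫ (π.left ⁻¹ᵁ D).ι ≫ U.hom = (t.left ⁻¹ᵁ (π.left ⁻¹ᵁ D)).ι ≫ R.hom
    rw [← Category.assoc, morphismRestrict_ι, Category.assoc, Over.w t])
  let sE : R' ⟶ EO := Over.homMk s' (by
    change s' ≫ (π.left ⁻¹ᵁ D).ι ≫ U.hom = (t.left ⁻¹ᵁ (π.left ⁻¹ᵁ D)).ι ≫ R.hom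
    rw [← Category.assoc, hs', Category.assoc, Over.w s])
  let jR' : R' ⟶ R := Over.homMk (t.left ⁻¹ᵁ (π.left ⁻¹ᵁ D)).ι rfl
  have e₁ : tE ≫ jE = jR' ≫ t := by ext1; exact morphismRestrict_ι _ _
  have e₂ : sE ≫ jE = jR' ≫ s := by ext1; exact hs'
  have hψts : tE ≫ ψ = sE ≫ ψ := (yon S).map_injective (by
    rw [Functor.map_comp, Functor.map_comp, hψ, ← Category.assoc, ← Category.assoc,
      cancel_mono φ.inv, ← cancel_mono (pullback.fst f ((yon S).map j)), Category.assoc,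
      Category.assoc, hpE₁, ← Category.assoc, ← Category.assoc, ← Functor.map_comp,
      ← Functor.map_comp, e₁, e₂, Functor.map_comp, Functor.map_comp, Category.assoc, sq.w,
      ← Category.assoc])
  have : IsAffine DO.left := ‹IsAffine (D : Scheme)›
  have : IsIso h.left := by
    refine isIso_of_bijective_appTop h.left ⟨fun a b hab => hinjE ?_, fun y => ?_⟩
    · change πE.left.appTop a = πE.left.appTop b
      rw [key, key, hab]
    · have hy : t'.appTop (ψ.left.appTop y) = s'.appTop (ψ.left.appTop y) := by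
        have := congrArg (fun k : R' ⟶ Y => k.left.appTop y) hψts
        simp only [Over.comp_left, Scheme.Hom.comp_appTop] at this
        exact this
      obtain ⟨a, ha⟩ := hinvE _ hy
      exact ⟨a, hψinj ((key a).symm.trans ha)⟩
  have : IsIso h := by
    have : IsIso ((Over.forget S).map h) := ‹IsIso h.left›
    exact isIso_of_reflects_iso h (Over.forget S)
  have : IsIso (pullback.snd f ((yon S).map j)) := by
    have : IsIso (φ.hom ≫ pullback.snd f ((yon S).map j)) := by rw [← hh]; infer_instance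
    exact IsIso.of_isIso_comp_left φ.hom _
  exact ⟨inv (pullback.snd f ((yon S).map j)) ≫ pullback.fst _ _,
    (IsPullback.of_hasPullback f ((yon S).map j)).of_iso (asIso (pullback.snd f ((yon S).map j)))
      (Iso.refl _) (Iso.refl _) (Iso.refl _) (by simp) (by simp [DO, j]) (by simp) (by simp [DO, j])⟩

end Groth.AlgSpBasic
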