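import Groth.Agent.AlgSpBasic.FiltrationQS
import Groth.Agent.AlgSpBasic.DecentFiniteFibre
import Groth.Agent.AlgSpBasic.EqualizerOpen
import Groth.Agent.AlgSpBasic.AffineMor
import Groth.Agent.AlgSp3.NormGlobal
import Groth.Agent.AlgSp2.FiniteMor
import Groth.Agent.AlgSpBasic.FiniteEtaleOver
import Groth.Agent.AlgSpBasic.SepLocal
import Groth.Agent.Pi1Quot.SigmaFinite

/-!
# An integral scheme cover of the top stratum of an algebraic space

For an affine etale chart and a quasi-compact open set of points with exactly `n + 1` geometric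
lifts, the normalization of the space in the scheme of distinct `(n+1)`-tuples of lifts over this
set is a scheme, covered by open pieces of its pullback to the chart. It is finite etale over the
set.
-/

set_option autoImplicit false
set_option backward.isDefEq.respectTransparency.types false
universe u

open CategoryTheory CategoryTheory.Limits AlgebraicGeometry Topology TopologicalSpace Opposite AlgSp

namespace Groth.AlgSpBasic

noncomputable section

variable {S : Scheme.{u}}

/-- An idempotent is integral. -/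
theorem isIntegralElem_of_isIdempotentElem {A B : Type u} [CommRing A] [CommRing B] (f : A →+* B)
    {e : B} (he : IsIdempotentElem e) : f.IsIntegralElem e := by
  refine ⟨Polynomial.X ^ 2 - Polynomial.X,
    Polynomial.monic_X_pow_sub (Polynomial.degree_X_le.trans_lt (by norm_num)), ?_⟩
  rw [Polynomial.eval₂_sub, Polynomial.eval₂_X_pow, Polynomial.eval₂_X, pow_two, he, sub_self]

theorem isClopen_basicOpen_of_isIdempotentElem {T : Scheme.{u}} {e : Γ(T, ⊤)}
    (he : IsIdempotentElem e) : IsClopen (T.basicOpen e : Set ↥T) := by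
  refine ⟨?_, (T.basicOpen e).isOpen⟩
  have h : (T.basicOpen e : Set ↥T)ᶜ = T.basicOpen (1 - e) := by
    ext x
    have hx : T.presheaf.germ ⊤ x trivial e * (T.presheaf.germ ⊤ x trivial (1 - e)) = 0 := by
      rw [← map_mul, he.mul_one_sub_self, map_zero]
    simp only [Set.mem_compl_iff, SetLike.mem_coe, Scheme.mem_basicOpen_top]
    constructor
    · intro h
      have : T.presheaf.germ ⊤ x trivial e + T.presheaf.germ ⊤ x trivial (1 - e) = 1 := by
        rw [← map_add, add_sub_cancel, map_one]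
      exact (IsLocalRing.isUnit_or_isUnit_of_add_one this).resolve_left h
    · intro h h'
      exact (h'.mul h).ne_zero hx
  rw [← isOpen_compl_iff, h]
  exact (T.basicOpen (1 - e)).isOpen

/-- A quasi-compact scheme maps quasi-compactly to a quasi-separated space. -/
theorem repWith_quasiCompact_of_compact [QuasiSeparatedSpace ↥S] {X : Sp S} (hX : IsAlgSpace X)
    (hqs : IsQuasiSeparatedSp X) {U : Over S} [CompactSpace ↥U.left] (a : (yon S).obj U ⟶ X) :
    RepWith @QuasiCompact a := by
  refine repWith_of_representable (representable_of_diag hX.diag a) fun T V g fst snd sq => ?_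
  obtain ⟨l, hl⟩ := (yon S).map_surjective fst
  subst hl
  have : QuasiCompact (prod.lift l snd).left := prop_lift_of_repWith_diag hqs sq
  have : QuasiCompact U.hom := inferInstance
  have : QuasiCompact (prod.snd : U ⨯ T ⟶ T).left :=
    MorphismProperty.of_isPullback (P := @QuasiCompact) (isPullback_prod_left U T) ‹QuasiCompact U.hom›
  rw [← lift_left_snd l snd]
  infer_instance

/-- A stable normalization of a morphism which is finite etale over a set of points is finite
etale over it. -/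
theorem feOver_restrict {X : Sp S} {U N M W : Over S} {a : (yon S).obj U ⟶ X}
    {c : (yon S).obj W ⟶ X} {m₁ : M ⟶ W} {m₂ : M ⟶ U} {ν₀ : N ⟶ U}
    {f₀ : (yon S).obj M ⟶ (yon S).obj N} (hst : AlgSp3.IsStable ((yon S).map m₂) ν₀ f₀)
    (sqP : IsPullback ((yon S).map m₁) ((yon S).map m₂) c a) {O : Set (AlgSp.Points X)}
    (hfe : FEOver c O) (L : U.left.Opens) (hL : ∀ u ∈ L, AlgSp.Points.ofPt a u ∈ O) :
    IsFinite (ν₀.left ∣_ L) ∧ Etale (ν₀.left ∣_ L) := by
  have key : ∀ K : {K : L.toScheme.Opens // IsAffineOpen K},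
      IsFinite (ν₀.left ∣_ L ∣_ K.1) ∧ Etale (ν₀.left ∣_ L ∣_ K.1) := fun K => by
    let K' : U.left.Opens := L.ι ''ᵁ K.1
    have hK' : IsAffineOpen K' := K.2.image_of_isOpenImmersion L.ι
    have hle : ∀ u ∈ K', u ∈ L := fun u hu => by
      obtain ⟨v, -, rfl⟩ := hu
      exact v.2
    have : IsAffine (AlgSp3.resObj K').left := hK'
    obtain ⟨νK, sqν⟩ := AlgSp3.exists_isPullback_resι ν₀ K'
    obtain ⟨πK, sqπ⟩ := AlgSp3.exists_isPullback_resι m₂ K'
    obtain ⟨fK, hfK₁, hfK₂⟩ : ∃ fK, fK ≫ (yon S).map νK = (yon S).map πK ∧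
        fK ≫ (yon S).map (AlgSp3.resι (ν₀.left ⁻¹ᵁ K')) =
          (yon S).map (AlgSp3.resι (m₂.left ⁻¹ᵁ K')) ≫ f₀ :=
      ⟨_, (sqν.map (yon S)).lift_snd _ _ (by
        rw [Category.assoc, hst.fac, ← Functor.map_comp, sqπ.w, Functor.map_comp]),
        (sqν.map (yon S)).lift_fst _ _ _⟩
    have hN := hst.univ ‹IsAffine _› (AlgSp3.resι K')
      (show Etale K'.ι from inferInstance) _ _ (sqπ.map (yon S)) _ _ sqν fK hfK₁ hfK₂
    have big := (sqπ.map (yon S)).paste_horiz sqP
    rw [← Functor.map_comp] at big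
    obtain ⟨hf, he⟩ := hfe _ _ πK big fun x => by
      rw [ofPt_comp_yon]
      exact hL _ (hle _ x.2)
    have hint := AlgSp3.isIntegralMor_yon_map πK (inferInstance : IsIntegralHom πK.left)
    obtain ⟨mI, ⟨hmI₁, hmI₂⟩, -⟩ := hN (IsAlgSpace.yon_obj _) _ (𝟙 _) hint (Category.id_comp _)
    have hνint := AlgSp3.isIntegralMor_yon_map νK
      (MorphismProperty.of_isPullback (P := @IsIntegralHom) (isPullback_left sqν) hst.integral)
    have hinv : mI ≫ fK = 𝟙 _ :=
      (hN (IsAlgSpace.yon_obj _) _ fK hνint hfK₁).unique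
        ⟨by rw [reassoc_of% hmI₁], by rw [Category.assoc, hfK₁, hmI₂]⟩
        ⟨Category.comp_id _, Category.id_comp _⟩
    obtain ⟨mI', rfl⟩ := (yon S).map_surjective mI
    obtain ⟨fK', rfl⟩ := (yon S).map_surjective fK
    let eI : _ ≅ _ := (Over.forget S).mapIso (Iso.mk mI' fK'
      ((yon S).map_injective (by rw [Functor.map_comp, hinv, CategoryTheory.Functor.map_id]))
      ((yon S).map_injective (by rw [Functor.map_comp, hmI₁, CategoryTheory.Functor.map_id])))
    have heI : eI.hom ≫ πK.left = νK.left := congrArg CommaMorphism.left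
      (((yon S).map_injective (by rw [Functor.map_comp, hmI₂]) : mI' ≫ πK = νK))
    have hiso : ∀ (Q : MorphismProperty Scheme.{u}) [Q.RespectsIso], Q πK.left →
        Q (ν₀.left ∣_ L ∣_ K.1) := fun Q _ hQ => by
      refine (Q.arrow_mk_iso_iff (morphismRestrictRestrict ν₀.left L K.1)).2 ?_
      have hr := (isPullback_morphismRestrict ν₀.left K').flip
      rw [← (isPullback_left sqν).isoIsPullback_inv_snd _ _ hr, Q.cancel_left_of_respectsIso,
        ← heI]
      exact (Q.cancel_left_of_respectsIso eI.hom πK.left).2 hQ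
    exact ⟨hiso @IsFinite hf, hiso @Etale he⟩
  have hcov : (⨆ K : {K : L.toScheme.Opens // IsAffineOpen K}, K.1) = ⊤ :=
    iSup_affineOpens_eq_top L.toScheme
  exact ⟨IsZariskiLocalAtTarget.of_iSup_eq_top (P := @IsFinite) _ hcov fun K => (key K).1,
    IsZariskiLocalAtTarget.of_iSup_eq_top (P := @Etale) _ hcov fun K => (key K).2⟩

/-- An etale separated morphism covered by finitely many sections is finite. -/
theorem isFinite_of_sections {M W : Scheme.{u}} (s : M ⟶ W) [Etale s] [IsSeparated s] {ι : Type u}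
    [Finite ι] (σ : ι → (W ⟶ M)) (hσ : ∀ i, σ i ≫ s = 𝟙 W)
    (hcov : ∀ z : ↥M, ∃ i, z ∈ Set.range (σ i)) : IsFinite s := by
  let d : (∐ fun _ : ι => W) ⟶ M := Sigma.desc σ
  have : Surjective d := ⟨fun z => by
    obtain ⟨i, w, rfl⟩ := hcov z
    exact ⟨Sigma.ι (fun _ : ι => W) i w, by rw [← Scheme.Hom.comp_apply, Sigma.ι_desc]⟩⟩
  have : IsFinite (d ≫ s) := by
    have e : d ≫ s = Sigma.desc fun _ : ι => 𝟙 W := Sigma.hom_ext _ _ fun i => by simp [d, hσ]
    rw [e]
    exact Groth.Pi1Quot.isFinite_sigmaDesc _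
  have : UniversallyClosed s := UniversallyClosed.of_comp_surjective d s
  have : IsProper s := { }
  exact (IsFinite.iff_isProper_and_locallyQuasiFinite _).2
    ⟨this, Groth.DescentBase.locallyQuasiFinite_of_etale s⟩

/-- The configuration space restricted to a set of points without further lifts is finite etale
over it. -/
theorem feOver_confSpace {X : Sp S} (hX : IsAlgSpace X) {U : Over S} {a : (yon S).obj U ⟶ X}
    {n : ℕ} (D : DistinctSpace a n) {W : Over S} [W.left.IsSeparated] (j : W ⟶ D.W)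
    [IsOpenImmersion j.left] {O : Set (AlgSp.Points X)}
    (hr : Set.range j.left = AlgSp.Points.ofPt D.c ⁻¹' O)
    (hO : O ⊆ confSet a (n + 1)) (hout : ∀ x ∈ O, x ∉ confSet a (n + 2)) :
    FEOver ((yon S).map j ≫ D.c) O := by
  have : Etale j.left := inferInstance
  have hc : RepWith @Etale ((yon S).map j ≫ D.c) :=
    repWith_comp ((repWith_yon_map_iff _ j).2 ‹_›) D.etale
  have hjm : Mono j := (Over.forget S).mono_of_mono_map (f := j) (inferInstance : Mono j.left)
  have hOr : O ⊆ Set.range (AlgSp.Points.ofPt ((yon S).map j ≫ D.c)) := fun x hx => by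
    obtain ⟨w, rfl⟩ := (confSet_eq_range D).le (hO hx)
    obtain ⟨v, rfl⟩ := hr.ge (show w ∈ _ from hx)
    exact ⟨v, ofPt_comp_yon _ _ _⟩
  obtain ⟨M, w₁, w₂, sq⟩ := exists_pullback_of_diag hX.diag ((yon S).map j ≫ D.c)
    ((yon S).map j ≫ D.c)
  have : Etale w₂.left := repWith_fst_of_isPullback sq hc
  have : IsSeparated w₂.left :=
    repWith_fst_of_isPullback sq (repWith_isSeparated_of_isSeparated hX _)
  have hsec : ∀ σ : Equiv.Perm (Fin (n + 1)), ∃ s : W ⟶ M, s ≫ w₂ = 𝟙 W ∧
      ∀ i, s ≫ w₁ ≫ j ≫ D.e i = j ≫ D.e (σ i) := fun σ => by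
    obtain ⟨m, hm⟩ := D.exists_lift (fun i => j ≫ D.e (σ i)) ((yon S).map j ≫ D.c)
      (fun i => by rw [Functor.map_comp, Category.assoc, D.comm])
      (fun t i i' e => σ.injective ((D.inj.comp j) t e))
    have hmc : (yon S).map m ≫ D.c = (yon S).map j ≫ D.c := by
      rw [← D.comm 0, ← Category.assoc, ← Functor.map_comp, hm, Functor.map_comp, Category.assoc,
        D.comm, D.comm]
    have hmr : Set.range m.left ⊆ Set.range j.left := by
      rintro _ ⟨w, rfl⟩
      refine hr.ge ?_
      show _ ∈ O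
      rw [← ofPt_comp_yon, hmc, ofPt_comp_yon]
      exact hr.le ⟨w, rfl⟩
    let l : W ⟶ W := Over.homMk (IsOpenImmersion.lift j.left m.left hmr) (by
      conv_lhs => rw [← Over.w j, ← Category.assoc, IsOpenImmersion.lift_fac, Over.w m])
    have hl : l ≫ j = m := Over.OverMorphism.ext (IsOpenImmersion.lift_fac _ _ _)
    obtain ⟨s, hs⟩ := (yon S).map_surjective (sq.lift ((yon S).map l) (𝟙 _) (by
      rw [Category.id_comp, ← Category.assoc, ← Functor.map_comp, hl, hmc]))
    have hs₁ : s ≫ w₁ = l := (yon S).map_injective (by rw [Functor.map_comp, hs, sq.lift_fst])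
    exact ⟨s, (yon S).map_injective (by
      rw [Functor.map_comp, hs, sq.lift_snd, CategoryTheory.Functor.map_id]),
      fun i => by rw [reassoc_of% hs₁, reassoc_of% hl, hm]⟩
  choose s hs₂ hs₁ using hsec
  have hcovM : ∀ z : ↥M.left, ∃ σ : ULift.{u} (Equiv.Perm (Fin (n + 1))),
      z ∈ Set.range (s σ.down).left := fun z => by
    let x := resPt z
    let A : Fin (n + 1) → (_ ⟶ U) := fun i => x ≫ w₁ ≫ j ≫ D.e i
    let B : Fin (n + 1) → (_ ⟶ U) := fun i => x ≫ w₂ ≫ j ≫ D.e i
    have hA : Function.Injective A :=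
      ptsInj_field_iff.1 (((D.inj.comp j).comp w₁).comp x)
    have hB : Function.Injective B :=
      ptsInj_field_iff.1 (((D.inj.comp j).comp w₂).comp x)
    have hAB : ∀ i, ∃ i', A i = B i' := fun i => by
      by_contra hne
      push Not at hne
      let C : Fin (n + 2) → (_ ⟶ U) := Fin.cons (A i) B
      have hC : Function.Injective C := by
        rw [Fin.cons_injective_iff]
        exact ⟨fun ⟨i', hi'⟩ => hne i' hi'.symm, hB⟩
      refine hout (AlgSp.Points.ofPt ((yon S).map w₂ ≫ (yon S).map j ≫ D.c) z) ?_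
        ⟨mkPt ((yon S).map x ≫ (yon S).map w₂ ≫ (yon S).map j ≫ D.c), C, fun k => ?_, hC,
          mk_mkPt_resPt z _⟩
      · rw [ofPt_comp_yon, ofPt_comp_yon]
        exact hr.le ⟨_, rfl⟩
      · rw [mkPt_toHom]
        have h₀ : ∀ {Z : Over S} (q : Z ⟶ M) (i : Fin (n + 1)),
            (yon S).map (q ≫ w₁ ≫ j ≫ D.e i) ≫ a =
              (yon S).map q ≫ (yon S).map w₂ ≫ (yon S).map j ≫ D.c := fun q i => by
          simp only [Functor.map_comp, Category.assoc, D.comm]
          rw [sq.w]
        have h₁ : ∀ {Z : Over S} (q : Z ⟶ M) (i : Fin (n + 1)),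
            (yon S).map (q ≫ w₂ ≫ j ≫ D.e i) ≫ a =
              (yon S).map q ≫ (yon S).map w₂ ≫ (yon S).map j ≫ D.c := fun q i => by
          simp only [Functor.map_comp, Category.assoc, D.comm]
        induction k using Fin.cases with
        | zero => rw [show C 0 = A i from Fin.cons_zero _ _]; exact h₀ x i
        | succ k => rw [show C k.succ = B k from Fin.cons_succ _ _ _]; exact h₁ x k
    choose τ hτ using hAB
    have hτi : Function.Injective τ := fun i i' e => hA (by rw [hτ, hτ, e])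
    let σ : Equiv.Perm (Fin (n + 1)) :=
      Equiv.ofBijective τ ⟨hτi, Finite.injective_iff_surjective.1 hτi⟩
    refine ⟨⟨σ⟩, (x ≫ w₂).left (IsLocalRing.closedPoint _), ?_⟩
    have e : x = (x ≫ w₂) ≫ s σ := by
      apply (yon S).map_injective
      apply sq.hom_ext
      · rw [← Functor.map_comp, ← Functor.map_comp]
        congr 1
        rw [← cancel_mono j]
        refine D.hom_ext _ _ fun i => ?_
        simp only [Category.assoc, hs₁]
        exact hτ i
      · rw [← Functor.map_comp, ← Functor.map_comp]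
        congr 1
        simp only [Category.assoc, hs₂, Category.comp_id]
    have h' := congrArg (fun k : _ ⟶ M => k.left (IsLocalRing.closedPoint (M.left.residueField z))) e
    exact h'.symm.trans (Scheme.fromSpecResidueField_apply _ _)
  have : IsFinite w₂.left := isFinite_of_sections w₂.left
    (fun σ : ULift.{u} (Equiv.Perm (Fin (n + 1))) => (s σ.down).left)
    (fun σ => congrArg CommaMorphism.left (hs₂ σ.down)) hcovM
  exact (feOver_range hX hc sq).mono hOr

/-- The normalization of the space in a configuration space over a quasi-compact open set of points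
without further lifts is a scheme, finite etale over this set. -/
theorem exists_integral_piece [QuasiSeparatedSpace ↥S] {X : Sp S} (hX : IsAlgSpace X)
    (hqs : IsQuasiSeparatedSp X) {U : Over S} [IsAffine U.left] {a : (yon S).obj U ⟶ X}
    (ha : RepWith @Etale a) (has : RepWith @Surjective a) {n : ℕ}
    {𝒱 : Set (AlgSp.Points X)} (hOo : IsOpen 𝒱) (hOcp : IsCompact 𝒱)
    (h𝒱 : 𝒱 ⊆ confSet a (n + 1)) (hout : ∀ x ∈ 𝒱, x ∉ confSet a (n + 2)) :
    ∃ (Y : Over S) (g : (yon S).obj Y ⟶ X), RepWith @IsIntegralHom g ∧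
      𝒱 ⊆ Set.range (AlgSp.Points.ofPt g) ∧ Set.range (AlgSp.Points.ofPt g) ⊆ closure 𝒱 ∧
      FEOver g 𝒱 ∧
      ∀ y : ↥Y.left, ∃ (W : Y.left.Opens) (c : Over.mk (W.ι ≫ Y.hom) ⟶ U), y ∈ W ∧
        (yon S).map c ≫ a = (yon S).map (Over.homMk W.ι rfl : Over.mk (W.ι ≫ Y.hom) ⟶ Y) ≫ g := by
  obtain ⟨D⟩ := exists_distinctSpace hX ha n
  have := D.sep
  have : CompactSpace ↥D.W.left := D.compact (repWith_quasiCompact_of_qs hX hqs a)
  let Wo : D.W.left.Opens :=
    ⟨AlgSp.Points.ofPt D.c ⁻¹' 𝒱, hOo.preimage (AlgSp.Points.continuous_ofPt D.c)⟩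
  let W : Over S := AlgSp3.resObj Wo
  let j : W ⟶ D.W := AlgSp3.resι Wo
  have : IsOpenImmersion j.left := inferInstanceAs (IsOpenImmersion Wo.ι)
  have hrj : Set.range j.left = AlgSp.Points.ofPt D.c ⁻¹' 𝒱 := Scheme.Opens.range_ι Wo
  have : W.left.IsSeparated := by
    constructor
    rw [← terminal.comp_from j.left]
    infer_instance
  have : CompactSpace ↥W.left := by
    have h := isCompact_preimage_of_isQuasiCompactMor (IsAlgSpace.yon_obj D.W) hX
      (isQuasiCompactMor_of_repWith (IsAlgSpace.yon_obj _) hX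
        (repWith_quasiCompact_of_compact hX hqs D.c)) hOo hOcp
    have h' := (AlgSp.Points.schemeHomeo D.W).isCompact_preimage.2 h
    have e : AlgSp.Points.schemeHomeo D.W ⁻¹' (AlgSp.Points.map D.c ⁻¹' 𝒱) = (Wo : Set ↥D.W.left) := by
      ext w
      show AlgSp.Points.map D.c _ ∈ 𝒱 ↔ AlgSp.Points.ofPt D.c w ∈ 𝒱
      rw [ofPt_eq_map]
      rfl
    rw [e] at h'
    exact isCompact_iff_compactSpace.1 h'
  let c : (yon S).obj W ⟶ X := (yon S).map j ≫ D.c
  let e : Fin (n + 1) → (W ⟶ U) := fun i => j ≫ D.e i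
  have hce : ∀ i, (yon S).map (e i) ≫ a = c := fun i => by
    simp only [e, c, Functor.map_comp, Category.assoc, D.comm]
  have hinj : PtsInj e := D.inj.comp j
  have hWO : ∀ w, AlgSp.Points.ofPt c w ∈ 𝒱 := fun w => by
    show AlgSp.Points.ofPt ((yon S).map j ≫ D.c) w ∈ 𝒱
    rw [ofPt_comp_yon]
    exact hrj.le ⟨w, rfl⟩
  have hrc : 𝒱 ⊆ Set.range (AlgSp.Points.ofPt c) := fun x hx => by
    obtain ⟨w, rfl⟩ := (confSet_eq_range D).le (h𝒱 hx)
    obtain ⟨v, rfl⟩ := hrj.ge (show w ∈ _ from hx)
    exact ⟨v, ofPt_comp_yon _ _ _⟩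
  have hfe : FEOver c 𝒱 := feOver_confSpace hX D j hrj h𝒱 hout
  clear_value c
  have hcq : IsQuasiCompactMor c :=
    isQuasiCompactMor_of_repWith (IsAlgSpace.yon_obj _) hX
      (repWith_quasiCompact_of_compact hX hqs c)
  have hcs : IsQuasiSeparatedMor c := by
    have h : IsSeparatedMor c :=
      (AlgSp2.repWith_isSeparated_iff (representable_of_diag hX.diag _)).2
        (repWith_isSeparated_of_isSeparated hX c)
    exact repWith_mono (Q := @QuasiCompact) (fun _ _ g (_ : IsClosedImmersion g) => inferInstance) h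
  -- the pullback of the configuration space to the chart
  obtain ⟨M, m₁, m₂, sqP⟩ := exists_pullback_of_diag hX.diag c a
  have : Etale m₁.left := repWith_fst_of_isPullback sqP.flip ha
  have : IsSeparated m₁.left :=
    repWith_fst_of_isPullback sqP.flip (repWith_isSeparated_of_isSeparated hX a)
  obtain ⟨C⟩ := AlgSp3.exists_affCover (IsAlgSpace.yon_obj M)
    (isQuasiCompactMor_of_isPullback sqP hcq)
    (repWith_of_isPullback (isPullback_diagonal_baseChange sqP) hcs)
  have := C.affW
  have := C.affW₃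
  obtain ⟨N, ν₀, nn, hnd⟩ := AlgSp3.exists_isNormData C
  have := hnd.affine
  obtain ⟨f₀, hf₀, -⟩ := C.existsUnique_desc ((yon S).map nn)
    (by rw [← Functor.map_comp, ← Functor.map_comp, hnd.eq])
  have hfac₀ : f₀ ≫ (yon S).map ν₀ = (yon S).map m₂ := C.hom_ext (by
    rw [← Category.assoc, hf₀, ← Functor.map_comp, hnd.fac, C.fac])
  have hst : AlgSp3.IsStable ((yon S).map m₂) ν₀ f₀ := ⟨hfac₀, hnd.integral,
    fun K hK c hc P' qP π' sq N' qN ν' sqN f'' h₁ h₂ =>
      have := hK
      AlgSp3.isNormHom_baseChange hnd hf₀ c sq sqN h₁ h₂⟩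
  obtain ⟨Y₀, νX, fX, qX, hY₀, hfX, hνX, sqN, hqX⟩ :=
    AlgSp3.exists_normalization_of_isStable hX ha has sqP hst
  obtain ⟨k, rfl⟩ := (yon S).map_surjective f₀
  obtain ⟨wc, hwc⟩ := (yon S).map_surjective C.w
  have hwk : wc ≫ k = nn := (yon S).map_injective (by rw [Functor.map_comp, hwc, hf₀])
  have : Etale wc.left := (repWith_yon_map_iff _ wc).1 (hwc ▸ C.etale)
  have hwcs : Function.Surjective wc.left := by
    have := C.surj
    intro m
    obtain ⟨R, r₁, r₂, sqR⟩ := exists_pullback_of_diag (IsAlgSpace.yon_obj M).diag C.w C.w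
    obtain ⟨V, iv, hiv, hcov⟩ : ∃ (V : Over S) (i : V ⟶ M) (_ : m ∈ Set.range i.left),
        ∃ l : V ⟶ C.W, l ≫ wc = i := by
      obtain ⟨Cv, hCv, hle⟩ := exists_cover_of_mem (X := M)
        (Presheaf.imageSieve_mem (J S) C.w.hom (U := op M) (yEquiv (𝟙 ((yon S).obj M))))
      obtain ⟨𝒰, h𝒰⟩ := Presieve.exists_eq_preZeroHypercover Cv
      subst h𝒰
      obtain ⟨i, v, hv⟩ := (Scheme.ofArrows_mem_precoverage_iff _ |>.1 hCv).1 m
      obtain ⟨y, hy⟩ := hle (𝒰.f i) ⟨i⟩
      obtain ⟨l, hl⟩ := (yon S).map_surjective (yEquiv.symm y)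
      refine ⟨_, Over.homMk (𝒰.f i), ⟨v, hv⟩, l, (yon S).map_injective ?_⟩
      rw [Functor.map_comp, hl, hwc]
      apply yEquiv.injective
      refine ((J S).uliftYonedaEquiv_comp _ C.w).trans ?_
      rw [Equiv.apply_symm_apply]
      refine hy.trans ?_
      refine ((J S).uliftYonedaEquiv_naturality _ _).trans ?_
      rw [Category.comp_id]
    obtain ⟨v, rfl⟩ := hiv
    obtain ⟨l, rfl⟩ := hcov
    exact ⟨l.left v, rfl⟩
  have hkd : DenseRange k.left := by
    have : IsDominant nn.left := isDominant_of_of_appTop_injective hnd.inj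
    have hd := nn.left.denseRange
    rw [← hwk, Over.comp_left] at hd
    exact hd.mono (by rintro _ ⟨w, rfl⟩; exact ⟨wc.left w, rfl⟩)
  -- the sections of the pullback
  have hσ : ∀ i, ∃ σ : W ⟶ M, σ ≫ m₁ = 𝟙 _ ∧ σ ≫ m₂ = e i := fun i => by
    obtain ⟨σ, hσ⟩ := (yon S).map_surjective (sqP.lift (𝟙 _) ((yon S).map (e i))
      (by rw [Category.id_comp, hce]))
    exact ⟨σ, (yon S).map_injective (by
      rw [Functor.map_comp, hσ, sqP.lift_fst, CategoryTheory.Functor.map_id]),
      (yon S).map_injective (by rw [Functor.map_comp, hσ, sqP.lift_snd])⟩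
  choose σ hσ₁ hσ₂ using hσ
  have hσl : ∀ i, (σ i).left ≫ m₁.left = 𝟙 W.left := fun i =>
    congrArg CommaMorphism.left (hσ₁ i)
  have hΓ : ∀ i, IsClopen (Set.range (σ i).left) := fun i => by
    have : IsIso ((σ i).left ≫ m₁.left) := by rw [hσl]; infer_instance
    have : IsClosedImmersion (σ i).left := IsClosedImmersion.of_comp (σ i).left m₁.left
    have : Etale (σ i).left := MorphismProperty.of_postcomp
      (W' := @Etale) (W := @Etale) (σ i).left m₁.left inferInstance inferInstance
    have : IsOpenImmersion (σ i).left := IsOpenImmersion.of_flat_of_mono _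
    exact ⟨(σ i).left.isClosedEmbedding.isClosed_range, (σ i).left.isOpenEmbedding.isOpen_range⟩
  have hcov : ∀ m : ↥M.left, ∃ i, m ∈ Set.range (σ i).left := fun m => by
    by_contra hne
    push Not at hne
    let x := resPt m
    let A : Fin (n + 1) → (_ ⟶ U) := fun i => x ≫ m₁ ≫ e i
    have hA : Function.Injective A := ptsInj_field_iff.1 ((hinj.comp m₁).comp x)
    let B : Fin (n + 2) → (_ ⟶ U) := Fin.cons (x ≫ m₂) A
    have hB : Function.Injective B := by
      rw [Fin.cons_injective_iff]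
      refine ⟨fun ⟨j, hj⟩ => hne j ?_, hA⟩
      have e : x = x ≫ m₁ ≫ σ j := by
        apply (yon S).map_injective
        apply sqP.hom_ext
        · rw [← Functor.map_comp, ← Functor.map_comp]
          congr 1
          simp only [Category.assoc, hσ₁, Category.comp_id]
        · rw [← Functor.map_comp, ← Functor.map_comp]
          congr 1
          simp only [Category.assoc, hσ₂]
          exact hj.symm
      refine ⟨(x ≫ m₁).left (IsLocalRing.closedPoint _), ?_⟩
      have h' := congrArg (fun k : _ ⟶ M => k.left (IsLocalRing.closedPoint (M.left.residueField m))) e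
      exact h'.symm.trans (Scheme.fromSpecResidueField_apply _ _)
    have hmem : AlgSp.Points.ofPt ((yon S).map m₁ ≫ c) m ∈ confSet a (n + 2) := by
      refine ⟨mkPt ((yon S).map x ≫ (yon S).map m₁ ≫ c), B, fun j => ?_, hB, mk_mkPt_resPt m _⟩
      rw [mkPt_toHom]
      have h₀ : ∀ {Z : Over S} (q : Z ⟶ M), (yon S).map (q ≫ m₂) ≫ a =
          (yon S).map q ≫ (yon S).map m₁ ≫ c := fun q => by
        rw [Functor.map_comp, Category.assoc, ← sqP.w]
      have h₁ : ∀ {Z : Over S} (q : Z ⟶ M) (j), (yon S).map (q ≫ m₁ ≫ e j) ≫ a =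
          (yon S).map q ≫ (yon S).map m₁ ≫ c := fun q j => by
        rw [Functor.map_comp, Functor.map_comp, Category.assoc, Category.assoc, hce]
      induction j using Fin.cases with
      | zero => rw [show B 0 = x ≫ m₂ from Fin.cons_zero _ _]; exact h₀ x
      | succ j => rw [show B j.succ = x ≫ m₁ ≫ e j from Fin.cons_succ _ _ _]; exact h₁ x j
    refine hout _ ?_ hmem
    rw [ofPt_comp_yon]
    exact hWO _
  -- the clopen pieces of the normalization
  have hO : ∀ i, ∃ O : N.left.Opens, IsClosed (O : Set ↥N.left) ∧ IsAffineOpen O ∧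
      ∀ m, k.left m ∈ O ↔ m ∈ Set.range (σ i).left := fun i => by
    let E : C.W.left.Opens :=
      ⟨wc.left ⁻¹' Set.range (σ i).left, (hΓ i).2.preimage wc.left.continuous⟩
    obtain ⟨e, he, heE⟩ := exists_isIdempotentElem_basicOpen E
      ((hΓ i).1.preimage wc.left.continuous)
    have hab : C.a.left.appTop e = C.b.left.appTop e := by
      refine eq_of_basicOpen_eq (he.map C.a.left.appTop.hom) (he.map C.b.left.appTop.hom) ?_
      rw [← Scheme.preimage_basicOpen_top, ← Scheme.preimage_basicOpen_top, heE]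
      ext z
      have h : C.a ≫ wc = C.b ≫ wc := (yon S).map_injective (by
        rw [Functor.map_comp, Functor.map_comp, hwc, C.eq])
      show wc.left (C.a.left z) ∈ Set.range (σ i).left ↔ wc.left (C.b.left z) ∈ Set.range (σ i).left
      rw [show wc.left (C.a.left z) = wc.left (C.b.left z) from
        congrArg (fun f : C.W₃ ⟶ M => f.left z) h]
    obtain ⟨y, hy⟩ := hnd.max e (isIntegralElem_of_isIdempotentElem _ he) hab
    have hyi : IsIdempotentElem y := hnd.inj (by
      show nn.left.appTop (y * y) = nn.left.appTop y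
      rw [map_mul]
      exact hy.symm ▸ he)
    refine ⟨N.left.basicOpen y, (isClopen_basicOpen_of_isIdempotentElem hyi).1,
      (isAffineOpen_top N.left).basicOpen y, fun m => ?_⟩
    obtain ⟨w, rfl⟩ := hwcs m
    have hp : nn.left ⁻¹ᵁ N.left.basicOpen y = E := by
      rw [Scheme.preimage_basicOpen_top, hy, heE]
    show _ ↔ w ∈ E
    rw [← hp]
    rw [← hwk]
    rfl
  choose O hOc hOa hOk using hO
  have hOcov : ∀ z : ↥N.left, ∃ i, z ∈ O i := by
    have hcl : IsClosed (⋃ i, (O i : Set ↥N.left)) := isClosed_iUnion_of_finite hOc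
    intro z
    have : z ∈ ⋃ i, (O i : Set ↥N.left) := by
      refine hcl.closure_subset (closure_mono ?_ (hkd z))
      rintro _ ⟨m, rfl⟩
      obtain ⟨i, hi⟩ := hcov m
      exact Set.mem_iUnion.2 ⟨i, (hOk i m).2 hi⟩
    exact Set.mem_iUnion.1 this
  -- the pieces are open subspaces
  have hfν : RepWith @Etale qX := repWith_of_isPullback sqN.flip ha
  have hqs' : RepWith @Surjective qX := repWith_of_isPullback sqN.flip has
  have sqM : IsPullback ((yon S).map m₁) ((yon S).map k) fX qX := by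
    refine IsPullback.of_bot (v₂₁ := (yon S).map ν₀) (v₂₂ := νX) (h₃₁ := a) ?_ hqX.symm sqN
    rw [hfac₀, hfX]
    exact sqP
  let Oo : Fin (n + 1) → Over S := fun i => Over.mk ((O i).ι ≫ N.hom)
  let ι : ∀ i, Oo i ⟶ N := fun i => Over.homMk (O i).ι rfl
  let φ : ∀ i, (yon S).obj (Oo i) ⟶ Y₀ := fun i => (yon S).map (ι i) ≫ qX
  have hφ : ∀ i, RepWith @IsOpenImmersion (φ i) := fun i => by
    have : IsAffine (Oo i).left := hOa i
    have : IsOpenImmersion (ι i).left := inferInstanceAs (IsOpenImmersion (O i).ι)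
    have hφe : RepWith @Etale (φ i) :=
      repWith_comp ((repWith_yon_map_iff _ (ι i)).2 inferInstance) hfν
    obtain ⟨R, r₁, r₂, sqR⟩ := exists_pullback_of_diag hY₀.diag (φ i) (φ i)
    have : IsSeparated r₂.left := isSeparated_kernelPair sqR
    have : Etale r₂.left := repWith_fst_of_isPullback sqR hφe
    obtain ⟨δ, hδ₁, hδ₂⟩ := (isEqvRel_of_isPullback sqR).equivalence (Oo i) |>.refl (𝟙 _)
    have hδl : δ.left ≫ r₂.left = 𝟙 (Oo i).left := congrArg CommaMorphism.left hδ₂
    have : IsIso (δ.left ≫ r₂.left) := by rw [hδl]; infer_instance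
    have : IsClosedImmersion δ.left := IsClosedImmersion.of_comp δ.left r₂.left
    have hRd : Set.range δ.left = Set.univ := by
      by_contra hne
      let Cc : Set ↥R.left := (Set.range δ.left)ᶜ
      have hCo : IsOpen (r₂.left '' Cc) :=
        etale_isOpenMap r₂.left ‹_› _ δ.left.isClosedEmbedding.isClosed_range.isOpen_compl
      have hCo' : IsOpen ((ι i).left '' (r₂.left '' Cc)) :=
        (ι i).left.isOpenEmbedding.isOpenMap _ hCo
      have hCn : ((ι i).left '' (r₂.left '' Cc)).Nonempty :=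
        ((Set.nonempty_compl.2 hne).image _).image _
      obtain ⟨_, ⟨_, ⟨z, hz, rfl⟩, hzk⟩, ⟨m, rfl⟩⟩ := hkd.inter_open_nonempty _ hCo' hCn
      obtain ⟨Ee, e₁, e₂, sqE⟩ : ∃ (Ee : Over S) (e₁ : Ee ⟶ R) (e₂ : Ee ⟶ M),
          IsPullback e₁ e₂ (r₂ ≫ ι i) k := ⟨_, _, _, IsPullback.of_hasPullback _ _⟩
      obtain ⟨e, he₁, he₂⟩ :=
        Scheme.exists_preimage_of_isPullback (isPullback_left sqE) z m hzk
      let x := resPt e
      -- the other projection lifts to the same section
      let u₁ := x ≫ e₁ ≫ r₁ ≫ ι i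
      let v := x ≫ e₂ ≫ m₁
      obtain ⟨l, hl⟩ := (yon S).map_surjective (sqM.lift ((yon S).map v) ((yon S).map u₁) (by
        have h1 : (yon S).map (x ≫ e₁ ≫ r₁ ≫ ι i) ≫ qX =
            (yon S).map (x ≫ e₁ ≫ r₂ ≫ ι i) ≫ qX := by
          simp only [Functor.map_comp, Category.assoc]
          rw [sqR.w]
        rw [h1, sqE.w]
        simp only [v, Functor.map_comp, Category.assoc, sqM.w]))
      have hl₁ : l ≫ m₁ = v := (yon S).map_injective (by rw [Functor.map_comp, hl, sqM.lift_fst])
      have hl₂ : l ≫ k = u₁ := (yon S).map_injective (by rw [Functor.map_comp, hl, sqM.lift_snd])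
      have hfac : ∀ {T : Over S} (p : T ⟶ M), (∀ t, k.left (p.left t) ∈ O i) →
          p ≫ m₁ ≫ σ i = p := by
        intro T p hp
        have hr : Set.range p.left ⊆ Set.range (σ i).left := by
          rintro _ ⟨t, rfl⟩; exact (hOk i _).1 (hp t)
        have : IsIso ((σ i).left ≫ m₁.left) := by rw [hσl]; infer_instance
        have : Etale (σ i).left := MorphismProperty.of_postcomp
          (W' := @Etale) (W := @Etale) (σ i).left m₁.left inferInstance inferInstance
        have : Mono (σ i).left := mono_of_mono (σ i).left m₁.left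
        have : IsOpenImmersion (σ i).left := IsOpenImmersion.of_flat_of_mono _
        apply Over.OverMorphism.ext
        rw [Over.comp_left, Over.comp_left, ← IsOpenImmersion.lift_fac (σ i).left p.left hr]
        simp only [Category.assoc, reassoc_of% (hσl i)]
      have hl' : l ≫ m₁ ≫ σ i = l := hfac l fun t => by
        rw [show k.left (l.left t) = u₁.left t from congrArg (fun f : _ ⟶ N => f.left t) hl₂]
        exact (r₁.left (e₁.left (x.left t))).2
      have hx' : (x ≫ e₂) ≫ m₁ ≫ σ i = x ≫ e₂ := hfac _ fun t => by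
        have h := congrArg (fun f : Ee ⟶ N => f.left (x.left t)) sqE.w
        simp only [Over.comp_left, Scheme.Hom.comp_apply] at h ⊢
        rw [← h]
        exact (r₂.left (e₁.left (x.left t))).2
      have hle : l = x ≫ e₂ := by
        rw [← hl', ← hx', ← Category.assoc, hl₁, show v = (x ≫ e₂) ≫ m₁ from (Category.assoc _ _ _).symm,
          Category.assoc]
      have hu : (x ≫ e₁ ≫ r₁) ≫ ι i = (x ≫ e₁ ≫ r₂) ≫ ι i := by
        rw [show (x ≫ e₁ ≫ r₁) ≫ ι i = u₁ by simp only [u₁, Category.assoc], ← hl₂, hle,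
          Category.assoc, ← sqE.w]
        simp only [Category.assoc]
      have hr : x ≫ e₁ ≫ r₁ = x ≫ e₁ ≫ r₂ :=
        Over.OverMorphism.ext ((cancel_mono (ι i).left).1 (congrArg CommaMorphism.left hu))
      have hxd : x ≫ e₁ = (x ≫ e₁ ≫ r₂) ≫ δ := by
        refine (isEqvRel_of_isPullback sqR).injective _ _ _ ?_ ?_
        · simp only [Category.assoc, hδ₁, Category.comp_id, hr]
        · simp only [Category.assoc, hδ₂, Category.comp_id]
      apply hz
      refine ⟨(x ≫ e₁ ≫ r₂).left (IsLocalRing.closedPoint _), ?_⟩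
      have h := congrArg (fun f : _ ⟶ R => f.left (IsLocalRing.closedPoint (Ee.left.residueField e))) hxd
      refine h.symm.trans ?_
      show e₁.left (x.left _) = z
      rw [show x.left (IsLocalRing.closedPoint (Ee.left.residueField e)) = e from
        Scheme.fromSpecResidueField_apply _ _, he₁]
    have : Surjective δ.left := ⟨Set.range_eq_univ.1 hRd⟩
    have : Etale δ.left := MorphismProperty.of_postcomp
      (W' := @Etale) (W := @Etale) δ.left r₂.left inferInstance inferInstance
    have : IsOpenImmersion δ.left := IsOpenImmersion.of_flat_of_mono _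
    have : Epi δ.left.base := (TopCat.epi_iff_surjective _).2 δ.left.surjective
    have : IsIso δ.left := IsOpenImmersion.isIso δ.left
    have : IsIso δ := (isIso_iff_of_reflects_iso δ (Over.forget S)).1 this
    have hr : r₁ = r₂ := by rw [← cancel_epi δ, hδ₁, hδ₂]
    have hm : Mono (φ i) := ⟨fun {Z} g₁ g₂ e => AlgSp2.hom_ext_yon fun T z => by
      obtain ⟨x, hx⟩ := (yon S).map_surjective (sqR.lift (z ≫ g₁) (z ≫ g₂) (by
        rw [Category.assoc, Category.assoc, e]))
      refine (sqR.lift_fst (z ≫ g₁) (z ≫ g₂) (by rw [Category.assoc, Category.assoc, e])).symm.trans ?_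
      refine (congrArg (_ ≫ ·) (congrArg (yon S).map hr)).trans ?_
      exact sqR.lift_snd _ _ _⟩
    refine repWith_of_representable hφe.rep fun T V g fst snd sq => ?_
    obtain ⟨f, rfl⟩ := (yon S).map_surjective fst
    have : Etale snd.left := hφe.property g _ snd sq
    have : Mono snd := mono_snd_of_isPullback sq
    have : Mono snd.left := inferInstanceAs (Mono ((Over.forget S).map snd))
    exact IsOpenImmersion.of_flat_of_mono _
  obtain ⟨G, ⟨eG⟩⟩ := exists_iso_yon_of_openImmersions (X := fun i : ULift.{u} (Fin (n + 1)) => Oo i.down)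
    (f := fun i => φ i.down) (fun i => hφ i.down) fun T g t => by
    obtain ⟨z, hz⟩ := surjective_ofPt_of_repWith hqs' (AlgSp.Points.ofPt g t)
    obtain ⟨i, hi⟩ := hOcov z
    obtain ⟨V, fst, snd, sq⟩ := exists_pullback_yon (hφ i).rep g
    obtain ⟨v, -, hv⟩ := (ofPt_eq_ofPt_iff sq (⟨z, hi⟩ : ↥(Oo i).left) t).1
      ((ofPt_comp_yon _ _ _).trans hz)
    exact ⟨⟨i⟩, V, _, snd, sq, ⟨v, hv⟩⟩
  refine ⟨G, eG.hom ≫ νX, repWith_comp (repWith_isIso _) (isIntegralMor_iff_repWith.1 hνX), ?_,
    ?_, ?_, fun y => ?_⟩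
  · rintro x hx
    obtain ⟨w, rfl⟩ := hrc hx
    obtain ⟨g, hg⟩ := (yon S).map_surjective (fX ≫ eG.inv)
    refine ⟨g.left w, ?_⟩
    rw [← ofPt_comp_yon, hg, Category.assoc, Iso.inv_hom_id_assoc, hfX]
  · rintro _ ⟨y, rfl⟩
    obtain ⟨z, hz⟩ := surjective_ofPt_of_repWith hqs' (AlgSp.Points.ofPt eG.hom y)
    have h₁ : AlgSp.Points.ofPt (eG.hom ≫ νX) y = AlgSp.Points.ofPt a (ν₀.left z) := by
      rw [← AlgSp.Points.map_ofPt, ← hz, AlgSp.Points.map_ofPt, sqN.w, ofPt_comp_yon]
    have hpre : IsClosed ((fun w => AlgSp.Points.ofPt a (ν₀.left w)) ⁻¹' closure 𝒱) :=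
      isClosed_closure.preimage ((AlgSp.Points.continuous_ofPt a).comp ν₀.left.continuous)
    rw [h₁]
    refine hpre.closure_subset (closure_mono ?_ (hkd z))
    rintro _ ⟨m, rfl⟩
    refine subset_closure ?_
    have e' : ν₀.left (k.left m) = m₂.left m := by
      rw [← Scheme.Hom.comp_apply, ← Over.comp_left]
      exact congrArg (fun f : M ⟶ U => f.left m) ((yon S).map_injective (by
        rw [Functor.map_comp, hfac₀]))
    show AlgSp.Points.ofPt a (ν₀.left (k.left m)) ∈ 𝒱
    rw [e', ← ofPt_comp_yon, ← sqP.w, ofPt_comp_yon]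
    exact hWO _
  · -- finite etale over the open set
    let L : U.left.Opens :=
      ⟨AlgSp.Points.ofPt a ⁻¹' 𝒱, hOo.preimage (AlgSp.Points.continuous_ofPt a)⟩
    have hres := feOver_restrict hst sqP hfe L fun u hu => hu
    obtain ⟨q, hq⟩ := (yon S).map_surjective (qX ≫ eG.inv)
    have sq : IsPullback ((yon S).map q) ((yon S).map ν₀) (eG.hom ≫ νX) a := by
      rw [hq]
      exact IsPullback.of_iso sqN (Iso.refl _) eG.symm (Iso.refl _) (Iso.refl _)
        (by simp) (by simp) (by simp) (by simp)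
    have := hres.1
    have := hres.2
    exact feOver_of_chart hX ha sq L (fun u hu => hu) (fun x _ => surjective_ofPt_of_repWith has x)
  · obtain ⟨z, hz⟩ := surjective_ofPt_of_repWith hqs' (AlgSp.Points.ofPt eG.hom y)
    obtain ⟨i, hi⟩ := hOcov z
    obtain ⟨j, hj⟩ := (yon S).map_surjective (φ i ≫ eG.inv)
    have : IsOpenImmersion j.left :=
      (repWith_yon_map_iff _ j).1 (hj ▸ repWith_comp (hφ i) (repWith_isIso _))
    let c₀ : Over.mk (j.left.opensRange.ι ≫ G.hom) ⟶ Oo i :=
      Over.homMk (IsOpenImmersion.lift j.left j.left.opensRange.ι (by simp)) (by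
        show _ ≫ (Oo i).hom = _
        rw [← Over.w j, ← Category.assoc, IsOpenImmersion.lift_fac]
        rfl)
    refine ⟨j.left.opensRange, c₀ ≫ ι i ≫ ν₀, ⟨⟨z, hi⟩, ?_⟩, ?_⟩
    · have h : AlgSp.Points.ofPt eG.hom (j.left ⟨z, hi⟩) = AlgSp.Points.ofPt eG.hom y := by
        rw [← ofPt_comp_yon, hj, Category.assoc, eG.inv_hom_id, Category.comp_id]
        exact (ofPt_comp_yon _ _ _).trans hz
      rw [ofPt_eq_map, ofPt_eq_map] at h
      have hinj := Groth.AlgSp2.map_injective_of_mono eG.hom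
      exact (AlgSp.Points.schemeHomeo G).injective (hinj h)
    · have hc : c₀ ≫ j = (Over.homMk j.left.opensRange.ι rfl :
          Over.mk (j.left.opensRange.ι ≫ G.hom) ⟶ G) :=
        Over.OverMorphism.ext (IsOpenImmersion.lift_fac _ _ _)
      rw [← hc, Functor.map_comp, Functor.map_comp, Functor.map_comp, Category.assoc, Category.assoc,
        Category.assoc, ← sqN.w, hj]
      simp only [φ, Category.assoc, Iso.inv_hom_id_assoc]

/-- The normalization of the space in the top configuration space is a scheme. -/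
theorem exists_integral_top [QuasiSeparatedSpace ↥S] {X : Sp S} (hX : IsAlgSpace X)
    (hqs : IsQuasiSeparatedSp X) {U : Over S} [IsAffine U.left] {a : (yon S).obj U ⟶ X}
    (ha : RepWith @Etale a) (has : RepWith @Surjective a) {n : ℕ}
    (htop : confSet a (n + 2) = ∅) :
    ∃ (Y : Over S) (g : (yon S).obj Y ⟶ X), RepWith @IsIntegralHom g ∧
      confSet a (n + 1) ⊆ Set.range (AlgSp.Points.ofPt g) ∧
      ∀ y : ↥Y.left, ∃ (W : Y.left.Opens) (c : Over.mk (W.ι ≫ Y.hom) ⟶ U), y ∈ W ∧
        (yon S).map c ≫ a = (yon S).map (Over.homMk W.ι rfl : Over.mk (W.ι ≫ Y.hom) ⟶ Y) ≫ g := by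
  obtain ⟨D⟩ := exists_distinctSpace hX ha n
  have : CompactSpace ↥D.W.left := D.compact (repWith_quasiCompact_of_qs hX hqs a)
  have hcomp : IsCompact (confSet a (n + 1)) := by
    rw [confSet_eq_range D]
    exact isCompact_range (AlgSp.Points.continuous_ofPt D.c)
  obtain ⟨Y, g, hg, hr, -, -, hf⟩ := exists_integral_piece hX hqs ha has
    (isOpen_confSet hX ha (n + 1)) hcomp le_rfl (fun x _ => htop ▸ Set.notMem_empty x)
  exact ⟨Y, g, hg, hr, hf⟩

end

end Groth.AlgSpBasic
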