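import Groth.Agent.Pi1Desc.QuasiAffine
import Groth.Agent.AlgSpBasic.AffineDescent
import Groth.Agent.AlgSp2.AffineDescent

/-!
# Effective descent for sheaves quasi-affine over a scheme
-/

set_option autoImplicit false
set_option backward.isDefEq.respectTransparency.types false
universe u

open CategoryTheory CategoryTheory.Limits AlgebraicGeometry Opposite AlgSp

namespace Groth.AlgSpBasic

noncomputable section

variable {S : Scheme.{u}} {G : Sp S} {T T' W : Over S} {u : G ⟶ (yon S).obj T} {k : T' ⟶ T}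
  {fst : (yon S).obj W ⟶ G} {w : W ⟶ T'}

/-- Equivalent points of a cover with a prescribed second coordinate. -/
theorem exists_act (sq : IsPullback fst ((yon S).map w) u ((yon S).map k)) {Z : Over S} (a : Z ⟶ W)
    (b : Z ⟶ T') (e : a ≫ w ≫ k = b ≫ k) :
    ∃! a' : Z ⟶ W, (yon S).map a' ≫ fst = (yon S).map a ≫ fst ∧ a' ≫ w = b := by
  obtain ⟨a', ha'⟩ := (yon S).map_surjective (sq.lift ((yon S).map a ≫ fst) ((yon S).map b) (by
    rw [Category.assoc, sq.w, ← Functor.map_comp, ← Functor.map_comp, ← Functor.map_comp, e]))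
  refine ⟨a', ⟨by rw [ha', sq.lift_fst],
    (yon S).map_injective (by rw [Functor.map_comp, ha', sq.lift_snd])⟩, ?_⟩
  rintro a'' ⟨h₁, h₂⟩
  refine (yon S).map_injective (sq.hom_ext ?_ ?_)
  · rw [h₁, ha', sq.lift_fst]
  · rw [ha', sq.lift_snd, ← h₂, Functor.map_comp]

/-- The source of a test point of `W`. -/
abbrev tsrc {Z : Scheme.{u}} (v : Z ⟶ W.left) : Over S := Over.mk (v ≫ W.hom)

theorem tgt_w {Z : Scheme.{u}} (v : Z ⟶ W.left) (x : Z ⟶ T'.left)
    (e : v ≫ w.left ≫ k.left = x ≫ k.left) : x ≫ T'.hom = v ≫ W.hom := by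
  rw [← Over.w k, ← Category.assoc, ← e, Category.assoc, Category.assoc, Over.w k, Over.w w]

/-- The test point of `T'`. -/
abbrev tpt {Z : Scheme.{u}} (v : Z ⟶ W.left) (x : Z ⟶ T'.left)
    (e : v ≫ w.left ≫ k.left = x ≫ k.left) : tsrc v ⟶ T' :=
  Over.homMk x (tgt_w v x e)

/-- The action point. -/
def actPt (sq : IsPullback fst ((yon S).map w) u ((yon S).map k)) {Z : Scheme.{u}} (v : Z ⟶ W.left)
    (x : Z ⟶ T'.left) (e : v ≫ w.left ≫ k.left = x ≫ k.left) : tsrc v ⟶ W :=
  (exists_act sq (Over.homMk v rfl : tsrc v ⟶ W) (tpt v x e) (Over.OverMorphism.ext e)).choose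

theorem actPt_spec (sq : IsPullback fst ((yon S).map w) u ((yon S).map k)) {Z : Over S} (a a' : Z ⟶ W)
    (h : (yon S).map a' ≫ fst = (yon S).map a ≫ fst) (e) :
    (actPt sq a.left (a' ≫ w).left e).left = a'.left := by
  let i : tsrc a.left ⟶ Z := Over.homMk (𝟙 Z.left) (by
    show 𝟙 _ ≫ Z.hom = a.left ≫ W.hom
    rw [Category.id_comp, Over.w a])
  have hs := (exists_act sq (Over.homMk a.left rfl : tsrc a.left ⟶ W) (tpt a.left _ e)
    (Over.OverMorphism.ext e)).choose_spec
  have hi : i ≫ a' = actPt sq a.left (a' ≫ w).left e := hs.2 _ ⟨by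
    rw [Functor.map_comp, Category.assoc, h, ← Category.assoc, ← Functor.map_comp]
    congr 2, Over.OverMorphism.ext (by
      show (𝟙 Z.left ≫ a'.left) ≫ w.left = a'.left ≫ w.left
      rw [Category.id_comp])⟩
  rw [← hi]
  exact Category.id_comp _

theorem actPt_hom (sq : IsPullback fst ((yon S).map w) u ((yon S).map k)) {Z : Scheme.{u}}
    (v : Z ⟶ W.left) (x : Z ⟶ T'.left) (e) :
    (yon S).map (actPt sq v x e) ≫ fst = (yon S).map (Over.homMk v rfl : tsrc v ⟶ W) ≫ fst ∧
      (actPt sq v x e).left ≫ w.left = x := by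
  have hs := (exists_act sq (Over.homMk v rfl : tsrc v ⟶ W) (tpt v x e)
    (Over.OverMorphism.ext e)).choose_spec
  exact ⟨hs.1.1, congrArg CommaMorphism.left hs.1.2⟩

theorem actPt_left_congr (sq : IsPullback fst ((yon S).map w) u ((yon S).map k)) {Z : Scheme.{u}}
    {v v' : Z ⟶ W.left} {x x' : Z ⟶ T'.left} (hv : v = v') (hx : x = x') (e e') :
    (actPt sq v x e).left = (actPt sq v' x' e').left := by
  subst hv hx
  rfl

/-- The descent datum of a sheaf. -/
def sheafAct (sq : IsPullback fst ((yon S).map w) u ((yon S).map k)) :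
    Groth.Pi1Desc.Act w.left k.left where
  act v x e := (actPt sq v x e).left
  act_hom v x e := (actPt_hom sq v x e).2
  act_self v x e hv := by
    refine (actPt_left_congr sq rfl hv.symm e ?_).trans
      (actPt_spec sq (Over.homMk v rfl : tsrc v ⟶ W) (Over.homMk v rfl) rfl ?_) <;> simp
  act_act v x y e e' e'' := by
    have h₁ := actPt_hom sq v x e
    have h₂ := actPt_hom sq v y e'
    refine (actPt_left_congr sq rfl h₂.2.symm e'' ?_).trans
      (actPt_spec sq (actPt sq v x e) (actPt sq v y e') (h₂.1.trans h₁.1.symm) ?_)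
    · rw [h₂.2]; exact e''
    · show (actPt sq v x e).left ≫ _ = ((actPt sq v y e').left ≫ w.left) ≫ _
      rw [h₂.2]; exact e''
  act_comp g v x e e' := by
    let i : tsrc (g ≫ v) ⟶ tsrc v := Over.homMk g (Category.assoc _ _ _).symm
    have h := actPt_hom sq v x e
    have hi : (i ≫ actPt sq v x e).left ≫ w.left = g ≫ x := by
      show (g ≫ (actPt sq v x e).left) ≫ w.left = _
      rw [Category.assoc, h.2]
    refine (actPt_left_congr sq rfl hi.symm e' ?_).trans
      (actPt_spec sq (Over.homMk (g ≫ v) rfl : tsrc (g ≫ v) ⟶ W) (i ≫ actPt sq v x e) ?_ ?_)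
    · rw [hi]; exact e'
    · rw [Functor.map_comp, Category.assoc, h.1, ← Category.assoc, ← Functor.map_comp]
      congr 2
    · show (g ≫ v) ≫ _ = ((i ≫ actPt sq v x e).left ≫ w.left) ≫ _
      rw [hi]; exact e'

/-- A map of sheaves over a base that becomes an isomorphism over a cover is an isomorphism. -/
theorem exists_iso_of_descended (sq : IsPullback fst ((yon S).map w) u ((yon S).map k))
    [Sheaf.IsLocallySurjective ((yon S).map k)] {U : Over S} {q : W ⟶ U} {π : U ⟶ T}
    (sqQ : IsPullback q w π k)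
    (hq : ∀ {Z : Over S} (a a' : Z ⟶ W), (yon S).map a' ≫ fst = (yon S).map a ≫ fst →
      a' ≫ q = a ≫ q) :
    ∃ e : (yon S).obj U ≅ G, e.hom ≫ u = (yon S).map π := by
  have sqQ' := sqQ.map (yon S)
  have hfl : Sheaf.IsLocallySurjective fst := isLocallySurjective_of_isPullback sq.flip
  have hker : ∀ {A : Sp S} (a b : A ⟶ (yon S).obj W), a ≫ fst = b ≫ fst →
      a ≫ (yon S).map q = b ≫ (yon S).map q := by
    intro A a b e
    refine Groth.AlgSp2.hom_ext_yon fun Z z => ?_
    obtain ⟨za, hza⟩ := (yon S).map_surjective (z ≫ a)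
    obtain ⟨zb, hzb⟩ := (yon S).map_surjective (z ≫ b)
    rw [← Category.assoc, ← Category.assoc, ← hza, ← hzb, ← Functor.map_comp, ← Functor.map_comp,
      hq zb za (by rw [hza, hzb, Category.assoc, Category.assoc, e])]
  obtain ⟨hcol⟩ := isColimit_of_isLocallySurjective (IsPullback.of_hasPullback fst fst)
  obtain ⟨v, hv⟩ := Cofork.IsColimit.desc' hcol ((yon S).map q) (hker _ _ pullback.condition)
  have hv' : fst ≫ v = (yon S).map q := hv
  have hvu : v ≫ (yon S).map π = u := by
    have : Epi fst := inferInstance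
    rw [← cancel_epi fst, ← Category.assoc, hv', sq.w, ← Functor.map_comp, ← Functor.map_comp,
      sqQ.w]
  have : Mono v := by
    refine ⟨fun {A} a b e => ?_⟩
    have hP := IsPullback.of_hasPullback (a ≫ u) ((yon S).map k)
    have : Sheaf.IsLocallySurjective (pullback.fst (a ≫ u) ((yon S).map k)) :=
      isLocallySurjective_of_isPullback hP.flip
    have : Epi (pullback.fst (a ≫ u) ((yon S).map k)) := inferInstance
    have eu : a ≫ u = b ≫ u := by rw [← hvu, ← Category.assoc, e, Category.assoc]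
    rw [← cancel_epi (pullback.fst (a ≫ u) ((yon S).map k))]
    let la := sq.lift (pullback.fst (a ≫ u) ((yon S).map k) ≫ a) (pullback.snd _ _)
      (by rw [Category.assoc]; exact pullback.condition)
    let lb := sq.lift (pullback.fst (a ≫ u) ((yon S).map k) ≫ b) (pullback.snd _ _)
      (by rw [Category.assoc, ← eu]; exact pullback.condition)
    have : la = lb := by
      apply sqQ'.hom_ext
      · rw [← hv', ← Category.assoc, ← Category.assoc, sq.lift_fst, sq.lift_fst, Category.assoc, e,
          Category.assoc]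
      · rw [sq.lift_snd, sq.lift_snd]
    have h2 := this =≫ fst
    rwa [sq.lift_fst, sq.lift_fst] at h2
  have : Sheaf.IsLocallySurjective v := by
    have : Sheaf.IsLocallySurjective (fst ≫ v) :=
      hv' ▸ isLocallySurjective_of_isPullback sqQ'.flip
    refine ⟨fun {U} x => GrothendieckTopology.superset_covering _ ?_
      (Presheaf.imageSieve_mem (J S) (fst ≫ v).hom (U := op U) x)⟩
    rintro V i ⟨y, hy⟩
    exact ⟨fst.hom.app (op V) y, hy⟩
  have : IsIso v := isIso_of_mono_of_epi v
  exact ⟨(asIso v).symm, by simp [← hvu]⟩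

/-- A sheaf over a scheme becoming quasi-affine over an fppf quasi-compact cover is a scheme. -/
theorem exists_iso_of_isQuasiAffineHom (sq : IsPullback fst ((yon S).map w) u ((yon S).map k))
    [Flat k.left] [Surjective k.left] [LocallyOfFinitePresentation k.left] [QuasiCompact k.left]
    (hw : MoreMor.IsQuasiAffineHom w.left) :
    ∃ (U : Over S) (π : U ⟶ T) (e : (yon S).obj U ≅ G), e.hom ≫ u = (yon S).map π := by
  have : Sheaf.IsLocallySurjective ((yon S).map k) := isLocallySurjective_of_repWith _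
    ((repWith_yon_map_iff _ k).2 (inferInstance : Flat k.left))
    ((repWith_yon_map_iff _ k).2 (inferInstance : LocallyOfFinitePresentation k.left))
    ((repWith_yon_map_iff _ k).2 (inferInstance : Surjective k.left))
  obtain ⟨U₀, π₀, q₀, hpb, hcompat⟩ :=
    Groth.Pi1Desc.Act.eff_of_isQuasiAffineHom hw (sheafAct sq)
  let U : Over S := Over.mk (π₀ ≫ T.hom)
  let π : U ⟶ T := Over.homMk π₀
  let q : W ⟶ U := Over.homMk q₀ (by
    show q₀ ≫ π₀ ≫ T.hom = W.hom
    rw [← Category.assoc, hpb.w, Category.assoc, Over.w k, Over.w w])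
  have sqQ : IsPullback q w π k :=
    IsPullback.of_map (Over.forget S) (Over.OverMorphism.ext hpb.w) hpb
  refine ⟨U, π, exists_iso_of_descended sq sqQ fun {Z} a a' h => Over.OverMorphism.ext ?_⟩
  have e₀ : a ≫ w ≫ k = (a' ≫ w) ≫ k := by
    apply (yon S).map_injective
    have h' := h =≫ u
    rw [Category.assoc, Category.assoc, sq.w, ← Functor.map_comp, ← Functor.map_comp,
      ← Functor.map_comp] at h'
    rw [Category.assoc, h']
  have := hcompat _ a.left (a' ≫ w).left (congrArg CommaMorphism.left e₀)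
  exact (congrArg (· ≫ q₀) (actPt_spec sq a a' h _)).symm.trans this

end

end Groth.AlgSpBasic
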