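import Mathlib.AlgebraicGeometry.Morphisms.QuasiFinite
import Groth.Agent.Pi1Desc.Separated
import Groth.Agent.AlgSpBasic.QuasiAffineDescent
import Groth.Agent.AlgSpBasic.AffineMor
import Groth.Agent.AlgSpBasic.OpenSub
import Groth.Agent.AlgSpBasic.Immersion

/-!
# Effective descent for separated locally quasi-finite morphisms
-/

set_option autoImplicit false
set_option backward.isDefEq.respectTransparency.types false
universe u

open CategoryTheory CategoryTheory.Limits AlgebraicGeometry Opposite AlgSp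

namespace Groth.AlgSpBasic

noncomputable section

variable {S : Scheme.{u}}

/-- The pullback of an open subspace to a scheme is the open subscheme. -/
theorem exists_isPullback_openSub {X : Sp S} {V : Set (Points X)} {T : Over S}
    (g : (yon S).obj T ⟶ X) (O : T.left.Opens) (hO : (O : Set ↥T.left) = Points.ofPt g ⁻¹' V) :
    ∃ l : (yon S).obj (Over.mk (O.ι ≫ T.hom)) ⟶ openSub X V,
      IsPullback l ((yon S).map (Over.homMk O.ι rfl : Over.mk (O.ι ≫ T.hom) ⟶ T))
        (openSubι X V) g := by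
  let i : Over.mk (O.ι ≫ T.hom) ⟶ T := Over.homMk O.ι rfl
  have hV : ∀ v, Points.ofPt ((yon S).map i ≫ g) v ∈ V := fun v => by
    rw [ofPt_comp_yon]
    exact hO.le v.2
  obtain ⟨l, hl⟩ := (openSub_exists_lift_iff X V _).2 hV
  refine ⟨l, isPullback_of_lifts hl ?_ ?_⟩
  · intro Z b c hbc
    obtain ⟨φ, rfl⟩ := (yon S).map_surjective c
    have hmem := (openSub_exists_lift_iff X V _).1 ⟨b, hbc⟩
    have hr : Set.range φ.left ⊆ Set.range O.ι := by
      rintro _ ⟨z, rfl⟩
      rw [Scheme.Opens.range_ι]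
      refine hO.ge ?_
      show Points.ofPt g (φ.left z) ∈ V
      rw [← ofPt_comp_yon]
      exact hmem z
    let ψ : Z ⟶ Over.mk (O.ι ≫ T.hom) := Over.homMk (IsOpenImmersion.lift O.ι φ.left hr) (by
      show IsOpenImmersion.lift O.ι φ.left hr ≫ O.ι ≫ T.hom = _
      rw [← Category.assoc, IsOpenImmersion.lift_fac, Over.w])
    have hψ : ψ ≫ i = φ := Over.OverMorphism.ext (IsOpenImmersion.lift_fac _ _ _)
    refine ⟨(yon S).map ψ, openSub_hom_ext X V ?_, by rw [← Functor.map_comp, hψ]⟩
    rw [Category.assoc, hl, hbc, ← Category.assoc, ← Functor.map_comp, hψ]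
  · intro Z a a' _ h
    obtain ⟨a, rfl⟩ := (yon S).map_surjective a
    obtain ⟨a', rfl⟩ := (yon S).map_surjective a'
    rw [← Functor.map_comp, ← Functor.map_comp] at h
    have := (yon S).map_injective h
    congr 1
    exact Over.OverMorphism.ext ((cancel_mono O.ι).1 (congrArg (fun k => k.left) this))

/-- A sheaf over an affine scheme becoming a separated locally quasi-finite scheme over an affine
fppf cover is a scheme. -/
theorem exists_iso_of_sep_lqf {G : Sp S} {T T' W : Over S} [IsAffine T.left] [IsAffine T'.left]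
    {u : G ⟶ (yon S).obj T} {k : T' ⟶ T} [Flat k.left] [Surjective k.left]
    [LocallyOfFinitePresentation k.left] {fst : (yon S).obj W ⟶ G} {w : W ⟶ T'}
    (sq : IsPullback fst ((yon S).map w) u ((yon S).map k))
    [IsSeparated w.left] [LocallyQuasiFinite w.left] [LocallyOfFiniteType w.left] :
    ∃ (U : Over S) (π : U ⟶ T) (e : (yon S).obj U ≅ G), e.hom ≫ u = (yon S).map π := by
  have hfo : RepWith @UniversallyOpen fst :=
    repWith_of_isPullback sq.flip ((repWith_yon_map_iff _ k).2 (inferInstance : UniversallyOpen k.left))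
  have hfs : RepWith @Surjective fst :=
    repWith_of_isPullback sq.flip ((repWith_yon_map_iff _ k).2 (inferInstance : Surjective k.left))
  have hopen : IsOpenMap (Points.ofPt fst) :=
    isOpenMap_ofPt_of_repWith (fun _ _ g (hg : UniversallyOpen g) => g.isOpenMap) hfo
  -- pairs of points with the same image
  obtain ⟨M, m₁, m₂, hM⟩ := exists_pullback_of_diag (IsAlgSpace.yon_obj T).diag
    ((yon S).map (w ≫ k)) ((yon S).map k)
  have hm₁ : QuasiCompact m₁.left := repWith_fst_of_isPullback hM.flip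
    ((repWith_yon_map_iff _ k).2 (inferInstance : QuasiCompact k.left))
  obtain ⟨r, hr⟩ := (yon S).map_surjective (sq.lift ((yon S).map m₁ ≫ fst) ((yon S).map m₂) (by
    rw [Category.assoc, sq.w, ← Category.assoc, ← Functor.map_comp, ← Functor.map_comp,
      Category.assoc, Functor.map_comp, hM.w]))
  have sqF : IsPullback ((yon S).map r) ((yon S).map m₁) fst fst := by
    refine IsPullback.of_right ?_ ?_ sq.flip
    · rw [hr, sq.lift_snd, sq.w, ← Functor.map_comp]
      exact hM.flip
    · rw [hr, sq.lift_fst]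
  let 𝒰 := W.left.affineCover
  let V (i : 𝒰.I₀) : Set (Points G) := Points.ofPt fst '' ((𝒰.f i).opensRange : Set ↥W.left)
  have hV : ∀ i, IsOpen (V i) := fun i => hopen _ (𝒰.f i).opensRange.isOpen
  have hcpt : ∀ i, IsCompact (Points.ofPt fst ⁻¹' V i) := by
    intro i
    have e : Points.ofPt fst ⁻¹' V i =
        r.left '' (m₁.left ⁻¹' ((𝒰.f i).opensRange : Set ↥W.left)) := by
      ext x
      constructor
      · rintro ⟨κ, hκ, hx⟩
        obtain ⟨v, hv, hv'⟩ := (map_eq_ofPt_iff sqF (Points.ofScheme W x) κ).1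
          ((ofPt_eq_map fst x).symm.trans hx.symm)
        refine ⟨v, by rwa [Set.mem_preimage, hv'], ?_⟩
        rw [← Category.comp_id ((yon S).map r), ofPt_comp_yon] at hv
        exact (Points.schemeEquiv W).injective hv
      · rintro ⟨v, hv, rfl⟩
        refine ⟨m₁.left v, hv, ?_⟩
        rw [← ofPt_comp_yon m₁ fst v, ← ofPt_comp_yon r fst v, sqF.w]
    rw [e]
    exact (QuasiCompact.isCompact_preimage (f := m₁.left) _ (𝒰.f i).opensRange.isOpen
      (isCompact_range (𝒰.f i).continuous)).image r.left.continuous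
  have key : ∀ i, ∃ (U : Over S) (e : (yon S).obj U ≅ openSub G (V i)), True := by
    intro i
    let O : W.left.Opens := ⟨_, (hV i).preimage (Points.continuous_ofPt fst)⟩
    obtain ⟨lo, hlo⟩ := exists_isPullback_openSub (V := V i) fst O rfl
    let jo : Over.mk (O.ι ≫ W.hom) ⟶ W := Over.homMk O.ι rfl
    have sqi : IsPullback lo ((yon S).map (jo ≫ w)) (openSubι G (V i) ≫ u) ((yon S).map k) := by
      rw [Functor.map_comp]
      exact hlo.paste_vert sq
    have : CompactSpace ↥O.toScheme := isCompact_iff_compactSpace.1 (hcpt i)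
    have : IsSeparated (jo ≫ w).left := inferInstanceAs (IsSeparated (O.ι ≫ w.left))
    have : LocallyQuasiFinite (jo ≫ w).left := inferInstanceAs (LocallyQuasiFinite (O.ι ≫ w.left))
    have : LocallyOfFiniteType (jo ≫ w).left := inferInstanceAs (LocallyOfFiniteType (O.ι ≫ w.left))
    have : QuasiCompact (jo ≫ w).left := by
      show QuasiCompact (O.ι ≫ w.left)
      exact (HasAffineProperty.iff_of_isAffine (P := @QuasiCompact)).2
        (inferInstanceAs (CompactSpace ↥O.toScheme))
    obtain ⟨U, -, e, -⟩ := exists_iso_of_isQuasiAffineHom sqi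
      (Groth.Pi1Desc.isQuasiAffineHom_of_locallyQuasiFinite _)
    exact ⟨U, e, trivial⟩
  choose U e _ using key
  have hφ : ∀ i, RepWith @IsOpenImmersion ((e i).hom ≫ openSubι G (V i)) := fun i =>
    repWith_comp (repWith_isIso _) (repWith_openSubι (hV i))
  obtain ⟨Gs, ⟨eG⟩⟩ := exists_iso_yon_of_openImmersions hφ fun T₀ g t => by
    obtain ⟨κ, hκ⟩ := surjective_ofPt_of_repWith hfs (Points.ofPt g t)
    obtain ⟨i, y, hy⟩ := 𝒰.exists_eq κ
    have hVi : Points.ofPt g t ∈ V i := ⟨κ, ⟨y, hy⟩, hκ⟩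
    obtain ⟨z, hz⟩ := (range_map_openSubι (X := G) (W := V i)).ge hVi
    obtain ⟨P, snd, p, sqP⟩ := (hφ i).rep g
    have hz' : Points.map ((e i).hom ≫ openSubι G (V i)) (Points.map (e i).inv z) =
        Points.ofPt g t := by
      rw [← Points.map_comp, Iso.inv_hom_id_assoc, hz]
    obtain ⟨v, -, hv⟩ := (map_eq_ofPt_iff sqP _ t).1 hz'
    exact ⟨i, P, p, snd, sqP, v, hv⟩
  obtain ⟨π, hπ⟩ := (yon S).map_surjective (eG.hom ≫ u)
  exact ⟨Gs, π, eG, hπ.symm⟩

/-- Representability of a map whose pullback along a locally surjective map from a scheme is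
separated and locally quasi-finite. -/
theorem repWith_of_sepLQF {Q : MorphismProperty Scheme.{u}} [Q.IsStableUnderBaseChange]
    [IsZariskiLocalAtTarget Q] [Q.DescendsAlong (@Surjective ⊓ @Flat ⊓ @QuasiCompact)] {X Y : Sp S}
    {f : X ⟶ Y} {V R : Over S} (b : (yon S).obj V ⟶ Y) [Sheaf.IsLocallySurjective b]
    {fst : (yon S).obj R ⟶ X} {snd : R ⟶ V} (sq : IsPullback fst ((yon S).map snd) f b)
    [IsSeparated snd.left] [LocallyQuasiFinite snd.left] [LocallyOfFiniteType snd.left]
    (hQ : Q snd.left) : RepWith Q f := by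
  suffices main : ∀ (T : Over S) (g : (yon S).obj T ⟶ Y) (t : ↥T.left), IsAffine T.left →
      ∃ (T' : Over S) (c : T' ⟶ T) (W : Over S) (w : W ⟶ T') (fst : (yon S).obj W ⟶ X),
        IsOpenImmersion c.left ∧ t ∈ Set.range c.left ∧
          IsPullback fst ((yon S).map w) f ((yon S).map c ≫ g) ∧ Q w.left by
    refine repWith_of_local fun T g t => ?_
    obtain ⟨j, y, rfl⟩ := T.left.affineCover.exists_eq t
    let T₀ : Over S := Over.mk (T.left.affineCover.f j ≫ T.hom)
    let c₀ : T₀ ⟶ T := Over.homMk (T.left.affineCover.f j)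
    obtain ⟨T', c, W, w, q, hc, ⟨x, hx⟩, hq, hw⟩ := main T₀ ((yon S).map c₀ ≫ g) y
      (inferInstanceAs (IsAffine (T.left.affineCover.X j)))
    refine ⟨T', c ≫ c₀, W, w, q, ?_, ⟨x, ?_⟩, ?_, hw⟩
    · have := hc
      exact inferInstanceAs (IsOpenImmersion (c.left ≫ T.left.affineCover.f j))
    · exact congrArg (T.left.affineCover.f j) hx
    · rw [Functor.map_comp, Category.assoc]; exact hq
  intro T g t hT
  obtain ⟨C, hC, hl⟩ := exists_local_lift b g
  obtain ⟨hcov, hprop⟩ := hC
  obtain ⟨_, _, ⟨hi⟩, z, hz⟩ := hcov t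
  rename_i Z i
  change i z = t at hz
  subst hz
  obtain ⟨hiF, hiP⟩ := hprop hi
  have : Flat i := hiF
  have : LocallyOfFinitePresentation i := hiP
  obtain ⟨l, hl⟩ := hl i hi
  -- an affine piece of the cover and its image
  obtain ⟨a, z', hz'⟩ := Z.affineCover.exists_eq z
  let ia : Z.affineCover.X a ⟶ T.left := Z.affineCover.f a ≫ i
  have hia : IsOpen (Set.range ia) := ia.isOpenMap.isOpen_range
  obtain ⟨(T₁ : T.left.Opens), hT₁, htT₁, hT₁r⟩ := TopologicalSpace.Opens.isBasis_iff_nbhd.1 T.left.isBasis_affineOpens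
    (show i z ∈ (⟨_, hia⟩ : T.left.Opens) from ⟨z', by rw [Scheme.Hom.comp_apply, hz']⟩)
  let T₁' : Over S := Over.mk (T₁.ι ≫ T.hom)
  have : IsAffine T₁'.left := hT₁
  let c : T₁' ⟶ T := Over.homMk T₁.ι rfl
  have : IsAffine T₁.toScheme := hT₁
  let K : Scheme.{u} := pullback ia T₁.ι
  have : IsAffine K := isAffine_of_isAffineHom (pullback.fst ia T₁.ι)
  let T₂ : Over S := Over.mk (pullback.snd ia T₁.ι ≫ T₁.ι ≫ T.hom)
  let k : T₂ ⟶ T₁' := Over.homMk (pullback.snd ia T₁.ι) rfl
  have : IsAffine T₂.left := ‹IsAffine K›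
  have : Flat k.left := inferInstanceAs (Flat (pullback.snd ia T₁.ι))
  have : LocallyOfFinitePresentation k.left :=
    inferInstanceAs (LocallyOfFinitePresentation (pullback.snd ia T₁.ι))
  have : Surjective k.left := ⟨fun x => by
    obtain ⟨y, hy⟩ := hT₁r (show T₁.ι x ∈ T₁ from x.2)
    obtain ⟨v, -, hv⟩ := Scheme.Pullback.exists_preimage_pullback y x hy
    exact ⟨v, hv⟩⟩
  -- the lift to `V`
  let iZ : T₂ ⟶ Over.mk (i ≫ T.hom) :=
    Over.homMk (pullback.fst ia T₁.ι ≫ Z.affineCover.f a) (by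
      show (pullback.fst ia T₁.ι ≫ Z.affineCover.f a) ≫ i ≫ T.hom = _
      rw [Category.assoc, ← Category.assoc (Z.affineCover.f a), ← Category.assoc (pullback.fst _ _)]
      exact (congrArg (· ≫ T.hom) pullback.condition).trans (Category.assoc _ _ _))
  have hlift : ((yon S).map iZ ≫ l) ≫ b = (yon S).map k ≫ (yon S).map c ≫ g := by
    rw [Category.assoc, hl, ← Category.assoc, ← Category.assoc, ← Functor.map_comp,
      ← Functor.map_comp]
    congr 2
    apply Over.OverMorphism.ext
    show (pullback.fst ia T₁.ι ≫ Z.affineCover.f a) ≫ i = pullback.snd ia T₁.ι ≫ T₁.ι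
    rw [Category.assoc]
    exact pullback.condition
  obtain ⟨ψ, hψ⟩ := (yon S).map_surjective ((yon S).map iZ ≫ l)
  obtain ⟨W, w₁, w₂, hW⟩ := exists_pullback_of_diag (IsAlgSpace.yon_obj V).diag ((yon S).map snd)
    ((yon S).map ψ)
  have hsch := (isPullback_left (isPullback_of_yon hW)).flip
  have : IsSeparated w₂.left := MorphismProperty.of_isPullback hsch.flip ‹IsSeparated snd.left›
  have : LocallyQuasiFinite w₂.left :=
    MorphismProperty.of_isPullback hsch.flip ‹LocallyQuasiFinite snd.left›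
  have : LocallyOfFiniteType w₂.left :=
    MorphismProperty.of_isPullback hsch.flip ‹LocallyOfFiniteType snd.left›
  have hQw : Q w₂.left := MorphismProperty.of_isPullback hsch.flip hQ
  obtain ⟨P, p₁, p₂, sqP⟩ : ∃ (P : Sp S) (p₁ : P ⟶ X) (p₂ : P ⟶ (yon S).obj T₁'),
      IsPullback p₁ p₂ f ((yon S).map c ≫ g) := ⟨_, _, _, IsPullback.of_hasPullback _ _⟩
  have hW' : IsPullback ((yon S).map w₁ ≫ fst) ((yon S).map w₂) f
      ((yon S).map k ≫ (yon S).map c ≫ g) := by
    rw [← hlift, ← hψ]
    exact hW.paste_horiz sq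
  let lp := sqP.lift ((yon S).map w₁ ≫ fst) ((yon S).map w₂ ≫ (yon S).map k)
    (by rw [Category.assoc]; exact hW'.w.trans (Category.assoc _ _ _).symm)
  have hlp : IsPullback lp ((yon S).map w₂) p₂ ((yon S).map k) :=
    IsPullback.of_right (by rw [sqP.lift_fst]; exact hW') (sqP.lift_snd _ _ _) sqP
  obtain ⟨U, π, e, he⟩ := exists_iso_of_sep_lqf hlp
  refine ⟨T₁', c, U, π, e.hom ≫ p₁, inferInstanceAs (IsOpenImmersion T₁.ι),
    ⟨⟨i z, htT₁⟩, rfl⟩, sqP.of_iso e.symm (Iso.refl _) (Iso.refl _) (Iso.refl _) (by simp)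
    (by simp [← he]) (by simp) (by simp), ?_⟩
  obtain ⟨l', hl'⟩ := (yon S).map_surjective (lp ≫ e.inv)
  have h2 : IsPullback ((yon S).map l') ((yon S).map w₂) ((yon S).map π) ((yon S).map k) := by
    rw [hl']
    exact hlp.of_iso (Iso.refl _) e.symm (Iso.refl _) (Iso.refl _) (by simp) (by simp)
      (by simp [← he]) (by simp)
  exact MorphismProperty.of_isPullback_of_descendsAlong
    (P := Q) (Q := @Surjective ⊓ @Flat ⊓ @QuasiCompact)
    (isPullback_left (isPullback_of_yon h2)).flip
    ⟨⟨inferInstance, inferInstance⟩, inferInstance⟩ hQw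

end

end Groth.AlgSpBasic
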