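import Groth.Agent.AlgSpBasic.DenseSchemeQS
import Groth.Agent.AlgSpBasic.QComp
import Groth.Agent.AlgSpBasic.AffineMor
import Groth.Agent.AlgSpBasic.OverField
import Groth.Agent.AlgSp3.NbhdInv
import Groth.Agent.DescentBase.ClosureRange

/-!
# Finiteness over a neighbourhood of a point of codimension zero
-/

set_option autoImplicit false
set_option backward.isDefEq.respectTransparency.types false
universe u

open CategoryTheory CategoryTheory.Limits AlgebraicGeometry Opposite TopologicalSpace AlgSp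

namespace Groth.AlgSpBasic

noncomputable section

variable {S : Scheme.{u}} {X Y : Sp S}

/-- An affine scheme over an affine open of the base is a quasi-separated space. -/
theorem isQuasiSeparatedSp_yon_of_affine {A : Over S} [IsAffine A.left] {O : S.Opens}
    (hO : IsAffineOpen O) {w : A.left ⟶ (O : Scheme)} (hw : w ≫ O.ι = A.hom) :
    IsQuasiSeparatedSp ((yon S).obj A) := by
  have : IsAffine (O : Scheme) := hO
  have hpb : IsPullback (pullback.fst w w) (pullback.snd w w) A.hom A.hom := by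
    rw [← hw]; exact isPullback_comp_mono O.ι (IsPullback.of_hasPullback w w)
  have : IsAffine (pullback A.hom A.hom) := IsAffine.of_isIso hpb.isoPullback.inv
  have : IsAffine (A ⨯ A).left := IsAffine.of_isIso (Over.prodLeftIsoPullback A A).hom
  have h : RepWith @QuasiCompact ((yon S).map (Limits.diag A)) :=
    (repWith_yon_map_iff _ _).2 (inferInstance : QuasiCompact (Limits.diag A).left)
  have e : (yon S).map (Limits.diag A) ≫ prodComparison (yon S) A A =
      Limits.diag ((yon S).obj A) := by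
    apply prod.hom_ext <;> simp [← Functor.map_comp, prod.lift_fst, prod.lift_snd]
  rw [IsQuasiSeparatedSp, ← e]
  exact repWith_comp h (repWith_isIso _)

/-- A scheme mapping monomorphically to a quasi-separated space is quasi-separated over the base. -/
theorem quasiSeparated_hom_of_mono (hqs : IsQuasiSeparatedSp X) {G : Over S}
    (g : (yon S).obj G ⟶ X) [Mono g] : QuasiSeparated G.hom := by
  have sq : IsPullback ((yon S).map (𝟙 G)) ((yon S).map (𝟙 G)) g g := by
    rw [CategoryTheory.Functor.map_id]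
    exact IsKernelPair.id_of_mono g
  have h : QuasiCompact (prod.lift (𝟙 G) (𝟙 G)).left := prop_lift_of_repWith_diag hqs sq
  have e : (prod.lift (𝟙 G) (𝟙 G)).left ≫ (Over.prodLeftIsoPullback G G).hom =
      pullback.diagonal G.hom := by
    apply pullback.hom_ext
    · rw [Category.assoc, Over.prodLeftIsoPullback_hom_fst, ← Over.comp_left, prod.lift_fst,
        pullback.diagonal_fst]; rfl
    · rw [Category.assoc, Over.prodLeftIsoPullback_hom_snd, ← Over.comp_left, prod.lift_snd,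
        pullback.diagonal_snd]; rfl
  exact ⟨by rw [← e]; infer_instance⟩

/-- An open part of a fibre product contained in an open subscheme is a scheme. -/
theorem exists_isPullback_of_range (hXA : IsAlgSpace X) {A : Over S} (q : X ⟶ (yon S).obj A)
    {G : Over S} {g₀ : (yon S).obj G ⟶ X} (hg₀ : RepWith @IsOpenImmersion g₀) (D : A.left.Opens)
    (hr : ∀ (z : AlgSp.Points X) (d : ↥(D : Scheme)),
      AlgSp.Points.map q z = AlgSp.Points.ofScheme A (D.ι d) →
        z ∈ Set.range (AlgSp.Points.map g₀)) :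
    ∃ (GD : Over S) (g : (yon S).obj GD ⟶ X) (h : GD ⟶ Over.mk (D.ι ≫ A.hom)),
      RepWith @IsOpenImmersion g ∧
        IsPullback g ((yon S).map h) q ((yon S).map (Over.homMk D.ι rfl)) ∧
          ∀ ψ : G ⟶ A, (yon S).map ψ = g₀ ≫ q → IsFinite (ψ.left ∣_ D) → IsFinite h.left := by
  have : Mono g₀ := mono_of_repWith (fun _ _ g (_ : IsOpenImmersion g) => inferInstance) hg₀
  let DO : Over S := Over.mk (D.ι ≫ A.hom)
  let jD : DO ⟶ A := Over.homMk D.ι rfl
  obtain ⟨ψ, hψ⟩ := (yon S).map_surjective (g₀ ≫ q)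
  let GD : Over S := Over.mk ((ψ.left ⁻¹ᵁ D).ι ≫ G.hom)
  let jG : GD ⟶ G := Over.homMk (ψ.left ⁻¹ᵁ D).ι rfl
  let h : GD ⟶ DO := Over.homMk (ψ.left ∣_ D) (by
    change ψ.left ∣_ D ≫ D.ι ≫ A.hom = (ψ.left ⁻¹ᵁ D).ι ≫ G.hom
    rw [morphismRestrict_ι_assoc, Over.w ψ])
  have hres : IsPullback h.left jG.left jD.left ψ.left := isPullback_morphismRestrict ψ.left D
  have hres' : IsPullback h jG jD ψ :=
    IsPullback.of_map (Over.forget S) (by ext1; exact hres.w) hres
  have sqG := (hres'.map (yon S)).flip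
  have hjG : RepWith @IsOpenImmersion ((yon S).map jG ≫ g₀) :=
    repWith_comp ((repWith_yon_map_iff _ jG).2
      (inferInstanceAs (IsOpenImmersion (ψ.left ⁻¹ᵁ D).ι))) hg₀
  obtain ⟨P, p₁, p₂, sqP⟩ : ∃ (P : Sp S) (p₁ : P ⟶ X) (p₂ : P ⟶ (yon S).obj DO),
      IsPullback p₁ p₂ q ((yon S).map jD) := ⟨_, _, _, IsPullback.of_hasPullback _ _⟩
  have hPA : IsAlgSpace P :=
    isAlgSpace_of_isPullback sqP (IsAlgSpace.yon_obj A).diag hXA (IsAlgSpace.yon_obj DO)
  obtain ⟨l, hl⟩ := exists_lift_of_range_openImmersion hPA hg₀ p₁ (by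
    rintro _ ⟨z, rfl⟩
    obtain ⟨d, hd⟩ := (AlgSp.Points.schemeHomeo DO).surjective (AlgSp.Points.map p₂ z)
    refine hr _ d ?_
    rw [← AlgSp.Points.map_comp, sqP.w, AlgSp.Points.map_comp, ← hd]
    exact AlgSp.Points.map_yon_map_apply jD d)
  let e₁ := sqG.lift l p₂ (by rw [hψ, reassoc_of% hl, sqP.w])
  refine ⟨GD, (yon S).map jG ≫ g₀, h, hjG, ?_, fun ψ' h' hf => by
    obtain rfl := (yon S).map_injective (h'.trans hψ.symm)
    exact hf⟩
  have w₀ : ((yon S).map jG ≫ g₀) ≫ q = (yon S).map h ≫ (yon S).map jD := by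
    rw [Category.assoc, ← hψ, sqG.w]
  refine sqP.of_iso
    ⟨e₁, sqP.lift _ _ w₀, ?_, ?_⟩
    (Iso.refl _) (Iso.refl _) (Iso.refl _) ?_ ?_ (by simp) (by simp [jD, DO])
  · apply sqP.hom_ext
    · rw [Category.assoc, sqP.lift_fst, ← Category.assoc, sqG.lift_fst, hl, Category.id_comp]
    · rw [Category.assoc, sqP.lift_snd, sqG.lift_snd, Category.id_comp]
  · apply sqG.hom_ext
    · rw [← cancel_mono g₀, Category.assoc, Category.assoc, IsPullback.lift_fst_assoc, hl,
        sqP.lift_fst, Category.id_comp]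
    · rw [Category.assoc, sqG.lift_snd, sqP.lift_snd, Category.id_comp]
  · rw [Iso.refl_hom, Category.comp_id, ← Category.assoc, sqG.lift_fst, hl]
  · rw [Iso.refl_hom, Category.comp_id, sqG.lift_snd]

/-- An open part of the target over which a fibre product is a scheme. -/
theorem exists_scheme_nhd (hXA : IsAlgSpace X) (hc : IsQuasiCompactSp X) {A : Over S}
    [IsAffine A.left] (q : X ⟶ (yon S).obj A) {v : ↥A.left}
    (hv : ∀ v' : ↥A.left, v' ⤳ v → v' = v)
    (hsch : ∀ z, AlgSp.Points.map q z = AlgSp.Points.ofScheme A v → IsSchematicPt X z) :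
    ∃ (D : A.left.Opens) (G : Over S) (g : (yon S).obj G ⟶ X)
      (h : G ⟶ Over.mk (D.ι ≫ A.hom)),
      IsAffineOpen D ∧ v ∈ D ∧ RepWith @IsOpenImmersion g ∧
        IsPullback g ((yon S).map h) q ((yon S).map (Over.homMk D.ι rfl)) := by
  obtain ⟨X₀, j, hj, ⟨G, ⟨hG⟩⟩, hrange⟩ := exists_schematic_openSub ⟨X, hXA⟩
  let g₀ : (yon S).obj G ⟶ X := (isoOfRepresentableBy hG).hom ≫ j.hom
  have hg₀ : RepWith @IsOpenImmersion g₀ := repWith_comp (repWith_isIso _) hj
  have : Mono g₀ := mono_of_repWith (fun _ _ g (_ : IsOpenImmersion g) => inferInstance) hg₀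
  have hrange₀ : ∀ z, IsSchematicPt X z → z ∈ Set.range (AlgSp.Points.map g₀) := fun z hz => by
    obtain ⟨y, rfl⟩ := hrange.ge hz
    exact ⟨AlgSp.Points.map (isoOfRepresentableBy hG).inv y, by
      rw [← AlgSp.Points.map_comp]; simp [g₀]⟩
  obtain ⟨W, c, hW, -, hcs⟩ := exists_affine_chart hXA hc
  obtain ⟨ω, hω⟩ := (yon S).map_surjective (c ≫ q)
  have hqc : ∀ w, AlgSp.Points.map q (AlgSp.Points.ofPt c w) =
      AlgSp.Points.ofScheme A (ω.left w) := fun w => by
    rw [ofPt_eq_map, ← AlgSp.Points.map_comp, ← hω]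
    exact AlgSp.Points.map_yon_map_apply ω w
  let C : Closeds ↥W.left := ⟨(AlgSp.Points.ofPt c) ⁻¹' {z | IsSchematicPt X z}ᶜ,
    (isOpen_schematicPt X).isClosed_compl.preimage (AlgSp.Points.continuous_ofPt c)⟩
  let I := Scheme.IdealSheafData.vanishingIdeal C
  have hrC : Set.range I.subschemeι = (C : Set ↥W.left) := by
    rw [Scheme.IdealSheafData.range_subschemeι, Scheme.IdealSheafData.coe_support_vanishingIdeal]
    try exact C.2.closure_eq
  have hvK : v ∉ closure (Set.range (I.subschemeι ≫ ω.left)) := fun h => by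
    obtain ⟨w, hw⟩ :=
      Groth.DescentBase.exists_specializes_of_mem_closure_range (I.subschemeι ≫ ω.left) h
    refine (hrC.le ⟨w, rfl⟩ : I.subschemeι w ∈ C) (hsch _ ?_)
    rw [hqc]
    exact congrArg (AlgSp.Points.ofScheme A) (hv _ hw)
  obtain ⟨D, hD, hvD, hDK⟩ := exists_isAffineOpen_mem_and_subset (X := A.left) (x := v)
    (U := ⟨_, isClosed_closure.isOpen_compl⟩) hvK
  refine ⟨D, ?_⟩
  obtain ⟨GD, g, h, hg, hp, -⟩ := exists_isPullback_of_range hXA q hg₀ D fun z d hz => by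
    refine hrange₀ _ ?_
    by_contra hns
    obtain ⟨w, rfl⟩ := surjective_ofPt_of_repWith hcs z
    obtain ⟨w', rfl⟩ : w ∈ Set.range I.subschemeι := hrC.ge hns
    refine hDK (show D.ι d ∈ D from d.2) (subset_closure ⟨w', ?_⟩)
    exact (AlgSp.Points.schemeHomeo A).injective ((hqc _).symm.trans hz)
  exact ⟨GD, g, h, hD, hvD, hg, hp⟩

/-- A morphism which becomes finite over an etale chart is finite over the image of the chart. -/
theorem exists_openSub_isFiniteMor {X Y : Space S} (f : X ⟶ Y) {D : Over S} {b : (yon S).obj D ⟶ Y.obj}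
    (hb : RepWith @Etale b) {G : Over S} {g : (yon S).obj G ⟶ X.obj} {h : G ⟶ D}
    (sq : IsPullback g ((yon S).map h) f.hom b) (hh : IsFinite h.left) :
    ∃ (Y' X' : Space S) (j : Y' ⟶ Y) (fst : X' ⟶ Y') (snd : X' ⟶ X),
      RepWith @IsOpenImmersion j.hom ∧
      Set.range (AlgSp.Points.ofPt b) ⊆ Set.range (AlgSp.Points.map j.hom) ∧
      IsPullback fst.hom snd.hom j.hom f.hom ∧ IsFiniteMor fst.hom := by
  obtain ⟨Y₀, ι, pY, hι, hpe, hps, hpb⟩ := exists_openSub_chart hb
  have hY₀ : IsAlgSpace Y₀ := isAlgSpace_of_representable Y.property ι hι.rep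
  obtain ⟨P, p₁, p₂, sqP⟩ : ∃ (P : Sp S) (p₁ : P ⟶ X.obj) (p₂ : P ⟶ Y₀),
      IsPullback p₁ p₂ f.hom ι := ⟨_, _, _, IsPullback.of_hasPullback _ _⟩
  have hP : IsAlgSpace P := isAlgSpace_of_isPullback sqP Y.property.diag X.property hY₀
  let l := sqP.lift g ((yon S).map h ≫ pY) (by rw [Category.assoc, hpb, sq.w])
  have hl : IsPullback l ((yon S).map h) p₂ pY :=
    IsPullback.of_right (by rw [sqP.lift_fst, hpb]; exact sq) (sqP.lift_snd _ _ _) sqP
  refine ⟨⟨Y₀, hY₀⟩, ⟨P, hP⟩, ObjectProperty.homMk ι, ObjectProperty.homMk p₂,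
    ObjectProperty.homMk p₁, hι, ?_, sqP.flip, ?_⟩
  · rintro _ ⟨d, rfl⟩
    exact ⟨AlgSp.Points.ofPt pY d, by
      rw [← hpb]; exact AlgSp.Points.map_ofPt _ _ _⟩
  · exact affWith_isFinite_iff.1 (affWith_of_cover hY₀ hpe hps hl
      (affWith_of_repWith isFinite_le_isAffineHom ((repWith_yon_map_iff _ h).2 hh)))

/-- A quasi-separated morphism of finite type, quasi-finite over a point of codimension zero, is
finite over a neighbourhood of this point. -/
theorem exists_finite_nhd_codimZero {X Y : Space S} (f : X ⟶ Y)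
    (hqs : IsQuasiSeparatedMor f.hom) (hft : IsFiniteTypeMor f.hom) {y : AlgSp.Points Y.obj}
    (hy : HasAt (fun U u => ringKrullDim ↥(U.presheaf.stalk u) = 0) Y.obj y)
    (hqf : ∀ x : AlgSp.Points X.obj, AlgSp.Points.map f.hom x = y →
      HasAtMor (fun _ _ h u => FlatMor.fibreDimAt h u = 0) f.hom x) :
    ∃ (Y' X' : Space S) (j : Y' ⟶ Y) (fst : X' ⟶ Y') (snd : X' ⟶ X),
      RepWith @IsOpenImmersion j.hom ∧ y ∈ Set.range (AlgSp.Points.map j.hom) ∧
      IsPullback fst.hom snd.hom j.hom f.hom ∧ IsFiniteMor fst.hom := by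
  obtain ⟨U, p, hp, hps⟩ := Y.property.atlas
  obtain ⟨u, rfl⟩ := surjective_ofPt_of_repWith hps y
  obtain ⟨O, hO, huO, -⟩ :=
    exists_isAffineOpen_mem_and_subset (X := S) (x := U.hom u) (U := ⊤) trivial
  obtain ⟨A₀, hA, huA, hAO⟩ :=
    exists_isAffineOpen_mem_and_subset (X := U.left) (x := u) (U := U.hom ⁻¹ᵁ O) huO
  let A : Over S := Over.mk (A₀.ι ≫ U.hom)
  let jA : A ⟶ U := Over.homMk A₀.ι rfl
  have : IsAffine A.left := hA
  let b : (yon S).obj A ⟶ Y.obj := (yon S).map jA ≫ p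
  have hb : RepWith @Etale b :=
    repWith_comp ((repWith_yon_map_iff _ jA).2 (inferInstanceAs (Etale A₀.ι))) hp
  let v : ↥A.left := ⟨u, huA⟩
  have hbv : AlgSp.Points.ofPt b v = AlgSp.Points.ofPt p u := by rw [ofPt_comp_yon]; rfl
  have hv0 : ringKrullDim ↥(A.left.presheaf.stalk v) = 0 :=
    (hasAt_iff_forall etaleInvariant_ringKrullDim Y.property _ _).1 hy A b v hb hbv
  obtain ⟨P, r, q, sqP⟩ : ∃ (P : Sp S) (r : P ⟶ X.obj) (q : P ⟶ (yon S).obj A),
      IsPullback r q f.hom b := ⟨_, _, _, IsPullback.of_hasPullback _ _⟩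
  have hP : IsAlgSpace P :=
    isAlgSpace_of_isPullback sqP Y.property.diag X.property (IsAlgSpace.yon_obj A)
  have hPc : IsQuasiCompactSp P :=
    hft.2 (IsAlgSpace.yon_obj A) ((isQuasiCompactSp_yon_iff A).2 inferInstance) b r q sqP
  have hPs : IsQuasiSeparatedSp P :=
    isQuasiSeparatedSp_of_mor (repWith_of_isPullback (isPullback_diagonal_baseChange sqP) hqs)
      (isQuasiSeparatedSp_yon_of_affine hO (Scheme.Hom.resLE_comp_ι U.hom hAO))
  have hr : RepWith @Etale r := repWith_of_isPullback sqP.flip hb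
  have key : ∀ {W : Over S} (c : (yon S).obj W ⟶ P) (ω : W ⟶ A) (w : ↥W.left),
      RepWith @Etale c → c ≫ q = (yon S).map ω → ω.left w = v →
      LocallyOfFiniteType ω.left ∧ FlatMor.fibreDimAt ω.left w = 0 := by
    intro W c ω w hc hω hw
    have comm : (c ≫ r) ≫ f.hom = (yon S).map ω ≫ b := by
      rw [Category.assoc, sqP.w, ← Category.assoc, hω]
    refine ⟨hft.1 (c ≫ r) b ω (repWith_comp hc hr) hb comm, ?_⟩
    refine (Groth.AlgSp3.hasAtMor_iff_of_chart Groth.AlgSp3.etMor_fibreDimAt (fun d => d = 0)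
      X.property.diag Y.property.diag (repWith_comp hc hr) hb comm w).1 (hqf _ ?_)
    rw [AlgSp.Points.map_ofPt, comm, ofPt_comp_yon, hw, hbv]
  have hsch : ∀ z, AlgSp.Points.map q z = AlgSp.Points.ofScheme A v → IsSchematicPt P z := by
    intro z hz
    obtain ⟨W, c, hc, hcs⟩ := hP.atlas
    obtain ⟨w, rfl⟩ := surjective_ofPt_of_repWith hcs z
    obtain ⟨ω, hω⟩ := (yon S).map_surjective (c ≫ q)
    have hw : ω.left w = v := by
      refine (AlgSp.Points.schemeHomeo A).injective (Eq.trans ?_ hz)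
      rw [ofPt_eq_map, ← AlgSp.Points.map_comp, ← hω]
      exact (AlgSp.Points.map_yon_map_apply ω w).symm
    obtain ⟨hlft, hd⟩ := key c ω w hc hω.symm hw
    obtain ⟨O', hwO, hlqf, -⟩ := (Groth.AlgSp3.nbhd_lqf_iff_fibreDimAt ω.left w).2 hd
    refine isSchematicPt_of_qs hP hPs ⟨W, c, w, hc, rfl, le_antisymm ?_ ringKrullDim_nonneg_of_nontrivial⟩
    have h1 := Groth.AlgSp3.ringKrullDim_stalk_le_of_lqf (O'.ι ≫ ω.left) ⟨w, hwO⟩
    rw [show (O'.ι ≫ ω.left) ⟨w, hwO⟩ = ω.left w from rfl, hw, hv0] at h1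
    exact (ringKrullDim_eq_of_ringEquiv (asIso (Scheme.Hom.stalkMap O'.ι ⟨w, hwO⟩)).commRingCatIsoToRingEquiv).trans_le h1
  obtain ⟨D, G, g, h, hD, hvD, hg, sqG⟩ := exists_scheme_nhd hP hPc q
    (v := v) (eq_of_specializes_of_ringKrullDim_eq_zero hv0) hsch
  let DO : Over S := Over.mk (D.ι ≫ A.hom)
  let jD : DO ⟶ A := Over.homMk D.ι rfl
  have : IsAffine DO.left := hD
  let bD : (yon S).obj DO ⟶ Y.obj := (yon S).map jD ≫ b
  have hbD : RepWith @Etale bD :=
    repWith_comp ((repWith_yon_map_iff _ jD).2 (inferInstanceAs (Etale D.ι))) hb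
  have sqX : IsPullback (g ≫ r) ((yon S).map h) f.hom bD := sqG.paste_horiz sqP
  have hcq : QuasiCompact h.left := by
    have := (isQuasiCompactSp_yon_iff G).1
      (hft.2 (IsAlgSpace.yon_obj DO) ((isQuasiCompactSp_yon_iff DO).2 inferInstance) bD _ _ sqX)
    infer_instance
  have hsq : QuasiSeparated h.left := by
    have : Mono g := mono_of_repWith (fun _ _ g (_ : IsOpenImmersion g) => inferInstance) hg
    have := quasiSeparated_hom_of_mono hPs g
    have : QuasiSeparated (h.left ≫ DO.hom) := by rw [Over.w h]; infer_instance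
    exact QuasiSeparated.of_comp h.left DO.hom
  have hge : RepWith @Etale g :=
    repWith_mono (fun _ _ g (_ : IsOpenImmersion g) => (inferInstance : Etale g)) hg
  have hlft : LocallyOfFiniteType h.left :=
    hft.1 (g ≫ r) bD h (repWith_comp hge hr) hbD sqX.w
  let v' : ↥DO.left := ⟨v, hvD⟩
  have hfin : (h.left ⁻¹' {v'}).Finite := by
    refine (Groth.AlgSp3.finite_quasiFinite_fibre h.left v').subset fun w hw => ⟨hw, ?_⟩
    obtain ⟨hl, hd⟩ := key g (h ≫ jD) w hge (sqG.w.trans ((yon S).map_comp _ _).symm)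
      (congrArg Subtype.val (show h.left w = v' from hw))
    rw [← hd]
    have : Etale jD.left := inferInstanceAs (Etale D.ι)
    exact (Groth.AlgSp3.etMor_fibreDimAt.postcomp h.left jD.left w).symm
  have hη : closure {v'} ∈ irreducibleComponents ↥DO.left := by
    rw [Groth.PropsBasic2.closure_mem_irreducibleComponents_iff]
    intro z hz
    exact Subtype.ext (eq_of_specializes_of_ringKrullDim_eq_zero hv0 _
      (hz.map continuous_subtype_val))
  obtain ⟨V, hV, hvV, hVf⟩ :=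
    Groth.PropsBasic.GenericFinite.exists_affine_nhd_isFinite h.left hη hfin
  let VO : Over S := Over.mk (V.ι ≫ DO.hom)
  let jV : VO ⟶ DO := Over.homMk V.ι rfl
  let GV : Over S := Over.mk ((h.left ⁻¹ᵁ V).ι ≫ G.hom)
  let kV : GV ⟶ G := Over.homMk (h.left ⁻¹ᵁ V).ι rfl
  let hVO : GV ⟶ VO := Over.homMk (h.left ∣_ V) (by
    change h.left ∣_ V ≫ V.ι ≫ DO.hom = (h.left ⁻¹ᵁ V).ι ≫ G.hom
    rw [morphismRestrict_ι_assoc, Over.w h])
  have hres : IsPullback hVO.left kV.left jV.left h.left := isPullback_morphismRestrict h.left V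
  have hres' : IsPullback hVO kV jV h :=
    IsPullback.of_map (Over.forget S) (by ext1; exact hres.w) hres
  have hbV : RepWith @Etale ((yon S).map jV ≫ bD) :=
    repWith_comp ((repWith_yon_map_iff _ jV).2 (inferInstanceAs (Etale V.ι))) hbD
  obtain ⟨Y', X', j, fst, snd, hj, hrange, hsqY, hfst⟩ :=
    exists_openSub_isFiniteMor f hbV ((hres'.map (yon S)).flip.paste_horiz sqX) hVf
  refine ⟨Y', X', j, fst, snd, hj, hrange ⟨⟨v', hvV⟩, ?_⟩, hsqY, hfst⟩
  rw [ofPt_comp_yon, ofPt_comp_yon]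
  exact hbv

end

end Groth.AlgSpBasic
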