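import Mathlib.AlgebraicGeometry.Morphisms.Etale
import Groth.Agent.AlgSp2.MonoEtale
import Groth.Agent.AlgSpBasic.LocPInst
import Groth.Agent.AlgSpBasic.SepLocal

/-!
# Diagonals of unramified morphisms of algebraic spaces
-/

set_option autoImplicit false
set_option backward.isDefEq.respectTransparency.types false
universe u

open CategoryTheory CategoryTheory.Limits AlgebraicGeometry Opposite AlgSp

namespace Groth.AlgSpBasic

noncomputable section

variable {S : Scheme.{u}} {X Y : Sp S}

local instance etaleMultiplicative : MorphismProperty.IsMultiplicative @Etale.{u} where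
  id_mem _ := inferInstance
  comp_mem f g (_ : Etale f) (_ : Etale g) := inferInstance

/-- If `f ≫ g` is etale and `g` is unramified then `f` is etale. -/
theorem etale_of_comp_unramified ⦃A B C : Scheme.{u}⦄ (f : A ⟶ B) (g : B ⟶ C)
    (h : Etale (f ≫ g))
    (hg : ((@LocallyOfFiniteType : MorphismProperty Scheme.{u}) ⊓ @FormallyUnramified) g) :
    Etale f := by
  have : MorphismProperty.HasOfPostcompProperty @Etale.{u}
      ((@LocallyOfFiniteType : MorphismProperty Scheme.{u}) ⊓ @FormallyUnramified) :=
    MorphismProperty.hasOfPostcompProperty_iff_le_diagonal.2 fun _ _ φ hφ => by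
      obtain ⟨h₁, h₂⟩ := hφ
      have : LocallyOfFiniteType φ := h₁
      have : FormallyUnramified φ := h₂
      exact (inferInstance : Etale (pullback.diagonal φ))
  exact MorphismProperty.of_postcomp (W := @Etale.{u})
    (W' := (@LocallyOfFiniteType : MorphismProperty Scheme.{u}) ⊓ @FormallyUnramified) f g hg h

/-- The diagonal of an unramified morphism is an open immersion. -/
theorem repWith_diagonal_of_unramified (hX : IsAlgSpace X) (hY : IsAlgSpace Y) {f : X ⟶ Y}
    (hf : LocP ((@LocallyOfFiniteType : MorphismProperty Scheme.{u}) ⊓ @FormallyUnramified) f) :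
    RepWith @IsOpenImmersion (pullback.diagonal f) := by
  have hP := IsPullback.of_hasPullback f f
  have hXX := isAlgSpace_of_isPullback hP hY.diag hX hX
  have h₁ : LocP ((@LocallyOfFiniteType : MorphismProperty Scheme.{u}) ⊓ @FormallyUnramified)
      (pullback.fst f f) := locP_of_isPullback hX hY hX hP.flip hf
  have h₂ : LocP @Etale (pullback.diagonal f ≫ pullback.fst f f) := by
    rw [pullback.diagonal_fst]
    exact locP_of_repWith (repWith_isIso _)
  have : Mono (pullback.diagonal f) :=
    mono_of_repWith (fun _ _ _ h => h.1) (monoLFT_diagonal hX f)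
  exact Groth.AlgSp2.repWith_isOpenImmersion_of_mono_etale hX hXX
    (locP_of_comp_of_cancel' etale_of_comp_unramified hX hXX hX h₂ h₁)

theorem etale_le_unramified :
    (@Etale : MorphismProperty Scheme.{u}) ≤
      ((@LocallyOfFiniteType : MorphismProperty Scheme.{u}) ⊓ @FormallyUnramified :
        MorphismProperty Scheme.{u}) :=
  fun _ _ g (_ : Etale g) =>
    ⟨(inferInstance : LocallyOfFiniteType g), (inferInstance : FormallyUnramified g)⟩

theorem locP_mono {P Q : MorphismProperty Scheme.{u}} (hPQ : P ≤ Q) {f : X ⟶ Y} (h : LocP P f) :
    LocP Q f := fun _ _ a b k ha hb e => hPQ _ (h a b k ha hb e)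

/-- An etale universally injective morphism is an open immersion. -/
theorem repWith_isOpenImmersion_of_etale_univInjective (hX : IsAlgSpace X) (hY : IsAlgSpace Y)
    {f : X ⟶ Y} (he : IsEtaleMor f) (hi : IsUnivInjectiveMor f) :
    RepWith @IsOpenImmersion f := by
  have hl := locP_of_isEtaleMor he
  have hd := repWith_diagonal_of_unramified hX hY (locP_mono etale_le_unramified hl)
  have hs := surjective_diagonal_of_univInjective hX hi
  have : IsIso (pullback.diagonal f) := by
    refine Groth.AlgSp2.isIso_of_repWith (repWith_of_representable hd.rep fun T V g fst snd sq => ?_)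
    have : IsOpenImmersion snd.left := hd.property g fst snd sq
    have : Surjective snd.left := ⟨fun t => by
      obtain ⟨x, hx⟩ := hs (Points.ofPt g t)
      obtain ⟨v, -, hv⟩ := (map_eq_ofPt_iff sq x t).1 hx
      exact ⟨v, hv⟩⟩
    show IsIso snd.left
    have : Epi snd.left.base := (TopCat.epi_iff_surjective _).2 snd.left.surjective
    exact IsOpenImmersion.isIso snd.left
  have : Mono f := by
    refine ⟨fun {Z} a b e => ?_⟩
    have h := pullback.lift a b e
    have h₁ : pullback.lift a b e = (pullback.lift a b e ≫ inv (pullback.diagonal f)) ≫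
        pullback.diagonal f := by rw [Category.assoc, IsIso.inv_hom_id, Category.comp_id]
    have h₂ := h₁ =≫ pullback.fst f f
    have h₃ := h₁ =≫ pullback.snd f f
    rw [pullback.lift_fst, Category.assoc, pullback.diagonal_fst, Category.comp_id] at h₂
    rw [pullback.lift_snd, Category.assoc, pullback.diagonal_snd, Category.comp_id] at h₃
    exact h₂.trans h₃.symm
  exact Groth.AlgSp2.repWith_isOpenImmersion_of_mono_etale hX hY hl

/-- A morphism locally of finite type with open diagonal is unramified. -/
theorem locP_unramified_of_diagonal {f : X ⟶ Y}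
    (hf : LocP @LocallyOfFiniteType f) (hd : RepWith @IsOpenImmersion (pullback.diagonal f)) :
    LocP ((@LocallyOfFiniteType : MorphismProperty Scheme.{u}) ⊓ @FormallyUnramified) f := by
  intro U V a b h ha hb comm
  refine ⟨hf a b h ha hb comm, ?_⟩
  have hda : RepWith @IsOpenImmersion (pullback.diagonal a) :=
    (repWith_diagonal_iff_of_representable @IsOpenImmersion
      (MorphismProperty.diagonal @IsOpenImmersion) (fun _ _ _ => Iff.rfl) ha.rep).2
      (repWith_mono (fun _ _ g (_ : Etale g) =>
        (inferInstance : IsOpenImmersion (pullback.diagonal g))) ha)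
  have hc := repWith_diagonal_comp hda hd
  have key : ∀ {k₁ k₂ : (yon S).obj U ⟶ Y}, k₁ = k₂ →
      RepWith @IsOpenImmersion (pullback.diagonal k₁) →
        RepWith @IsOpenImmersion (pullback.diagonal k₂) := by
    rintro _ _ rfl h
    exact h
  have hc := key comm hc
  have : Mono (pullback.mapDesc ((yon S).map h) ((yon S).map h) b) := ⟨fun p q e' => by
    apply pullback.hom_ext
    · have := e' =≫ pullback.fst _ _
      rwa [Category.assoc, Category.assoc, pullback.mapDesc, pullback.map, pullback.lift_fst,
        Category.comp_id] at this
    · have := e' =≫ pullback.snd _ _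
      rwa [Category.assoc, Category.assoc, pullback.mapDesc, pullback.map, pullback.lift_snd,
        Category.comp_id] at this⟩
  have e : pullback.diagonal ((yon S).map h) ≫ pullback.mapDesc ((yon S).map h) ((yon S).map h) b =
      pullback.diagonal ((yon S).map h ≫ b) := by
    apply pullback.hom_ext
    · rw [Category.assoc, pullback.mapDesc, pullback.map, pullback.lift_fst, Category.comp_id,
        pullback.diagonal_fst, pullback.diagonal_fst]
    · rw [Category.assoc, pullback.mapDesc, pullback.map, pullback.lift_snd, Category.comp_id,
        pullback.diagonal_snd, pullback.diagonal_snd]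
  have h₃ := repWith_of_isPullback (isPullback_of_mono_comp e) hc
  have : IsOpenImmersion (pullback.diagonal h.left) := (repWith_diagonal_yon_map_iff _ h).1 h₃
  exact (inferInstance : FormallyUnramified h.left)

end

end Groth.AlgSpBasic
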