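import Groth.Agent.AlgSpBasic.FiltrationQuot
import Groth.Agent.AlgSpBasic.OpenSub
import Groth.Agent.AlgSpBasic.Univ
import Groth.Agent.AlgSpBasic.BddFibres
import Groth.Agent.AlgSp2.InfGlue
import Groth.Agent.AlgSp2.AffineDescent
import Groth.Agent.AlgSpEt.Nbhd
import Groth.Agent.AlgSpEt.Local
import Groth.Agent.AlgSp3.RedInduced

/-!
# The filtration of an algebraic space by numbers of geometric lifts along a chart
-/

set_option autoImplicit false
set_option backward.isDefEq.respectTransparency.types false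
universe u

open CategoryTheory CategoryTheory.Limits AlgebraicGeometry Topology TopologicalSpace Opposite AlgSp

namespace Groth.AlgSpBasic

noncomputable section

variable {S : Scheme.{u}} {X : Sp S} {U : Over S} {a : (yon S).obj U ⟶ X} {n : ℕ}

theorem mk_mkPt {K : Type u} [Field K] {str : Spec (CommRingCat.of K) ⟶ S}
    (g : (yon S).obj (fieldOver str) ⟶ X) :
    AlgSp.Points.mk (mkPt g) = AlgSp.Points.ofPt g (IsLocalRing.closedPoint K) :=
  ((Points.ofPt_toHom (mkPt g) (IsLocalRing.closedPoint K)).symm).trans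
    (congrArg (fun k => AlgSp.Points.ofPt (T := fieldOver str) k (IsLocalRing.closedPoint K))
      (mkPt_toHom g))

/-- The inclusion of a point of a scheme over the base. -/
abbrev resPt {W : Over S} (w : ↥W.left) :
    fieldOver (W.left.fromSpecResidueField w ≫ W.hom) ⟶ W :=
  Over.homMk (W.left.fromSpecResidueField w) rfl

theorem mk_mkPt_resPt {W : Over S} (w : ↥W.left) (c : (yon S).obj W ⟶ X) :
    AlgSp.Points.mk (mkPt ((yon S).map (resPt w) ≫ c)) = AlgSp.Points.ofPt c w := by
  rw [mk_mkPt]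
  refine (ofPt_comp_yon _ _ _).trans (congrArg (AlgSp.Points.ofPt c) ?_)
  exact Scheme.fromSpecResidueField_apply _ _

/-- The points with `p` distinct lifts along `a` over some field. -/
def confSet (a : (yon S).obj U ⟶ X) (p : ℕ) : Set (AlgSp.Points X) :=
  {x | ∃ (q : FieldPt X) (f : Fin p → (q.pt ⟶ U)),
    (∀ i, (yon S).map (f i) ≫ a = q.toHom) ∧ Function.Injective f ∧ AlgSp.Points.mk q = x}

theorem confSet_antitone {p p' : ℕ} (h : p ≤ p') : confSet a p' ⊆ confSet a p := by
  rintro x ⟨q, f, hf, hi, hx⟩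
  exact ⟨q, f ∘ Fin.castLE h, fun i => hf _, hi.comp (Fin.castLE_injective h), hx⟩

theorem confSet_zero : confSet a 0 = Set.univ := Set.eq_univ_of_forall fun x => by
  obtain ⟨q, rfl⟩ := AlgSp.Points.mk_surjective x
  exact ⟨q, Fin.elim0, fun i => i.elim0, fun i => i.elim0, rfl⟩

theorem confSet_eq_range (D : DistinctSpace a n) :
    confSet a (n + 1) = Set.range (AlgSp.Points.ofPt D.c) := by
  ext x
  constructor
  · rintro ⟨q, f, hf, hi, rfl⟩
    obtain ⟨m, hm⟩ := D.exists_lift f q.toHom hf (ptsInj_field_iff.2 hi)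
    refine ⟨m.left (IsLocalRing.closedPoint q.K), ?_⟩
    rw [← ofPt_comp_yon]
    have : (yon S).map m ≫ D.c = q.toHom := by
      rw [← D.comm 0, ← Category.assoc, ← Functor.map_comp, hm, hf]
    rw [this]
    exact Points.ofPt_toHom q _
  · rintro ⟨w, rfl⟩
    exact ⟨mkPt ((yon S).map (resPt w) ≫ D.c), fun i => resPt w ≫ D.e i, fun i => by
      rw [mkPt_toHom, Functor.map_comp, Category.assoc, D.comm]; rfl,
      ptsInj_field_iff.1 (D.inj.comp (resPt w)), mk_mkPt_resPt w D.c⟩

theorem isOpen_confSet (hX : IsAlgSpace X) [IsAffine U.left] (ha : RepWith @Etale a) (p : ℕ) :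
    IsOpen (confSet a p) := by
  cases p with
  | zero => rw [confSet_zero]; exact isOpen_univ
  | succ n =>
    obtain ⟨D⟩ := exists_distinctSpace hX ha n
    rw [confSet_eq_range D]
    exact (isOpenMap_ofPt_of_etale D.etale).isOpen_range

theorem ofPt_mem_confSet_one (u : ↥U.left) : AlgSp.Points.ofPt a u ∈ confSet a 1 :=
  ⟨mkPt ((yon S).map (resPt u) ≫ a), fun _ => resPt u, fun _ => (mkPt_toHom _).symm,
    fun i j _ => Subsingleton.elim i j, mk_mkPt_resPt u a⟩

theorem confSet_one (hs : ∀ x, ∃ u, AlgSp.Points.ofPt a u = x) : confSet a 1 = Set.univ :=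
  Set.eq_univ_of_forall fun x => by
    obtain ⟨u, rfl⟩ := hs x
    exact ofPt_mem_confSet_one u

/-- A geometric point in the set has that many distinct lifts. -/
theorem exists_tuple_of_geometric (hX : IsAlgSpace X) [IsAffine U.left] (ha : RepWith @Etale a)
    {q : FieldPt X} (hq : q.IsGeometric) {p : ℕ} (h : AlgSp.Points.mk q ∈ confSet a p) :
    ∃ f : Fin p → (q.pt ⟶ U), (∀ i, (yon S).map (f i) ≫ a = q.toHom) ∧ Function.Injective f := by
  cases p with
  | zero => exact ⟨Fin.elim0, fun i => i.elim0, fun i => i.elim0⟩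
  | succ n =>
    obtain ⟨D⟩ := exists_distinctSpace hX ha n
    rw [confSet_eq_range D] at h
    obtain ⟨w, hw⟩ := h
    obtain ⟨m, hm, -⟩ := AlgSpEt.exists_lift hq D.c D.etale w hw
    refine ⟨fun i => m ≫ D.e i, fun i => ?_, ptsInj_field_iff.1 (D.inj.comp m)⟩
    rw [Functor.map_comp, Category.assoc, D.comm, hm]

/-- Two sections of an etale morphism over a field with the same image agree. -/
theorem section_ext {T : Scheme.{u}} {K : Type u} [Field K] (π : T ⟶ Spec (CommRingCat.of K))
    [Etale π] (σ σ' : Spec (CommRingCat.of K) ⟶ T) (h : σ ≫ π = 𝟙 _) (h' : σ' ≫ π = 𝟙 _)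
    (e : σ (IsLocalRing.closedPoint K) = σ' (IsLocalRing.closedPoint K)) : σ = σ' := by
  have : IsIso (σ ≫ π) := by rw [h]; infer_instance
  have : Mono σ := mono_of_mono σ π
  have : Etale σ := MorphismProperty.of_postcomp
    (W' := @Etale) (W := @Etale) σ π inferInstance inferInstance
  have : IsOpenImmersion σ := IsOpenImmersion.of_flat_of_mono σ
  have hr : Set.range σ' ⊆ Set.range σ := by
    rintro _ ⟨z, rfl⟩
    exact ⟨IsLocalRing.closedPoint K,
      e.trans (congrArg σ' (Subsingleton.elim (α := PrimeSpectrum K) _ _))⟩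
  have el := IsOpenImmersion.lift_fac σ σ' hr
  have : IsOpenImmersion.lift σ σ' hr = 𝟙 _ := by
    have e' := congrArg (· ≫ π) el
    simpa only [Category.assoc, h, h', Category.comp_id] using e' 
  rw [← el, this, Category.id_comp]

/-- A point represented by a quasi-compact morphism has boundedly many lifts. -/
theorem exists_not_mem_confSet (hX : IsAlgSpace X) [IsAffine U.left] (ha : RepWith @Etale a)
    (q : FieldPt X) (hq : RepWith @QuasiCompact q.toHom) :
    ∃ N, AlgSp.Points.mk q ∉ confSet a N := by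
  let L := AlgebraicClosure q.K
  let str : Spec (CommRingCat.of L) ⟶ S :=
    Spec.map (CommRingCat.ofHom (algebraMap q.K L)) ≫ q.str
  let ι : fieldOver str ⟶ q.pt :=
    Over.homMk (Spec.map (CommRingCat.ofHom (algebraMap q.K L))) rfl
  let qL : FieldPt X := mkPt ((yon S).map ι ≫ q.toHom)
  have hqL : AlgSp.Points.mk qL = AlgSp.Points.mk q := by
    refine (mk_mkPt _).trans ((ofPt_comp_yon _ _ _).trans ?_)
    exact Points.ofPt_toHom q _
  obtain ⟨T, fst, snd, sq⟩ := exists_pullback_yon ha.rep q.toHom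
  obtain ⟨TL, g₁, g₂, sqL⟩ : ∃ (TL : Over S) (g₁ : TL ⟶ T) (g₂ : TL ⟶ fieldOver str),
      IsPullback g₁ g₂ snd ι := ⟨_, _, _, IsPullback.of_hasPullback snd ι⟩
  have : QuasiCompact fst.left := repWith_fst_of_isPullback sq.flip hq
  have : CompactSpace ↥T.left := QuasiCompact.compactSpace_of_compactSpace fst.left
  have : IsAffineHom ι.left := inferInstanceAs (IsAffineHom (Spec.map _))
  have : IsAffineHom g₁.left :=
    MorphismProperty.of_isPullback (P := @IsAffineHom) (isPullback_left sqL).flip ‹_›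
  have : CompactSpace ↥TL.left := QuasiCompact.compactSpace_of_compactSpace g₁.left
  have : Etale snd.left := repWith_fst_of_isPullback sq ha
  have : Etale g₂.left := MorphismProperty.of_isPullback (P := @Etale) (isPullback_left sqL) ‹_›
  have : DiscreteTopology ↥TL.left := discreteTopology_of_etale (k := L) g₂.left
  have : Finite ↥TL.left := finite_of_compact_of_discrete
  refine ⟨Nat.card ↥TL.left + 1, fun hmem => ?_⟩
  obtain ⟨f, hf, hfi⟩ := exists_tuple_of_geometric hX ha
    (show qL.IsGeometric from AlgebraicClosure.isAlgClosed q.K) (hqL ▸ hmem)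
  let f' : Fin (Nat.card ↥TL.left + 1) → (fieldOver str ⟶ U) := f
  have hf' : ∀ i, (yon S).map (f' i) ≫ a = (yon S).map ι ≫ q.toHom := fun i =>
    (hf i).trans (mkPt_toHom _)
  have big := (sqL.map (yon S)).paste_horiz sq
  rw [← Functor.map_comp] at big
  have hsec : ∀ i, ∃ σ : fieldOver str ⟶ TL, σ ≫ g₂ = 𝟙 _ ∧ σ ≫ g₁ ≫ fst = f' i := fun i => by
    obtain ⟨σ, hσ⟩ := (yon S).map_surjective (big.lift ((yon S).map (f' i)) (𝟙 _) (by
      rw [Category.id_comp, hf' i]))
    exact ⟨σ, (yon S).map_injective (by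
      rw [Functor.map_comp, hσ, big.lift_snd, CategoryTheory.Functor.map_id]),
      (yon S).map_injective (by rw [Functor.map_comp, hσ, big.lift_fst])⟩
  choose σ hσ₂ hσ₁ using hsec
  have hinj : Function.Injective fun i =>
      (σ i).left (show ↥(fieldOver str).left from IsLocalRing.closedPoint L) := fun i j e => by
    apply hfi
    show f' i = f' j
    rw [← hσ₁ i, ← hσ₁ j]
    congr 1
    exact Over.OverMorphism.ext (section_ext g₂.left (σ i).left (σ j).left
      (congrArg CommaMorphism.left (hσ₂ i)) (congrArg CommaMorphism.left (hσ₂ j)) e)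
  have := Nat.card_le_card_of_injective _ hinj
  simp at this

/-- A chart with bounded fibres has boundedly many lifts. -/
theorem confSet_eq_empty_of_degFibresLE (hX : IsAlgSpace X) [IsAffine U.left]
    (ha : RepWith @Etale a) {N : ℕ} (hN : W4dec.DegFibresLE N a) : confSet a (N + 1) = ∅ := by
  refine Set.eq_empty_of_forall_notMem fun x hx => ?_
  obtain ⟨q, hq, rfl⟩ := AlgSpEt.exists_geometric_point hX x
  obtain ⟨f, hf, hfi⟩ := exists_tuple_of_geometric hX ha hq hx
  obtain ⟨T, fst, snd, sq⟩ := exists_pullback_yon ha.rep q.toHom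
  have h := fibre_of_degFibresLE hN q sq.flip
  obtain ⟨hfin, hdeg⟩ := (Groth.Misc3Fib.finiteOfDegLE_iff snd.left N).1 h
  have := hfin
  have : Finite ↥T.left :=
    (Groth.Misc3Fib.finite_discrete_of_isFinite (k := q.K) (T := T.left) snd.left).1
  have : Etale snd.left := repWith_fst_of_isPullback sq ha
  have hsec : ∀ i, ∃ σ : q.pt ⟶ T, σ ≫ snd = 𝟙 _ ∧ σ ≫ fst = f i := fun i => by
    obtain ⟨σ, hσ⟩ := (yon S).map_surjective (sq.lift ((yon S).map (f i)) (𝟙 _) (by
      rw [Category.id_comp, hf i]))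
    exact ⟨σ, (yon S).map_injective (by
      rw [Functor.map_comp, hσ, sq.lift_snd, CategoryTheory.Functor.map_id]),
      (yon S).map_injective (by rw [Functor.map_comp, hσ, sq.lift_fst])⟩
  choose σ hσ₂ hσ₁ using hsec
  have hinj : Function.Injective fun i =>
      (σ i).left (show ↥q.pt.left from IsLocalRing.closedPoint q.K) := fun i j e => by
    apply hfi
    rw [← hσ₁ i, ← hσ₁ j]
    congr 1
    exact Over.OverMorphism.ext (section_ext snd.left (σ i).left (σ j).left
      (congrArg CommaMorphism.left (hσ₂ i)) (congrArg CommaMorphism.left (hσ₂ j)) e)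
  have h₁ := Nat.card_le_card_of_injective _ hinj
  have h₂ := (Groth.Misc3Fib.natCard_le (k := q.K) (T := T.left) snd.left).trans hdeg
  simp at h₁
  omega

/-- Lifts to the unordered space agree away from the next stratum. -/
theorem UnorderedSpace.eq_of_comp_eq {D : DistinctSpace a n} (Q : UnorderedSpace D) {T : Over S}
    {v v' : T ⟶ Q.V} (h : (yon S).map v ≫ Q.f = (yon S).map v' ≫ Q.f)
    (hout : ∀ t, AlgSp.Points.ofPt ((yon S).map v ≫ Q.f) t ∉ confSet a (n + 2)) : v = v' := by
  have := Q.etale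
  have := Q.surjective
  obtain ⟨T₁, p₁, q₁, sq₁⟩ : ∃ (T₁ : Over S) (p₁ : T₁ ⟶ D.W) (q₁ : T₁ ⟶ T),
      IsPullback p₁ q₁ Q.q v := ⟨_, _, _, IsPullback.of_hasPullback Q.q v⟩
  obtain ⟨T₂, p₂, q₂, sq₂⟩ : ∃ (T₂ : Over S) (p₂ : T₂ ⟶ D.W) (q₂ : T₂ ⟶ T₁),
      IsPullback p₂ q₂ Q.q (q₁ ≫ v') := ⟨_, _, _, IsPullback.of_hasPullback Q.q _⟩
  have : Etale q₁.left :=
    MorphismProperty.of_isPullback (P := @Etale) (isPullback_left sq₁) Q.etale
  have : Surjective q₁.left :=
    MorphismProperty.of_isPullback (P := @Surjective) (isPullback_left sq₁) Q.surjective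
  have : Etale q₂.left :=
    MorphismProperty.of_isPullback (P := @Etale) (isPullback_left sq₂) Q.etale
  have : Surjective q₂.left :=
    MorphismProperty.of_isPullback (P := @Surjective) (isPullback_left sq₂) Q.surjective
  let g := q₂ ≫ q₁
  have : Etale g.left := by show Etale (q₂.left ≫ q₁.left); infer_instance
  have : Surjective g.left := by show Surjective (q₂.left ≫ q₁.left); infer_instance
  have hv : (q₂ ≫ p₁) ≫ Q.q = g ≫ v := by
    simp only [g, Category.assoc, sq₁.w]
  have hv' : p₂ ≫ Q.q = g ≫ v' := by simp only [g, sq₂.w, Category.assoc]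
  have hc : (yon S).map (q₂ ≫ p₁) ≫ D.c = (yon S).map g ≫ (yon S).map v ≫ Q.f := by
    rw [← Q.fac, ← Category.assoc, ← Functor.map_comp, hv, Functor.map_comp, Category.assoc]
  have hc' : (yon S).map p₂ ≫ D.c = (yon S).map g ≫ (yon S).map v ≫ Q.f := by
    rw [h, ← Q.fac, ← Category.assoc, ← Functor.map_comp, hv', Functor.map_comp, Category.assoc]
  have key : (q₂ ≫ p₁) ≫ Q.q = p₂ ≫ Q.q := by
    refine Q.glue _ _ (hc.trans hc'.symm) fun t i => ?_
    let x : fieldOver (T₂.left.fromSpecResidueField t ≫ T₂.hom) ⟶ T₂ :=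
      Over.homMk (T₂.left.fromSpecResidueField t) rfl
    by_contra hne
    simp only [not_exists] at hne
    let A : Fin (n + 1) → (_ ⟶ U) := fun j => x ≫ p₂ ≫ D.e j
    have hA : Function.Injective A := ptsInj_field_iff.1 ((D.inj.comp p₂).comp x)
    let B : Fin (n + 2) → (_ ⟶ U) := Fin.cons (x ≫ (q₂ ≫ p₁) ≫ D.e i) A
    have hB : Function.Injective B := by
      rw [Fin.cons_injective_iff]
      exact ⟨fun ⟨j, hj⟩ => hne j (congrArg CommaMorphism.left hj).symm, hA⟩
    refine hout (g.left t) ⟨mkPt ((yon S).map x ≫ (yon S).map g ≫ (yon S).map v ≫ Q.f), B,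
      fun j => ?_, hB, ?_⟩
    · rw [mkPt_toHom]
      have hm : ∀ {Z : Over S} (m : Z ⟶ T₂) (w : T₂ ⟶ D.W) (k : Fin (n + 1)),
          (yon S).map (m ≫ w ≫ D.e k) ≫ a = (yon S).map m ≫ (yon S).map w ≫ D.c := by
        intro Z m w k
        rw [Functor.map_comp, Functor.map_comp, Category.assoc, Category.assoc, D.comm]
      induction j using Fin.cases with
      | zero =>
        rw [show B 0 = x ≫ (q₂ ≫ p₁) ≫ D.e i from Fin.cons_zero _ _]
        exact (hm x _ i).trans (congrArg _ hc)
      | succ j =>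
        rw [show B j.succ = x ≫ p₂ ≫ D.e j from Fin.cons_succ _ _ _]
        exact (hm x _ j).trans (congrArg _ hc')
    · refine (mk_mkPt_resPt t _).trans ?_
      exact ofPt_comp_yon _ _ _
  apply (yon S).map_injective
  refine AlgSp2.hom_ext_of_fppf g ?_
  rw [← Functor.map_comp, ← Functor.map_comp, ← hv, key, hv']

theorem UnorderedSpace.range_ofPt {D : DistinctSpace a n} (Q : UnorderedSpace D) :
    Set.range (AlgSp.Points.ofPt Q.f) = confSet a (n + 1) := by
  rw [confSet_eq_range D, ← Q.fac]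
  have := Q.surjective
  ext x
  constructor
  · rintro ⟨v, rfl⟩
    obtain ⟨w, rfl⟩ := Q.q.left.surjective v
    exact ⟨w, ofPt_comp_yon _ _ _⟩
  · rintro ⟨w, rfl⟩
    exact ⟨Q.q.left w, (ofPt_comp_yon _ _ _).symm⟩

theorem UnorderedSpace.compact {D : DistinctSpace a n} (Q : UnorderedSpace D)
    (h : RepWith @QuasiCompact a) : CompactSpace ↥Q.V.left := by
  have := D.compact h
  have := Q.surjective
  exact Q.q.left.surjective.compactSpace Q.q.left.continuous

/-- Over a point outside the next stratum there is exactly one point, and it is elementary. -/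
theorem UnorderedSpace.elementary {D : DistinctSpace a n} (Q : UnorderedSpace D) {x : AlgSp.Points X}
    (hx : x ∉ confSet a (n + 2)) {v v' : ↥Q.V.left} (hv : AlgSp.Points.ofPt Q.f v = x)
    (hv' : AlgSp.Points.ofPt Q.f v' = x) :
    v = v' ∧ Mono (FieldPt.ofPt Q.f v).toHom := by
  constructor
  · obtain ⟨M, m₁, m₂, sq⟩ := exists_pullback_yon Q.f_etale.rep Q.f
    obtain ⟨z, hz₁, hz₂⟩ := (ofPt_eq_ofPt_iff sq v v').1 (hv.trans hv'.symm)
    let str := M.left.fromSpecResidueField z ≫ M.hom
    let i : fieldOver str ⟶ M := resPt z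
    have e := Q.eq_of_comp_eq (v := i ≫ m₁) (v' := i ≫ m₂)
      (by simp only [Functor.map_comp, Category.assoc, sq.w]) fun t => by
        have hit : i.left t = z := Scheme.fromSpecResidueField_apply _ _
        rw [ofPt_comp_yon, Over.comp_left, Scheme.Hom.comp_apply, hit, hz₁, hv]
        exact hx
    have := congrArg (fun k : fieldOver str ⟶ Q.V => k.left (IsLocalRing.closedPoint _)) e
    simp only [Over.comp_left, Scheme.Hom.comp_apply] at this
    have hit : i.left (IsLocalRing.closedPoint _) = z := Scheme.fromSpecResidueField_apply _ _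
    rwa [hit, hz₁, hz₂] at this
  · let i : (FieldPt.ofPt Q.f v).pt ⟶ Q.V := Over.homMk (Q.V.left.fromSpecResidueField v) rfl
    have hi : (FieldPt.ofPt Q.f v).toHom = (yon S).map i ≫ Q.f := FieldPt.toHom_ofPt Q.f v
    have : Mono i.left := inferInstanceAs (Mono (Q.V.left.fromSpecResidueField v))
    have : Mono i := (Over.forget S).mono_of_mono_map (f := i) this
    rw [hi]
    refine ⟨fun {Z} g₀ g₀' e₀ => AlgSp2.hom_ext_yon fun T z => ?_⟩
    obtain ⟨g, hg⟩ := (yon S).map_surjective (z ≫ g₀)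
    obtain ⟨g', hg'⟩ := (yon S).map_surjective (z ≫ g₀')
    have e : (yon S).map g ≫ (yon S).map i ≫ Q.f = (yon S).map g' ≫ (yon S).map i ≫ Q.f := by
      rw [hg, hg', Category.assoc, Category.assoc, e₀]
    rw [← hg, ← hg']
    congr 1
    rw [← cancel_mono i]
    refine Q.eq_of_comp_eq (by simp only [Functor.map_comp, Category.assoc]; exact e) fun t => ?_
    rw [ofPt_comp_yon, Over.comp_left, Scheme.Hom.comp_apply]
    erw [Scheme.fromSpecResidueField_apply]
    rw [hv]
    exact hx

end

end Groth.AlgSpBasic
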