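import Groth.Agent.AlgSpBasic.OverField
import Mathlib.AlgebraicGeometry.Sites.EtalePoint
import Mathlib.AlgebraicGeometry.ResidueField

/-!
# The number of geometric points in the fibres of a separated etale morphism

For a separated etale morphism `f` the points of the target with at least `n` geometric points above
them form an open set. If all fibres are finite, a category argument on an affine target gives a
nonempty open over which this number is bounded, and a nonempty open over which `f` is quasi-compact.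
-/

set_option autoImplicit false
set_option backward.isDefEq.respectTransparency.types false
universe u

open CategoryTheory CategoryTheory.Limits AlgebraicGeometry Opposite TopologicalSpace

namespace Groth.AlgSpBasic

variable {P W : Scheme.{u}}

/-- The pairs of distinct points in `P ×_W P`. -/
noncomputable def offDiag (f : P ⟶ W) : (pullback f f).Opens :=
  ⟨(closure (Set.range (pullback.diagonal f)))ᶜ, isClosed_closure.isOpen_compl⟩

theorem mem_offDiag_iff (f : P ⟶ W) [IsSeparated f] (z : ↥(pullback f f)) :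
    z ∈ offDiag f ↔ z ∉ Set.range (pullback.diagonal f) := by
  change z ∉ closure _ ↔ _
  rw [(pullback.diagonal f).isClosedEmbedding.isClosed_range.closure_eq]

/-- The first projection from the pairs of distinct points. -/
noncomputable abbrev offDiagHom (f : P ⟶ W) : (offDiag f).toScheme ⟶ P :=
  (offDiag f).ι ≫ pullback.fst f f

/-- The points with at least `n` geometric points above them. -/
noncomputable def many : ℕ → ∀ {P W : Scheme.{u}}, (P ⟶ W) → Set W
  | 0, _, _, _ => Set.univ
  | n + 1, _, _, f => f '' many n (offDiagHom f)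

theorem isOpen_many (n : ℕ) (f : P ⟶ W) [Etale f] : IsOpen (many n f) := by
  induction n generalizing P W with
  | zero => exact isOpen_univ
  | succ n ih =>
    have : Etale (offDiagHom f) := inferInstance
    exact etale_isOpenMap f ‹_› _ (ih (offDiagHom f))

/-- A point is in `many n f` iff some (equivalently any) geometric point on it has `n` lifts. -/
theorem mem_many_iff (n : ℕ) (f : P ⟶ W) [Etale f] [IsSeparated f] {Ω : Type u} [Field Ω]
    [IsSepClosed Ω] (x : Spec (CommRingCat.of Ω) ⟶ W) :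
    x default ∈ many n f ↔
      ∃ l : Fin n → (Spec (CommRingCat.of Ω) ⟶ P), Function.Injective l ∧ ∀ i, l i ≫ f = x := by
  induction n generalizing P W with
  | zero => exact ⟨fun _ => ⟨Fin.elim0, fun i => i.elim0, fun i => i.elim0⟩, fun _ => trivial⟩
  | succ n ih =>
    have : Etale (offDiagHom f) := inferInstance
    have : IsSeparated (offDiagHom f) := inferInstance
    constructor
    · rintro ⟨p, hp, hfp⟩
      obtain ⟨l₀, hl₀, rfl⟩ := Scheme.exists_fac_of_etale_of_isSepClosed f x p hfp
      obtain ⟨l, hl, hlf⟩ := (ih (offDiagHom f) l₀).1 hp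
      let m : Fin n → (Spec (CommRingCat.of Ω) ⟶ P) :=
        fun i => l i ≫ (offDiag f).ι ≫ pullback.snd f f
      have hm : Function.Injective m := fun i j h => hl <| by
        rw [← cancel_mono (offDiag f).ι]
        apply pullback.hom_ext
        · simpa only [Category.assoc] using (hlf i).trans (hlf j).symm
        · simpa only [Category.assoc] using h
      have hne : ∀ i, m i ≠ l₀ := fun i h => by
        have e : l i ≫ (offDiag f).ι = l₀ ≫ pullback.diagonal f := by
          apply pullback.hom_ext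
          · rw [Category.assoc, Category.assoc, pullback.diagonal_fst, Category.comp_id]
            exact hlf i
          · rw [Category.assoc, Category.assoc, pullback.diagonal_snd, Category.comp_id]
            exact h
        refine (mem_offDiag_iff f _).1 (l i default).2 ⟨l₀ default, ?_⟩
        exact (congrArg (fun k : Spec (CommRingCat.of Ω) ⟶ pullback f f => k default) e).symm
      refine ⟨Fin.cons l₀ m, Fin.cons_injective_iff.2 ⟨fun ⟨i, hi⟩ => hne i hi, hm⟩, fun i => ?_⟩
      induction i using Fin.cases with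
      | zero => exact hl₀
      | succ i =>
        rw [Fin.cons_succ, ← hl₀, ← hlf i]
        simp only [m, Category.assoc, pullback.condition]
    · rintro ⟨l, hl, hlf⟩
      refine ⟨l 0 default, (ih (offDiagHom f) (l 0)).2 ?_, ?_⟩
      · let pr : Fin n → (Spec (CommRingCat.of Ω) ⟶ pullback f f) := fun i =>
          pullback.lift (l 0) (l i.succ) ((hlf 0).trans (hlf i.succ).symm)
        have hsub : ∀ i, Set.range (pr i) ⊆ Set.range (offDiag f).ι := by
          rintro i _ ⟨z, rfl⟩
          rw [Scheme.Opens.range_ι, SetLike.mem_coe, mem_offDiag_iff]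
          intro hz
          have hr : Set.range (pr i) ⊆ Set.range (pullback.diagonal f) := by
            rintro _ ⟨z', rfl⟩
            rwa [Subsingleton.elim z' z]
          have hy := IsOpenImmersion.lift_fac (pullback.diagonal f) (pr i) hr
          refine Fin.succ_ne_zero i (hl ?_).symm.symm
          have e1 := congrArg (· ≫ pullback.fst f f) hy
          have e2 := congrArg (· ≫ pullback.snd f f) hy
          simp only [Category.assoc, pr, pullback.diagonal_fst, pullback.diagonal_snd,
            Category.comp_id, pullback.lift_fst, pullback.lift_snd] at e1 e2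
          exact e2.symm.trans e1
        refine ⟨fun i => IsOpenImmersion.lift (offDiag f).ι (pr i) (hsub i), fun i j h => ?_,
          fun i => ?_⟩
        · have := congrArg (fun k => k ≫ (offDiag f).ι ≫ pullback.snd f f) h
          simp only [IsOpenImmersion.lift_fac_assoc, pr, pullback.lift_snd] at this
          exact Fin.succ_injective _ (hl this)
        · rw [IsOpenImmersion.lift_fac_assoc, pullback.lift_fst]
      · rw [← Scheme.Hom.comp_apply, hlf]

/-- A geometric point on a point. -/
noncomputable abbrev geomPt (w : W) :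
    Spec (CommRingCat.of (AlgebraicClosure (W.residueField w))) ⟶ W :=
  Spec.map (CommRingCat.ofHom (algebraMap (W.residueField w) _)) ≫ W.fromSpecResidueField w

@[simp] theorem geomPt_default (w : W) : geomPt w default = w := by
  rw [Scheme.Hom.comp_apply]
  exact Scheme.fromSpecResidueField_apply _ _

/-- `mem_many_iff` for the standard geometric point. -/
theorem mem_many_iff_geomPt (n : ℕ) (f : P ⟶ W) [Etale f] [IsSeparated f] (w : W) :
    w ∈ many n f ↔ ∃ l : Fin n → (Spec (CommRingCat.of (AlgebraicClosure (W.residueField w))) ⟶ P),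
      Function.Injective l ∧ ∀ i, l i ≫ f = geomPt w :=
  (Iff.of_eq (congrArg (· ∈ many n f) (geomPt_default w).symm)).trans (mem_many_iff n f (geomPt w))

/-- Sections over a field agree as soon as their points agree. -/
theorem section_eq_of_point_eq {Q : Scheme.{u}} {k : Type u} [Field k]
    (q : Q ⟶ Spec (CommRingCat.of k)) {σ σ' : Spec (CommRingCat.of k) ⟶ Q} (h : σ ≫ q = 𝟙 _)
    (h' : σ' ≫ q = 𝟙 _) (e : σ default = σ' default) : σ = σ' := by
  obtain ⟨⟨z, a⟩, rfl⟩ := (Scheme.SpecToEquivOfField k Q).symm.surjective σ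
  obtain ⟨⟨z', a'⟩, rfl⟩ := (Scheme.SpecToEquivOfField k Q).symm.surjective σ'
  change Spec.map a ≫ Q.fromSpecResidueField z = Spec.map a' ≫ Q.fromSpecResidueField z'
  obtain rfl : z = z' := by
    simpa [Scheme.SpecToEquivOfField] using e
  obtain ⟨b, hb⟩ := Spec.map_surjective (Q.fromSpecResidueField z ≫ q)
  have ha : b ≫ a = 𝟙 _ := by
    apply Spec.map_injective
    rw [Spec.map_comp, hb, Spec.map_id, ← Category.assoc]
    exact h
  have ha' : b ≫ a' = 𝟙 _ := by
    apply Spec.map_injective
    rw [Spec.map_comp, hb, Spec.map_id, ← Category.assoc]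
    exact h'
  congr 2
  ext y
  have h1 : a (b (a y)) = a y := congrArg (fun g : CommRingCat.of k ⟶ CommRingCat.of k => g (a y)) ha
  have h2 : b (a y) = y := a.hom.injective h1
  conv_rhs => rw [← h2]
  exact (congrArg (fun g : CommRingCat.of k ⟶ CommRingCat.of k => g (a y)) ha').symm

/-- A quasi-compact etale source has finitely many lifts of a geometric point. -/
theorem finite_lifts_of_compactSpace (f : P ⟶ W) [Etale f] [CompactSpace P] [QuasiSeparatedSpace W]
    {k : Type u} [Field k] (x : Spec (CommRingCat.of k) ⟶ W) :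
    {l : Spec (CommRingCat.of k) ⟶ P | l ≫ f = x}.Finite := by
  have : QuasiCompact f := inferInstance
  have : CompactSpace ↥(pullback f x) := QuasiCompact.compactSpace_of_compactSpace (pullback.snd f x)
  have : DiscreteTopology ↥(pullback f x) := discreteTopology_of_etale (pullback.snd f x)
  have : Finite ↥(pullback f x) := finite_of_compact_of_discrete
  let σ : {l : Spec (CommRingCat.of k) ⟶ P // l ≫ f = x} → (Spec (CommRingCat.of k) ⟶ pullback f x) :=
    fun l => pullback.lift l.1 (𝟙 _) (by rw [l.2, Category.id_comp])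
  refine Set.finite_coe_iff.1 (Finite.of_injective (fun l => σ l default) fun l l' h => ?_)
  have := section_eq_of_point_eq (pullback.snd f x) (σ := σ l) (σ' := σ l')
    (pullback.lift_snd _ _ _) (pullback.lift_snd _ _ _) h
  refine Subtype.ext ?_
  exact ((pullback.lift_fst _ _ _).symm.trans (congrArg (· ≫ pullback.fst f x) this)).trans
    (pullback.lift_fst _ _ _)

/-- A quasi-compact open containing a finite set. -/
theorem exists_compact_opens_of_finite {Q : Scheme.{u}} {s : Set Q} (hs : s.Finite) :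
    ∃ Q₀ : Q.Opens, IsCompact (Q₀ : Set Q) ∧ s ⊆ Q₀ := by
  choose A hA hxA using fun x : Q =>
    let ⟨A, hA, h, _⟩ := exists_isAffineOpen_mem_and_subset (X := Q) (x := x) (U := ⊤) trivial
    (⟨A, hA, h⟩ : ∃ A : Q.Opens, IsAffineOpen A ∧ x ∈ A)
  refine ⟨⟨⋃ x ∈ s, (A x : Set Q), isOpen_biUnion fun x _ => (A x).2⟩,
    hs.isCompact_biUnion fun x _ => (hA x).isCompact, fun x hx => ?_⟩
  exact Set.mem_biUnion hx (hxA x)

/-- A finite fibre has boundedly many geometric points. -/
theorem exists_notMem_many (f : P ⟶ W) [Etale f] [IsSeparated f] [QuasiSeparatedSpace W] (w : W)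
    (hfin : (f ⁻¹' {w}).Finite) : ∃ n, w ∉ many n f := by
  obtain ⟨P₀, hP₀, hsub⟩ := exists_compact_opens_of_finite hfin
  have : CompactSpace P₀ := isCompact_iff_compactSpace.1 hP₀
  have hlifts : {l : _ ⟶ P | l ≫ f = geomPt w}.Finite := by
    refine ((finite_lifts_of_compactSpace (P₀.ι ≫ f) (geomPt w)).image (· ≫ P₀.ι)).subset ?_
    intro l (hl : l ≫ f = geomPt w)
    have hr : Set.range l ⊆ Set.range P₀.ι := by
      rintro _ ⟨z, rfl⟩
      rw [Scheme.Opens.range_ι]
      refine hsub ?_
      rw [Set.mem_preimage, Set.mem_singleton_iff, ← Scheme.Hom.comp_apply, hl,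
        Subsingleton.elim z default, geomPt_default]
    exact ⟨IsOpenImmersion.lift P₀.ι l hr, by
      rw [Set.mem_ofPred_eq, IsOpenImmersion.lift_fac_assoc]; exact hl,
      IsOpenImmersion.lift_fac _ _ _⟩
  refine ⟨hlifts.toFinset.card + 1, fun h => ?_⟩
  rw [mem_many_iff_geomPt] at h
  obtain ⟨l, hl, hlf⟩ := h
  have := Finset.card_le_card (s := Finset.univ.map ⟨l, hl⟩) (t := hlifts.toFinset) (by
    intro a ha
    simp only [Finset.mem_map, Finset.mem_univ, true_and, Function.Embedding.coeFn_mk] at ha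
    obtain ⟨i, rfl⟩ := ha
    exact hlifts.mem_toFinset.2 (hlf i))
  simp at this

/-- Points of a fibre are at most as many as its geometric points. -/
theorem mem_many_of_injective (f : P ⟶ W) [Etale f] [IsSeparated f] (w : W) {n : ℕ} (e : Fin n → P)
    (he : Function.Injective e) (hef : ∀ i, f (e i) = w) : w ∈ many n f := by
  rw [mem_many_iff_geomPt]
  choose l hl hle using fun i => Scheme.exists_fac_of_etale_of_isSepClosed f (geomPt w) (e i)
    ((hef i).trans (geomPt_default w).symm)
  exact ⟨l, fun i j h => he (by rw [← hle i, ← hle j, h]), hl⟩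

/-- Category argument on a closed subset of an affine spectrum. -/
theorem exists_basicOpen_disjoint {R : Type u} [CommRing R] {C : Set (PrimeSpectrum R)}
    (hC : IsClosed C) (hne : C.Nonempty) (M : ℕ → Set (PrimeSpectrum R)) (hM : ∀ n, IsOpen (M n))
    (hbd : ∀ p ∈ C, ∃ n, p ∉ M n) :
    ∃ (g : R) (n : ℕ), (C ∩ (PrimeSpectrum.basicOpen g : Set _)).Nonempty ∧
      C ∩ (PrimeSpectrum.basicOpen g : Set _) ∩ M n = ∅ := by
  by_contra h
  simp only [not_exists, not_and, ← Set.nonempty_iff_ne_empty] at h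
  let T := {g : R // (C ∩ (PrimeSpectrum.basicOpen g : Set _)).Nonempty}
  have step : ∀ (n : ℕ) (g : T), ∃ g' : T,
      (PrimeSpectrum.basicOpen g'.1 : Set (PrimeSpectrum R)) ⊆
        (PrimeSpectrum.basicOpen g.1 : Set _) ∩ M n := by
    intro n g
    obtain ⟨q, ⟨hqC, hqg⟩, hqM⟩ := h g.1 n g.2
    obtain ⟨_, ⟨g', rfl⟩, hqg', hsub⟩ :=
      PrimeSpectrum.isTopologicalBasis_basic_opens.exists_subset_of_mem_open
        (show q ∈ (PrimeSpectrum.basicOpen g.1 : Set _) ∩ M n from ⟨hqg, hqM⟩)
        ((PrimeSpectrum.basicOpen g.1).2.inter (hM n))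
    exact ⟨⟨g', q, hqC, hqg'⟩, hsub⟩
  choose next hnext using step
  let g₀ : T := ⟨1, by simpa using hne⟩
  let g : ℕ → T := Nat.rec g₀ fun n a => next n a
  have hanti : Antitone fun n => (PrimeSpectrum.basicOpen (g n).1 : Set (PrimeSpectrum R)) :=
    antitone_nat_of_succ_le fun n => (hnext n (g n)).trans Set.inter_subset_left
  let K := fun n => C ∩ (PrimeSpectrum.basicOpen (g n).1 : Set (PrimeSpectrum R))
  let N : Submonoid R :=
    { carrier := {a | ∃ n, K n ⊆ PrimeSpectrum.basicOpen a}
      one_mem' := ⟨0, by simp⟩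
      mul_mem' := by
        rintro a b ⟨m, hm⟩ ⟨n, hn⟩
        refine ⟨max m n, fun p hp => ?_⟩
        rw [PrimeSpectrum.basicOpen_mul]
        exact ⟨hm ⟨hp.1, hanti (le_max_left m n) hp.2⟩, hn ⟨hp.1, hanti (le_max_right m n) hp.2⟩⟩ }
  have hdisj : Disjoint (PrimeSpectrum.vanishingIdeal C : Set R) N := by
    rw [Set.disjoint_left]
    rintro a ha ⟨n, hn⟩
    obtain ⟨p, hp⟩ := (g n).2
    exact hn hp ((PrimeSpectrum.mem_vanishingIdeal _ _).1 ha p hp.1)
  obtain ⟨P, hP, hle, hPN⟩ := Ideal.exists_le_prime_disjoint _ N hdisj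
  let p : PrimeSpectrum R := ⟨P, hP⟩
  have hpC : p ∈ C := by
    rw [← hC.closure_eq, ← PrimeSpectrum.zeroLocus_vanishingIdeal_eq_closure]
    exact hle
  have hpg : ∀ n, p ∈ PrimeSpectrum.basicOpen (g n).1 := fun n hn =>
    Set.disjoint_left.1 hPN hn ⟨n, Set.inter_subset_right⟩
  obtain ⟨n, hn⟩ := hbd p hpC
  exact hn ((hnext n (g n)) (hpg (n + 1))).2

/-- Category argument on a closed subset of an affine scheme. -/
theorem exists_opens_disjoint [IsAffine W] {C : Set W} (hC : IsClosed C) (hne : C.Nonempty)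
    (M : ℕ → Set W) (hM : ∀ n, IsOpen (M n)) (hbd : ∀ w ∈ C, ∃ n, w ∉ M n) :
    ∃ (D : W.Opens) (n : ℕ), IsAffineOpen D ∧ (C ∩ (D : Set W)).Nonempty ∧
      C ∩ (D : Set W) ∩ M n = ∅ := by
  let e := W.isoSpec.hom.homeomorph
  obtain ⟨g, n, hne', hdis⟩ := exists_basicOpen_disjoint (C := e '' C) (e.isClosed_image.2 hC)
    (hne.image _) (fun n => e '' M n) (fun n => e.isOpen_image.2 (hM n))
    (by
      rintro _ ⟨w, hw, rfl⟩
      obtain ⟨n, hn⟩ := hbd w hw
      exact ⟨n, fun h => hn (e.injective.mem_set_image.1 h)⟩)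
  refine ⟨W.isoSpec.hom ⁻¹ᵁ (PrimeSpectrum.basicOpen g), n,
    ((IsAffineOpen.Spec_basicOpen g).preimage_of_isIso W.isoSpec.hom), ?_, ?_⟩
  · obtain ⟨_, ⟨w, hw, rfl⟩, hg⟩ := hne'
    exact ⟨w, hw, hg⟩
  · refine Set.eq_empty_of_forall_notMem fun w hw => ?_
    exact (Set.eq_empty_iff_forall_notMem.1 hdis) (e w)
      ⟨⟨⟨w, hw.1.1, rfl⟩, hw.1.2⟩, ⟨w, hw.2, rfl⟩⟩

/-- Near some point of a closed subset of an affine target the number of geometric points in the
fibres is bounded. -/
theorem exists_opens_bounded [IsAffine W] (f : P ⟶ W) [Etale f] [IsSeparated f]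
    (hfin : ∀ w, (f ⁻¹' {w}).Finite) {C : Set W} (hC : IsClosed C) (hne : C.Nonempty) :
    ∃ (D : W.Opens) (n : ℕ), IsAffineOpen D ∧ (C ∩ (D : Set W)).Nonempty ∧
      ∀ w ∈ C ∩ (D : Set W), w ∉ many n f := by
  obtain ⟨D, n, hD, hne', hdis⟩ := exists_opens_disjoint hC hne (fun n => many n f)
    (fun n => isOpen_many n f) (fun w _ => exists_notMem_many f w (hfin w))
  exact ⟨D, n, hD, hne', fun w hw h => (Set.eq_empty_iff_forall_notMem.1 hdis) w ⟨hw, h⟩⟩

/-- A separated etale morphism with finite fibres to an affine scheme is quasi-compact over a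
nonempty open. -/
theorem exists_opens_quasiCompact [IsAffine W] [Nonempty W] (f : P ⟶ W) [Etale f] [IsSeparated f]
    (hfin : ∀ w, (f ⁻¹' {w}).Finite) :
    ∃ D : W.Opens, (D : Set W).Nonempty ∧ QuasiCompact (f ∣_ D) := by
  classical
  obtain ⟨D₀, n, -, hne, hbd⟩ := exists_opens_bounded f hfin isClosed_univ Set.univ_nonempty
  have hex : ∃ k, ∀ w ∈ D₀, w ∉ many k f := ⟨n, fun w hw => hbd w ⟨trivial, hw⟩⟩
  obtain ⟨m, hm⟩ : ∃ m, Nat.find hex = m + 1 := Nat.exists_eq_succ_of_ne_zero fun h0 => by
    obtain ⟨w, -, hw⟩ := hne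
    exact (h0 ▸ Nat.find_spec hex) w hw trivial
  have hmax := hm ▸ Nat.find_spec hex
  obtain ⟨w, hwD, hwm⟩ : ∃ w ∈ D₀, w ∈ many m f := by
    by_contra h
    simp only [not_exists, not_and] at h
    exact Nat.find_min hex (m := m) (hm.symm ▸ Nat.lt_succ_self m) h
  obtain ⟨P₀, hP₀, hsub⟩ := exists_compact_opens_of_finite (hfin w)
  have : CompactSpace P₀ := isCompact_iff_compactSpace.1 hP₀
  let D : W.Opens := ⟨(D₀ : Set W) ∩ many m (P₀.ι ≫ f), D₀.2.inter (isOpen_many m _)⟩
  have hwD' : w ∈ D := by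
    refine ⟨hwD, ?_⟩
    rw [mem_many_iff_geomPt] at hwm
    obtain ⟨l, hl, hlf⟩ := hwm
    have hr : ∀ i, Set.range (l i) ⊆ Set.range P₀.ι := by
      rintro i _ ⟨z, rfl⟩
      rw [Scheme.Opens.range_ι]
      refine hsub ?_
      rw [Set.mem_preimage, Set.mem_singleton_iff, ← Scheme.Hom.comp_apply, hlf,
        Subsingleton.elim z default, geomPt_default]
    rw [mem_many_iff_geomPt]
    refine ⟨fun i => IsOpenImmersion.lift P₀.ι (l i) (hr i), fun i j h => hl ?_,
      fun i => by rw [IsOpenImmersion.lift_fac_assoc, hlf]⟩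
    simpa using congrArg (· ≫ P₀.ι) h
  have hle : f ⁻¹ᵁ D ≤ P₀ := by
    intro p hp
    by_contra hpP
    have hp' : f p ∈ D := hp
    have hpm : f p ∈ many m (P₀.ι ≫ f) := hp'.2
    rw [mem_many_iff_geomPt] at hpm
    obtain ⟨l, hl, hlf⟩ := hpm
    obtain ⟨l₀, hl₀, hl₀p⟩ := Scheme.exists_fac_of_etale_of_isSepClosed f (geomPt (f p)) p
      (geomPt_default (f p)).symm
    refine hmax (f p) hp'.1 ?_
    rw [mem_many_iff_geomPt]
    refine ⟨Fin.cons l₀ fun i => l i ≫ P₀.ι, Fin.cons_injective_iff.2 ⟨?_, ?_⟩, fun i => ?_⟩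
    · rintro ⟨i, hi⟩
      refine hpP ?_
      rw [← hl₀p, ← hi, Scheme.Hom.comp_apply]
      exact (l i default).2
    · intro i j h
      exact hl ((cancel_mono P₀.ι).1 h)
    · induction i using Fin.cases with
      | zero => exact hl₀
      | succ i => rw [Fin.cons_succ, Category.assoc, hlf]
  refine ⟨D, ⟨w, hwD'⟩, ?_⟩
  have hqc : QuasiCompact ((P₀.ι ≫ f) ∣_ D) :=
    IsZariskiLocalAtTarget.restrict (P := @QuasiCompact) inferInstance D
  rw [morphismRestrict_comp] at hqc
  have : Surjective (P₀.ι ∣_ (f ⁻¹ᵁ D)) := ⟨fun z => ⟨⟨⟨z.1, hle z.2⟩, z.2⟩, by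
    apply Subtype.ext
    rw [morphismRestrict_base]
    rfl⟩⟩
  have : IsIso (P₀.ι ∣_ (f ⁻¹ᵁ D)) :=
    (isIso_iff_isOpenImmersion_and_surjective _).2 ⟨inferInstance, this⟩
  exact (MorphismProperty.cancel_left_of_respectsIso @QuasiCompact
    (asIso (P₀.ι ∣_ (f ⁻¹ᵁ D))).hom (f ∣_ D)).1 hqc

end Groth.AlgSpBasic
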