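import Groth.Agent.AlgSpBasic.DecentTop
import Groth.Agent.AlgSp2.FppfProps
import Groth.Agent.Flatmor4.QuasiFiniteSplit

/-!
# Closed points of decent algebraic spaces
-/

set_option autoImplicit false
set_option backward.isDefEq.respectTransparency.types false
universe u

open CategoryTheory CategoryTheory.Limits AlgebraicGeometry Opposite TopologicalSpace AlgSp

namespace Groth.AlgSpBasic

/-- A map to the source of a morphism which is finite after composing is closed on every affine open. -/
theorem isClosed_range_inter_affine {Y T B : Scheme.{u}} (f : Y ⟶ B) (g : T ⟶ Y)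
    [IsIntegralHom (g ≫ f)] [CompactSpace T] (V : Y.Opens) (hV : IsAffineOpen V)
    (hg : Set.range g ⊆ (V : Set Y)) :
    IsClosed (V.ι ⁻¹' Set.range g) := by
  have : IsAffine (V : Scheme) := hV
  let g' : T ⟶ (V : Scheme) := IsOpenImmersion.lift V.ι g (by rwa [Scheme.Opens.range_ι])
  have hg' : g' ≫ V.ι = g := IsOpenImmersion.lift_fac _ _ _
  have : IsSeparated (V.ι ≫ f) := inferInstance
  have : IsIntegralHom (g' ≫ V.ι ≫ f) := by rw [← Category.assoc, hg']; infer_instance
  have : IsIntegralHom g' := IsIntegralHom.of_comp g' (V.ι ≫ f)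
  have e : V.ι ⁻¹' Set.range g = Set.range g' := by
    ext v
    constructor
    · rintro ⟨z, hz⟩
      exact ⟨z, V.ι.isOpenEmbedding.injective (by rw [← Scheme.Hom.comp_apply, hg', hz])⟩
    · rintro ⟨z, rfl⟩
      exact ⟨z, by rw [← Scheme.Hom.comp_apply, hg']⟩
  rw [e]
  exact g'.isClosedMap.isClosed_range

/-- A point whose residue field is integral over the base is closed. -/
theorem isClosed_singleton_of_integral {Y B : Scheme.{u}} (f : Y ⟶ B) (y : Y)
    [IsIntegralHom (Y.fromSpecResidueField y ≫ f)] : IsClosed ({y} : Set Y) := by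
  rw [← closure_subset_iff_isClosed]
  intro z hz
  obtain ⟨V, hV, hzV, -⟩ := exists_isAffineOpen_mem_and_subset (X := Y) (x := z) (U := ⊤) trivial
  have hyV : y ∈ V := (specializes_iff_mem_closure.2 hz).mem_open V.2 hzV
  have h := isClosed_range_inter_affine f (Y.fromSpecResidueField y) V hV
    (by rw [Scheme.range_fromSpecResidueField]; exact Set.singleton_subset_iff.2 hyV)
  rw [Scheme.range_fromSpecResidueField] at h
  have hv : (⟨z, hzV⟩ : (V : Scheme)) ∈ closure {(⟨y, hyV⟩ : (V : Scheme))} :=
    specializes_iff_mem_closure.1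
      (Topology.IsInducing.subtypeVal.specializes_iff.1 (specializes_iff_mem_closure.2 hz))
  exact congrArg Subtype.val (show (⟨z, hzV⟩ : (V : Scheme)) = ⟨y, hyV⟩ from Subtype.ext
    (closure_minimal (t := V.ι ⁻¹' {y}) (Set.singleton_subset_iff.2 rfl) h hv))

/-- A reduced finite discrete scheme maps finitely if each of its points does. -/
theorem isFinite_of_points {Q A : Scheme.{u}} (f : Q ⟶ A) [Finite Q] [DiscreteTopology Q]
    [IsReduced Q] (h : ∀ q, IsFinite (Q.fromSpecResidueField q ≫ f)) : IsFinite f := by
  let O : Q → Q.Opens := fun q => ⟨{q}, isOpen_discrete _⟩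
  have hO : ∀ q, IsFinite ((O q).ι ≫ f) := fun q => by
    let r : Spec (Q.residueField q) ⟶ (O q : Scheme) :=
      IsOpenImmersion.lift (O q).ι (Q.fromSpecResidueField q)
        (by rw [Scheme.Opens.range_ι, Scheme.range_fromSpecResidueField]; rfl)
    have hr : r ≫ (O q).ι = Q.fromSpecResidueField q := IsOpenImmersion.lift_fac _ _ _
    have hrs : Surjective r := ⟨fun x => ⟨default, Subtype.ext
      (((r default).2 : (r default).1 = q).trans (x.2 : x.1 = q).symm)⟩⟩
    have hc : IsClosedImmersion (Q.fromSpecResidueField q) :=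
      isClosed_singleton_iff_isClosedImmersion.1 (isClosed_discrete _)
    have : IsClosedImmersion (r ≫ (O q).ι) := hr ▸ hc
    have : IsClosedImmersion r := IsClosedImmersion.of_comp r (O q).ι
    have : IsIso r := isIso_of_isClosedImmersion_of_surjective r
    have e : (O q).ι ≫ f = inv r ≫ Q.fromSpecResidueField q ≫ f := by
      rw [← hr, Category.assoc, IsIso.inv_hom_id_assoc]
    rw [e]
    have := h q
    infer_instance
  have hsup : ⨆ q, O q = ⊤ := top_le_iff.1 fun q _ => Opens.mem_iSup.2 ⟨q, rfl⟩
  have : LocallyOfFiniteType f :=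
    (IsZariskiLocalAtSource.iff_of_openCover (P := @LocallyOfFiniteType)
      (Q.openCoverOfIsOpenCover O hsup)).2 fun q => by
        change LocallyOfFiniteType ((O q).ι ≫ f)
        have := hO q
        infer_instance
  have haff : IsAffine Q := by
    have h' := IsAffineOpen.iSup_of_disjoint (U := O) (fun q => ?_) ?_
    · rw [hsup] at h'
      have : IsAffine (⊤ : Q.Opens).toScheme := h'
      exact IsAffine.of_isIso Q.topIso.inv
    · obtain ⟨V, hV, hqV, hle⟩ :=
        exists_isAffineOpen_mem_and_subset (X := Q) (x := q) (U := O q) rfl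
      have e : V = O q := le_antisymm hle fun a ha => (show a = q from ha) ▸ hqV
      exact e ▸ hV
    · intro i j hij
      rw [Function.onFun, ← Opens.coe_disjoint]
      exact Set.disjoint_singleton.2 hij
  have := Groth.Flatmor4.isFinite_iSup f O hO
  rw [hsup] at this
  exact (MorphismProperty.cancel_left_of_respectsIso @IsFinite Q.topIso.hom _).1 this

/-- A finite closed set of closed points maps finitely if the map is a monomorphism. -/
theorem isClosedImmersion_of_mono_of_points {Q A : Scheme.{u}} (f : Q ⟶ A) [Mono f] [Finite Q]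
    [DiscreteTopology Q] [IsReduced Q] (h : ∀ q, IsClosed ({f q} : Set A))
    (hres : ∀ q, IsIso (f.residueFieldMap q)) : IsClosedImmersion f := by
  rw [IsClosedImmersion.iff_isFinite_and_mono]
  refine ⟨isFinite_of_points f fun q => ?_, ‹_›⟩
  rw [← Scheme.Hom.SpecMap_residueFieldMap_fromSpecResidueField]
  have := hres q
  have : IsClosedImmersion (A.fromSpecResidueField (f q)) :=
    isClosed_singleton_iff_isClosedImmersion.1 (h q)
  infer_instance

/-- The residue field extensions of a monomorphism are trivial. -/
theorem isIso_residueFieldMap_of_mono {Q A : Scheme.{u}} (f : Q ⟶ A) [Mono f] (q : Q) :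
    IsIso (f.residueFieldMap q) := by
  have : Mono (Spec.map (f.residueFieldMap q)) := by
    have : Mono (Spec.map (f.residueFieldMap q) ≫ A.fromSpecResidueField (f q)) := by
      rw [Scheme.Hom.SpecMap_residueFieldMap_fromSpecResidueField]; infer_instance
    exact mono_of_mono _ (A.fromSpecResidueField (f q))
  have : IsIso (Spec.map (f.residueFieldMap q)) :=
    Groth.AlgSp2.isIso_of_mono_to_field (K := A.residueField (f q)) _
  exact (ConcreteCategory.isIso_iff_bijective _).2 ((isIso_SpecMap_iff).1 ‹_›)

variable {S : Scheme.{u}} {X : Sp S}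

section Field

variable {k : Type u} [Field k] {s : ↥S} {φ : S.residueField s ⟶ CommRingCat.of k}
  {p : (yon S).obj (Over.mk (Spec.map φ ≫ S.fromSpecResidueField s)) ⟶ X}
  {A Q : Over S} {a : (yon S).obj A ⟶ X}
  {qk : Q ⟶ Over.mk (Spec.map φ ≫ S.fromSpecResidueField s)} {qA : Q ⟶ A}

theorem isFinite_residue_of_etale (ha : RepWith @Etale a)
    (sq : IsPullback ((yon S).map qA) ((yon S).map qk) a p) (q : ↥Q.left) :
    IsFinite (Q.left.fromSpecResidueField q ≫ qk.left) := by
  have : Etale qk.left := ha.property _ _ _ sq
  have : LocallyQuasiFinite qk.left := Groth.DescentBase.locallyQuasiFinite_of_etale _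
  have : LocallyQuasiFinite (Q.left.fromSpecResidueField q ≫ qk.left) :=
    MorphismProperty.comp_mem @LocallyQuasiFinite _ _ inferInstance ‹_›
  exact Groth.AlgSp2.isFinite_of_finite (X := Spec (Q.left.residueField q)) (K := k) _

theorem isIntegralHom_residue_comp (hs : IsClosed ({s} : Set ↥S)) (hφ : φ.hom.IsIntegral)
    (ha : RepWith @Etale a) (sq : IsPullback ((yon S).map qA) ((yon S).map qk) a p) (q : ↥Q.left) :
    IsIntegralHom ((Q.left.fromSpecResidueField q ≫ qA.left) ≫ A.hom) := by
  have := isFinite_residue_of_etale ha sq q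
  have : IsClosedImmersion (S.fromSpecResidueField s) :=
    isClosed_singleton_iff_isClosedImmersion.1 hs
  have : IsIntegralHom (Spec.map φ) := IsIntegralHom.SpecMap_iff.2 hφ
  rw [Category.assoc, Over.w qA, ← Over.w qk, ← Category.assoc]
  change IsIntegralHom (_ ≫ Spec.map φ ≫ S.fromSpecResidueField s)
  infer_instance

/-- Image points of rational points over closed points are closed in every chart. -/
theorem isClosed_singleton_chart (hs : IsClosed ({s} : Set ↥S)) (hφ : φ.hom.IsIntegral)
    (ha : RepWith @Etale a) (sq : IsPullback ((yon S).map qA) ((yon S).map qk) a p) (q : ↥Q.left) :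
    IsClosed ({qA.left q} : Set ↥A.left) := by
  have : IsIntegralHom (A.left.fromSpecResidueField (qA.left q) ≫ A.hom) := by
    have h := isIntegralHom_residue_comp hs hφ ha sq q
    rw [← Scheme.Hom.SpecMap_residueFieldMap_fromSpecResidueField, Category.assoc] at h
    have : IsClosedImmersion (S.fromSpecResidueField s) :=
      isClosed_singleton_iff_isClosedImmersion.1 hs
    have e : A.hom (qA.left q) = s := by
      rw [← Scheme.Hom.comp_apply, Over.w qA, ← Over.w qk, Scheme.Hom.comp_apply]
      change (Spec.map φ ≫ S.fromSpecResidueField s) _ = s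
      rw [Scheme.Hom.comp_apply]
      exact Scheme.fromSpecResidueField_apply _ _
    have : IsClosedImmersion (S.fromSpecResidueField (A.hom (qA.left q))) :=
      isClosed_singleton_iff_isClosedImmersion.1 (e.symm ▸ hs)
    rw [← Scheme.Hom.SpecMap_residueFieldMap_fromSpecResidueField]
    rw [← Scheme.Hom.SpecMap_residueFieldMap_fromSpecResidueField, ← Category.assoc] at h
    have h' : IsIntegralHom (Spec.map (qA.left.residueFieldMap q) ≫
        Spec.map (A.hom.residueFieldMap (qA.left q))) :=
      IsIntegralHom.of_comp _ (S.fromSpecResidueField (A.hom (qA.left q)))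
    rw [← Spec.map_comp, IsIntegralHom.SpecMap_iff] at h'
    have : IsIntegralHom (Spec.map (A.hom.residueFieldMap (qA.left q))) := by
      rw [IsIntegralHom.SpecMap_iff]
      intro x
      obtain ⟨P, hP, hx⟩ := h' (qA.left.residueFieldMap q x)
      refine ⟨P, hP, (qA.left.residueFieldMap q).hom.injective ?_⟩
      rw [map_zero, Polynomial.hom_eval₂]
      exact hx
    infer_instance
  exact isClosed_singleton_of_integral A.hom (qA.left q)

end Field

end Groth.AlgSpBasic
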