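import Groth.Agent.AlgSpBasic.Immersion
import Groth.Agent.AlgSpBasic.DenseScheme
import Groth.Agent.AlgSp2.MonoCriteria
import Groth.Agent.PropsBasic2.SchTop
import Groth.Agent.SchemeMorphisms.Points
import Groth.Agent.AlgSpBasic.DecentClosedPoints

/-!
# Working on open subschemes of algebraic spaces

Open immersions from schemes are open embeddings on points, generic points restrict, fibre products are
computed on open subschemes containing the image, stalk isomorphisms do not depend on the charts, and the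
scheme fact that a point with algebraic residue extension has no specialization in its fibre.
-/

set_option autoImplicit false
set_option backward.isDefEq.respectTransparency.types false
universe u

open CategoryTheory CategoryTheory.Limits AlgebraicGeometry Topology TopologicalSpace Opposite AlgSp

namespace Groth.AlgSpBasic

variable {S : Scheme.{u}} {X Y : Sp S}

theorem isOpenEmbedding_ofPt {G : Over S} {g : (yon S).obj G ⟶ X}
    (hg : RepWith @IsOpenImmersion g) : IsOpenEmbedding (AlgSp.Points.ofPt g) := by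
  haveI : Mono g := mono_of_repWith (fun _ _ φ (_ : IsOpenImmersion φ) => inferInstance) hg
  refine .of_continuous_injective_isOpenMap (AlgSp.Points.continuous_ofPt g) (fun a b h => ?_)
    (isOpenMap_ofPt_of_repWith (fun _ _ φ (h : IsOpenImmersion φ) => φ.isOpenEmbedding.isOpenMap) hg)
  rw [ofPt_eq_map, ofPt_eq_map] at h
  exact (AlgSp.Points.schemeEquiv G).injective (Groth.AlgSp2.map_injective_of_mono g h)

/-- Generic points of components restrict to open subspaces. -/
theorem mem_genericPoints_iff_of_isOpenEmbedding {α β : Type*} [TopologicalSpace α]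
    [TopologicalSpace β] [QuasiSober α] [T0Space α] [QuasiSober β] [T0Space β] {e : α → β}
    (he : IsOpenEmbedding e) (x : α) : x ∈ genericPoints α ↔ e x ∈ genericPoints β := by
  refine (Groth.PropsBasic2.closure_mem_irreducibleComponents_iff x).trans
    (Iff.trans ?_ (Groth.PropsBasic2.closure_mem_irreducibleComponents_iff (e x)).symm)
  constructor
  · intro h z hz
    obtain ⟨z, rfl⟩ := hz.mem_open he.isOpen_range ⟨x, rfl⟩
    exact congrArg e (h z (he.isInducing.specializes_iff.1 hz))
  · exact fun h z hz => he.injective (h _ (hz.map he.continuous))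

/-- A fibre product whose image lies in an open subscheme is computed there. -/
theorem exists_iso_pullback_of_range (hY : IsAlgSpace Y) {f : X ⟶ Y} {G V T : Over S}
    {a : (yon S).obj G ⟶ X} (ha : RepWith @IsOpenImmersion a) {b : (yon S).obj V ⟶ Y} [Mono b]
    {g : G ⟶ V} (hc : a ≫ f = (yon S).map g ≫ b) (t : T ⟶ V) {P : Sp S} {p₁ : P ⟶ X}
    {p₂ : P ⟶ (yon S).obj T} (sq : IsPullback p₁ p₂ f ((yon S).map t ≫ b)) (hX : IsAlgSpace X)
    (hr : Set.range (AlgSp.Points.map p₁) ⊆ Set.range (AlgSp.Points.ofPt a)) :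
    ∃ e : P ≅ (yon S).obj (pullback g t), e.hom ≫ (yon S).map (pullback.snd g t) = p₂ ∧
      e.hom ≫ (yon S).map (pullback.fst g t) ≫ a = p₁ := by
  haveI : Mono a := mono_of_repWith (fun _ _ φ (_ : IsOpenImmersion φ) => inferInstance) ha
  have hP : IsAlgSpace P :=
    isAlgSpace_of_isPullback sq hY.diag hX (IsAlgSpace.yon_obj T)
  obtain ⟨l, hl⟩ := exists_lift_of_range_openImmersion hP ha p₁ (fun x hx => by
    obtain ⟨v, rfl⟩ := hr hx
    exact ⟨_, (ofPt_eq_map a v).symm⟩)
  have hyon := isPullback_of_yon_inv (IsPullback.of_hasPullback g t)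
  have hlt : l ≫ (yon S).map g = p₂ ≫ (yon S).map t := by
    rw [← cancel_mono b, Category.assoc, Category.assoc, ← hc, ← Category.assoc, hl, sq.w]
  have hw : ((yon S).map (pullback.fst g t) ≫ a) ≫ f =
      (yon S).map (pullback.snd g t) ≫ ((yon S).map t ≫ b) := by
    rw [Category.assoc, hc, ← Category.assoc, ← Category.assoc, hyon.w]
  refine ⟨⟨hyon.lift l p₂ hlt, sq.lift _ _ hw, ?_, ?_⟩, hyon.lift_snd _ _ _, ?_⟩
  · apply sq.hom_ext
    · rw [Category.assoc, sq.lift_fst, ← Category.assoc, hyon.lift_fst, hl, Category.id_comp]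
    · rw [Category.assoc, sq.lift_snd, hyon.lift_snd, Category.id_comp]
  · apply hyon.hom_ext
    · rw [← cancel_mono a, Category.assoc, Category.assoc, Category.id_comp,
        IsPullback.lift_fst_assoc, hl, sq.lift_fst]
    · rw [Category.assoc, hyon.lift_snd, sq.lift_snd, Category.id_comp]
  · rw [← Category.assoc, hyon.lift_fst, hl]
where
  isPullback_of_yon_inv {U V W T : Over S} {f : U ⟶ T} {g : V ⟶ T} {fst : W ⟶ U} {snd : W ⟶ V}
      (sq : IsPullback fst snd f g) :
      IsPullback ((yon S).map fst) ((yon S).map snd) ((yon S).map f) ((yon S).map g) :=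
    sq.map (yon S)

theorem stalkMap_isIso_of_eq {A B : Scheme.{u}} {f g : A ⟶ B} (h : f = g) (x : A)
    (hf : IsIso (f.stalkMap x)) : IsIso (g.stalkMap x) := by
  subst h; exact hf

theorem isIso_stalkMap_comp_left_iff {A B C : Scheme.{u}} (f : A ⟶ B) (g : B ⟶ C) (x : A)
    [IsIso (f.stalkMap x)] : IsIso ((f ≫ g).stalkMap x) ↔ IsIso (g.stalkMap (f x)) := by
  rw [Scheme.Hom.stalkMap_comp]
  exact isIso_comp_right_iff _ _

/-- Being an isomorphism on stalks does not depend on the open subschemes. -/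
theorem isIso_stalkMap_of_charts (hX : IsAlgSpace X) (hY : IsAlgSpace Y) {f : X ⟶ Y}
    {G G' V V' : Over S} {a : (yon S).obj G ⟶ X} {a' : (yon S).obj G' ⟶ X}
    (ha : RepWith @IsOpenImmersion a) (ha' : RepWith @IsOpenImmersion a')
    {b : (yon S).obj V ⟶ Y} {b' : (yon S).obj V' ⟶ Y} (hb : RepWith @IsOpenImmersion b)
    (hb' : RepWith @IsOpenImmersion b') {g : G ⟶ V} {g' : G' ⟶ V'}
    (hc : a ≫ f = (yon S).map g ≫ b) (hc' : a' ≫ f = (yon S).map g' ≫ b')
    (u : ↥G.left) (u' : ↥G'.left) (he : AlgSp.Points.ofPt a u = AlgSp.Points.ofPt a' u')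
    (h : IsIso (g'.left.stalkMap u')) : IsIso (g.left.stalkMap u) := by
  obtain ⟨E, e₁, e₂, sqE⟩ := exists_pullback_of_diag hX.diag a a'
  obtain ⟨Q, q₁, q₂, sqQ⟩ := exists_pullback_of_diag hY.diag b b'
  haveI : IsOpenImmersion e₁.left := repWith_fst_of_isPullback sqE.flip ha'
  haveI : IsOpenImmersion e₂.left := repWith_fst_of_isPullback sqE ha
  haveI : IsOpenImmersion q₁.left := repWith_fst_of_isPullback sqQ.flip hb'
  haveI : IsOpenImmersion q₂.left := repWith_fst_of_isPullback sqQ hb
  obtain ⟨h₀, hh₀⟩ := (yon S).map_surjective (sqQ.lift ((yon S).map (e₁ ≫ g)) ((yon S).map (e₂ ≫ g'))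
    (by simp only [Functor.map_comp, Category.assoc, ← hc, ← hc']
        rw [← Category.assoc, sqE.w, Category.assoc]))
  have w₁ : h₀ ≫ q₁ = e₁ ≫ g := (yon S).map_injective (by
    rw [Functor.map_comp, hh₀, sqQ.lift_fst])
  have w₂ : h₀ ≫ q₂ = e₂ ≫ g' := (yon S).map_injective (by
    rw [Functor.map_comp, hh₀, sqQ.lift_snd])
  obtain ⟨e, he₁, he₂⟩ := (ofPt_eq_ofPt_iff sqE u u').1 he
  subst he₁ he₂
  have hR : IsIso ((e₂.left ≫ g'.left).stalkMap e) := (isIso_stalkMap_comp_left_iff _ _ _).2 h
  have hR' : IsIso ((h₀.left ≫ q₂.left).stalkMap e) :=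
    stalkMap_isIso_of_eq (by rw [← Over.comp_left, ← Over.comp_left, w₂]) e hR
  have hh : IsIso (h₀.left.stalkMap e) := by
    rw [Scheme.Hom.stalkMap_comp] at hR'
    exact (isIso_comp_left_iff (q₂.left.stalkMap (h₀.left e)) (h₀.left.stalkMap e)).1 hR'
  have hL : IsIso ((h₀.left ≫ q₁.left).stalkMap e) := (isIso_stalkMap_comp_left_iff _ _ _).2 inferInstance
  exact (isIso_stalkMap_comp_left_iff e₁.left g.left e).1
    (stalkMap_isIso_of_eq (by rw [← Over.comp_left, ← Over.comp_left, w₁]) e hL)

/-- The residue extension of an étale morphism is finite. -/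
theorem finite_residueFieldMap_of_etale {A B : Scheme.{u}} (p : A ⟶ B) [Etale p] (a : A) :
    IsFinite (Spec.map (p.residueFieldMap a)) := by
  haveI : LocallyQuasiFinite p := Groth.DescentBase.locallyQuasiFinite_of_etale p
  haveI : DiscreteTopology (p ⁻¹' {p a}) :=
    isDiscrete_iff_discreteTopology.mp (p.isDiscrete_preimage_singleton (p a))
  haveI : DiscreteTopology ↥(p.fiber (p a)) := (p.fiberHomeo (p a)).symm.discreteTopology
  exact (IsFinite.SpecMap_iff _).2
    ((Groth.SchemeMorphisms.isClosed_asFiber_iff_finite p a).1 (isClosed_discrete _))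

/-- A point with algebraic residue extension has no proper specialization inside its fibre. -/
theorem eq_of_specializes_of_integral_residue {A B : Scheme.{u}} (h : A ⟶ B) {w₁ w : A}
    (hs : w₁ ⤳ w) (e : h w = h w₁) [IsIntegralHom (Spec.map (h.residueFieldMap w₁))] : w₁ = w := by
  obtain ⟨z, hz⟩ : w ∈ Set.range (h.fiberι (h w₁)) := by
    rw [h.range_fiberι]; exact e
  have h1 : h.asFiber w₁ ⤳ z := (h.fiberι (h w₁)).isEmbedding.isInducing.specializes_iff.1
    (by rw [h.fiberι_asFiber, hz]; exact hs)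
  obtain ⟨V, hV, hzV, -⟩ :=
    exists_isAffineOpen_mem_and_subset (X := h.fiber (h w₁)) (x := z) (U := ⊤) trivial
  have hyV : h.asFiber w₁ ∈ V := h1.mem_open V.2 hzV
  haveI : IsIntegralHom (h.asFiberHom w₁ ≫ h.fiberToSpecResidueField (h w₁)) := by
    rw [Scheme.Hom.asFiberHom_fiberToSpecResidueField]; infer_instance
  have hcl := isClosed_range_inter_affine (h.fiberToSpecResidueField (h w₁)) (h.asFiberHom w₁) V hV
    (by rw [h.range_asFiberHom]; exact Set.singleton_subset_iff.2 hyV)
  rw [h.range_asFiberHom] at hcl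
  have hv : (⟨z, hzV⟩ : (V : Scheme)) ∈ closure {(⟨h.asFiber w₁, hyV⟩ : (V : Scheme))} :=
    specializes_iff_mem_closure.1 (Topology.IsInducing.subtypeVal.specializes_iff.1 h1)
  have hzw : z = h.asFiber w₁ :=
    closure_minimal (t := V.ι ⁻¹' {h.asFiber w₁}) (Set.singleton_subset_iff.2 rfl) hcl hv
  rw [← hz, hzw, h.fiberι_asFiber]

end Groth.AlgSpBasic
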