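import Groth.Agent.HenselPoint.SigmaRep
import Groth.Agent.AlgSpBasic.Unramified
import Groth.Agent.AlgSpBasic.Compact
import Groth.Agent.AlgSpBasic.DecentClosedPoints
import Groth.Agent.AlgSpBasic.LocP
import Groth.Agent.AlgSp2.InfGlue
import Groth.Agent.AlgSp3.NormStable
import Groth.Prelude.Def_AlgSpSub
import Groth.Prelude.Def_AlgSpDec

/-!
# Elementary distinguished squares are pushouts
-/

set_option autoImplicit false
set_option backward.isDefEq.respectTransparency.types false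
universe u

open CategoryTheory CategoryTheory.Limits AlgebraicGeometry Opposite AlgSp

namespace Groth.AlgSpBasic

open Groth.AlgSp3 (resObj resι)

noncomputable section

variable {S : Scheme.{u}}

/-- A closed immersion contains the residue point of every point of its range. -/
theorem exists_fac_residue_of_range {Z W : Sp S} {i : Z ⟶ W} (hi : RepWith @IsClosedImmersion i)
    {T : Over S} (g : (yon S).obj T ⟶ W) (t : ↥T.left)
    (ht : AlgSp.Points.ofPt g t ∈ Set.range (AlgSp.Points.map i)) :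
    ∃ l : (yon S).obj (FieldPt.ofPt g t).pt ⟶ Z, l ≫ i =
      (yon S).map (Over.homMk (T.left.fromSpecResidueField t) rfl : (FieldPt.ofPt g t).pt ⟶ T) ≫ g := by
  obtain ⟨V, snd, fst, sq⟩ := hi.rep g
  have : IsClosedImmersion snd.left := hi.property g fst snd sq
  obtain ⟨z, hz⟩ := ht
  obtain ⟨v, -, hvt⟩ := (map_eq_ofPt_iff sq z t).1 hz
  subst hvt
  obtain ⟨ψ, hψ⟩ : ∃ ψ, snd.left.residueFieldMap v ≫ ψ = 𝟙 _ := by
    have := isIso_residueFieldMap_of_mono snd.left v
    exact ⟨inv _, IsIso.hom_inv_id _⟩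
  have e₀ : (Spec.map ψ ≫ V.left.fromSpecResidueField v) ≫ snd.left =
      T.left.fromSpecResidueField (snd.left v) := by
    rw [Category.assoc, ← Scheme.Hom.SpecMap_residueFieldMap_fromSpecResidueField snd.left v,
      ← Spec.map_comp_assoc, hψ, Spec.map_id, Category.id_comp]
  let κ : (FieldPt.ofPt g (snd.left v)).pt ⟶ V :=
    Over.homMk (Spec.map ψ ≫ V.left.fromSpecResidueField v) (by
      show (Spec.map ψ ≫ V.left.fromSpecResidueField v) ≫ V.hom =
        T.left.fromSpecResidueField (snd.left v) ≫ T.hom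
      rw [← Over.w snd, ← Category.assoc, e₀])
  refine ⟨(yon S).map κ ≫ fst, ?_⟩
  rw [Category.assoc, sq.w, ← Category.assoc, ← Functor.map_comp]
  congr 2
  exact Over.OverMorphism.ext e₀

variable {U V W P Q : Sp S} {j : U ⟶ W} {f : V ⟶ W} {p : P ⟶ U} {q : P ⟶ V}

/-- Maps on the members of an elementary distinguished square agree on the overlaps. -/
theorem elemDist_agree (hV : IsAlgSpace V) (hW : IsAlgSpace W) (hsq : IsElemDistSq j f)
    (hP : IsPullback p q j f) {a : U ⟶ Q} {b : V ⟶ Q} (hab : p ≫ a = q ≫ b) {T : Over S}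
    (v₁ v₂ : (yon S).obj T ⟶ V) (hv : v₁ ≫ f = v₂ ≫ f) : v₁ ≫ b = v₂ ≫ b := by
  obtain ⟨hj, hf, Z, Y, i, y₁, y₂, hi, sqY, hy₁⟩ := hsq
  have hd : RepWith @IsOpenImmersion (pullback.diagonal f) :=
    repWith_diagonal_of_unramified hV hW (locP_mono etale_le_unramified (locP_of_isEtaleMor hf))
  refine Groth.AlgSp3.hom_ext_res fun t => ?_
  by_cases ht : AlgSp.Points.ofPt (v₁ ≫ f) t ∈ Set.range (AlgSp.Points.map j)
  · obtain ⟨O, o, fo, sqO⟩ := hj.rep (v₁ ≫ f)
    have : IsOpenImmersion o.left := hj.property _ fo o sqO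
    obtain ⟨z, hz⟩ := ht
    obtain ⟨w, -, hw⟩ := (map_eq_ofPt_iff sqO z t).1 hz
    refine ⟨o.left.opensRange, ⟨w, hw⟩, ?_⟩
    obtain ⟨κ, hκ⟩ : ∃ κ : resObj o.left.opensRange ⟶ O, κ ≫ o = resι _ :=
      ⟨Over.homMk (IsOpenImmersion.lift o.left o.left.opensRange.ι (by
        rw [Scheme.Opens.range_ι]; rfl)) (by
          rw [← Over.w o, ← Category.assoc, IsOpenImmersion.lift_fac]; rfl),
        Over.OverMorphism.ext (IsOpenImmersion.lift_fac _ _ _)⟩
    rw [← hκ, Functor.map_comp, Category.assoc, Category.assoc]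
    congr 1
    have w₂ : fo ≫ j = ((yon S).map o ≫ v₂) ≫ f := by rw [sqO.w, Category.assoc, hv]
    have w₁ : fo ≫ j = ((yon S).map o ≫ v₁) ≫ f := by rw [sqO.w, Category.assoc]
    rw [← Category.assoc, ← Category.assoc, ← hP.lift_snd fo _ w₁, ← hP.lift_snd fo _ w₂,
      Category.assoc, Category.assoc, ← hab, ← Category.assoc, ← Category.assoc, hP.lift_fst,
      hP.lift_fst]
  · obtain ⟨E, e, fe, sqE⟩ := hd.rep (pullback.lift v₁ v₂ hv)
    have : IsOpenImmersion e.left := hd.property _ fe e sqE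
    have he : (yon S).map e ≫ v₁ = (yon S).map e ≫ v₂ := by
      have h₁ := sqE.w =≫ pullback.fst f f
      have h₂ := sqE.w =≫ pullback.snd f f
      simp only [Category.assoc, pullback.diagonal_fst, pullback.diagonal_snd, Category.comp_id,
        pullback.lift_fst, pullback.lift_snd] at h₁ h₂
      rw [← h₁, ← h₂]
    -- the residue point lifts to the closed complement, where `f` is an isomorphism
    obtain ⟨l, hl⟩ := exists_fac_residue_of_range hi.1 (v₁ ≫ f) t (hi.2.1.ge ht)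
    let κ : (FieldPt.ofPt (v₁ ≫ f) t).pt ⟶ T := Over.homMk (T.left.fromSpecResidueField t) rfl
    replace hl : l ≫ i = (yon S).map κ ≫ v₁ ≫ f := hl
    have key : (yon S).map κ ≫ v₁ = (yon S).map κ ≫ v₂ := by
      have w₁ : l ≫ i = ((yon S).map κ ≫ v₁) ≫ f := by rw [hl, Category.assoc]
      have w₂ : l ≫ i = ((yon S).map κ ≫ v₂) ≫ f := by rw [hl, Category.assoc, hv]
      rw [← sqY.lift_snd l _ w₁, ← sqY.lift_snd l _ w₂]
      congr 1
      rw [← cancel_mono y₁, sqY.lift_fst, sqY.lift_fst]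
    have wE : ((yon S).map κ ≫ v₁) ≫ pullback.diagonal f =
        (yon S).map κ ≫ pullback.lift v₁ v₂ hv := by
      apply pullback.hom_ext
      · simp only [Category.assoc]
        erw [pullback.diagonal_fst, pullback.lift_fst]
        rw [Category.comp_id]
      · simp only [Category.assoc]
        erw [pullback.diagonal_snd, pullback.lift_snd]
        rw [Category.comp_id, key]
    obtain ⟨m, hm⟩ := (yon S).map_surjective (sqE.lift _ _ wE)
    have hme : m ≫ e = κ := (yon S).map_injective (by rw [Functor.map_comp, hm, sqE.lift_snd])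
    refine ⟨e.left.opensRange, ⟨m.left (IsLocalRing.closedPoint _), ?_⟩, ?_⟩
    · rw [← Scheme.Hom.comp_apply, ← Over.comp_left, hme]
      exact Scheme.fromSpecResidueField_apply t _
    obtain ⟨κ', hκ'⟩ : ∃ κ' : resObj e.left.opensRange ⟶ E, κ' ≫ e = resι _ :=
      ⟨Over.homMk (IsOpenImmersion.lift e.left e.left.opensRange.ι (by
        rw [Scheme.Opens.range_ι]; rfl)) (by
          rw [← Over.w e, ← Category.assoc, IsOpenImmersion.lift_fac]; rfl),
        Over.OverMorphism.ext (IsOpenImmersion.lift_fac _ _ _)⟩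
    rw [← hκ', Functor.map_comp, Category.assoc, Category.assoc, reassoc_of% he]

/-- An elementary distinguished square is a pushout. -/
theorem existsUnique_of_elemDist (hU : IsAlgSpace U) (hV : IsAlgSpace V) (hW : IsAlgSpace W)
    (hsq : IsElemDistSq j f) (hP : IsPullback p q j f) (a : U ⟶ Q) (b : V ⟶ Q)
    (hab : p ≫ a = q ≫ b) : ∃! m : W ⟶ Q, j ≫ m = a ∧ f ≫ m = b := by
  obtain ⟨U₀, pU, hpU, hpUs⟩ := hU.atlas
  obtain ⟨V₀, pV, hpV, hpVs⟩ := hV.atlas
  have hj := hsq.1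
  have hf := hsq.2.1
  let K : ULift.{u} Bool → Over S := fun k => match k with
    | ⟨true⟩ => U₀
    | ⟨false⟩ => V₀
  let xw : ∀ k, (yon S).obj (K k) ⟶ W := fun k => match k with
    | ⟨true⟩ => pU ≫ j
    | ⟨false⟩ => pV ≫ f
  let xq : ∀ k, (yon S).obj (K k) ⟶ Q := fun k => match k with
    | ⟨true⟩ => pU ≫ a
    | ⟨false⟩ => pV ≫ b
  obtain ⟨w, hw, -⟩ := Groth.AlgSp2.exists_glue K xw
  obtain ⟨r, hr, -⟩ := Groth.AlgSp2.exists_glue K xq
  have hwe : RepWith @Etale w := Groth.HenselPoint.repWith_sigma w fun k => by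
    rw [hw]
    rcases k with ⟨_ | _⟩
    · exact hf pV hpV
    · exact repWith_comp hpU (repWith_mono
        (fun _ _ g (_ : IsOpenImmersion g) => (inferInstance : Etale g)) hj)
  have hws : RepWith @Surjective w := repWith_surjective_of_ofPt hwe.rep fun y => by
    by_cases hy : y ∈ Set.range (AlgSp.Points.map j)
    · obtain ⟨z, rfl⟩ := hy
      obtain ⟨u, rfl⟩ := surjective_ofPt_of_repWith hpUs z
      refine ⟨(Groth.AlgSp2.sigmaIncl K ⟨true⟩).left u, ?_⟩
      rw [← ofPt_comp_yon, hw, AlgSp.Points.map_ofPt]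
    · obtain ⟨-, -, Z, Y, i, y₁, y₂, hi, sqY, hy₁⟩ := hsq
      obtain ⟨z, hz⟩ := hi.2.1.ge hy
      obtain ⟨v, hv⟩ := surjective_ofPt_of_repWith hpVs (AlgSp.Points.map (inv y₁ ≫ y₂) z)
      refine ⟨(Groth.AlgSp2.sigmaIncl K ⟨false⟩).left v, ?_⟩
      rw [← ofPt_comp_yon, hw]
      show AlgSp.Points.ofPt (pV ≫ f) v = y
      rw [← AlgSp.Points.map_ofPt, hv, ← AlgSp.Points.map_comp, ← hz, Category.assoc, ← sqY.w,
        IsIso.inv_hom_id_assoc]
  -- lifts to the members give the same value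
  have hUV : ∀ {T : Over S} (x : (yon S).obj T ⟶ U) (y : (yon S).obj T ⟶ V),
      x ≫ j = y ≫ f → x ≫ a = y ≫ b := fun x y h => by
    rw [← hP.lift_fst x y h, Category.assoc, hab, ← Category.assoc, hP.lift_snd]
  have : Mono j := mono_of_repWith
    (fun _ _ g (_ : IsOpenImmersion g) => (inferInstance : Mono g)) hj
  obtain ⟨m, hm⟩ := Groth.AlgSp2.exists_desc_of_etale w hwe hws r fun Z x y hxy => by
    obtain ⟨x, rfl⟩ := (yon S).map_surjective x
    obtain ⟨y, rfl⟩ := (yon S).map_surjective y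
    refine Groth.AlgSp3.hom_ext_res fun z => ?_
    obtain ⟨k₁, hk₁⟩ := Groth.HenselPoint.exists_sigmaIncl_eq (x.left z)
    obtain ⟨k₂, hk₂⟩ := Groth.HenselPoint.exists_sigmaIncl_eq (y.left z)
    have : ∀ k, IsOpenImmersion (Groth.AlgSp2.sigmaIncl K k).left := fun k =>
      inferInstanceAs (IsOpenImmersion (Limits.Sigma.ι (fun i => (K i).left) k))
    let L : Z.left.Opens := x.left ⁻¹ᵁ (Groth.AlgSp2.sigmaIncl K k₁).left.opensRange ⊓
      y.left ⁻¹ᵁ (Groth.AlgSp2.sigmaIncl K k₂).left.opensRange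
    refine ⟨L, ⟨hk₁, hk₂⟩, ?_⟩
    have fac : ∀ (k : ULift.{u} Bool) (g : resObj L ⟶ Groth.AlgSp2.sigmaObj K),
        Set.range g.left ⊆ Set.range (Groth.AlgSp2.sigmaIncl K k).left →
          ∃ g' : resObj L ⟶ K k, g' ≫ Groth.AlgSp2.sigmaIncl K k = g := fun k g hg =>
      ⟨Over.homMk (IsOpenImmersion.lift (Groth.AlgSp2.sigmaIncl K k).left g.left hg) (by
        rw [← Over.w (Groth.AlgSp2.sigmaIncl K k), ← Category.assoc, IsOpenImmersion.lift_fac,
          Over.w g]), Over.OverMorphism.ext (IsOpenImmersion.lift_fac _ _ _)⟩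
    obtain ⟨x', hx'⟩ := fac k₁ (resι L ≫ x) (by
      rintro _ ⟨t, rfl⟩
      exact t.2.1)
    obtain ⟨y', hy'⟩ := fac k₂ (resι L ≫ y) (by
      rintro _ ⟨t, rfl⟩
      exact t.2.2)
    have e := (yon S).map (resι L) ≫= hxy
    rw [← Functor.map_comp_assoc, ← Functor.map_comp_assoc, ← hx', ← hy', Functor.map_comp_assoc,
      Functor.map_comp_assoc, hw, hw] at e
    rw [← Functor.map_comp_assoc, ← Functor.map_comp_assoc, ← hx', ← hy', Functor.map_comp_assoc,
      Functor.map_comp_assoc, hr, hr]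
    rcases k₁ with ⟨_ | _⟩ <;> rcases k₂ with ⟨_ | _⟩ <;>
      dsimp only [xw, xq] at e ⊢ <;> simp only [← Category.assoc] at e ⊢
    · exact elemDist_agree hV hW hsq hP hab _ _ e
    · exact (hUV _ _ e.symm).symm
    · exact hUV _ _ e
    · rw [(cancel_mono j).1 e]
  refine ⟨m, ⟨Groth.AlgSp2.hom_ext_of_etale pU hpU hpUs ?_,
    Groth.AlgSp2.hom_ext_of_etale pV hpV hpVs ?_⟩, fun m' hm' => ?_⟩
  · rw [← Category.assoc, show pU ≫ j = (yon S).map (Groth.AlgSp2.sigmaIncl K ⟨true⟩) ≫ w from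
      (hw ⟨true⟩).symm, Category.assoc, hm, hr]
  · rw [← Category.assoc, show pV ≫ f = (yon S).map (Groth.AlgSp2.sigmaIncl K ⟨false⟩) ≫ w from
      (hw ⟨false⟩).symm, Category.assoc, hm, hr]
  · refine Groth.AlgSp2.hom_ext_of_etale w hwe hws (Groth.AlgSp2.sigma_hom_ext K fun k => ?_)
    rw [hm, hr, ← Category.assoc, hw]
    rcases k with ⟨_ | _⟩ <;> dsimp only [xw, xq] <;> rw [Category.assoc]
    · rw [hm'.2]
    · rw [hm'.1]

end

end Groth.AlgSpBasic
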