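import Groth.Agent.AlgSpBasic.Proper
import Groth.Agent.AlgSpBasic.Sep
import Groth.Agent.AlgSpBasic.Compact
import Groth.Agent.AlgSp2.Locality
import Groth.Agent.AlgSp2.InfGlue
import Groth.Agent.SpecFerrand.AlgSpPushout

/-!
# Colimits of separated algebraic spaces stable under separated etale base change
-/

set_option autoImplicit false
set_option backward.isDefEq.respectTransparency.types false
universe w v u

open CategoryTheory CategoryTheory.Limits AlgebraicGeometry Opposite AlgSp

namespace Groth.AlgSpBasic.ColimitSep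

noncomputable section

variable {S : Scheme.{u}}

theorem repWith_of_comp_mono {P : MorphismProperty Scheme.{u}} [P.RespectsIso] {F G H : Sp S}
    {f : F ⟶ G} (m : G ⟶ H) [Mono m] (h : RepWith P (f ≫ m)) : RepWith P f := by
  refine repWith_of_exists fun T g => ?_
  obtain ⟨V, snd, fst, sq⟩ := h.rep (g ≫ m)
  have w : fst ≫ f = (yon S).map snd ≫ g := by
    rw [← cancel_mono m, Category.assoc, Category.assoc]; exact sq.w
  refine ⟨V, fst, snd, ⟨⟨w⟩, ⟨PullbackCone.IsLimit.mk _
    (fun s => sq.lift s.fst s.snd (by rw [← Category.assoc, s.condition, Category.assoc]))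
    (fun s => sq.lift_fst _ _ _) (fun s => sq.lift_snd _ _ _)
    (fun s k h₁ h₂ => sq.hom_ext (by rw [h₁, sq.lift_fst]) (by rw [h₂, sq.lift_snd]))⟩⟩,
    h.property _ fst snd sq⟩

theorem isSeparatedMor_of_mono {F G : Sp S} (f : F ⟶ G) [Mono f] : IsSeparatedMor f :=
  repWith_isIso _

theorem isSeparatedMor_comp {F G H : Sp S} {f : F ⟶ G} {g : G ⟶ H} (hf : IsSeparatedMor f)
    (hg : IsSeparatedMor g) : IsSeparatedMor (f ≫ g) :=
  repWith_diagonal_comp hf hg

/-- Every morphism from a scheme separated over the base is separated. -/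
theorem isSeparatedMor_of_isSeparated {U : Over S} [IsSeparated U.hom] {F : Sp S}
    (p : (yon S).obj U ⟶ F) : IsSeparatedMor p := by
  let d : U ⟶ U ⨯ U := prod.lift (𝟙 U) (𝟙 U)
  have hd : IsClosedImmersion d.left := by
    have e : d.left ≫ (prod.fst : U ⨯ U ⟶ U).left = 𝟙 _ := lift_left_fst _ _
    have : IsSeparated (prod.fst : U ⨯ U ⟶ U).left :=
      MorphismProperty.of_isPullback (isPullback_prod_left U U).flip ‹IsSeparated U.hom›
    have : IsClosedImmersion (d.left ≫ (prod.fst : U ⨯ U ⟶ U).left) := by rw [e]; infer_instance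
    exact IsClosedImmersion.of_comp d.left (prod.fst : U ⨯ U ⟶ U).left
  let m : pullback p p ⟶ (yon S).obj (U ⨯ U) :=
    prod.lift (pullback.fst p p) (pullback.snd p p) ≫ inv (prodComparison (yon S) U U)
  have hm₁ : m ≫ (yon S).map prod.fst = pullback.fst p p := by
    rw [Category.assoc, inv_prodComparison_map_fst, prod.lift_fst]
  have hm₂ : m ≫ (yon S).map prod.snd = pullback.snd p p := by
    rw [Category.assoc, inv_prodComparison_map_snd, prod.lift_snd]
  have : Mono m := ⟨fun {T} a b e => pullback.hom_ext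
    (by rw [← hm₁, ← Category.assoc, e, Category.assoc])
    (by rw [← hm₂, ← Category.assoc, e, Category.assoc])⟩
  have e : pullback.diagonal p ≫ m = (yon S).map d := by
    rw [← cancel_mono (prodComparison (yon S) U U)]
    apply prod.hom_ext
    · rw [Category.assoc, Category.assoc, prodComparison_fst, hm₁, pullback.diagonal_fst,
        Category.assoc, prodComparison_fst, ← Functor.map_comp, prod.lift_fst, (yon S).map_id]
    · rw [Category.assoc, Category.assoc, prodComparison_snd, hm₂, pullback.diagonal_snd,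
        Category.assoc, prodComparison_snd, ← Functor.map_comp, prod.lift_snd, (yon S).map_id]
  refine repWith_of_comp_mono m ?_
  rw [e]
  exact (repWith_yon_map_iff _ d).2 hd

theorem isEtaleMor_of_repWith {F G : Sp S} (hG : IsAlgSpace G) {f : F ⟶ G} (h : RepWith @Etale f) :
    IsEtaleMor f :=
  isEtaleMor_of_locP hG (locP_of_repWith h)

variable {B : AlgSp.Space S} {P : ObjectProperty (Over B)}
  (hP : ∀ T : Over B, P T ↔ IsSeparatedMor T.hom.hom) {I : Type v} [Category.{w} I]

/-- An object over `B`. -/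
def mkOver {F : Sp S} (hF : IsAlgSpace F) (f : F ⟶ B.obj) : Over B :=
  Over.mk (ObjectProperty.homMk f : (⟨F, hF⟩ : AlgSp.Space S) ⟶ B)

/-- A morphism over `B` from one of the underlying sheaves. -/
def mkHom {X Y : Over B} (f : X.left.obj ⟶ Y.left.obj) (w : f ≫ Y.hom.hom = X.hom.hom) : X ⟶ Y :=
  Over.homMk (ObjectProperty.homMk f) (ObjectProperty.hom_ext _ w)

theorem over_w {X Y : Over B} (f : X ⟶ Y) : f.left.hom ≫ Y.hom.hom = X.hom.hom :=
  congrArg (fun k => k.hom) (Over.w f)

theorem sp_ext {X Y : P.FullSubcategory} {f g : X ⟶ Y} (h : f.hom.left.hom = g.hom.left.hom) :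
    f = g :=
  ObjectProperty.hom_ext _ (Over.OverMorphism.ext (ObjectProperty.hom_ext _ h))

variable {D : I ⥤ P.FullSubcategory}

include hP in
/-- Maps out of a colimit of separated spaces are determined on the members. -/
theorem hom_ext_colimit {c : Cocone D} (hc : IsColimit c) (Q : Over B)
    {r₁ r₂ : c.pt.obj.left.obj ⟶ Q.left.obj} (w₁ : r₁ ≫ Q.hom.hom = c.pt.obj.hom.hom)
    (w₂ : r₂ ≫ Q.hom.hom = c.pt.obj.hom.hom)
    (h : ∀ i, (c.ι.app i).hom.left.hom ≫ r₁ = (c.ι.app i).hom.left.hom ≫ r₂) : r₁ = r₂ := by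
  let δ := pullback.diagonal Q.hom.hom
  let r := pullback.lift r₁ r₂ (w₁.trans w₂.symm)
  have sq := IsPullback.of_hasPullback δ r
  have hQQ : IsAlgSpace (pullback Q.hom.hom Q.hom.hom) :=
    isAlgSpace_pullback Q.left Q.left B _ _
  have hE : IsAlgSpace (pullback δ r) :=
    isAlgSpace_pullback Q.left c.pt.obj.left ⟨_, hQQ⟩ δ r
  have : Mono δ := inferInstanceAs (Mono (pullback.diagonal _))
  have : Mono (pullback.snd δ r) := pullback.snd_of_mono
  let E : P.FullSubcategory := ⟨mkOver hE (pullback.snd δ r ≫ c.pt.obj.hom.hom),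
    (hP _).2 (isSeparatedMor_comp (@isSeparatedMor_of_mono S _ _ (pullback.snd δ r) ‹Mono (pullback.snd δ r)›) ((hP _).1 c.pt.property))⟩
  let m : E ⟶ c.pt := ObjectProperty.homMk (mkHom (pullback.snd δ r) rfl)
  have w : ∀ i, ((c.ι.app i).hom.left.hom ≫ r₁) ≫ δ = (c.ι.app i).hom.left.hom ≫ r := by
    intro i
    apply pullback.hom_ext
    · rw [Category.assoc, pullback.diagonal_fst, Category.comp_id, Category.assoc, pullback.lift_fst]
    · rw [Category.assoc, pullback.diagonal_snd, Category.comp_id, Category.assoc, pullback.lift_snd,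
        h i]
  let l : ∀ i, D.obj i ⟶ E := fun i => ObjectProperty.homMk (mkHom (sq.lift _ _ (w i)) (by
    show _ ≫ pullback.snd δ r ≫ _ = _
    rw [← Category.assoc, sq.lift_snd]
    exact over_w _))
  have hl : ∀ i, l i ≫ m = c.ι.app i := fun i => sp_ext (sq.lift_snd _ _ (w i))
  have : Mono (pullback.snd δ r) := inferInstance
  let cE : Cocone D := Cocone.mk E
    { app := l
      naturality := fun i j φ => sp_ext (by
        refine (cancel_mono (pullback.snd δ r)).1 ?_
        have e₁ := congrArg (fun k => k.hom.left.hom) (hl j)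
        have e₂ := congrArg (fun k => k.hom.left.hom) (hl i)
        have e₃ := congrArg (fun k => k.hom.left.hom) (c.w φ)
        simp only [Functor.const_obj_map, Category.comp_id] at *
        change ((D.map φ).hom.left.hom ≫ (l j).hom.left.hom) ≫ _ = _
        rw [Category.assoc]
        exact ((congrArg (_ ≫ ·) e₁).trans e₃).trans e₂.symm) }
  have hd : hc.desc cE ≫ m = 𝟙 _ := hc.hom_ext fun i => by
    rw [hc.fac_assoc, Category.comp_id]; exact hl i
  have hd' : (hc.desc cE).hom.left.hom ≫ pullback.snd δ r = 𝟙 _ :=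
    congrArg (fun k => k.hom.left.hom) hd
  have hdiag := sq.w =≫ pullback.fst _ _
  have hdiag' := sq.w =≫ pullback.snd _ _
  simp only [Category.assoc, δ, r, pullback.diagonal_fst, pullback.diagonal_snd, Category.comp_id,
    pullback.lift_fst, pullback.lift_snd] at hdiag hdiag'
  have := (hc.desc cE).hom.left.hom ≫= (hdiag.symm.trans hdiag')
  dsimp only [δ, r] at hd'
  exact ((Category.id_comp r₁).symm.trans ((congrArg (· ≫ r₁) hd'.symm).trans
    (Category.assoc _ _ _))).trans (this.trans ((Category.assoc _ _ _).symm.trans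
      ((congrArg (· ≫ r₂) hd').trans (Category.id_comp r₂))))

include hP in
theorem exists_desc {c : Cocone D}
    (h₃ : ∀ x : AlgSp.Points c.pt.obj.left.obj, ∃ (i : I) (y : AlgSp.Points (D.obj i).obj.left.obj),
      AlgSp.Points.map (c.ι.app i).hom.left.hom y = x)
    (h₄ : ∀ (D' : I ⥤ P.FullSubcategory) (α : D' ⟶ D) (c' : Cocone D') (a : c'.pt ⟶ c.pt),
      AlgSp.IsEtaleMor a.hom.left.hom → AlgSp.IsSeparatedMor a.hom.left.hom →
      (∀ i, IsPullback (c'.ι.app i).hom.left.hom (α.app i).hom.left.hom a.hom.left.hom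
        (c.ι.app i).hom.left.hom) → Nonempty (IsColimit c'))
    (h₅ : ∀ (D' : I ⥤ P.FullSubcategory) (α : D' ⟶ D),
      (∀ ⦃i j : I⦄ (g : i ⟶ j), IsPullback (D'.map g).hom.left.hom (α.app i).hom.left.hom
        (α.app j).hom.left.hom (D.map g).hom.left.hom) →
      (∀ i, AlgSp.IsEtaleMor (α.app i).hom.left.hom) →
      (∀ i, AlgSp.IsSeparatedMor (α.app i).hom.left.hom) →
        ∃ (c' : Cocone D') (a : c'.pt ⟶ c.pt), AlgSp.IsEtaleMor a.hom.left.hom ∧
          AlgSp.IsSeparatedMor a.hom.left.hom ∧
          ∀ i, IsPullback (c'.ι.app i).hom.left.hom (α.app i).hom.left.hom a.hom.left.hom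
            (c.ι.app i).hom.left.hom)
    (Q : Over B) (g : ∀ i, (D.obj i).obj ⟶ Q)
    (hg : ∀ ⦃i j : I⦄ (φ : i ⟶ j), (D.map φ).hom ≫ g j = g i) :
    ∃ τ : c.pt.obj ⟶ Q, ∀ i, (c.ι.app i).hom ≫ τ = g i := by
  obtain ⟨U, p, hpe, hps, hUsep⟩ := Groth.SpecFerrand.AlgSpPush.exists_separated_atlas Q.left
  have hpet : IsEtaleMor p := isEtaleMor_of_repWith Q.left.property hpe
  have hpsep : IsSeparatedMor p := isSeparatedMor_of_isSeparated p
  let G := fun i => (g i).left.hom
  have sq := fun i => IsPullback.of_hasPullback (G i) p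
  have hX : ∀ i, IsAlgSpace (pullback (G i) p) := fun i =>
    isAlgSpace_pullback (D.obj i).obj.left ⟨_, IsAlgSpace.yon_obj U⟩ Q.left (G i) p
  have hXsep : ∀ i, IsSeparatedMor (pullback.fst (G i) p) := fun i =>
    repWith_diagonal_baseChange (sq i).flip hpsep
  let X : I → P.FullSubcategory := fun i =>
    ⟨mkOver (hX i) (pullback.fst (G i) p ≫ (D.obj i).obj.hom.hom),
      (hP _).2 (isSeparatedMor_comp (hXsep i) ((hP _).1 (D.obj i).property))⟩
  let fX : ∀ i, X i ⟶ D.obj i := fun i => ObjectProperty.homMk (mkHom (pullback.fst (G i) p) rfl)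
  have hG : ∀ {i j : I} (φ : i ⟶ j), (D.map φ).hom.left.hom ≫ G j = G i := fun φ =>
    congrArg (fun k => k.left.hom) (hg φ)
  let mp : ∀ {i j : I} (φ : i ⟶ j), pullback (G i) p ⟶ pullback (G j) p := fun {i j} φ =>
    pullback.map _ _ _ _ (D.map φ).hom.left.hom (𝟙 _) (𝟙 _)
      (by rw [Category.comp_id, hG]) (by rw [Category.comp_id, Category.id_comp])
  let D' : I ⥤ P.FullSubcategory :=
    { obj := X
      map := fun {i j} φ => ObjectProperty.homMk (mkHom (mp φ) (by
        show mp φ ≫ pullback.fst (G j) p ≫ (D.obj j).obj.hom.hom =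
          pullback.fst (G i) p ≫ (D.obj i).obj.hom.hom
        rw [← over_w (D.map φ).hom, ← Category.assoc, ← Category.assoc]
        congr 1
        exact pullback.lift_fst _ _ _))
      map_id := fun i => sp_ext (by
        show mp (𝟙 i) = 𝟙 _
        apply pullback.hom_ext
        · simp only [mp, pullback.map, pullback.lift_fst, Category.id_comp]
          rw [D.map_id]
          exact Category.comp_id _
        · simp only [mp, pullback.map, pullback.lift_snd, Category.comp_id, Category.id_comp])
      map_comp := fun {i j k} φ ψ => sp_ext (by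
        show mp (φ ≫ ψ) = mp φ ≫ mp ψ
        apply pullback.hom_ext
        · simp only [mp, pullback.map, pullback.lift_fst, pullback.lift_fst_assoc, Category.assoc]
          rw [D.map_comp]
          rfl
        · simp only [mp, pullback.map, pullback.lift_snd, Category.comp_id, Category.assoc]) }
  let α : D' ⟶ D :=
    { app := fX, naturality := fun i j φ => sp_ext (pullback.lift_fst _ _ _) }
  have hcart : ∀ ⦃i j : I⦄ (φ : i ⟶ j), IsPullback (D'.map φ).hom.left.hom (α.app i).hom.left.hom
      (α.app j).hom.left.hom (D.map φ).hom.left.hom := by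
    intro i j φ
    refine IsPullback.of_right ?_ (pullback.lift_fst _ _ _) (sq j).flip
    show IsPullback (mp φ ≫ pullback.snd (G j) p) (pullback.fst (G i) p) p (_ ≫ G j)
    rw [hG φ, show mp φ ≫ pullback.snd (G j) p = pullback.snd (G i) p from
      (pullback.lift_snd _ _ _).trans (Category.comp_id _)]
    exact (sq i).flip
  have het : ∀ i, IsEtaleMor (α.app i).hom.left.hom := fun i =>
    Groth.AlgSp2.isEtaleMor_of_isPullback (IsAlgSpace.yon_obj U) Q.left.property
      (D.obj i).obj.left.property (sq i).flip hpet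
  obtain ⟨c', a, hae, has, hpb⟩ := h₅ D' α hcart het hXsep
  obtain ⟨hc'⟩ := h₄ D' α c' a hae has hpb
  let Uo : P.FullSubcategory := ⟨mkOver (IsAlgSpace.yon_obj U) (p ≫ Q.hom.hom),
    (hP _).2 (isSeparatedMor_of_isSeparated _)⟩
  let cU : Cocone D' := Cocone.mk Uo
    { app := fun i => ObjectProperty.homMk (mkHom (pullback.snd (G i) p) (by
        show pullback.snd (G i) p ≫ p ≫ Q.hom.hom = pullback.fst (G i) p ≫ (D.obj i).obj.hom.hom
        rw [← pullback.condition_assoc, over_w]))
      naturality := fun i j φ => sp_ext (by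
        show mp φ ≫ pullback.snd (G j) p = pullback.snd (G i) p ≫ 𝟙 _
        rw [Category.comp_id]
        exact (pullback.lift_snd _ _ _).trans (Category.comp_id _)) }
  obtain ⟨σ, hσ, hσw⟩ : ∃ σ : c'.pt.obj.left.obj ⟶ Q.left.obj,
      (∀ i, (c'.ι.app i).hom.left.hom ≫ σ = pullback.fst (G i) p ≫ G i) ∧
        σ ≫ Q.hom.hom = c'.pt.obj.hom.hom := by
    refine ⟨(hc'.desc cU).hom.left.hom ≫ p, fun i => ?_, ?_⟩
    · rw [← Category.assoc, pullback.condition]
      exact congrArg (fun k => k.hom.left.hom ≫ p) (hc'.fac cU i)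
    · rw [Category.assoc]; exact over_w (hc'.desc cU).hom
  -- agreement on the fibre square
  let A := a.hom.left.hom
  have agree : pullback.fst A A ≫ σ = pullback.snd A A ≫ σ := by
    have hR : IsAlgSpace (pullback A A) :=
      isAlgSpace_pullback c'.pt.obj.left c'.pt.obj.left c.pt.obj.left A A
    let b := pullback.fst A A ≫ A
    have hbsep : IsSeparatedMor b :=
      isSeparatedMor_comp (repWith_diagonal_baseChange (IsPullback.of_hasPullback A A).flip has) has
    have hbet : IsEtaleMor b := Groth.AlgSp2.isEtaleMor_comp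
      (Groth.AlgSp2.isEtaleMor_of_isPullback c'.pt.obj.left.property c.pt.obj.left.property
        c'.pt.obj.left.property (IsPullback.of_hasPullback A A).flip hae) hae
    let R : P.FullSubcategory := ⟨mkOver hR (b ≫ c.pt.obj.hom.hom),
      (hP _).2 (isSeparatedMor_comp hbsep ((hP _).1 c.pt.property))⟩
    let br : R ⟶ c.pt := ObjectProperty.homMk (mkHom b rfl)
    let C := fun i => (c.ι.app i).hom.left.hom
    have sqb := fun i => IsPullback.of_hasPullback (C i) b
    have hY : ∀ i, IsAlgSpace (pullback (C i) b) := fun i =>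
      isAlgSpace_pullback (D.obj i).obj.left ⟨_, hR⟩ c.pt.obj.left (C i) b
    let Y : I → P.FullSubcategory := fun i =>
      ⟨mkOver (hY i) (pullback.fst (C i) b ≫ (D.obj i).obj.hom.hom),
        (hP _).2 (isSeparatedMor_comp (repWith_diagonal_baseChange (sqb i).flip hbsep)
          ((hP _).1 (D.obj i).property))⟩
    have hC : ∀ {i j : I} (φ : i ⟶ j), (D.map φ).hom.left.hom ≫ C j = C i := fun φ =>
      congrArg (fun k => k.hom.left.hom) (c.w φ)
    let mq : ∀ {i j : I} (φ : i ⟶ j), pullback (C i) b ⟶ pullback (C j) b := fun {i j} φ =>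
      pullback.map _ _ _ _ (D.map φ).hom.left.hom (𝟙 _) (𝟙 _)
        (by rw [Category.comp_id, hC]) (by rw [Category.comp_id, Category.id_comp])
    let D'' : I ⥤ P.FullSubcategory :=
      { obj := Y
        map := fun {i j} φ => ObjectProperty.homMk (mkHom (mq φ) (by
          show mq φ ≫ pullback.fst (C j) b ≫ (D.obj j).obj.hom.hom =
            pullback.fst (C i) b ≫ (D.obj i).obj.hom.hom
          rw [← over_w (D.map φ).hom, ← Category.assoc, ← Category.assoc]
          congr 1
          exact pullback.lift_fst _ _ _))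
        map_id := fun i => sp_ext (by
          show mq (𝟙 i) = 𝟙 _
          apply pullback.hom_ext
          · simp only [mq, pullback.map, pullback.lift_fst, Category.id_comp]
            rw [D.map_id]
            exact Category.comp_id _
          · simp only [mq, pullback.map, pullback.lift_snd, Category.comp_id, Category.id_comp])
        map_comp := fun {i j k} φ ψ => sp_ext (by
          show mq (φ ≫ ψ) = mq φ ≫ mq ψ
          apply pullback.hom_ext
          · simp only [mq, pullback.map, pullback.lift_fst, pullback.lift_fst_assoc, Category.assoc]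
            rw [D.map_comp]
            rfl
          · simp only [mq, pullback.map, pullback.lift_snd, Category.comp_id, Category.assoc]) }
    let β : D'' ⟶ D :=
      { app := fun i => ObjectProperty.homMk (mkHom (pullback.fst (C i) b) rfl)
        naturality := fun i j φ => sp_ext (pullback.lift_fst _ _ _) }
    let c'' : Cocone D'' := Cocone.mk R
      { app := fun i => ObjectProperty.homMk (mkHom (pullback.snd (C i) b) (by
          show pullback.snd (C i) b ≫ b ≫ c.pt.obj.hom.hom =
            pullback.fst (C i) b ≫ (D.obj i).obj.hom.hom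
          rw [← pullback.condition_assoc]
          exact congrArg (_ ≫ ·) (over_w _)))
        naturality := fun i j φ => sp_ext (by
          show mq φ ≫ pullback.snd (C j) b = pullback.snd (C i) b ≫ 𝟙 _
          rw [Category.comp_id]
          exact (pullback.lift_snd _ _ _).trans (Category.comp_id _)) }
    obtain ⟨hc''⟩ := h₄ D'' β c'' br hbet hbsep fun i => (sqb i).flip
    refine hom_ext_colimit hP hc'' Q ?_ ?_ fun i => ?_
    · show (pullback.fst A A ≫ σ) ≫ Q.hom.hom = b ≫ c.pt.obj.hom.hom
      rw [Category.assoc, hσw, Category.assoc, over_w a.hom]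
    · show (pullback.snd A A ≫ σ) ≫ Q.hom.hom = b ≫ c.pt.obj.hom.hom
      rw [Category.assoc, hσw, show b = pullback.snd A A ≫ A from pullback.condition,
        Category.assoc, over_w a.hom]
    · have key : ∀ π : pullback A A ⟶ c'.pt.obj.left.obj, π ≫ A = b →
          pullback.snd (C i) b ≫ π ≫ σ = pullback.fst (C i) b ≫ G i := by
        intro π hπ
        have w : (pullback.snd (C i) b ≫ π) ≫ A = pullback.fst (C i) b ≫ C i := by
          rw [Category.assoc, hπ, pullback.condition]
        have l₁ := (hpb i).lift_fst _ _ w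
        have l₂ := (hpb i).lift_snd _ _ w
        generalize (hpb i).lift _ _ w = l at l₁ l₂
        calc pullback.snd (C i) b ≫ π ≫ σ = (l ≫ (c'.ι.app i).hom.left.hom) ≫ σ := by
              rw [l₁]; exact (Category.assoc _ _ _).symm
          _ = (l ≫ (α.app i).hom.left.hom) ≫ G i := by
              refine (Category.assoc _ _ _).trans ?_
              exact (congrArg (l ≫ ·) (hσ i)).trans (Category.assoc _ _ _).symm
          _ = pullback.fst (C i) b ≫ G i := by rw [l₂]
      exact (key _ rfl).trans (key _ pullback.condition.symm).symm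
  -- descend
  have hsurj : ∀ i, Function.Surjective (Points.map (α.app i).hom.left.hom) := fun i x => by
    obtain ⟨u, hu⟩ := surjective_map_of_repWith hps (Points.map (G i) x)
    obtain ⟨z, hz, -⟩ := exists_point_of_isPullback (sq i) x u hu.symm
    exact ⟨z, hz⟩
  obtain ⟨W, pW, hWe, hWs⟩ := c'.pt.obj.left.property.atlas
  have hce : RepWith @Etale (pW ≫ A) := hae pW hWe
  have hcs : RepWith @Surjective (pW ≫ A) := repWith_surjective_of_points hce.rep fun x => by
    obtain ⟨i, y, rfl⟩ := h₃ x
    obtain ⟨z, rfl⟩ := hsurj i y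
    obtain ⟨v, hv⟩ := surjective_map_of_repWith hWs (Points.map (c'.ι.app i).hom.left.hom z)
    refine ⟨v, ?_⟩
    rw [Points.map_comp, hv, ← Points.map_comp, ← Points.map_comp]
    exact congrArg (Points.map · z) (hpb i).w
  obtain ⟨τ, hτ⟩ := Groth.AlgSp2.exists_desc_of_etale (pW ≫ A) hce hcs (pW ≫ σ) fun Z x y hxy => by
    have e : (x ≫ pW) ≫ A = (y ≫ pW) ≫ A := by rw [Category.assoc, Category.assoc, hxy]
    rw [← Category.assoc, ← Category.assoc, ← pullback.lift_fst _ _ e, Category.assoc, agree,
      pullback.lift_snd_assoc]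
  have hτσ : A ≫ τ = σ := Groth.AlgSp2.hom_ext_of_etale pW hWe hWs (by rw [← Category.assoc, hτ])
  have hτw : τ ≫ Q.hom.hom = c.pt.obj.hom.hom := by
    refine Groth.AlgSp2.hom_ext_of_etale (pW ≫ A) hce hcs ?_
    rw [← Category.assoc (pW ≫ A), hτ, Category.assoc, hσw, Category.assoc, over_w a.hom]
  refine ⟨mkHom τ hτw, fun i => Over.OverMorphism.ext (ObjectProperty.hom_ext _ ?_)⟩
  show (c.ι.app i).hom.left.hom ≫ τ = G i
  obtain ⟨V, pV, hVe, hVs⟩ := (hX i).atlas
  have hve : RepWith @Etale (pV ≫ pullback.fst (G i) p) := het i pV hVe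
  have hvs : RepWith @Surjective (pV ≫ pullback.fst (G i) p) :=
    repWith_surjective_of_points hve.rep fun x => by
      obtain ⟨z, rfl⟩ := hsurj i x
      obtain ⟨v, rfl⟩ := surjective_map_of_repWith hVs z
      exact ⟨v, Points.map_comp _ _ _⟩
  refine Groth.AlgSp2.hom_ext_of_etale _ hve hvs ?_
  rw [Category.assoc, Category.assoc, ← Category.assoc (pullback.fst (G i) p)]
  congr 1
  exact ((congrArg (· ≫ τ) (hpb i).w.symm).trans (Category.assoc _ _ _)).trans
    ((congrArg (_ ≫ ·) hτσ).trans (hσ i))

end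

end Groth.AlgSpBasic.ColimitSep
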