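import Groth.Agent.AlgSpBasic.FpqcSheaf
import Groth.Agent.AlgSpBasic.Points
import Groth.Agent.TorsProper.GlueMain
import Groth.Agent.EtaleAlgebra.GlueMaps
import Groth.Agent.EtaleAlgebra.GluePair
import Groth.Agent.FlatMor2.IndQuasiAffine

/-!
# Glueing pairs and algebraic spaces
-/

set_option autoImplicit false
set_option backward.isDefEq.respectTransparency.types false
universe u

open CategoryTheory CategoryTheory.Limits AlgebraicGeometry Opposite AlgSp
open scoped TensorProduct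

namespace Groth.AlgSpBasic

open Groth.EtaleAlgebra.Glue

noncomputable section

section Algebra

variable {R R' : Type u} [CommRing R] [CommRing R'] [Algebra R R'] {f : R}

attribute [local instance] Algebra.TensorProduct.rightAlgebra

/-- Glueability passes to flat algebras. -/
theorem torsInj_of_flat_algebra (h : EtGlue.IsGlueingPair R R' f) (A B : Type u) [CommRing A] [Algebra R A]
    [CommRing B] [Algebra R B] [Algebra A B] [IsScalarTower R A B] [Module.Flat A B]
    (hA : TorsInj R R' f A) : TorsInj R R' f B := by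
  intro b hb h0
  obtain ⟨n, hn⟩ := hb
  have hp := isGlueingPair_algebra A h hA
  refine Groth.TorsProper.Adic.torsInj_of_flat B hp b ⟨n, ?_⟩ ?_
  · rwa [← map_pow, algebraMap_smul]
  · let φ : R' ⊗[R] B →ₗ[R] (R' ⊗[R] A) ⊗[A] B :=
      TensorProduct.lift (LinearMap.mk₂ R (fun (r : R') (b : B) => (r ⊗ₜ[R] (1 : A)) ⊗ₜ[A] b)
        (fun r₁ r₂ b => by rw [TensorProduct.add_tmul, TensorProduct.add_tmul])
        (fun c r b => by simp [TensorProduct.smul_tmul'])
        (fun r b₁ b₂ => by rw [TensorProduct.tmul_add])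
        (fun c r b => by rw [← TensorProduct.tmul_smul]))
    have := congrArg φ h0
    simpa [φ, Algebra.TensorProduct.one_def] using this

/-- An element killed in every member of a flat covering family is zero. -/
theorem eq_zero_of_flat_cover {A : Type u} [CommRing A] {ι : Type u} (B : ι → Type u) [∀ l, CommRing (B l)]
    [∀ l, Algebra A (B l)] [∀ l, Module.Flat A (B l)]
    (hs : ∀ p : PrimeSpectrum A, ∃ l, p ∈ Set.range (PrimeSpectrum.comap (algebraMap A (B l))))
    {x : A} (hx : ∀ l, algebraMap A (B l) x = 0) : x = 0 := by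
  by_contra hne
  let I : Ideal A := LinearMap.ker (LinearMap.toSpanSingleton A A x)
  have hI : I ≠ ⊤ := fun h => hne (by
    have : (1 : A) ∈ I := h ▸ Submodule.mem_top
    simpa [I] using this)
  obtain ⟨p, hp, hle⟩ := Ideal.exists_le_maximal I hI
  obtain ⟨l, q, hq⟩ := hs ⟨p, hp.isPrime⟩
  let μ : A ⧸ I →ₗ[A] A := Submodule.liftQ I (LinearMap.toSpanSingleton A A x) le_rfl
  have hμ : Function.Injective μ :=
    LinearMap.ker_eq_bot.1 (Submodule.ker_liftQ_eq_bot' _ _ rfl)
  have h1 : (1 : B l) ⊗ₜ[A] (Submodule.Quotient.mk (1 : A) : A ⧸ I) = 0 := by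
    apply Module.Flat.lTensor_preserves_injective_linearMap (M := B l) μ hμ
    apply (TensorProduct.rid A (B l)).injective
    rw [LinearMap.lTensor_tmul, show μ (Submodule.Quotient.mk 1) = x from (show LinearMap.toSpanSingleton A A x 1 = x by simp), map_zero, map_zero,
      TensorProduct.rid_tmul, Algebra.smul_def, hx l, zero_mul]
  have h2 : (1 : B l) ∈ (I.map (algebraMap A (B l))) := by
    have e : (Submodule.Quotient.mk (1 : A) : A ⧸ I) = 1 := rfl
    rw [e, ← Algebra.TensorProduct.one_def] at h1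
    have := congrArg (Algebra.TensorProduct.quotIdealMapEquivTensorQuot (B l) I).symm h1
    rw [map_one, map_zero] at this
    rw [← Ideal.Quotient.eq_zero_iff_mem, map_one]
    exact this
  refine q.2.ne_top ((Ideal.eq_top_iff_one _).2 (Ideal.map_le_iff_le_comap.2 ?_ h2))
  exact hle.trans (le_of_eq (congrArg PrimeSpectrum.asIdeal hq).symm)

/-- Glueability is local for flat covering families. -/
theorem torsInj_of_flat_cover (A : Type u) [CommRing A] [Algebra R A] {ι : Type u} (B : ι → Type u)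
    [∀ l, CommRing (B l)] [∀ l, Algebra R (B l)] [∀ l, Algebra A (B l)] [∀ l, IsScalarTower R A (B l)]
    [∀ l, Module.Flat A (B l)]
    (hs : ∀ p : PrimeSpectrum A, ∃ l, p ∈ Set.range (PrimeSpectrum.comap (algebraMap A (B l))))
    (hB : ∀ l, TorsInj R R' f (B l)) : TorsInj R R' f A := by
  intro m ⟨n, hn⟩ h0
  refine eq_zero_of_flat_cover B hs fun l => ?_
  let φ := (IsScalarTower.toAlgHom R A (B l)).toLinearMap
  refine hB l (φ m) ⟨n, by rw [← map_smul, hn, map_zero]⟩ ?_
  exact (LinearMap.lTensor_tmul R' φ (1 : R') m).symm.trans (by rw [h0, map_zero])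

end Algebra

variable {R R' : Type u} [CommRing R] [CommRing R'] [Algebra R R'] {f : R}

variable (R) in
/-- The object of an `R`-algebra. -/
abbrev algObj (A : Type u) [CommRing A] [Algebra R A] : Over (Spec (CommRingCat.of R)) :=
  Over.mk (Spec.map (CommRingCat.ofHom (algebraMap R A)))

theorem exists_algObj_iso (T : Over (Spec (CommRingCat.of R))) [IsAffine T.left] :
    ∃ (A : Type u) (_ : CommRing A) (_ : Algebra R A), Nonempty (algObj R A ≅ T) := by
  let ψ := Spec.preimage (T.left.isoSpec.inv ≫ T.hom)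
  refine ⟨Γ(T.left, ⊤), inferInstance, ψ.hom.toAlgebra, ⟨Over.isoMk T.left.isoSpec.symm ?_⟩⟩
  show T.left.isoSpec.inv ≫ T.hom = Spec.map ψ
  rw [Spec.map_preimage]

theorem exists_algebra_of_hom {A B : Type u} [CommRing A] [Algebra R A] [CommRing B] [Algebra R B]
    (h : algObj R B ⟶ algObj R A) [Etale h.left] :
    ∃ (_ : Algebra A B) (_ : IsScalarTower R A B), Module.Flat A B ∧
      h.left = Spec.map (CommRingCat.ofHom (algebraMap A B)) := by
  let ψ := Spec.preimage h.left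
  letI : Algebra A B := ψ.hom.toAlgebra
  have hψ : Spec.map ψ = h.left := Spec.map_preimage _
  have hw : CommRingCat.ofHom (algebraMap R A) ≫ ψ = CommRingCat.ofHom (algebraMap R B) :=
    Spec.map_injective (by rw [Spec.map_comp, hψ]; exact Over.w h)
  have hfl : Flat (Spec.map ψ) := by rw [hψ]; infer_instance
  exact ⟨ψ.hom.toAlgebra, IsScalarTower.of_algebraMap_eq' (congrArg CommRingCat.Hom.hom hw).symm,
    (HasRingHomProperty.Spec_iff (P := @Flat)).1 hfl, hψ.symm⟩

/-- One affine etale cover by glueable algebras makes all affine etale charts glueable. -/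
theorem isGlueable_of_etale_cover (h : EtGlue.IsGlueingPair R R' f) {Y : Space (Spec (CommRingCat.of R))}
    {ι : Type u} (A : ι → Type u) [∀ k, CommRing (A k)] [∀ k, Algebra R (A k)]
    (g : ∀ k, (yon _).obj (algObj R (A k)) ⟶ Y.obj) (hg : ∀ k, RepWith @Etale (g k))
    (hcov : ∀ y : Points Y.obj, ∃ k, y ∈ Set.range (Points.map (g k)))
    (hA : ∀ k, EtGlue.IsGlueable R R' f (A k))
    (A₀ : Type u) [CommRing A₀] [Algebra R A₀] (g₀ : (yon _).obj (algObj R A₀) ⟶ Y.obj)
    (hg₀ : RepWith @Etale g₀) : EtGlue.IsGlueable R R' f A₀ := by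
  rw [isGlueable_iff h]
  have H : ∀ p : ↥(algObj R A₀).left, ∃ (B : Type u) (_ : CommRing B) (_ : Algebra R B) (_ : Algebra A₀ B)
      (_ : IsScalarTower R A₀ B), Module.Flat A₀ B ∧
        p ∈ Set.range (Spec.map (CommRingCat.ofHom (algebraMap A₀ B))) ∧ TorsInj R R' f B := by
    intro p
    obtain ⟨k, x, hx⟩ := hcov (Points.ofPt g₀ p)
    obtain ⟨v, rfl⟩ := (Points.schemeEquiv (algObj R (A k))).surjective x
    have hx' : Points.ofPt g₀ p = Points.ofPt (g k) v := hx.symm.trans (ofPt_eq_map (g k) v).symm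
    obtain ⟨W, w₁, w₂, sq⟩ := exists_pullback_yon hg₀.rep (g k)
    obtain ⟨w, hw₁, hw₂⟩ := (ofPt_eq_ofPt_iff sq p v).1 hx'
    haveI : Etale w₂.left := repWith_fst_of_isPullback sq hg₀
    haveI : Etale w₁.left := repWith_fst_of_isPullback sq.flip (hg k)
    obtain ⟨V, hV, hwV, -⟩ := exists_isAffineOpen_mem_and_subset (x := w) (U := ⊤) trivial
    let T : Over (Spec (CommRingCat.of R)) := Over.mk (V.ι ≫ W.hom)
    haveI : IsAffine T.left := hV
    obtain ⟨B, _, _, ⟨e⟩⟩ := exists_algObj_iso T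
    let j : T ⟶ W := Over.homMk V.ι rfl
    haveI : Etale j.left := inferInstanceAs (Etale V.ι)
    haveI : Etale e.hom.left := inferInstance
    haveI : Etale (e.hom ≫ j ≫ w₁).left := by rw [Over.comp_left, Over.comp_left]; infer_instance
    haveI : Etale (e.hom ≫ j ≫ w₂).left := by rw [Over.comp_left, Over.comp_left]; infer_instance
    obtain ⟨a₀, t₀, hfl₀, he₀⟩ := exists_algebra_of_hom (e.hom ≫ j ≫ w₁)
    obtain ⟨ak, tk, hflk, -⟩ := exists_algebra_of_hom (e.hom ≫ j ≫ w₂)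
    refine ⟨B, inferInstance, inferInstance, a₀, t₀, hfl₀, ?_,
      @torsInj_of_flat_algebra _ _ _ _ _ _ h (A k) B _ _ _ _ ak tk hflk ((isGlueable_iff h).1 (hA k))⟩
    rw [← he₀, ← hw₁]
    refine ⟨e.inv.left (⟨w, hwV⟩ : V.toScheme), ?_⟩
    rw [← Scheme.Hom.comp_apply, ← Over.comp_left, Iso.inv_hom_id_assoc, Over.comp_left, Scheme.Hom.comp_apply]
    rfl
  choose B i₁ i₂ i₃ i₄ i₅ hr hB using H
  exact torsInj_of_flat_cover A₀ B (fun p => ⟨p, hr p⟩) hB

/-- Morphisms of sheaves out of a space are determined on a surjective etale family of charts. -/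
theorem hom_ext_of_charts {S : Scheme.{u}} (Y : Space S) {Z : Sp S} {ι : Type u} {A : ι → Over S}
    (g : ∀ k, (yon S).obj (A k) ⟶ Y.obj) (hg : ∀ k, RepWith @Etale (g k))
    (hcov : ∀ y : Points Y.obj, ∃ k, y ∈ Set.range (Points.map (g k))) {a b : Y.obj ⟶ Z}
    (h : ∀ k, g k ≫ a = g k ≫ b) : a = b := by
  have key : ∀ (T : Over S) (x : (yon S).obj T ⟶ Y.obj), x ≫ a = x ≫ b := fun T x => by
    choose W w e sq using fun k => exists_pullback_yon (hg k).rep x
    haveI : ∀ k, Etale (e k).left := fun k => repWith_fst_of_isPullback (sq k) (hg k)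
    refine eq_of_fppf e (ofArrows_mem_fppf_of_etale _ fun t => ?_) fun k => ?_
    · obtain ⟨k, v, hv⟩ := hcov (Points.ofPt x t)
      obtain ⟨v, rfl⟩ := (Points.schemeEquiv (A k)).surjective v
      obtain ⟨w', -, hw'⟩ := (ofPt_eq_ofPt_iff (sq k) v t).1 ((ofPt_eq_map (g k) v).trans hv)
      exact ⟨k, w', hw'⟩
    · rw [← Category.assoc, ← (sq k).w, Category.assoc, h k, ← Category.assoc, (sq k).w, Category.assoc]
  ext T t
  have := congrArg yEquiv (key T.unop (yEquiv.symm t))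
  simp only [yEquiv, GrothendieckTopology.uliftYonedaEquiv_comp, Equiv.apply_symm_apply] at this
  exact this

section Rigid

variable {S : Scheme.{u}} {B B' : Type u} [CommRing B] [CommRing B'] [Algebra B B'] {t : B}

attribute [local instance] Algebra.TensorProduct.rightAlgebra

open Groth.TorsProper.Adic in
/-- Points of a space agreeing on the two pieces of a glueing pair are equal. -/
theorem eq_of_eq_on_glueingPair (h : EtGlue.IsGlueingPair B B' t) {Z : Sp S} (hZ : IsAlgSpace Z)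
    {b : Spec (CommRingCat.of B) ⟶ S} {p q : (yon S).obj (Over.mk b) ⟶ Z}
    (hpq : ∀ (T : Over S) (φ : T ⟶ Over.mk b),
      ((∃ r : T.left ⟶ Spec (CommRingCat.of (Localization.Away t)),
          φ.left = r ≫ Spec.map (CommRingCat.ofHom (algebraMap B (Localization.Away t)))) ∨
        ∃ r : T.left ⟶ Spec (CommRingCat.of B'),
          φ.left = r ≫ Spec.map (CommRingCat.ofHom (algebraMap B B'))) →
      (yon S).map φ ≫ p = (yon S).map φ ≫ q) : p = q := by
  obtain ⟨ι, A, a, hsep, ha, hcov⟩ := exists_separated_charts hZ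
  have H : ∀ z : ↥(Over.mk b).left, ∃ (C : Over S) (c : C ⟶ Over.mk b), Etale c.left ∧
      z ∈ Set.range c.left ∧ IsAffine C.left ∧ ∃ (i : ι) (v : C ⟶ A i), (yon S).map c ≫ p = (yon S).map v ≫ a i := by
    intro z
    obtain ⟨i, W, w, e, x, sq, hx⟩ := hcov _ p z
    haveI : Etale e.left := repWith_fst_of_isPullback sq (ha i)
    obtain ⟨V, hV, hxV, -⟩ := exists_isAffineOpen_mem_and_subset (x := x) (U := ⊤) trivial
    let C : Over S := Over.mk (V.ι ≫ W.hom)
    let j : C ⟶ W := Over.homMk V.ι rfl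
    refine ⟨C, j ≫ e, ?_, ⟨(⟨x, hxV⟩ : V.toScheme), hx⟩, hV, i, j ≫ w, ?_⟩
    · rw [Over.comp_left]
      show Etale (V.ι ≫ e.left)
      infer_instance
    · rw [Functor.map_comp, Functor.map_comp, Category.assoc, Category.assoc, sq.w]
  choose C c hc hz hC i v hv using H
  haveI := hc
  refine eq_of_fppf c (ofArrows_mem_fppf_of_etale _ fun z => ⟨z, hz z⟩) fun z => ?_
  haveI := hC z
  haveI := hsep (i z)
  let ψ := Spec.preimage ((C z).left.isoSpec.inv ≫ (c z).left)
  letI : Algebra B Γ((C z).left, ⊤) := ψ.hom.toAlgebra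
  have hψ : Spec.map ψ = (C z).left.isoSpec.inv ≫ (c z).left := Spec.map_preimage _
  haveI : Module.Flat B Γ((C z).left, ⊤) := (HasRingHomProperty.Spec_iff (P := @Flat) (φ := ψ)).1
    (by rw [hψ]; infer_instance)
  let B₁ : Type u := Γ((C z).left, ⊤)
  let t₁ := algebraMap B Γ((C z).left, ⊤) t
  have h₁ : EtGlue.IsGlueingPair B₁ (B' ⊗[B] B₁) t₁ := isGlueingPair_C B₁ h
  -- everything happens over `C := Spec B₁`
  let C₁ : Over S := Over.mk ((C z).left.isoSpec.inv ≫ (C z).hom)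
  let ec : C₁ ⟶ C z := Over.homMk (C z).left.isoSpec.inv rfl
  haveI : IsIso ((Over.forget S).map ec) := inferInstanceAs (IsIso (C z).left.isoSpec.inv)
  haveI : IsIso ec := isIso_of_reflects_iso ec (Over.forget S)
  rw [← cancel_epi ((yon S).map ec)]
  let p₁ := (yon S).map ec ≫ (yon S).map (c z) ≫ p
  let q₁ := (yon S).map ec ≫ (yon S).map (c z) ≫ q
  show p₁ = q₁
  let v₁ : C₁ ⟶ A (i z) := ec ≫ v z
  have hp₁ : p₁ = (yon S).map v₁ ≫ a (i z) := by
    simp only [p₁, v₁, hv, Functor.map_comp, Category.assoc]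
  obtain ⟨W, w, e, sq⟩ := exists_pullback_yon (ha (i z)).rep q₁
  haveI : Etale e.left := repWith_fst_of_isPullback sq (ha (i z))
  let j₀ := Spec.map (CommRingCat.ofHom (algebraMap B₁ (Localization.Away t₁)))
  let j₁ := Spec.map (CommRingCat.ofHom (algebraMap B₁ (B' ⊗[B] B₁)))
  have hagree : ∀ (T : Over S) (φ : T ⟶ C₁),
      ((∃ r, φ.left = r ≫ j₀) ∨ ∃ r, φ.left = r ≫ j₁) → (yon S).map φ ≫ p₁ = (yon S).map φ ≫ q₁ := by
    intro T φ hφ
    simp only [p₁, q₁, ← Category.assoc, ← Functor.map_comp]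
    refine hpq T _ ?_
    have hl : ((φ ≫ ec) ≫ c z).left = φ.left ≫ Spec.map (CommRingCat.ofHom (algebraMap B B₁)) := by
      rw [Over.comp_left, Over.comp_left, Category.assoc]
      exact congrArg (φ.left ≫ ·) hψ.symm
    rcases hφ with ⟨r, hr⟩ | ⟨r, hr⟩
    · exact Or.inl ⟨r ≫ Spec.map (CommRingCat.ofHom (Localization.awayMap (algebraMap B B₁) t)), by
        rw [hl, hr, Category.assoc, Category.assoc, Groth.TorsProper.Adic.specMap_awayMap]⟩
    · exact Or.inr ⟨r ≫ Spec.map (CommRingCat.ofHom (algebraMap B' (B' ⊗[B] B₁))), by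
        rw [hl, hr, Category.assoc, Category.assoc, Groth.TorsProper.Adic.specMap_tensor]⟩
  have hsec : ∀ (T : Over S) (φ : T ⟶ C₁), ((∃ r, φ.left = r ≫ j₀) ∨ ∃ r, φ.left = r ≫ j₁) →
      ∃ s : T ⟶ W, s ≫ e = φ ∧ s ≫ w = φ ≫ v₁ := by
    intro T φ hφ
    have hc : (yon S).map (φ ≫ v₁) ≫ a (i z) = (yon S).map φ ≫ q₁ := by
      rw [Functor.map_comp, Category.assoc, ← hp₁, hagree T φ hφ]
    obtain ⟨s, hs⟩ := (yon S).map_surjective (sq.lift _ _ hc)
    exact ⟨s, (yon S).map_injective (by rw [Functor.map_comp, hs]; exact sq.lift_snd _ _ hc),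
      (yon S).map_injective (by rw [Functor.map_comp, hs]; exact sq.lift_fst _ _ hc)⟩
  have hmono : ∀ {T : Over S} {s s' : T ⟶ W}, s ≫ e = s' ≫ e → s ≫ w = s' ≫ w → s = s' := fun h₂ h₁ =>
    (yon S).map_injective (sq.hom_ext
      (by rw [← Functor.map_comp, ← Functor.map_comp, h₁])
      (by rw [← Functor.map_comp, ← Functor.map_comp, h₂]))
  let T₀ : Over S := Over.mk (j₀ ≫ C₁.hom)
  let T₁ : Over S := Over.mk (j₁ ≫ C₁.hom)
  obtain ⟨s₀, hs₀, hs₀'⟩ := hsec T₀ (Over.homMk j₀ rfl) (Or.inl ⟨𝟙 _, (Category.id_comp _).symm⟩)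
  obtain ⟨s₁, hs₁, hs₁'⟩ := hsec T₁ (Over.homMk j₁ rfl) (Or.inr ⟨𝟙 _, (Category.id_comp _).symm⟩)
  haveI : IsSeparated e.left := by
    let m : W.left ⟶ pullback (A (i z)).hom C₁.hom :=
      pullback.lift w.left e.left ((Over.w w).trans (Over.w e).symm)
    have hm₁ : m ≫ pullback.fst (A (i z)).hom C₁.hom = w.left := pullback.lift_fst _ _ _
    have hm₂ : m ≫ pullback.snd (A (i z)).hom C₁.hom = e.left := pullback.lift_snd _ _ _
    haveI : Mono m := ⟨fun {T} g g' hgg => by
      have h₁ : g ≫ w.left = g' ≫ w.left := by rw [← hm₁, ← Category.assoc, hgg, Category.assoc]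
      have h₂ : g ≫ e.left = g' ≫ e.left := by rw [← hm₂, ← Category.assoc, hgg, Category.assoc]
      have hW : g' ≫ W.hom = g ≫ W.hom := by rw [← Over.w e, reassoc_of% h₂]
      exact congrArg CommaMorphism.left (hmono (s := (Over.homMk g rfl : Over.mk (g ≫ W.hom) ⟶ W))
        (s' := Over.homMk g' hW) (Over.OverMorphism.ext h₂) (Over.OverMorphism.ext h₁))⟩
    rw [show e.left = m ≫ pullback.snd (A (i z)).hom C₁.hom from (pullback.lift_snd _ _ _).symm]
    infer_instance
  haveI : LocallyQuasiFinite e.left := Groth.AlgSp2.locallyQuasiFinite_of_formallyUnramified e.left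
  haveI : CompactSpace T₀.left := inferInstanceAs (CompactSpace (PrimeSpectrum _))
  haveI : CompactSpace T₁.left := inferInstanceAs (CompactSpace (PrimeSpectrum _))
  haveI : IsAffine C₁.left := inferInstanceAs (IsAffine (Spec _))
  have hK : IsCompact (Set.range s₀.left ∪ Set.range s₁.left) :=
    (isCompact_range s₀.left.continuous).union (isCompact_range s₁.left.continuous)
  obtain ⟨O, -, hKO, hOc⟩ :=
    Groth.FlatMor2.exists_isCompact_open_between hK (W := ⊤) (Set.subset_univ _)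
  haveI : (O : Scheme.{u}).IsQuasiAffine :=
    Groth.FlatMor2.isIndQuasiAffineHom_def.1
      (Groth.FlatMor2.isIndQuasiAffineHom_of_separated_locallyQuasiFinite (f := e.left)) ⊤
      (isAffineOpen_top _) O (by simp) hOc
  have hr₀ : Set.range s₀.left ⊆ Set.range O.ι := by
    rw [Scheme.Opens.range_ι]; exact Set.subset_union_left.trans hKO
  have hr₁ : Set.range s₁.left ⊆ Set.range O.ι := by
    rw [Scheme.Opens.range_ι]; exact Set.subset_union_right.trans hKO
  let X : Over (Spec (CommRingCat.of B₁)) := Over.mk (O.ι ≫ e.left)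
  haveI : X.left.IsQuasiAffine := ‹(O : Scheme.{u}).IsQuasiAffine›
  let u₀ := IsOpenImmersion.lift O.ι s₀.left hr₀
  let u₁ := IsOpenImmersion.lift O.ι s₁.left hr₁
  have hu₀ : u₀ ≫ O.ι = s₀.left := IsOpenImmersion.lift_fac _ _ _
  have hu₁ : u₁ ≫ O.ι = s₁.left := IsOpenImmersion.lift_fac _ _ _
  have he₀ : s₀.left ≫ e.left = j₀ := congrArg CommaMorphism.left hs₀
  have he₁ : s₁.left ≫ e.left = j₁ := congrArg CommaMorphism.left hs₁
  have hright : algebraMap B₁ ((B' ⊗[B] B₁) ⊗[B₁] B₁) =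
      (Algebra.TensorProduct.includeLeftRingHom : (B' ⊗[B] B₁) →+* _).comp (algebraMap B₁ (B' ⊗[B] B₁)) := by
    refine RingHom.ext fun c => ?_
    show (1 : B' ⊗[B] B₁) ⊗ₜ[B₁] c = algebraMap B₁ (B' ⊗[B] B₁) c ⊗ₜ[B₁] (1 : B₁)
    rw [Algebra.algebraMap_eq_smul_one, TensorProduct.smul_tmul, smul_eq_mul, mul_one]
  obtain ⟨u, hue, hu₀', hu₁'⟩ :
      ∃ u : Spec (CommRingCat.of B₁) ⟶ X.left, u ≫ X.hom = 𝟙 _ ∧ j₀ ≫ u = u₀ ∧ j₁ ≫ u = u₁ := by
    -- transfer `exists_glue_point` for the trivial algebra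
    let n : (B' ⊗[B] B₁) →+* ((B' ⊗[B] B₁) ⊗[B₁] B₁) := Algebra.TensorProduct.includeLeftRingHom
    let m : ((B' ⊗[B] B₁) ⊗[B₁] B₁) →+* (B' ⊗[B] B₁) :=
      (Algebra.TensorProduct.rid B₁ (B' ⊗[B] B₁) (B' ⊗[B] B₁)).toAlgHom.toRingHom
    let κ := Spec.map (CommRingCat.ofHom n)
    have hn : algebraMap B₁ ((B' ⊗[B] B₁) ⊗[B₁] B₁) = n.comp (algebraMap B₁ (B' ⊗[B] B₁)) := hright
    have hκ : Spec.map (CommRingCat.ofHom (algebraMap B₁ ((B' ⊗[B] B₁) ⊗[B₁] B₁))) = κ ≫ j₁ := by
      rw [← Spec.map_comp, ← CommRingCat.ofHom_comp, hn]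
    have hid : Spec.map (CommRingCat.ofHom (algebraMap B₁ B₁)) = 𝟙 _ := Spec.map_id _
    have hmn : Spec.map (CommRingCat.ofHom m) ≫ κ = 𝟙 _ := by
      rw [← Spec.map_comp, ← CommRingCat.ofHom_comp, ← Spec.map_id]
      congr 2
      refine RingHom.ext fun x => ?_
      show (Algebra.TensorProduct.rid B₁ (B' ⊗[B] B₁) (B' ⊗[B] B₁)) (x ⊗ₜ[B₁] (1 : B₁)) = x
      simp
    have hj₁ : Spec.map (CommRingCat.ofHom m) ≫
        Spec.map (CommRingCat.ofHom (algebraMap B₁ ((B' ⊗[B] B₁) ⊗[B₁] B₁))) = j₁ := by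
      rw [hκ, reassoc_of% hmn]
    obtain ⟨u, hu, hu0, hu1⟩ := exists_glue_point (C := B₁) h₁ (X := X) (t := t₁)
      (u₀ : Spec (CommRingCat.of (Localization.Away t₁)) ⟶ X.left) (κ ≫ u₁)
      (by
        show u₀ ≫ O.ι ≫ e.left = _
        rw [reassoc_of% hu₀, he₀, hid, Category.comp_id])
      (by
        show (κ ≫ u₁) ≫ O.ι ≫ e.left = _
        rw [Category.assoc, reassoc_of% hu₁, he₁, hid, Category.comp_id, hκ])
      (by
        let tt := algebraMap B₁ ((B' ⊗[B] B₁) ⊗[B₁] B₁) t₁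
        let am : Localization.Away t₁ →+* Localization.Away tt :=
          Localization.awayMap (algebraMap B₁ ((B' ⊗[B] B₁) ⊗[B₁] B₁)) t₁
        let k₀ := Spec.map (CommRingCat.ofHom am)
        let k₁ := Spec.map (CommRingCat.ofHom (algebraMap ((B' ⊗[B] B₁) ⊗[B₁] B₁) (Localization.Away tt)))
        have hk : k₀ ≫ j₀ = (k₁ ≫ κ) ≫ j₁ := by
          rw [Category.assoc, ← hκ]
          exact Groth.TorsProper.Adic.specMap_awayMap (t := t₁) _
        show k₀ ≫ u₀ = k₁ ≫ κ ≫ u₁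
        rw [← cancel_mono O.ι, Category.assoc, Category.assoc, Category.assoc, hu₀, hu₁]
        let T₂ : Over S := Over.mk ((k₀ ≫ j₀) ≫ C₁.hom)
        let k₀' : T₂ ⟶ T₀ := Over.homMk k₀ (Category.assoc _ _ _).symm
        let k₁' : T₂ ⟶ T₁ := Over.homMk (k₁ ≫ κ) (by
          show (k₁ ≫ κ) ≫ j₁ ≫ C₁.hom = (k₀ ≫ j₀) ≫ C₁.hom
          rw [hk, Category.assoc (k₁ ≫ κ)])
        have : k₀' ≫ s₀ = k₁' ≫ s₁ := hmono
          (by rw [Category.assoc, Category.assoc, hs₀, hs₁]; exact Over.OverMorphism.ext (by exact hk))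
          (by rw [Category.assoc, Category.assoc, hs₀', hs₁', ← Category.assoc, ← Category.assoc]
              rw [show k₀' ≫ (Over.homMk j₀ rfl : T₀ ⟶ C₁) = k₁' ≫ (Over.homMk j₁ rfl : T₁ ⟶ C₁) from Over.OverMorphism.ext hk]
              simp only [v₁, Category.assoc])
        exact (congrArg CommaMorphism.left this).trans (Category.assoc _ _ _))
    refine ⟨u, hu.trans hid, hu0, ?_⟩
    rw [← hj₁, Category.assoc, hu1, reassoc_of% hmn]
  let σ : C₁ ⟶ W := Over.homMk (u ≫ O.ι) (by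
    show (u ≫ O.ι) ≫ W.hom = C₁.hom
    rw [← Over.w e]
    exact (Category.assoc _ _ _).trans ((congrArg (u ≫ ·) (Category.assoc _ _ _).symm).trans
      ((Category.assoc _ _ _).symm.trans ((congrArg (· ≫ C₁.hom) hue).trans (Category.id_comp _)))))
  have hσe : σ ≫ e = 𝟙 C₁ := Over.OverMorphism.ext ((Category.assoc _ _ _).trans hue)
  have hσw : σ ≫ w = v₁ := by
    refine Over.OverMorphism.ext (Groth.TorsProper.Adic.hom_ext B₁ h₁ (A (i z)).hom ?_ ?_ ?_)
    · exact (Over.w (σ ≫ w)).trans (Over.w v₁).symm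
    · show j₀ ≫ (u ≫ O.ι) ≫ w.left = j₀ ≫ v₁.left
      rw [Category.assoc, ← Category.assoc j₀ u, hu₀', ← Category.assoc, hu₀]
      exact congrArg CommaMorphism.left hs₀'
    · have hκ' : Spec.map (CommRingCat.ofHom (algebraMap B₁ ((B' ⊗[B] B₁) ⊗[B₁] B₁))) =
          Spec.map (CommRingCat.ofHom
            (Algebra.TensorProduct.includeLeftRingHom : (B' ⊗[B] B₁) →+* ((B' ⊗[B] B₁) ⊗[B₁] B₁))) ≫ j₁ := by
        rw [← Spec.map_comp, ← CommRingCat.ofHom_comp, hright]
      have h' : j₁ ≫ (u ≫ O.ι) ≫ w.left = j₁ ≫ v₁.left := by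
        rw [Category.assoc, ← Category.assoc j₁ u, hu₁', ← Category.assoc, hu₁]
        exact congrArg CommaMorphism.left hs₁'
      rw [hκ', Category.assoc, Category.assoc]
      exact congrArg (_ ≫ ·) h'
  calc p₁ = (yon S).map (σ ≫ w) ≫ a (i z) := by rw [hσw, hp₁]
    _ = (yon S).map (σ ≫ e) ≫ q₁ := by
      rw [Functor.map_comp, Category.assoc, sq.w, ← Category.assoc, ← Functor.map_comp]
    _ = q₁ := by rw [hσe, (yon S).map_id, Category.id_comp]

end Rigid

/-- Affine etale charts of a space over an affine scheme, jointly surjective. -/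
theorem exists_algObj_charts (Y : Space (Spec (CommRingCat.of R))) :
    ∃ (ι : Type u) (A : ι → Type u) (_ : ∀ k, CommRing (A k)) (_ : ∀ k, Algebra R (A k))
      (g : ∀ k, (yon _).obj (algObj R (A k)) ⟶ Y.obj), (∀ k, RepWith @Etale (g k)) ∧
      ∀ y : Points Y.obj, ∃ k, y ∈ Set.range (Points.map (g k)) := by
  obtain ⟨U, a, ha, has⟩ := Y.property.atlas
  have hV₀ : ∀ u : ↥U.left, ∃ V : U.left.Opens, IsAffineOpen V ∧ u ∈ V := fun u => by
    obtain ⟨V, h₁, h₂, -⟩ := exists_isAffineOpen_mem_and_subset (x := u) (U := (⊤ : U.left.Opens)) trivial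
    exact ⟨V, h₁, h₂⟩
  choose V hV huV using hV₀
  let T : ↥U.left → Over (Spec (CommRingCat.of R)) := fun u => Over.mk ((V u).ι ≫ U.hom)
  haveI : ∀ u, IsAffine (T u).left := hV
  choose A iA jA eA using fun u => exists_algObj_iso (T u)
  let j : ∀ u, T u ⟶ U := fun u => Over.homMk (V u).ι rfl
  refine ⟨↥U.left, A, iA, jA, fun u => (yon _).map ((eA u).some.hom ≫ j u) ≫ a, fun u => ?_, fun y => ?_⟩
  · refine repWith_comp ((repWith_yon_map_iff _ _).2 ?_) ha
    haveI : Etale (j u).left := inferInstanceAs (Etale (V u).ι)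
    rw [Over.comp_left]
    infer_instance
  · obtain ⟨x, rfl⟩ := surjective_map_of_repWith has y
    obtain ⟨v, rfl⟩ := (Points.schemeEquiv U).surjective x
    refine ⟨v, Points.ofScheme _ ((eA v).some.inv.left (⟨v, huV v⟩ : (V v).toScheme)), ?_⟩
    rw [← ofPt_eq_map, ofPt_comp_yon, ← Scheme.Hom.comp_apply, ← Over.comp_left, Iso.inv_hom_id_assoc]
    exact ofPt_eq_map a v

attribute [local instance] Algebra.TensorProduct.rightAlgebra in
/-- Maps to a space agreeing over the two pieces of a glueing pair are equal. -/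
theorem hom_ext_of_glueingPair (h : EtGlue.IsGlueingPair R R' f) {Y Z : Space (Spec (CommRingCat.of R))}
    (hY : ∀ (A : Type u) [CommRing A] [Algebra R A] (g : (yon _).obj (algObj R A) ⟶ Y.obj),
      RepWith @Etale g → EtGlue.IsGlueable R R' f A) {a b : Y.obj ⟶ Z.obj}
    (hab : ∀ (T : Over (Spec (CommRingCat.of R))) (x : (yon _).obj T ⟶ Y.obj),
      (Nonempty (T ⟶ algObj R (Localization.Away f)) ∨ Nonempty (T ⟶ algObj R R')) → x ≫ a = x ≫ b) :
    a = b := by
  obtain ⟨ι, A, _, _, g, hg, hcov⟩ := exists_algObj_charts Y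
  have key : ∀ k, g k ≫ a = g k ≫ b := fun k => by
    have hp : EtGlue.IsGlueingPair (A k) (R' ⊗[R] A k) (algebraMap R (A k) f) :=
      isGlueingPair_algebra (A k) h ((isGlueable_iff h).1 (hY (A k) (g k) (hg k)))
    refine eq_of_eq_on_glueingPair hp Z.property fun T φ hφ => ?_
    rw [← Category.assoc, ← Category.assoc]
    refine hab T _ ?_
    rcases hφ with ⟨r, hr⟩ | ⟨r, hr⟩
    · refine Or.inl ⟨Over.homMk (r ≫ Spec.map (CommRingCat.ofHom (Localization.awayMap (algebraMap R (A k)) f))) ?_⟩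
      show (r ≫ _) ≫ Spec.map _ = T.hom
      rw [Category.assoc, Groth.TorsProper.Adic.specMap_awayMap, ← Over.w φ, hr, Category.assoc]
      rfl
    · refine Or.inr ⟨Over.homMk (r ≫ Spec.map (CommRingCat.ofHom (algebraMap R' (R' ⊗[R] A k)))) ?_⟩
      show (r ≫ _) ≫ Spec.map _ = T.hom
      rw [Category.assoc, Groth.TorsProper.Adic.specMap_tensor, ← Over.w φ, hr, Category.assoc]
      rfl
  exact hom_ext_of_charts Y g hg hcov key

end

end Groth.AlgSpBasic
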