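import Groth.Agent.AlgSpBasic.DecentTop
import Mathlib.Topology.Sober

/-!
# The space of points of a decent algebraic space is sober
-/

set_option autoImplicit false
set_option backward.isDefEq.respectTransparency.types false
universe u

open CategoryTheory CategoryTheory.Limits AlgebraicGeometry Opposite TopologicalSpace AlgSp

namespace Groth.AlgSpBasic

variable {S : Scheme.{u}} {X : Sp S}

/-- If a set cannot meet `n` pairwise disjoint (on it) opens, it is covered by the closures of finitely
many irreducible subsets, each of which is the trace of an open. -/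
theorem exists_irreducible_traces {A : Type*} [TopologicalSpace A] {C : Set A} (n : ℕ)
    (h : ¬ ∃ U : Fin n → Set A, (∀ i, IsOpen (U i)) ∧ (∀ i, (U i ∩ C).Nonempty) ∧
      ∀ i j, i ≠ j → U i ∩ U j ∩ C = ∅) :
    ∃ (m : ℕ) (U : Fin m → Set A), (∀ i, IsOpen (U i)) ∧ (∀ i, IsIrreducible (U i ∩ C)) ∧
      C ⊆ ⋃ i, closure (U i ∩ C) := by
  classical
  let Fam := fun k => ∃ U : Fin k → Set A, (∀ i, IsOpen (U i)) ∧ (∀ i, (U i ∩ C).Nonempty) ∧
      ∀ i j, i ≠ j → U i ∩ U j ∩ C = ∅
  have hex : ∃ k, ¬ Fam k := ⟨n, h⟩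
  have h0 : Fam 0 := ⟨Fin.elim0, fun i => i.elim0, fun i => i.elim0, fun i => i.elim0⟩
  obtain ⟨m, hm⟩ : ∃ m, Nat.find hex = m + 1 :=
    Nat.exists_eq_succ_of_ne_zero fun e => (e ▸ Nat.find_spec hex) h0
  have hmax : ¬ Fam (m + 1) := hm ▸ Nat.find_spec hex
  obtain ⟨U, hUo, hUne, hUd⟩ : Fam m :=
    not_not.1 (Nat.find_min hex (hm.symm ▸ Nat.lt_succ_self m))
  refine ⟨m, U, hUo, fun i => ⟨hUne i, ?_⟩, ?_⟩
  · intro V W hV hW hVne hWne
    by_contra hne
    rw [Set.not_nonempty_iff_eq_empty] at hne
    refine hmax ⟨Fin.cons (U i ∩ V) (Function.update U i (U i ∩ W)), ?_, ?_, ?_⟩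
    · intro k
      induction k using Fin.cases with
      | zero => exact (hUo i).inter hV
      | succ k =>
        rw [Fin.cons_succ, Function.update_apply]
        split <;> [exact (hUo i).inter hW; exact hUo k]
    · intro k
      induction k using Fin.cases with
      | zero =>
        obtain ⟨a, ⟨ha, haC⟩, haV⟩ := hVne
        exact ⟨a, ⟨ha, haV⟩, haC⟩
      | succ k =>
        rw [Fin.cons_succ, Function.update_apply]
        split
        · obtain ⟨a, ⟨ha, haC⟩, haW⟩ := hWne
          exact ⟨a, ⟨ha, haW⟩, haC⟩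
        · exact hUne k
    · have key : ∀ k : Fin m, (U i ∩ V) ∩ Function.update U i (U i ∩ W) k ∩ C = ∅ := by
        intro k
        rw [Function.update_apply]
        split
        · refine Set.eq_empty_of_forall_notMem fun a ha => ?_
          exact (Set.eq_empty_iff_forall_notMem.1 hne) a ⟨⟨ha.1.1.1, ha.2⟩, ha.1.1.2, ha.1.2.2⟩
        · rename_i hk
          refine Set.eq_empty_of_forall_notMem fun a ha => ?_
          exact (Set.eq_empty_iff_forall_notMem.1 (hUd k i hk)) a ⟨⟨ha.1.2, ha.1.1.1⟩, ha.2⟩
      have key' : ∀ k, Function.update U i (U i ∩ W) k ⊆ U k := by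
        intro k
        rw [Function.update_apply]
        split
        · rename_i hk; subst hk; exact Set.inter_subset_left
        · exact subset_rfl
      intro k l hkl
      induction k using Fin.cases with
      | zero =>
        induction l using Fin.cases with
        | zero => exact absurd rfl hkl
        | succ l => simpa using key l
      | succ k =>
        induction l using Fin.cases with
        | zero =>
          rw [Fin.cons_zero, Fin.cons_succ, Set.inter_comm (Function.update U i (U i ∩ W) k)]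
          exact key k
        | succ l =>
          rw [Fin.cons_succ, Fin.cons_succ]
          refine Set.subset_empty_iff.1 ?_
          rw [← hUd k l fun e => hkl (congrArg Fin.succ e)]
          exact Set.inter_subset_inter_left _ (Set.inter_subset_inter (key' k) (key' l))
  · intro a ha
    by_contra hna
    refine hmax ⟨Fin.cons (⋃ i, closure (U i ∩ C))ᶜ U, ?_, ?_, ?_⟩
    · intro k
      induction k using Fin.cases with
      | zero => exact (isClosed_iUnion_of_finite fun i => isClosed_closure).isOpen_compl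
      | succ k => simpa using hUo k
    · intro k
      induction k using Fin.cases with
      | zero => exact ⟨a, hna, ha⟩
      | succ k => simpa using hUne k
    · have key : ∀ k, (⋃ i, closure (U i ∩ C))ᶜ ∩ U k ∩ C = ∅ := fun k =>
        Set.eq_empty_of_forall_notMem fun b hb =>
          hb.1.1 (Set.mem_iUnion.2 ⟨k, subset_closure ⟨hb.1.2, hb.2⟩⟩)
      intro k l hkl
      induction k using Fin.cases with
      | zero =>
        induction l using Fin.cases with
        | zero => exact absurd rfl hkl
        | succ l => simpa using key l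
      | succ k =>
        induction l using Fin.cases with
        | zero =>
          rw [Fin.cons_zero, Fin.cons_succ, Set.inter_comm (U k)]
          exact key k
        | succ l => simpa using hUd k l fun e => hkl (congrArg Fin.succ e)

/-- In a space with finite fibres of affine charts every irreducible closed subset has a generic
point. -/
theorem quasiSober_of_isDecent (hX : IsAlgSpace X) (hd : IsDecent X) :
    QuasiSober (AlgSp.Points X) := by
  refine ⟨fun {Z} hZ hZc => ?_⟩
  obtain ⟨x, hx⟩ := hZ.1
  obtain ⟨U₀, p, hp, hps⟩ := hX.atlas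
  obtain ⟨u, rfl⟩ := surjective_ofPt_of_repWith hps x
  obtain ⟨A, hA, huA, -⟩ :=
    exists_isAffineOpen_mem_and_subset (X := U₀.left) (x := u) (U := ⊤) trivial
  let AO : Over S := Over.mk (A.ι ≫ U₀.hom)
  let jA : AO ⟶ U₀ := Over.homMk A.ι rfl
  have : Etale jA.left := inferInstanceAs (Etale A.ι)
  have : IsAffine AO.left := hA
  let a := (yon S).map jA ≫ p
  have ha : RepWith @Etale a := repWith_comp ((repWith_yon_map_iff _ jA).2 ‹_›) hp
  obtain ⟨P, t, s, sq⟩ := exists_pullback_yon ha.rep a
  have : Etale s.left := repWith_fst_of_isPullback sq ha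
  have : IsSeparated s.left := isSeparated_kernelPair sq
  have hcont := AlgSp.Points.continuous_ofPt a
  let C := AlgSp.Points.ofPt a ⁻¹' Z
  obtain ⟨D, n, -, hne, hbd⟩ := exists_opens_bounded s.left
    (finite_fibre_kernelPair hX hd ha sq) (C := C) (hZc.preimage hcont)
    ⟨⟨u, huA⟩, by show AlgSp.Points.ofPt a _ ∈ Z; rw [ofPt_comp_yon]; exact hx⟩
  have hn : ¬ ∃ V : Fin n → Set ↥AO.left, (∀ i, IsOpen (V i)) ∧
      (∀ i, (V i ∩ (C ∩ (D : Set ↥AO.left))).Nonempty) ∧
      ∀ i j, i ≠ j → V i ∩ V j ∩ (C ∩ (D : Set ↥AO.left)) = ∅ := by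
    classical
    rintro ⟨V, hVo, hVne, hVd⟩
    obtain ⟨z, hzZ, hz⟩ := isIrreducible_iff_sInter.1 hZ
      (Finset.univ.image fun i => AlgSp.Points.ofPt a '' (V i ∩ (D : Set ↥AO.left)))
      (by
        simp only [Finset.mem_image, Finset.mem_univ, true_and, forall_exists_index]
        rintro _ i rfl
        exact isOpenMap_ofPt_of_etale ha _ ((hVo i).inter D.2))
      (by
        simp only [Finset.mem_image, Finset.mem_univ, true_and, forall_exists_index]
        rintro _ i rfl
        obtain ⟨c, hcV, hcC, hcD⟩ := hVne i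
        exact ⟨_, hcC, c, ⟨hcV, hcD⟩, rfl⟩)
    have hz' : ∀ i, z ∈ AlgSp.Points.ofPt a '' (V i ∩ (D : Set ↥AO.left)) := fun i =>
      Set.mem_sInter.1 hz _ (by simp)
    choose e he hez using hz'
    have heC : ∀ i, e i ∈ C ∩ (D : Set ↥AO.left) := fun i => ⟨by
      show AlgSp.Points.ofPt a (e i) ∈ Z
      rw [hez i]; exact hzZ, (he i).2⟩
    obtain ⟨w, hw⟩ := hne
    rcases n.eq_zero_or_pos with rfl | hpos
    · exact hbd w hw trivial
    choose r hrt hrs using fun i =>
      (ofPt_eq_ofPt_iff sq (e i) (e ⟨0, hpos⟩)).1 ((hez i).trans (hez _).symm)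
    refine hbd (e ⟨0, hpos⟩) (heC _) (mem_many_of_injective s.left _ r (fun i j h => ?_) hrs)
    by_contra hij
    have heq : e i = e j := by rw [← hrt i, ← hrt j, h]
    exact (Set.eq_empty_iff_forall_notMem.1 (hVd i j hij)) (e i)
      ⟨⟨(he i).1, heq ▸ (he j).1⟩, heC i⟩
  obtain ⟨m, V, -, hirr, hcover⟩ := exists_irreducible_traces n hn
  let η : Fin m → ↥AO.left := fun i => (hirr i).genericPoint
  have hη : ∀ i, closure {η i} = closure (V i ∩ (C ∩ (D : Set ↥AO.left))) :=
    fun i => (hirr i).isGenericPoint_genericPoint_closure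
  have hηC : ∀ i, η i ∈ C := fun i =>
    closure_minimal (fun c hc => hc.2.1) (hZc.preimage hcont) ((hη i).subset (subset_closure rfl))
  have hO : IsOpen (AlgSp.Points.ofPt a '' (D : Set ↥AO.left)) := isOpenMap_ofPt_of_etale ha _ D.2
  have hsub : Z ⊆ ⋃ i, closure {AlgSp.Points.ofPt a (η i)} := by
    obtain ⟨w, hwC, hwD⟩ := hne
    refine (subset_closure_inter_of_isPreirreducible_of_isOpen hZ.2 hO
      ⟨_, hwC, w, hwD, rfl⟩).trans ?_
    refine closure_minimal ?_ (isClosed_iUnion_of_finite fun i => isClosed_closure)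
    rintro _ ⟨hyZ, d, hd, rfl⟩
    obtain ⟨i, hi⟩ := Set.mem_iUnion.1 (hcover (show d ∈ C ∩ (D : Set ↥AO.left) from ⟨hyZ, hd⟩))
    refine Set.mem_iUnion.2 ⟨i, ?_⟩
    rw [← hη i] at hi
    exact specializes_iff_mem_closure.1 ((specializes_iff_mem_closure.2 hi).map hcont)
  obtain ⟨_, hmem, hZsub⟩ := isIrreducible_iff_sUnion_isClosed.1 hZ
    ((Set.finite_range fun i => closure {AlgSp.Points.ofPt a (η i)}).toFinset)
    (by simp only [Set.Finite.mem_toFinset, Set.mem_range, forall_exists_index]
        rintro _ i rfl; exact isClosed_closure)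
    (by simpa [Set.sUnion_range] using hsub)
  simp only [Set.Finite.mem_toFinset, Set.mem_range] at hmem
  obtain ⟨i, rfl⟩ := hmem
  exact ⟨_, (closure_minimal (Set.singleton_subset_iff.2
    (show AlgSp.Points.ofPt a (η i) ∈ Z from hηC i)) hZc).antisymm hZsub⟩

end Groth.AlgSpBasic
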