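import Groth.Agent.AlgSpBasic.DecentCriteria
import Groth.Agent.AlgSpBasic.DecentSober

/-!
# Decency from finitely many generic points
-/

set_option autoImplicit false
set_option backward.isDefEq.respectTransparency.types false
universe u

open CategoryTheory CategoryTheory.Limits AlgebraicGeometry Opposite TopologicalSpace AlgSp

namespace Groth.AlgSpBasic

variable {S : Scheme.{u}} {X : Sp S}

theorem finite_irreducibleComponents_of_cover {A : Type*} [TopologicalSpace A] {ι : Type*} [Finite ι]
    (C : ι → Set A) (hC : ∀ i, IsClosed (C i)) (hirr : ∀ i, IsPreirreducible (C i))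
    (hcov : ∀ a, ∃ i, a ∈ C i) : (irreducibleComponents A).Finite := by
  refine (Set.finite_range C).subset fun T hT => ?_
  obtain ⟨i, hi⟩ := Groth.SpectralTopology.isPreirreducible_subset_iUnion_closed hT.1 hC
    fun a _ => Set.mem_iUnion.2 (hcov a)
  have hne : (C i).Nonempty := hT.1.nonempty.mono hi
  exact ⟨i, (hT.2 ⟨hne, hirr i⟩ hi).antisymm hi⟩

theorem finite_irreducibleComponents_of_isOpenEmbedding {A B : Type*} [TopologicalSpace A]
    [TopologicalSpace B] {f : B → A} (hf : Topology.IsOpenEmbedding f)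
    (h : (irreducibleComponents A).Finite) : (irreducibleComponents B).Finite := by
  have := h.to_subtype
  refine finite_irreducibleComponents_of_cover (fun c : irreducibleComponents A => f ⁻¹' c.1)
    (fun c => (isClosed_of_mem_irreducibleComponents c.1 c.2).preimage hf.continuous)
    (fun c => c.2.1.2.preimage hf) fun b =>
      ⟨⟨_, irreducibleComponent_mem_irreducibleComponents (f b)⟩, mem_irreducibleComponent⟩

/-- If every point of an affine chart specializes from a point with finite fibre of the kernel pair,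
all fibres of the kernel pair are finite. -/
theorem finite_fibre_of_specializes {W P : Over S} [IsAffine W.left] {a : (yon S).obj W ⟶ X}
    (ha : RepWith @Etale a) {t s : P ⟶ W} (sq : IsPullback ((yon S).map t) ((yon S).map s) a a)
    (h : ∀ w : ↥W.left, ∃ η, η ⤳ w ∧ (s.left ⁻¹' {η}).Finite) (w : ↥W.left) :
    (s.left ⁻¹' {w}).Finite := by
  have : Etale s.left := repWith_fst_of_isPullback sq ha
  have : IsSeparated s.left := isSeparated_kernelPair sq
  obtain ⟨η, hη, hfin⟩ := h w
  obtain ⟨n, hn⟩ := exists_notMem_many s.left η hfin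
  by_contra hinf
  let e := (Set.not_finite.1 hinf).natEmbedding
  refine hn ((hη.mem_open (isOpen_many n s.left) ?_))
  exact mem_many_of_injective s.left w (fun i : Fin n => (e i.1).1)
    (fun i j hij => Fin.ext (e.injective (Subtype.ext hij))) (fun i => (e i.1).2)

/-- A space with finitely many points of quasi-compact type generizing everything is decent. -/
theorem isDecent_of_generic {ι : Type*} [Finite ι] (hX : IsAlgSpace X) (p : ι → FieldPt X)
    (hq : ∀ i, RepWith @QuasiCompact (p i).toHom)
    (hgen : ∀ x : AlgSp.Points X, ∃ i, AlgSp.Points.mk (p i) ⤳ x) : IsDecent X := by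
  have hsfin : ∀ {W P : Over S} [IsAffine W.left] (a : (yon S).obj W ⟶ X) (t s : P ⟶ W),
      RepWith @Etale a → IsPullback ((yon S).map t) ((yon S).map s) a a →
      ∀ w, (s.left ⁻¹' {w}).Finite := by
    intro W P hW a t s ha sq
    refine finite_fibre_of_specializes ha sq fun w => ?_
    obtain ⟨i, hi⟩ := hgen (AlgSp.Points.ofPt a w)
    obtain ⟨η, hη, heq⟩ :=
      exists_specializes_of_finiteAt (finiteAt_of_qc (p i) rfl (hq i)) ha hi
    refine ⟨η, hη, ?_⟩
    obtain ⟨q, hqeq, hqm, hqq⟩ := Groth.AlgSp2.exists_monoQC_of_qc ha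
      (fun r => Groth.AlgSp2.representable_fieldPt hX r) (p i) (hq i) η heq
    have hF : (AlgSp.Points.ofPt a ⁻¹' {AlgSp.Points.mk q}).Finite := finite_fibre_of_qc q hqq ha
    refine (hF.biUnion fun u' hu' => Groth.AlgSp2.finite_fibre_of_mono ha sq q
      (Groth.AlgSp2.representable_fieldPt hX q) η u' hu').subset fun r (hr : s.left r = η) => ?_
    refine Set.mem_biUnion (x := t.left r) ?_ ⟨hr, rfl⟩
    exact ((ofPt_eq_ofPt_iff sq _ _).2 ⟨r, rfl, hr⟩).trans (heq.trans hqeq.symm)
  intro x
  have hx : FiniteAt X x := fun V b hV hb => by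
    by_cases hne : ∃ v, AlgSp.Points.ofPt b v = x
    · obtain ⟨v, hv⟩ := hne
      obtain ⟨R, t, s, sq⟩ := exists_pullback_yon hb.rep b
      refine ((hsfin b t s hb sq v).image t.left).subset fun v' hv' => ?_
      obtain ⟨r, hrt, hrs⟩ := (ofPt_eq_ofPt_iff sq v' v).1
        ((show AlgSp.Points.ofPt b v' = x from hv').trans hv.symm)
      exact ⟨r, hrs, hrt⟩
    · exact Set.Finite.subset Set.finite_empty fun v hv => hne ⟨v, hv⟩
  obtain ⟨U, a, ha, has⟩ := hX.atlas
  obtain ⟨u, hu⟩ := surjective_ofPt_of_repWith has x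
  obtain ⟨A, hA, huA, -⟩ :=
    exists_isAffineOpen_mem_and_subset (X := U.left) (x := u) (U := ⊤) trivial
  let AO : Over S := Over.mk (A.ι ≫ U.hom)
  let jA : AO ⟶ U := Over.homMk A.ι rfl
  have : Etale jA.left := inferInstanceAs (Etale A.ι)
  have : IsAffine AO.left := hA
  have hb : RepWith @Etale ((yon S).map jA ≫ a) :=
    repWith_comp ((repWith_yon_map_iff _ jA).2 ‹_›) ha
  obtain ⟨R, t, s, sq⟩ := exists_pullback_yon hb.rep ((yon S).map jA ≫ a)
  exact exists_monoQC_of_finiteAt hX hx hb sq (u := ⟨u, huA⟩) (by rw [ofPt_comp_yon]; exact hu)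
    ((hsfin _ t s hb sq ⟨u, huA⟩).subset fun r hr => hr.1)

end Groth.AlgSpBasic
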