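import Groth.Agent.AlgSpBasic.DecentFinite
import Groth.Agent.AlgSpBasic.DecentGeneric
import Groth.Agent.AlgSpBasic.Proper
import Groth.Agent.AlgSpBasic.ClosedQC

/-!
# Finiteness over a dense open from the codimension zero fibres
-/

set_option autoImplicit false
set_option backward.isDefEq.respectTransparency.types false
universe u

open CategoryTheory CategoryTheory.Limits AlgebraicGeometry Opposite TopologicalSpace AlgSp

namespace Groth.AlgSpBasic

noncomputable section

theorem ringKrullDim_eq_zero_iff {A : Scheme.{u}} {w : A} :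
    ringKrullDim ↥(A.presheaf.stalk w) = 0 ↔ ∀ y : A, y ⤳ w → y = w := by
  refine ⟨eq_of_specializes_of_ringKrullDim_eq_zero, fun h => ?_⟩
  rw [ringKrullDim_stalk_eq_coheight]
  exact_mod_cast Order.coheight_eq_zero.2 fun y hy => (h y hy).le

theorem exists_codimZero_specializes {A : Scheme.{u}} (a : A) :
    ∃ η : A, η ⤳ a ∧ ringKrullDim ↥(A.presheaf.stalk η) = 0 := by
  obtain ⟨g, hg, hga⟩ := Groth.PropsBasic2.exists_genericPoint_specializes a
  exact ⟨g, hga, ringKrullDim_eq_zero_iff.2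
    ((Groth.PropsBasic2.closure_mem_irreducibleComponents_iff g).1 hg)⟩

theorem eq_univ_of_codimZero_mem {A : Scheme.{u}} {Z : Set A} (hZ : IsClosed Z)
    (h : ∀ η : A, ringKrullDim ↥(A.presheaf.stalk η) = 0 → η ∈ Z) : Z = Set.univ :=
  Set.eq_univ_of_forall fun a => by
    obtain ⟨η, hη, h0⟩ := exists_codimZero_specializes a
    exact hη.mem_closed hZ (h η h0)

/-- An open containing the finitely many other maximal points can be removed. -/
theorem exists_opens_codimZero_eq {A : Scheme.{u}} {v : A}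
    (hv : ringKrullDim ↥(A.presheaf.stalk v) = 0)
    (hfin : {a : A | ringKrullDim ↥(A.presheaf.stalk a) = 0}.Finite) :
    ∃ O : A.Opens, v ∈ O ∧ ∀ a ∈ O, ringKrullDim ↥(A.presheaf.stalk a) = 0 → a = v := by
  let C : Set A := closure ({a : A | ringKrullDim ↥(A.presheaf.stalk a) = 0} \ {v})
  refine ⟨⟨Cᶜ, isClosed_closure.isOpen_compl⟩, fun hvC => ?_, fun a ha h0 => ?_⟩
  · have hf := hfin.sdiff (t := {v})
    rw [show C = ⋃ a ∈ {a : A | ringKrullDim ↥(A.presheaf.stalk a) = 0} \ {v}, closure {a} by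
      rw [← Set.Finite.closure_biUnion hf, Set.biUnion_of_singleton]] at hvC
    obtain ⟨a, ha, hav⟩ := Set.mem_iUnion₂.1 hvC
    exact ha.2 (ringKrullDim_eq_zero_iff.1 hv a (specializes_iff_mem_closure.2 hav))
  · by_contra hne
    exact ha (subset_closure ⟨h0, hne⟩)

/-- A separated morphism locally of finite type whose maximal points are finitely many, with
finite fibre over a maximal point, is finite over a neighbourhood of it. -/
theorem exists_isFinite_of_codimZero {P A : Scheme.{u}} (f : P ⟶ A) [LocallyOfFiniteType f]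
    [IsSeparated f] [QuasiSeparatedSpace ↥A] {v : A} (hv : ringKrullDim ↥(A.presheaf.stalk v) = 0)
    (hP : {p : P | ringKrullDim ↥(P.presheaf.stalk p) = 0}.Finite) (hfin : (f ⁻¹' {v}).Finite) :
    ∃ D : A.Opens, IsAffineOpen D ∧ v ∈ D ∧ IsFinite (f ∣_ D) := by
  obtain ⟨K, hK, hsub⟩ := exists_compact_opens_of_finite (hP.union hfin)
  have : CompactSpace K := isCompact_iff_compactSpace.1 hK
  have : QuasiCompact (K.ι ≫ f) := inferInstance
  have hη : closure {v} ∈ irreducibleComponents ↥A :=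
    (Groth.PropsBasic2.closure_mem_irreducibleComponents_iff v).2 (ringKrullDim_eq_zero_iff.1 hv)
  obtain ⟨D, hD, hvD, hKf⟩ := Groth.PropsBasic.GenericFinite.exists_affine_nhd_isFinite
    (K.ι ≫ f) hη ((hfin.preimage K.ι.isOpenEmbedding.injective.injOn).subset fun z hz => hz)
  refine ⟨D, hD, hvD, ?_⟩
  rw [morphismRestrict_comp] at hKf
  have := hKf
  have : IsSeparated (f ∣_ D) := IsZariskiLocalAtTarget.restrict (P := @IsSeparated) ‹_› D
  have hj : IsFinite (K.ι ∣_ (f ⁻¹ᵁ D)) := MorphismProperty.of_postcomp (W := @IsFinite) (W' := @IsSeparated) (K.ι ∣_ (f ⁻¹ᵁ D)) (f ∣_ D) ‹_› hKf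
  have : IsOpenImmersion (K.ι ∣_ (f ⁻¹ᵁ D)) :=
    IsZariskiLocalAtTarget.restrict (P := @IsOpenImmersion) inferInstance _
  have : Surjective (K.ι ∣_ (f ⁻¹ᵁ D)) := ⟨fun z => by
    refine (eq_univ_of_codimZero_mem (K.ι ∣_ (f ⁻¹ᵁ D)).isClosedMap.isClosed_range fun η h0 => ?_).ge
      trivial
    have hη' : ringKrullDim ↥(P.presheaf.stalk η.1) = 0 :=
      (ringKrullDim_eq_of_ringEquiv
        (asIso (Scheme.Hom.stalkMap (f ⁻¹ᵁ D).ι η)).commRingCatIsoToRingEquiv).trans h0
    refine ⟨⟨⟨η.1, hsub (Or.inl hη')⟩, η.2⟩, Subtype.ext ?_⟩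
    rw [morphismRestrict_base]; rfl⟩
  have : IsIso (K.ι ∣_ (f ⁻¹ᵁ D)) := by
    have : Epi (K.ι ∣_ (f ⁻¹ᵁ D)).base :=
      (TopCat.epi_iff_surjective _).2 (K.ι ∣_ (f ⁻¹ᵁ D)).surjective
    exact IsOpenImmersion.isIso _
  exact (MorphismProperty.cancel_left_of_respectsIso @IsFinite (K.ι ∣_ (f ⁻¹ᵁ D)) (f ∣_ D)).1 hKf

/-- A quasi-compact morphism locally of finite type without specializations in a fibre has this
fibre finite. -/
theorem finite_fibre_of_no_specializes {W A : Scheme.{u}} (f : W ⟶ A) [LocallyOfFiniteType f]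
    [QuasiCompact f] {v : A} (h : ∀ w w' : W, f w = v → f w' = v → w ⤳ w' → w = w') :
    (f ⁻¹' {v}).Finite := by
  have : LocallyOfFiniteType (f.fiberToSpecResidueField v) :=
    inferInstanceAs (LocallyOfFiniteType (pullback.snd f (A.fromSpecResidueField v)))
  have : QuasiCompact (f.fiberToSpecResidueField v) :=
    inferInstanceAs (QuasiCompact (pullback.snd f (A.fromSpecResidueField v)))
  have : IsLocallyNoetherian (f.fiber v) :=
    LocallyOfFiniteType.isLocallyNoetherian (f.fiberToSpecResidueField v)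
  have : CompactSpace ↥(f.fiber v) :=
    QuasiCompact.compactSpace_of_compactSpace (f.fiberToSpecResidueField v)
  have : AlgebraicGeometry.IsNoetherian (f.fiber v) := ⟨⟩
  have hmap : ∀ z, f (f.fiberι v z) = v := fun z => by
    have h1 : f.fiberι v z ∈ Set.range (f.fiberι v) := Set.mem_range_self z
    rwa [f.range_fiberι] at h1
  have hinj : Function.Injective (f.fiberι v) := (f.fiberι v).isEmbedding.injective
  have hfin : Finite ↥(f.fiber v) := by
    have hc := NoetherianSpace.finite_irreducibleComponents (α := ↥(f.fiber v))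
    refine Set.finite_univ_iff.1 ((Set.Finite.of_finite_image (hc.subset ?_)
      (f := fun z : ↥(f.fiber v) => closure {z}) ?_))
    · rintro _ ⟨z, -, rfl⟩
      exact (Groth.PropsBasic2.closure_mem_irreducibleComponents_iff z).2 fun y hy =>
        hinj (h _ _ (hmap y) (hmap z) (hy.map (f.fiberι v).continuous))
    · exact fun a _ b _ hab => (inseparable_iff_closure_eq.mpr hab).eq
  rw [← f.range_fiberι]
  exact Set.finite_range _

variable {S : Scheme.{u}} {X Y : Sp S}

/-- Over a decent space, finitely many points of a fibre product lie over a point of a factor. -/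
theorem finite_setOf_map_eq (hd : IsDecent Y) {A : Over S} [CompactSpace ↥A.left] {f : X ⟶ Y}
    {b : (yon S).obj A ⟶ Y} (hb : RepWith @Etale b) {P : Sp S} {r : P ⟶ X}
    {q : P ⟶ (yon S).obj A} (sqP : IsPullback r q f b) (x : AlgSp.Points X) :
    {z | AlgSp.Points.map r z = x}.Finite := by
  obtain ⟨p, rfl⟩ := AlgSp.Points.mk_surjective x
  obtain ⟨q₀, hq₀, -, hqc⟩ := hd (AlgSp.Points.map f (AlgSp.Points.mk p))
  rw [AlgSp.Points.map_mk, AlgSp.Points.mk_eq_mk_iff, Groth.AlgSp2.rel_iff] at hq₀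
  obtain ⟨Ω, hΩ, w, a, a', e⟩ := hq₀
  rw [FieldPt.toHom_map] at e
  let m : (yon S).obj (Over.mk w) ⟶ X := (yon S).map (a' : Over.mk w ⟶ p.pt) ≫ p.toHom
  replace e : (yon S).map a ≫ q₀.toHom = m ≫ f := e.trans (Category.assoc _ _ _).symm
  obtain ⟨A₀, k₁, k₂, sqA⟩ := exists_pullback_yon hb.rep q₀.toHom
  have : QuasiCompact k₁.left := hqc.property _ _ _ sqA.flip
  have : CompactSpace ↥A₀.left := QuasiCompact.compactSpace_of_compactSpace k₁.left
  obtain ⟨T, t₁, t₂, sqT⟩ := exists_pullback_yon hb.rep ((yon S).map a ≫ q₀.toHom)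
  obtain ⟨l, hl⟩ := (yon S).map_surjective (sqA.lift ((yon S).map t₁) ((yon S).map t₂ ≫ (yon S).map a)
    (by rw [sqT.w, Category.assoc]))
  have hlp : IsPullback ((yon S).map l) ((yon S).map t₂) ((yon S).map k₂) ((yon S).map a) :=
    IsPullback.of_right (by rw [hl, sqA.lift_fst]; exact sqT) (by rw [hl, sqA.lift_snd]) sqA
  have : IsAffine q₀.pt.left := inferInstanceAs (IsAffine (Spec (CommRingCat.of q₀.K)))
  have : IsAffine (Over.mk w).left := inferInstanceAs (IsAffine (Spec (CommRingCat.of Ω)))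
  have : QuasiCompact l.left := MorphismProperty.of_isPullback (P := @QuasiCompact)
    (isPullback_left (isPullback_of_yon hlp)).flip (inferInstance : QuasiCompact a.left)
  have : CompactSpace ↥T.left := QuasiCompact.compactSpace_of_compactSpace l.left
  have : Etale t₂.left := hb.property _ _ _ sqT
  have : DiscreteTopology ↥T.left := discreteTopology_of_etale (k := Ω) t₂.left
  have : Finite ↥T.left := finite_of_compact_of_discrete
  let e' := sqP.lift ((yon S).map t₂ ≫ m) ((yon S).map t₁)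
    (by rw [Category.assoc, sqT.w, ← e])
  have hp' : IsPullback e' ((yon S).map t₂) r m :=
    IsPullback.of_right (by rw [sqP.lift_snd, ← e]; exact sqT) (sqP.lift_fst _ _ _) sqP.flip
  refine (Set.finite_range (AlgSp.Points.ofPt e')).subset fun z hz => ?_
  have hm : AlgSp.Points.map m (AlgSp.Points.ofScheme (Over.mk w) (IsLocalRing.closedPoint Ω)) =
      AlgSp.Points.mk p := by
    rw [← ofPt_eq_map, ofPt_comp_yon]
    exact AlgSp.Points.ofPt_toHom p _
  obtain ⟨t, ht, -⟩ := exists_point_of_isPullback hp' z _ ((Eq.trans hz hm.symm))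
  obtain ⟨t', rfl⟩ := (AlgSp.Points.schemeHomeo T).surjective t
  exact ⟨t', (ofPt_eq_map e' t').trans ht⟩

theorem repWith_diag_yon_of_isSeparated {A : Over S} [IsSeparated A.hom] :
    RepWith @IsClosedImmersion (Limits.diag ((yon S).obj A)) := by
  have e₀ : (Limits.diag A).left ≫ (Over.prodLeftIsoPullback A A).hom = pullback.diagonal A.hom := by
    apply pullback.hom_ext
    · rw [Category.assoc, Over.prodLeftIsoPullback_hom_fst, ← Over.comp_left, prod.lift_fst,
        pullback.diagonal_fst]; rfl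
    · rw [Category.assoc, Over.prodLeftIsoPullback_hom_snd, ← Over.comp_left, prod.lift_snd,
        pullback.diagonal_snd]; rfl
  have : IsClosedImmersion ((Limits.diag A).left ≫ (Over.prodLeftIsoPullback A A).hom) := by
    rw [e₀]; infer_instance
  have h₀ : IsClosedImmersion (Limits.diag A).left :=
    (MorphismProperty.cancel_right_of_respectsIso @IsClosedImmersion _ _).1 this
  have h : RepWith @IsClosedImmersion ((yon S).map (Limits.diag A)) :=
    (repWith_yon_map_iff _ _).2 h₀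
  have e : (yon S).map (Limits.diag A) ≫ prodComparison (yon S) A A =
      Limits.diag ((yon S).obj A) := by
    apply prod.hom_ext <;> simp [← Functor.map_comp, prod.lift_fst, prod.lift_snd]
  rw [← e]
  exact repWith_comp h (repWith_isIso _)

/-- A space separated over a separated space is separated. -/
theorem repWith_diag_of_separatedMor {f : X ⟶ Y} (hf : IsSeparatedMor f)
    (hY : RepWith @IsClosedImmersion (Limits.diag Y)) :
    RepWith @IsClosedImmersion (Limits.diag X) := by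
  have h : RepWith @IsClosedImmersion (prod.lift (pullback.fst f f) (pullback.snd f f)) :=
    repWith_of_isPullback (f := Limits.diag Y) (b := prod.map f f)
      (isPullback_diag_of_isPullback (IsPullback.of_hasPullback f f)) hY
  have e : pullback.diagonal f ≫ prod.lift (pullback.fst f f) (pullback.snd f f) =
      Limits.diag X := by
    apply prod.hom_ext <;> simp [prod.lift_fst, prod.lift_snd]
  have := repWith_comp hf h
  rwa [e] at this

/-- A scheme mapping monomorphically to a separated space is separated over the base. -/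
theorem isSeparated_hom_of_mono (hs : RepWith @IsClosedImmersion (Limits.diag X)) {G : Over S}
    (g : (yon S).obj G ⟶ X) [Mono g] : IsSeparated G.hom := by
  have sq : IsPullback ((yon S).map (𝟙 G)) ((yon S).map (𝟙 G)) g g := by
    rw [CategoryTheory.Functor.map_id]
    exact IsKernelPair.id_of_mono g
  have h : IsClosedImmersion (prod.lift (𝟙 G) (𝟙 G)).left := prop_lift_of_repWith_diag hs sq
  have e : (prod.lift (𝟙 G) (𝟙 G)).left ≫ (Over.prodLeftIsoPullback G G).hom =
      pullback.diagonal G.hom := by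
    apply pullback.hom_ext
    · rw [Category.assoc, Over.prodLeftIsoPullback_hom_fst, ← Over.comp_left, prod.lift_fst,
        pullback.diagonal_fst]; rfl
    · rw [Category.assoc, Over.prodLeftIsoPullback_hom_snd, ← Over.comp_left, prod.lift_snd,
        pullback.diagonal_snd]; rfl
  exact ⟨by rw [← e]; infer_instance⟩

theorem ofScheme_injective (A : Over S) : Function.Injective (AlgSp.Points.ofScheme A) :=
  (AlgSp.Points.schemeHomeo A).injective

/-- The codimension zero points of a chart, when these lie exactly over one point. -/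
theorem codimZero_chart_iff (hP : IsAlgSpace X) {A : Over S} {q : X ⟶ (yon S).obj A} {v : ↥A.left}
    (h0 : ∀ z, HasAt (fun U u => ringKrullDim ↥(U.presheaf.stalk u) = 0) X z ↔
      AlgSp.Points.map q z = AlgSp.Points.ofScheme A v)
    {W : Over S} {c : (yon S).obj W ⟶ X} (hc : RepWith @Etale c) {ω : W ⟶ A}
    (hω : (yon S).map ω = c ≫ q) (w : ↥W.left) :
    ringKrullDim ↥(W.left.presheaf.stalk w) = 0 ↔ ω.left w = v := by
  have e : AlgSp.Points.map q (AlgSp.Points.ofPt c w) = AlgSp.Points.ofScheme A (ω.left w) := by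
    rw [ofPt_eq_map, ← AlgSp.Points.map_comp, ← hω]
    exact AlgSp.Points.map_yon_map_apply ω w
  constructor
  · intro h
    exact ofScheme_injective A (e.symm.trans ((h0 _).1 ⟨W, c, w, hc, rfl, h⟩))
  · intro h
    exact (hasAt_iff_forall etaleInvariant_ringKrullDim hP _ _).1
      ((h0 _).2 (e.trans (congrArg _ h))) W c w hc rfl

/-- A separated space locally of finite type over an affine scheme, whose points of codimension zero
are finitely many and lie over the maximal point `v`, is finite over a neighbourhood of `v`. -/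
theorem exists_finite_of_separated (hP : IsAlgSpace X) {A : Over S} [IsAffine A.left] {O : S.Opens}
    (hO : IsAffineOpen O) {w₀ : A.left ⟶ (O : Scheme)} (hw : w₀ ≫ O.ι = A.hom)
    (q : X ⟶ (yon S).obj A) (hsep : IsSeparatedMor q)
    (hlft : ∀ {W : Over S} (c : (yon S).obj W ⟶ X) (ω : W ⟶ A), RepWith @Etale c →
      (yon S).map ω = c ≫ q → LocallyOfFiniteType ω.left)
    {v : ↥A.left} (hv : ringKrullDim ↥(A.left.presheaf.stalk v) = 0)
    (h0 : ∀ z, HasAt (fun U u => ringKrullDim ↥(U.presheaf.stalk u) = 0) X z ↔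
      AlgSp.Points.map q z = AlgSp.Points.ofScheme A v)
    (hfin : {z | AlgSp.Points.map q z = AlgSp.Points.ofScheme A v}.Finite) :
    ∃ (D : A.left.Opens) (GD : Over S) (g : (yon S).obj GD ⟶ X)
      (h : GD ⟶ Over.mk (D.ι ≫ A.hom)),
      v ∈ D ∧ IsPullback g ((yon S).map h) q ((yon S).map (Over.homMk D.ι rfl)) ∧
        IsFinite h.left := by
  have : IsAffine (O : Scheme) := hO
  have : IsSeparated A.hom := by rw [← hw]; infer_instance
  have hsX : RepWith @IsClosedImmersion (Limits.diag X) :=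
    repWith_diag_of_separatedMor hsep repWith_diag_yon_of_isSeparated
  have hqs : IsQuasiSeparatedSp X :=
    repWith_mono (fun _ _ g (_ : IsClosedImmersion g) => (inferInstance : QuasiCompact g)) hsX
  obtain ⟨X₀, j, hj, ⟨G, ⟨hG⟩⟩, hrange⟩ := exists_schematic_openSub ⟨X, hP⟩
  let g₀ : (yon S).obj G ⟶ X := (isoOfRepresentableBy hG).hom ≫ j.hom
  have hg₀ : RepWith @IsOpenImmersion g₀ := repWith_comp (repWith_isIso _) hj
  have hg₀e : RepWith @Etale g₀ :=
    repWith_mono (fun _ _ g (_ : IsOpenImmersion g) => (inferInstance : Etale g)) hg₀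
  have : Mono g₀ := mono_of_repWith (fun _ _ g (_ : IsOpenImmersion g) => inferInstance) hg₀
  have hrange₀ : ∀ z, IsSchematicPt X z → z ∈ Set.range (AlgSp.Points.map g₀) := fun z hz => by
    obtain ⟨y, rfl⟩ := hrange.ge hz
    exact ⟨AlgSp.Points.map (isoOfRepresentableBy hG).inv y, by
      rw [← AlgSp.Points.map_comp]; simp [g₀]⟩
  obtain ⟨ψ, hψ⟩ := (yon S).map_surjective (g₀ ≫ q)
  have : IsSeparated ψ.left := by
    have := isSeparated_hom_of_mono hsX g₀
    have : IsSeparated (ψ.left ≫ A.hom) := by rw [Over.w ψ]; infer_instance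
    exact IsSeparated.of_comp ψ.left A.hom
  have : LocallyOfFiniteType ψ.left := hlft g₀ ψ hg₀e hψ
  have hfinG : (ψ.left ⁻¹' {v}).Finite := by
    have hinj : Function.Injective (AlgSp.Points.ofPt g₀) := fun a b h =>
      ofScheme_injective G (Groth.AlgSp2.map_injective_of_mono g₀
        ((ofPt_eq_map g₀ a).symm.trans (h.trans (ofPt_eq_map g₀ b))))
    refine (hfin.preimage hinj.injOn).subset fun η (hη : ψ.left η = v) => ?_
    show AlgSp.Points.map q (AlgSp.Points.ofPt g₀ η) = _
    rw [ofPt_eq_map, ← AlgSp.Points.map_comp, ← hψ]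
    exact (AlgSp.Points.map_yon_map_apply ψ η).trans (congrArg _ hη)
  obtain ⟨D, hD, hvD, hfinD⟩ := exists_isFinite_of_codimZero ψ.left hv
    (hfinG.subset fun η hη => (codimZero_chart_iff hP h0 hg₀e hψ η).1 hη) hfinG
  refine ⟨D, ?_⟩
  obtain ⟨GD, g, h, -, hsq, hh⟩ := exists_isPullback_of_range hP q hg₀ D fun z d hz => by
    obtain ⟨U, c, hc, hcs⟩ := hP.atlas
    obtain ⟨u, rfl⟩ := surjective_ofPt_of_repWith hcs z
    obtain ⟨ω, hω⟩ := (yon S).map_surjective (c ≫ q)
    have hu : ω.left u ∈ D := by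
      have : AlgSp.Points.ofScheme A (ω.left u) = AlgSp.Points.ofScheme A (D.ι d) := by
        rw [← hz, ofPt_eq_map, ← AlgSp.Points.map_comp, ← hω]
        exact (AlgSp.Points.map_yon_map_apply ω u).symm
      rw [ofScheme_injective A this]; exact d.2
    obtain ⟨W₀, hW₀, huW, hWD⟩ :=
      exists_isAffineOpen_mem_and_subset (X := U.left) (x := u) (U := ω.left ⁻¹ᵁ D) hu
    let W : Over S := Over.mk (W₀.ι ≫ U.hom)
    let jW : W ⟶ U := Over.homMk W₀.ι rfl
    have : IsAffine W.left := hW₀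
    let cW : (yon S).obj W ⟶ X := (yon S).map jW ≫ c
    have hcW : RepWith @Etale cW :=
      repWith_comp ((repWith_yon_map_iff _ jW).2 (inferInstanceAs (Etale W₀.ι))) hc
    obtain ⟨M, m₁, m₂, sqM⟩ := exists_pullback_yon hg₀.rep cW
    have : IsOpenImmersion m₂.left := hg₀.property _ _ _ sqM
    have eM : m₁.left ≫ ψ.left = m₂.left ≫ W₀.ι ≫ ω.left := by
      have : m₁ ≫ ψ = m₂ ≫ jW ≫ ω := (yon S).map_injective (by
        rw [Functor.map_comp, Functor.map_comp, Functor.map_comp, hψ, hω, ← Category.assoc, sqM.w]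
        simp only [cW, Category.assoc])
      exact congrArg CommaMorphism.left this
    let ωD : W.left ⟶ (D : Scheme) := IsOpenImmersion.lift D.ι (W₀.ι ≫ ω.left) (by
      rintro _ ⟨x, rfl⟩
      rw [Scheme.Opens.range_ι]; exact hWD x.2)
    have hωD : ωD ≫ D.ι = W₀.ι ≫ ω.left := IsOpenImmersion.lift_fac _ _ _
    let μ₁ : M.left ⟶ (ψ.left ⁻¹ᵁ D : G.left.Opens) := IsOpenImmersion.lift
      (ψ.left ⁻¹ᵁ D).ι m₁.left (by
        rintro _ ⟨x, rfl⟩
        rw [Scheme.Opens.range_ι]
        show ψ.left (m₁.left x) ∈ D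
        rw [← Scheme.Hom.comp_apply, eM]
        exact hWD (m₂.left x).2)
    have hμ₁ : μ₁ ≫ (ψ.left ⁻¹ᵁ D).ι = m₁.left := IsOpenImmersion.lift_fac _ _ _
    let μ : M.left ⟶ pullback (ψ.left ∣_ D) ωD := pullback.lift μ₁ m₂.left (by
      rw [← cancel_mono D.ι, Category.assoc, morphismRestrict_ι, reassoc_of% hμ₁, Category.assoc,
        hωD, eM])
    let ν : pullback (ψ.left ∣_ D) ωD ⟶ pullback G.hom W.hom :=
      pullback.lift (pullback.fst _ _ ≫ (ψ.left ⁻¹ᵁ D).ι) (pullback.snd _ _) (by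
        have h1 := pullback.condition (f := ψ.left ∣_ D) (g := ωD) =≫ D.ι ≫ A.hom
        simp only [Category.assoc, morphismRestrict_ι_assoc, reassoc_of% hωD, Over.w ψ,
          Over.w ω] at h1
        rw [Category.assoc]
        exact h1)
    have : IsClosedImmersion (prod.lift m₁ m₂).left := prop_lift_of_repWith_diag hsX sqM
    have eμ : μ ≫ ν = (prod.lift m₁ m₂).left ≫ (Over.prodLeftIsoPullback G W).hom := by
      apply pullback.hom_ext
      · rw [Category.assoc, pullback.lift_fst, pullback.lift_fst_assoc, hμ₁, Category.assoc,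
          Over.prodLeftIsoPullback_hom_fst, ← Over.comp_left, prod.lift_fst]
      · rw [Category.assoc, pullback.lift_snd, pullback.lift_snd, Category.assoc,
          Over.prodLeftIsoPullback_hom_snd, ← Over.comp_left, prod.lift_snd]
    have : IsAffine (pullback (ψ.left ∣_ D) ωD) := by
      have := hfinD
      exact isAffine_of_isAffineHom (pullback.snd (ψ.left ∣_ D) ωD)
    have : IsClosedImmersion (μ ≫ ν) := by rw [eμ]; infer_instance
    have : IsClosedImmersion μ := IsClosedImmersion.of_comp μ ν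
    have hclosed : IsClosed (Set.range m₂.left) := by
      have := hfinD
      rw [show m₂.left = μ ≫ pullback.snd _ _ from (pullback.lift_snd _ _ _).symm]
      exact (μ ≫ pullback.snd (ψ.left ∣_ D) ωD).isClosedMap.isClosed_range
    have hall := eq_univ_of_codimZero_mem hclosed fun η hη => by
      obtain ⟨y, hy⟩ := hrange₀ (AlgSp.Points.ofPt cW η)
        (isSchematicPt_of_qs hP hqs ⟨W, cW, η, hcW, rfl, hη⟩)
      obtain ⟨y', rfl⟩ := (AlgSp.Points.schemeHomeo G).surjective y
      obtain ⟨x, -, hx⟩ := (ofPt_eq_ofPt_iff sqM y' η).1 ((ofPt_eq_map g₀ y').trans hy)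
      exact ⟨x, hx⟩
    obtain ⟨x, hx⟩ := hall.ge (Set.mem_univ (⟨u, huW⟩ : ↥W.left))
    refine ⟨AlgSp.Points.ofScheme G (m₁.left x), ?_⟩
    rw [← ofPt_eq_map, (ofPt_eq_ofPt_iff sqM (m₁.left x) (⟨u, huW⟩ : ↥W.left)).2 ⟨x, rfl, hx⟩,
      ofPt_comp_yon]
    rfl
  exact ⟨GD, g, h, hvD, hsq, hh ψ hψ hfinD⟩

/-- The point of the kernel pair lying over two points of a chart is unique when the chart is
injective on it. -/
theorem mono_lift_kernelPair {W P : Over S} {a : (yon S).obj W ⟶ X}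
    {t s : P ⟶ W} (sq : IsPullback ((yon S).map t) ((yon S).map s) a a) {B : Scheme.{u}}
    {ω : W.left ⟶ B} (e : t.left ≫ ω = s.left ≫ ω) :
    Mono (pullback.lift t.left s.left e) :=
  ⟨fun {Z} g g' h => by
    have h₁ : g ≫ t.left = g' ≫ t.left := by
      rw [← pullback.lift_fst t.left s.left e, ← Category.assoc, ← Category.assoc, h]
    have h₂ : g ≫ s.left = g' ≫ s.left := by
      rw [← pullback.lift_snd t.left s.left e, ← Category.assoc, ← Category.assoc, h]
    have hw : g' ≫ P.hom = g ≫ P.hom := by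
      rw [← Over.w t, ← Category.assoc, ← h₁, Category.assoc]
    exact congrArg CommaMorphism.left
      ((isEqvRel_of_isPullback sq).injective (Over.mk (g ≫ P.hom)) (Over.homMk g rfl)
        (Over.homMk g' hw) (by ext1; exact h₁) (by ext1; exact h₂))⟩

/-- A point of codimension zero is schematic if a chart around it is finite over the base. -/
theorem isSchematicPt_of_finite_over {W : Over S} [IsAffine W.left]
    {c : (yon S).obj W ⟶ X} (hc : RepWith @Etale c) {A : Over S} [QuasiSeparatedSpace ↥A.left]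
    {q : X ⟶ (yon S).obj A} {ω : W ⟶ A} (hω : (yon S).map ω = c ≫ q) [IsFinite ω.left]
    {v : ↥A.left} (hv : ringKrullDim ↥(A.left.presheaf.stalk v) = 0)
    (h0 : ∀ w, ringKrullDim ↥(W.left.presheaf.stalk w) = 0 ↔ ω.left w = v) {w : ↥W.left}
    (hw : ω.left w = v) : IsSchematicPt X (AlgSp.Points.ofPt c w) := by
  obtain ⟨R, t, s, sq⟩ := exists_pullback_yon hc.rep c
  have : Etale s.left := repWith_fst_of_isPullback sq hc
  have : IsSeparated s.left := isSeparated_kernelPair sq
  have e : t.left ≫ ω.left = s.left ≫ ω.left := congrArg CommaMorphism.left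
    ((yon S).map_injective (by rw [Functor.map_comp, Functor.map_comp, hω, reassoc_of% sq.w]) :
      t ≫ ω = s ≫ ω)
  have := mono_lift_kernelPair sq e
  let μ := pullback.lift t.left s.left e
  have hinj : Function.Injective μ := (inferInstance : UniversallyInjective μ) |> fun _ => μ.injective
  let φ : R.left ⟶ A.left := s.left ≫ ω.left
  have hfib : (φ ⁻¹' {v}).Finite := by
    let π : pullback ω.left ω.left ⟶ A.left := pullback.snd _ _ ≫ ω.left
    refine ((π.finite_preimage_singleton v).preimage hinj.injOn).subset fun r hr => ?_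
    show π (μ r) = v
    rw [← Scheme.Hom.comp_apply, pullback.lift_snd_assoc]
    exact hr
  have hR0 : {r | ringKrullDim ↥(R.left.presheaf.stalk r) = 0}.Finite := hfib.subset fun r hr => by
    exact (h0 _).1 ((etaleInvariant_ringKrullDim s.left r).symm.trans hr)
  obtain ⟨D, hD, hvD, hfinD⟩ := exists_isFinite_of_codimZero φ hv hR0 hfib
  rw [morphismRestrict_comp] at hfinD
  have : IsFinite (s.left ∣_ (ω.left ⁻¹ᵁ D)) :=
    MorphismProperty.of_postcomp (W := @IsFinite) (W' := @IsSeparated) (s.left ∣_ (ω.left ⁻¹ᵁ D))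
      (ω.left ∣_ D) (IsZariskiLocalAtTarget.restrict (P := @IsSeparated) inferInstance D) hfinD
  exact isSchematicPt_of_finite hc sq (ω.left ⁻¹ᵁ D) (show ω.left w ∈ D by rw [hw]; exact hvD)

/-- A space locally of finite type and quasi-compact over an affine scheme with only one maximal
point, whose points of codimension zero are finitely many and lie over it, is finite over a
neighbourhood of it. -/
theorem exists_finite_of_qc (hP : IsAlgSpace X) {A : Over S} [IsAffine A.left]
    (q : X ⟶ (yon S).obj A) (hq : IsQuasiCompactMor q)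
    (hlft : ∀ {W : Over S} (c : (yon S).obj W ⟶ X) (ω : W ⟶ A), RepWith @Etale c →
      (yon S).map ω = c ≫ q → LocallyOfFiniteType ω.left)
    {v : ↥A.left} (hv : ringKrullDim ↥(A.left.presheaf.stalk v) = 0)
    (hA : ∀ a : ↥A.left, ringKrullDim ↥(A.left.presheaf.stalk a) = 0 → a = v)
    (h0 : ∀ z, HasAt (fun U u => ringKrullDim ↥(U.presheaf.stalk u) = 0) X z ↔
      AlgSp.Points.map q z = AlgSp.Points.ofScheme A v)
    (hfin : {z | AlgSp.Points.map q z = AlgSp.Points.ofScheme A v}.Finite) :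
    ∃ (D : Over S) (jD : D ⟶ A) (GD : Over S) (g : (yon S).obj GD ⟶ X) (h : GD ⟶ D),
      IsOpenImmersion jD.left ∧ v ∈ Set.range jD.left ∧
        IsPullback g ((yon S).map h) q ((yon S).map jD) ∧ IsFinite h.left := by
  have hc' : IsQuasiCompactSp X := hq (IsAlgSpace.yon_obj A)
    ((isQuasiCompactSp_yon_iff A).2 inferInstance) (𝟙 _) (𝟙 _) q
    (IsPullback.id_horiz q)
  obtain ⟨W, c, hW, hc, hcs⟩ := exists_affine_chart hP hc'
  obtain ⟨ω, hω⟩ := (yon S).map_surjective (c ≫ q)
  have : LocallyOfFiniteType ω.left := hlft c ω hc hω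
  have hW0 := codimZero_chart_iff hP h0 hc hω
  have hfW : (ω.left ⁻¹' {v}).Finite := finite_fibre_of_no_specializes ω.left fun a b _ hb hab =>
    ringKrullDim_eq_zero_iff.1 ((hW0 b).2 hb) a hab
  obtain ⟨D₁, hD₁, hvD₁, hfin₁⟩ := exists_isFinite_of_codimZero ω.left hv
    (hfW.subset fun w hw => (hW0 w).1 hw) hfW
  let W₁ : Over S := Over.mk ((ω.left ⁻¹ᵁ D₁).ι ≫ W.hom)
  let j₁ : W₁ ⟶ W := Over.homMk (ω.left ⁻¹ᵁ D₁).ι rfl
  let A₁ : Over S := Over.mk (D₁.ι ≫ A.hom)
  let i₁ : A₁ ⟶ A := Over.homMk D₁.ι rfl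
  let ω₁ : W₁ ⟶ A₁ := Over.homMk (ω.left ∣_ D₁) (by
    change ω.left ∣_ D₁ ≫ D₁.ι ≫ A.hom = (ω.left ⁻¹ᵁ D₁).ι ≫ W.hom
    rw [morphismRestrict_ι_assoc, Over.w ω])
  have : IsAffine A₁.left := hD₁
  have : IsFinite ω₁.left := hfin₁
  have : IsAffine W₁.left := isAffine_of_isAffineHom ω₁.left
  have : Etale j₁.left := inferInstanceAs (Etale (ω.left ⁻¹ᵁ D₁).ι)
  have hc₁ : RepWith @Etale ((yon S).map j₁ ≫ c) :=
    repWith_comp ((repWith_yon_map_iff _ j₁).2 ‹_›) hc
  have hsch : ∀ z, AlgSp.Points.map q z = AlgSp.Points.ofScheme A v → IsSchematicPt X z := by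
    intro z hz
    obtain ⟨P, p₁, p₂, sqP⟩ : ∃ (P : Sp S) (p₁ : P ⟶ X) (p₂ : P ⟶ (yon S).obj A₁),
        IsPullback p₁ p₂ q ((yon S).map i₁) := ⟨_, _, _, IsPullback.of_hasPullback _ _⟩
    have hPa : IsAlgSpace P :=
      isAlgSpace_of_isPullback sqP (IsAlgSpace.yon_obj A).diag hP (IsAlgSpace.yon_obj A₁)
    have hp₁ : RepWith @IsOpenImmersion p₁ := repWith_of_isPullback sqP.flip
      ((repWith_yon_map_iff _ i₁).2 (inferInstanceAs (IsOpenImmersion D₁.ι)))
    obtain ⟨w, rfl⟩ := surjective_ofPt_of_repWith hcs z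
    have hwv : ω.left w = v := by
      refine ofScheme_injective A (Eq.trans ?_ hz)
      rw [ofPt_eq_map, ← AlgSp.Points.map_comp, ← hω]
      exact (AlgSp.Points.map_yon_map_apply ω w).symm
    let c' : (yon S).obj W₁ ⟶ P := sqP.lift ((yon S).map j₁ ≫ c) ((yon S).map ω₁) (by
      rw [Category.assoc, ← hω, ← Functor.map_comp, ← Functor.map_comp]
      congr 1
      ext1
      exact (morphismRestrict_ι ω.left D₁).symm)
    have hc' : c' ≫ p₁ = (yon S).map j₁ ≫ c := sqP.lift_fst _ _ _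
    have : Mono p₁ :=
      mono_of_repWith (fun _ _ g (_ : IsOpenImmersion g) => inferInstance) hp₁
    have hc'e : RepWith @Etale c' := by
      refine repWith_of_isPullback (a := 𝟙 _) (b := p₁) ?_ hc₁
      exact isPullback_of_mono_comp hc'
    have hopen : ∀ (B : Scheme.{u}) (O : B.Opens) (b : ↥(O : Scheme)),
        ringKrullDim ↥((O : Scheme).presheaf.stalk b) = ringKrullDim ↥(B.presheaf.stalk b.1) :=
      fun B O b => etaleInvariant_ringKrullDim O.ι b
    obtain ⟨G', g', hg', y, hy⟩ := isSchematicPt_of_finite_over hc'e (q := p₂) (ω := ω₁)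
      (sqP.lift_snd _ _ _).symm (v := (⟨v, hvD₁⟩ : ↥A₁.left)) ((hopen _ D₁ ⟨v, hvD₁⟩).trans hv)
      (fun w' => by
        refine (iff_of_eq (congrArg (· = 0) (hopen _ _ w'))).trans ((hW0 w'.1).trans ?_)
        constructor
        · intro h
          exact Subtype.ext ((morphismRestrict_base_coe ω.left D₁ w').trans h)
        · intro h
          exact (morphismRestrict_base_coe ω.left D₁ w').symm.trans (congrArg Subtype.val h))
      (w := (⟨w, show ω.left w ∈ D₁ by rw [hwv]; exact hvD₁⟩ : ↥W₁.left))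
      (Subtype.ext ((morphismRestrict_base_coe ω.left D₁ _).trans hwv))
    refine ⟨G', g' ≫ p₁, repWith_comp hg' hp₁, y, ?_⟩
    rw [← AlgSp.Points.map_ofPt, hy, AlgSp.Points.map_ofPt, hc', ofPt_comp_yon]
    rfl
  obtain ⟨D, G, g, h, hD, hvD, hg, sqG⟩ := exists_scheme_nhd hP hc' q
    (eq_of_specializes_of_ringKrullDim_eq_zero hv) hsch
  let DO : Over S := Over.mk (D.ι ≫ A.hom)
  let jD : DO ⟶ A := Over.homMk D.ι rfl
  have : IsAffine DO.left := hD
  have hge : RepWith @Etale g :=
    repWith_mono (fun _ _ g (_ : IsOpenImmersion g) => (inferInstance : Etale g)) hg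
  have hgq : (yon S).map (h ≫ jD) = g ≫ q := by rw [Functor.map_comp]; exact sqG.w.symm
  have : LocallyOfFiniteType (h.left ≫ jD.left) := hlft g (h ≫ jD) hge hgq
  have : LocallyOfFiniteType h.left := locallyOfFiniteType_of_comp h.left jD.left
  have : QuasiCompact h.left := by
    have := (isQuasiCompactSp_yon_iff G).1
      (hq (IsAlgSpace.yon_obj DO) ((isQuasiCompactSp_yon_iff DO).2 inferInstance) _ _ _ sqG)
    infer_instance
  let v' : ↥DO.left := ⟨v, hvD⟩
  have hv' : ringKrullDim ↥(DO.left.presheaf.stalk v') = 0 :=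
    (etaleInvariant_ringKrullDim D.ι v').trans hv
  have hG0 : ∀ x : ↥G.left, ringKrullDim ↥(G.left.presheaf.stalk x) = 0 ↔ h.left x = v' :=
    fun x => (codimZero_chart_iff hP h0 hge hgq x).trans
      ⟨fun e => Subtype.ext e, fun e => congrArg Subtype.val e⟩
  have hD0 : ∀ a : ↥DO.left, ringKrullDim ↥(DO.left.presheaf.stalk a) = 0 ↔ a = v' := fun a =>
    ⟨fun ha => Subtype.ext (hA a.1 ((etaleInvariant_ringKrullDim D.ι a).symm.trans ha)),
      fun ha => ha ▸ hv'⟩
  have hmax : ∀ {B : Scheme.{u}} (b : B),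
      closure {b} ∈ irreducibleComponents ↥B ↔ ringKrullDim ↥(B.presheaf.stalk b) = 0 := fun b =>
    (Groth.PropsBasic2.closure_mem_irreducibleComponents_iff b).trans ringKrullDim_eq_zero_iff.symm
  have hcomp : ∀ {B : Scheme.{u}}, {b : B | ringKrullDim ↥(B.presheaf.stalk b) = 0}.Finite →
      (irreducibleComponents ↥B).Finite := fun hB =>
    (hB.image fun b => closure {b}).subset fun T hT => by
      obtain ⟨b, hb⟩ := QuasiSober.sober hT.1 (isClosed_of_mem_irreducibleComponents T hT)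
      exact ⟨b, (hmax b).1 (by rw [hb]; exact hT), hb⟩
  have hGfin : (h.left ⁻¹' {v'}).Finite := by
    have : Mono g := mono_of_repWith (fun _ _ g (_ : IsOpenImmersion g) => inferInstance) hg
    have hinj : Function.Injective (AlgSp.Points.ofPt g) := fun a b h =>
      ofScheme_injective G (Groth.AlgSp2.map_injective_of_mono g
        ((ofPt_eq_map g a).symm.trans (h.trans (ofPt_eq_map g b))))
    refine (hfin.preimage hinj.injOn).subset fun x (hx : h.left x = v') => ?_
    show AlgSp.Points.map q (AlgSp.Points.ofPt g x) = _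
    rw [ofPt_eq_map, ← AlgSp.Points.map_comp, ← hgq]
    exact (AlgSp.Points.map_yon_map_apply (h ≫ jD) x).trans
      (congrArg _ (congrArg Subtype.val hx))
  obtain ⟨V, -, hvV, hVf⟩ := Groth.PropsBasic.GenericFinite.exists_affine_nhd_isFinite_of_gen
    h.left ((hmax v').2 hv') (hcomp (hGfin.subset fun x hx => (hG0 x).1 hx))
    (hcomp ((Set.finite_singleton v').subset fun a ha => (hD0 a).1 ha))
    fun x => (hmax x).trans ((hG0 x).trans ((hD0 _).symm.trans (hmax _).symm))
  let VO : Over S := Over.mk (V.ι ≫ DO.hom)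
  let jV : VO ⟶ DO := Over.homMk V.ι rfl
  let GV : Over S := Over.mk ((h.left ⁻¹ᵁ V).ι ≫ G.hom)
  let kV : GV ⟶ G := Over.homMk (h.left ⁻¹ᵁ V).ι rfl
  let hVO : GV ⟶ VO := Over.homMk (h.left ∣_ V) (by
    change h.left ∣_ V ≫ V.ι ≫ DO.hom = (h.left ⁻¹ᵁ V).ι ≫ G.hom
    rw [morphismRestrict_ι_assoc, Over.w h])
  have hres : IsPullback hVO.left kV.left jV.left h.left := isPullback_morphismRestrict h.left V
  have hres' : IsPullback hVO kV jV h :=
    IsPullback.of_map (Over.forget S) (by ext1; exact hres.w) hres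
  refine ⟨VO, jV ≫ jD, GV, (yon S).map kV ≫ g, hVO,
    inferInstanceAs (IsOpenImmersion (V.ι ≫ D.ι)), ⟨⟨v', hvV⟩, rfl⟩, ?_, hVf⟩
  rw [Functor.map_comp]
  exact (hres'.map (yon S)).flip.paste_horiz sqG

/-- Around a point of codimension zero of a decent target the morphism is finite. -/
theorem exists_finite_chart_codimZero {X Y : Space S} (f : X ⟶ Y)
    (hf : LocP @LocallyOfFiniteType f.hom) (hd : IsDecent Y.obj)
    (hX0 : {x | HasAt (fun U u => ringKrullDim ↥(U.presheaf.stalk u) = 0) X.obj x}.Finite)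
    (hY0 : {y | HasAt (fun U u => ringKrullDim ↥(U.presheaf.stalk u) = 0) Y.obj y}.Finite)
    (hpre : ∀ x, HasAt (fun U u => ringKrullDim ↥(U.presheaf.stalk u) = 0) X.obj x ↔
      HasAt (fun U u => ringKrullDim ↥(U.presheaf.stalk u) = 0) Y.obj (AlgSp.Points.map f.hom x))
    (hqs : IsQuasiCompactMor f.hom ∨ IsSeparatedMor f.hom) {y : AlgSp.Points Y.obj}
    (hy : HasAt (fun U u => ringKrullDim ↥(U.presheaf.stalk u) = 0) Y.obj y) :
    ∃ (D : Over S) (b : (yon S).obj D ⟶ Y.obj) (G : Over S) (g : (yon S).obj G ⟶ X.obj)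
      (h : G ⟶ D), RepWith @Etale b ∧ y ∈ Set.range (AlgSp.Points.ofPt b) ∧
        IsPullback g ((yon S).map h) f.hom b ∧ IsFinite h.left := by
  obtain ⟨U, p, hp, hps⟩ := Y.property.atlas
  obtain ⟨u, rfl⟩ := surjective_ofPt_of_repWith hps y
  obtain ⟨O, hO, huO, -⟩ :=
    exists_isAffineOpen_mem_and_subset (X := S) (x := U.hom u) (U := ⊤) trivial
  obtain ⟨A₀, hA₀, huA, hAO⟩ :=
    exists_isAffineOpen_mem_and_subset (X := U.left) (x := u) (U := U.hom ⁻¹ᵁ O) huO
  let A₀O : Over S := Over.mk (A₀.ι ≫ U.hom)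
  have : IsAffine A₀O.left := hA₀
  let b₀ : (yon S).obj A₀O ⟶ Y.obj := (yon S).map (Over.homMk A₀.ι rfl : A₀O ⟶ U) ≫ p
  have hb₀ : RepWith @Etale b₀ := repWith_comp ((repWith_yon_map_iff _
    (Over.homMk A₀.ι rfl : A₀O ⟶ U)).2 (inferInstanceAs (Etale A₀.ι))) hp
  have hb₀v : AlgSp.Points.ofPt b₀ (⟨u, huA⟩ : ↥A₀O.left) = AlgSp.Points.ofPt p u := by
    rw [ofPt_comp_yon]; rfl
  have hdim : ∀ a : ↥A₀O.left, ringKrullDim ↥(A₀O.left.presheaf.stalk a) = 0 ↔
      HasAt (fun U u => ringKrullDim ↥(U.presheaf.stalk u) = 0) Y.obj (AlgSp.Points.ofPt b₀ a) :=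
    fun a => ⟨fun h => ⟨A₀O, b₀, a, hb₀, rfl, h⟩, fun h =>
      (hasAt_iff_forall etaleInvariant_ringKrullDim Y.property _ _).1 h A₀O b₀ a hb₀ rfl⟩
  obtain ⟨O₁, hvO₁, hO₁⟩ := exists_opens_codimZero_eq (v := (⟨u, huA⟩ : ↥A₀O.left))
    ((hdim _).2 (hb₀v.symm ▸ hy))
    ((hY0.biUnion fun y' _ => finite_setOf_ofPt_eq hd hb₀ y').subset fun a ha =>
      Set.mem_biUnion ((hdim a).1 ha) rfl)
  obtain ⟨B, hB, hvB, hBO⟩ :=
    exists_isAffineOpen_mem_and_subset (X := A₀O.left) (x := ⟨u, huA⟩) (U := O₁) hvO₁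
  let A : Over S := Over.mk (B.ι ≫ A₀O.hom)
  let jB : A ⟶ A₀O := Over.homMk B.ι rfl
  have : IsAffine A.left := hB
  let b : (yon S).obj A ⟶ Y.obj := (yon S).map jB ≫ b₀
  have hb : RepWith @Etale b :=
    repWith_comp ((repWith_yon_map_iff _ jB).2 (inferInstanceAs (Etale B.ι))) hb₀
  let v : ↥A.left := ⟨⟨u, huA⟩, hvB⟩
  have hbv : AlgSp.Points.ofPt b v = AlgSp.Points.ofPt p u := by
    rw [ofPt_comp_yon]; exact hb₀v
  have hdimA : ∀ a : ↥A.left, ringKrullDim ↥(A.left.presheaf.stalk a) = 0 ↔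
      HasAt (fun U u => ringKrullDim ↥(U.presheaf.stalk u) = 0) Y.obj (AlgSp.Points.ofPt b a) :=
    fun a => ⟨fun h => ⟨A, b, a, hb, rfl, h⟩, fun h =>
      (hasAt_iff_forall etaleInvariant_ringKrullDim Y.property _ _).1 h A b a hb rfl⟩
  have hv : ringKrullDim ↥(A.left.presheaf.stalk v) = 0 := (hdimA v).2 (hbv.symm ▸ hy)
  have hA : ∀ a : ↥A.left, ringKrullDim ↥(A.left.presheaf.stalk a) = 0 → a = v := fun a ha =>
    Subtype.ext (hO₁ a.1 (hBO a.2) ((etaleInvariant_ringKrullDim B.ι a).symm.trans ha))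
  obtain ⟨P, r, q, sqP⟩ : ∃ (P : Sp S) (r : P ⟶ X.obj) (q : P ⟶ (yon S).obj A),
      IsPullback r q f.hom b := ⟨_, _, _, IsPullback.of_hasPullback _ _⟩
  have hP : IsAlgSpace P :=
    isAlgSpace_of_isPullback sqP Y.property.diag X.property (IsAlgSpace.yon_obj A)
  have hr : RepWith @Etale r := repWith_of_isPullback sqP.flip hb
  have hlft : ∀ {W : Over S} (c : (yon S).obj W ⟶ P) (ω : W ⟶ A), RepWith @Etale c →
      (yon S).map ω = c ≫ q → LocallyOfFiniteType ω.left := fun c ω hc hω =>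
    hf (c ≫ r) b ω (repWith_comp hc hr) hb
      (by rw [Category.assoc, sqP.w, ← Category.assoc, hω])
  have hrz : ∀ z, HasAt (fun U u => ringKrullDim ↥(U.presheaf.stalk u) = 0) P z ↔
      HasAt (fun U u => ringKrullDim ↥(U.presheaf.stalk u) = 0) X.obj (AlgSp.Points.map r z) :=
    fun z => hasAt_iff_of_isEtaleMor etaleInvariant_ringKrullDim hP X.property
      (fun U a ha => repWith_comp ha hr) z 0
  have h0 : ∀ z, HasAt (fun U u => ringKrullDim ↥(U.presheaf.stalk u) = 0) P z ↔
      AlgSp.Points.map q z = AlgSp.Points.ofScheme A v := fun z => by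
    obtain ⟨a, ha⟩ := (AlgSp.Points.schemeHomeo A).surjective (AlgSp.Points.map q z)
    have e : AlgSp.Points.map f.hom (AlgSp.Points.map r z) = AlgSp.Points.ofPt b a := by
      rw [← AlgSp.Points.map_comp, sqP.w, AlgSp.Points.map_comp, ← ha, ofPt_eq_map]
      rfl
    rw [hrz, hpre, e, ← hdimA]
    exact ⟨fun h => by rw [← ha, hA a h]; rfl,
      fun h => (ofScheme_injective A (ha.trans h)).symm ▸ hv⟩
  have hfin : {z | AlgSp.Points.map q z = AlgSp.Points.ofScheme A v}.Finite :=
    (hX0.biUnion fun x _ => finite_setOf_map_eq hd hb sqP x).subset fun z hz =>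
      Set.mem_biUnion ((hrz z).1 ((h0 z).2 hz)) rfl
  rcases hqs with hqc | hsep
  · obtain ⟨D, jD, GD, g, h, hjD, ⟨d, hd'⟩, sq, hfinh⟩ := exists_finite_of_qc hP q
      (isQuasiCompactMor_of_isPullback sqP hqc) hlft hv hA h0 hfin
    refine ⟨D, (yon S).map jD ≫ b, GD, g ≫ r, h,
      repWith_comp ((repWith_yon_map_iff _ jD).2 (inferInstance : Etale jD.left)) hb,
      ⟨d, ?_⟩, sq.paste_horiz sqP, hfinh⟩
    rw [ofPt_comp_yon, hd']; exact hbv
  · obtain ⟨D, GD, g, h, hvD, sq, hfinh⟩ := exists_finite_of_separated hP hO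
      (w₀ := B.ι ≫ Scheme.Hom.resLE U.hom O A₀ hAO)
      (by rw [Category.assoc, Scheme.Hom.resLE_comp_ι]; rfl) q
      (repWith_diagonal_baseChange sqP hsep) hlft hv h0 hfin
    refine ⟨_, _, GD, g ≫ r, h,
      repWith_comp ((repWith_yon_map_iff _ (Over.homMk D.ι rfl : Over.mk (D.ι ≫ A.hom) ⟶ A)).2
        (inferInstanceAs (Etale D.ι))) hb,
      ⟨⟨v, hvD⟩, ?_⟩, sq.paste_horiz sqP, hfinh⟩
    rw [ofPt_comp_yon]; exact hbv

/-- A morphism with finitely many points of codimension zero, preserved in both directions, is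
finite over a dense open. -/
theorem exists_dense_finite {X Y : Space S} (f : X ⟶ Y)
    (hf : LocP @LocallyOfFiniteType f.hom) (hd : IsDecent Y.obj)
    (hX0 : {x | HasAt (fun U u => ringKrullDim ↥(U.presheaf.stalk u) = 0) X.obj x}.Finite)
    (hY0 : {y | HasAt (fun U u => ringKrullDim ↥(U.presheaf.stalk u) = 0) Y.obj y}.Finite)
    (hpre : ∀ x, HasAt (fun U u => ringKrullDim ↥(U.presheaf.stalk u) = 0) X.obj x ↔
      HasAt (fun U u => ringKrullDim ↥(U.presheaf.stalk u) = 0) Y.obj (AlgSp.Points.map f.hom x))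
    (hqs : IsQuasiCompactMor f.hom ∨ IsSeparatedMor f.hom) :
    ∃ (V X' : Space S) (j : V ⟶ Y) (fst : X' ⟶ V) (snd : X' ⟶ X),
      RepWith @IsOpenImmersion j.hom ∧ Dense (Set.range (AlgSp.Points.map j.hom)) ∧
        IsPullback fst.hom snd.hom j.hom f.hom ∧ IsFiniteMor fst.hom := by
  let T : Set (AlgSp.Points Y.obj) :=
    {y | HasAt (fun U u => ringKrullDim ↥(U.presheaf.stalk u) = 0) Y.obj y}
  have : Finite T := hY0.to_subtype
  obtain ⟨n, ⟨eT⟩⟩ := Finite.exists_equiv_fin T
  let Idx : Type u := ULift.{u} (Fin n)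
  have key : ∀ i : Idx, ∃ (Y' X' : Space S) (j : Y' ⟶ Y) (fst : X' ⟶ Y') (snd : X' ⟶ X),
      RepWith @IsOpenImmersion j.hom ∧ (eT.symm i.down).1 ∈ Set.range (AlgSp.Points.map j.hom) ∧
      IsPullback fst.hom snd.hom j.hom f.hom ∧ IsFiniteMor fst.hom := fun y => by
    obtain ⟨D, b, G, g, h, hb, hyb, sq, hh⟩ :=
      exists_finite_chart_codimZero f hf hd hX0 hY0 hpre hqs (eT.symm y.down).2
    obtain ⟨Y', X', j, fst, snd, hj, hr, hsq, hfst⟩ := exists_openSub_isFiniteMor f hb sq hh
    exact ⟨Y', X', j, fst, snd, hj, hr hyb, hsq, hfst⟩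
  choose Y' X' j fst snd hj hyj hsq hfst using key
  let Wo : Set (AlgSp.Points Y.obj) := ⋃ y, Set.range (AlgSp.Points.map (j y).hom)
  have hWo : IsOpen Wo := isOpen_iUnion fun y =>
    (isOpenMap_map_of_repWith (fun _ _ φ (h : IsOpenImmersion φ) => φ.isOpenEmbedding.isOpenMap)
      (hj y)).isOpen_range
  let ι := openSubι Y.obj Wo
  have hι : RepWith @IsOpenImmersion ι := repWith_openSubι hWo
  have : Mono ι := mono_of_repWith (fun _ _ g (_ : IsOpenImmersion g) => inferInstance) hι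
  have hV : IsAlgSpace (openSub Y.obj Wo) := isAlgSpace_openSub Y.property hWo
  choose l hl using fun y => exists_lift_of_range_openImmersion (Y' y).property hι (j y).hom
    ((Set.subset_iUnion (fun y => Set.range (AlgSp.Points.map (j y).hom)) y).trans
      range_map_openSubι.ge)
  have hlo : ∀ y, RepWith @IsOpenImmersion (l y) := fun y =>
    repWith_of_isPullback (isPullback_of_mono_comp (hl y)) (hj y)
  obtain ⟨P, p₁, p₂, sqP⟩ : ∃ (P : Sp S) (p₁ : P ⟶ openSub Y.obj Wo) (p₂ : P ⟶ X.obj),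
      IsPullback p₁ p₂ ι f.hom := ⟨_, _, _, IsPullback.of_hasPullback _ _⟩
  have hP : IsAlgSpace P := isAlgSpace_of_isPullback sqP Y.property.diag hV X.property
  refine ⟨⟨_, hV⟩, ⟨P, hP⟩, ObjectProperty.homMk ι, ObjectProperty.homMk p₁,
    ObjectProperty.homMk p₂, hι, ?_, sqP, isFiniteMor_iff_repWith.2 ?_⟩
  · refine (dense_codimZero Y.property).mono fun y hy => ?_
    refine (range_map_openSubι (W := Wo)).ge (Set.mem_iUnion.2 ⟨⟨eT ⟨y, hy⟩⟩, ?_⟩)
    have h := hyj ⟨eT ⟨y, hy⟩⟩
    rwa [eT.symm_apply_apply] at h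
  · let e y : (X' y).obj ⟶ P := sqP.lift ((fst y).hom ≫ l y) (snd y).hom
      (by rw [Category.assoc, hl, (hsq y).w])
    refine repWith_of_zarCover (Yi := fun y => (Y' y).obj) (j := l)
      ⟨hlo, fun z => ?_⟩ (p := e) (q := fun y => (fst y).hom) (fun y => ?_)
      fun y => isFiniteMor_iff_repWith.1 (hfst y)
    · obtain ⟨y, w, hw⟩ := Set.mem_iUnion.1
        ((range_map_openSubι (W := Wo)).le ⟨z, rfl⟩ : AlgSp.Points.map ι z ∈ Wo)
      refine ⟨y, w, Groth.AlgSp2.map_injective_of_mono ι ?_⟩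
      rw [← AlgSp.Points.map_comp, hl, hw]
    · exact IsPullback.of_right (by rw [sqP.lift_snd, hl]; exact (hsq y).flip)
        (sqP.lift_fst _ _ _) sqP.flip

end

end Groth.AlgSpBasic
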