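import Groth.Agent.AlgSpBasic.DenseScheme
import Groth.Agent.AlgSpBasic.DiagProps

/-!
# Codimension zero points are schematic
-/

set_option autoImplicit false
set_option backward.isDefEq.respectTransparency.types false
universe u

open CategoryTheory CategoryTheory.Limits AlgebraicGeometry Opposite TopologicalSpace AlgSp

namespace Groth.AlgSpBasic

variable {S : Scheme.{u}} {X : Sp S}

/-- In a quasi-separated space the kernel pair of an affine chart over an affine open of the base is
quasi-compact. -/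
theorem compactSpace_kernelPair_of_qs (hqs : IsQuasiSeparatedSp X) {W P : Over S} [IsAffine W.left]
    {O : S.Opens} (hO : IsAffineOpen O) {w' : W.left ⟶ (O : Scheme)} (hw : w' ≫ O.ι = W.hom)
    {a : (yon S).obj W ⟶ X} {t s : P ⟶ W}
    (sq : IsPullback ((yon S).map t) ((yon S).map s) a a) : CompactSpace ↥P.left := by
  have h : QuasiCompact (prod.lift t s).left := prop_lift_of_repWith_diag hqs sq
  have : IsAffine (O : Scheme) := hO
  have hpb : IsPullback (pullback.fst w' w') (pullback.snd w' w') W.hom W.hom := by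
    rw [← hw]; exact isPullback_comp_mono O.ι (IsPullback.of_hasPullback w' w')
  have : CompactSpace ↥(pullback W.hom W.hom) :=
    hpb.isoPullback.hom.homeomorph.compactSpace
  have : CompactSpace ↥(W ⨯ W).left :=
    (Over.prodLeftIsoPullback W W).inv.homeomorph.compactSpace
  exact QuasiCompact.compactSpace_of_compactSpace (prod.lift t s).left

/-- A point of codimension zero of a quasi-separated space is schematic. -/
theorem isSchematicPt_of_qs (hX : IsAlgSpace X) (hqs : IsQuasiSeparatedSp X) {x : AlgSp.Points X}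
    (hx : HasAt (fun U u => ringKrullDim ↥(U.presheaf.stalk u) = 0) X x) :
    IsSchematicPt X x := by
  obtain ⟨U, p, hp, hps⟩ := hX.atlas
  obtain ⟨u, rfl⟩ := surjective_ofPt_of_repWith hps x
  obtain ⟨O, hO, huO, -⟩ :=
    exists_isAffineOpen_mem_and_subset (X := S) (x := U.hom u) (U := ⊤) trivial
  obtain ⟨A, hA, huA, hAO⟩ :=
    exists_isAffineOpen_mem_and_subset (X := U.left) (x := u) (U := U.hom ⁻¹ᵁ O) huO
  let AO : Over S := Over.mk (A.ι ≫ U.hom)
  let jA : AO ⟶ U := Over.homMk A.ι rfl
  have : Etale jA.left := inferInstanceAs (Etale A.ι)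
  have : IsAffine AO.left := hA
  have ha : RepWith @Etale ((yon S).map jA ≫ p) :=
    repWith_comp ((repWith_yon_map_iff _ jA).2 ‹_›) hp
  obtain ⟨P, t, s, sq⟩ := exists_pullback_yon ha.rep ((yon S).map jA ≫ p)
  have : CompactSpace ↥P.left :=
    compactSpace_kernelPair_of_qs hqs hO (Scheme.Hom.resLE_comp_ι U.hom hAO) sq
  have : Etale s.left := repWith_fst_of_isPullback sq ha
  have hqc : QuasiCompact (s.left ∣_ ⊤) :=
    IsZariskiLocalAtTarget.restrict (P := @QuasiCompact) inferInstance ⊤
  have hd : ringKrullDim ↥(AO.left.presheaf.stalk ⟨u, huA⟩) = 0 :=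
    (hasAt_iff_forall etaleInvariant_ringKrullDim hX _ _).1 hx AO ((yon S).map jA ≫ p) ⟨u, huA⟩ ha
      (by rw [ofPt_comp_yon]; rfl)
  have hfin : (s.left ⁻¹' {(⟨u, huA⟩ : ↥AO.left)}).Finite := by
    have : QuasiCompact s.left := inferInstance
    have : LocallyQuasiFinite s.left := Groth.DescentBase.locallyQuasiFinite_of_etale s.left
    exact s.left.finite_preimage_singleton _
  have := isSchematicPt_of_maximal ha sq ⊤ (w := ⟨u, huA⟩) trivial
    (eq_of_specializes_of_ringKrullDim_eq_zero hd) hfin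
  rwa [ofPt_comp_yon] at this

theorem isSchematicPt_map {Y : Sp S} {j : Y ⟶ X} (hj : RepWith @IsOpenImmersion j)
    {y : AlgSp.Points Y} (hy : IsSchematicPt Y y) : IsSchematicPt X (AlgSp.Points.map j y) := by
  obtain ⟨G, g, hg, z, rfl⟩ := hy
  exact ⟨G, g ≫ j, repWith_comp hg hj, z, (AlgSp.Points.map_ofPt _ _ _).symm⟩

/-- The kernel pair of an affine open of a chart, as an open part of the kernel pair of the chart. -/
theorem exists_openImmersion_kernelPair {U W Q P : Over S} {a : (yon S).obj U ⟶ X} (j : W ⟶ U)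
    [IsOpenImmersion j.left] {qU : Q ⟶ U} {qW : Q ⟶ W}
    (sqQ : IsPullback ((yon S).map qU) ((yon S).map qW) a ((yon S).map j ≫ a)) {t s : P ⟶ W}
    (sq : IsPullback ((yon S).map t) ((yon S).map s) ((yon S).map j ≫ a) ((yon S).map j ≫ a)) :
    ∃ g : P ⟶ Q, g.left ≫ qW.left = s.left ∧ IsOpenImmersion g.left ∧
      IsPullback t.left g.left j.left qU.left := by
  obtain ⟨g, hg⟩ := (yon S).map_surjective (sqQ.lift ((yon S).map (t ≫ j)) ((yon S).map s)
    (by rw [Functor.map_comp, Category.assoc, sq.w]))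
  have h₁ : (yon S).map g ≫ (yon S).map qU = (yon S).map t ≫ (yon S).map j := by
    rw [hg, sqQ.lift_fst, Functor.map_comp]
  have h₂ : (yon S).map g ≫ (yon S).map qW = (yon S).map s := by rw [hg, sqQ.lift_snd]
  have hp : IsPullback ((yon S).map t) ((yon S).map g) ((yon S).map j) ((yon S).map qU) :=
    IsPullback.of_bot (h₂.symm ▸ sq) h₁.symm sqQ
  have hp' := isPullback_left (isPullback_of_yon hp)
  exact ⟨g, congrArg CommaMorphism.left ((yon S).map_injective (by rw [Functor.map_comp, h₂]) :
    g ≫ qW = s), MorphismProperty.of_isPullback (P := @IsOpenImmersion) hp' ‹_›, hp'⟩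

/-- With a finite etale chart the kernel pairs of affine opens have finite fibres. -/
theorem finite_fibre_of_finite_chart {U W P : Over S} {a : (yon S).obj U ⟶ X}
    (hf : RepWith @IsFinite a) (j : W ⟶ U) [IsOpenImmersion j.left] {t s : P ⟶ W}
    (sq : IsPullback ((yon S).map t) ((yon S).map s) ((yon S).map j ≫ a) ((yon S).map j ≫ a))
    (w : ↥W.left) : (s.left ⁻¹' {w}).Finite := by
  obtain ⟨Q, qU, qW, sqQ⟩ := exists_pullback_yon hf.rep ((yon S).map j ≫ a)
  have : IsFinite qW.left := hf.property _ _ _ sqQ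
  obtain ⟨g, hg, hgo, -⟩ := exists_openImmersion_kernelPair j sqQ sq
  refine ((qW.left.finite_preimage_singleton w).preimage g.left.isOpenEmbedding.injective.injOn).subset
    fun r (hr : s.left r = w) => ?_
  rw [Set.mem_preimage, Set.mem_preimage, Set.mem_singleton_iff, ← Scheme.Hom.comp_apply, hg, hr]

/-- With a finite etale chart by a quasi-separated scheme codimension zero points are schematic. -/
theorem isSchematicPt_of_finite_chart (hX : IsAlgSpace X) {U : Over S} [QuasiSeparatedSpace ↥U.left]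
    {a : (yon S).obj U ⟶ X} (hf : RepWith @IsFinite a) (he : RepWith @Etale a)
    (hs : RepWith @Surjective a) {x : AlgSp.Points X}
    (hx : HasAt (fun U u => ringKrullDim ↥(U.presheaf.stalk u) = 0) X x) :
    IsSchematicPt X x := by
  obtain ⟨u, rfl⟩ := surjective_ofPt_of_repWith hs x
  obtain ⟨A, hA, huA, -⟩ :=
    exists_isAffineOpen_mem_and_subset (X := U.left) (x := u) (U := ⊤) trivial
  let AO : Over S := Over.mk (A.ι ≫ U.hom)
  let jA : AO ⟶ U := Over.homMk A.ι rfl
  have : Etale jA.left := inferInstanceAs (Etale A.ι)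
  have : IsOpenImmersion jA.left := inferInstanceAs (IsOpenImmersion A.ι)
  have : IsAffine AO.left := hA
  have : QuasiCompact jA.left := inferInstance
  have ha : RepWith @Etale ((yon S).map jA ≫ a) :=
    repWith_comp ((repWith_yon_map_iff _ jA).2 ‹_›) he
  obtain ⟨P, t, s, sq⟩ := exists_pullback_yon ha.rep ((yon S).map jA ≫ a)
  obtain ⟨Q, qU, qW, sqQ⟩ := exists_pullback_yon hf.rep ((yon S).map jA ≫ a)
  have : IsFinite qW.left := hf.property _ _ _ sqQ
  obtain ⟨g, hg, -, hgp⟩ := exists_openImmersion_kernelPair jA sqQ sq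
  have : QuasiCompact g.left := MorphismProperty.of_isPullback (P := @QuasiCompact) hgp ‹_›
  have : QuasiCompact s.left := by rw [← hg]; infer_instance
  have hqc : QuasiCompact (s.left ∣_ ⊤) :=
    IsZariskiLocalAtTarget.restrict (P := @QuasiCompact) ‹_› ⊤
  have hd : ringKrullDim ↥(AO.left.presheaf.stalk ⟨u, huA⟩) = 0 :=
    (hasAt_iff_forall etaleInvariant_ringKrullDim hX _ _).1 hx AO ((yon S).map jA ≫ a) ⟨u, huA⟩ ha
      (by rw [ofPt_comp_yon]; rfl)
  have := isSchematicPt_of_maximal ha sq ⊤ (w := ⟨u, huA⟩) trivial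
    (eq_of_specializes_of_ringKrullDim_eq_zero hd) (finite_fibre_of_finite_chart hf jA sq _)
  rwa [ofPt_comp_yon] at this

end Groth.AlgSpBasic
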