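import Groth.Agent.AlgSpBasic.StratifiedFiniteCover
import Groth.Agent.AlgSp2.Absolute.AbsApprox
import Groth.Agent.AlgSp3.ShriekEquiv
import Groth.Agent.SpLimit.SpaceLiftIff
import Groth.Agent.AlgSpBasic.ElemDistPushout
import Groth.Agent.AlgSpBasic.SepLocal
import Groth.Agent.AlgSpBasic.DecentFiniteFibre

/-!
# Noetherian strata and passage to an absolute Noetherian model
-/

set_option autoImplicit false
set_option linter.unusedSectionVars false
set_option backward.isDefEq.respectTransparency.types false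
universe u

open CategoryTheory CategoryTheory.Limits AlgebraicGeometry AlgSp TopologicalSpace
open Groth.AlgSp3 (shriek shriekToBase shriekYonIso)

namespace Groth.AlgSpBasic.FiniteStrata

noncomputable section

variable {S : Scheme.{u}}

/-- A stratum: a closed subset with a finite cover of its reduced subspace which is finite etale
away from the next closed subset. -/
def GoodStep (X : Sp S) (C C' : Closeds (Points X)) {Z : Sp S} (i : Z ⟶ X) : Prop :=
  RepWith @IsClosedImmersion i ∧ Set.range (Points.map i) = C ∧ IsReducedSp Z ∧ IsAlgSpace Z ∧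
    ∃ (Y : Over S) (g : (yon S).obj Y ⟶ Z), RepWith @IsFinite g ∧ RepWith @Surjective g ∧
      RepWith @LocallyOfFinitePresentation g ∧
      ∀ (T : Over S) (t : (yon S).obj T ⟶ Z), (∀ p, Points.ofPt (t ≫ i) p ∉ C') →
        ∀ (W : Over S) (fst : (yon S).obj W ⟶ (yon S).obj Y) (snd : W ⟶ T),
          IsPullback fst ((yon S).map snd) g t → Etale snd.left

/-- Noetherian spaces have finite stratifications by finite etale covers. -/
theorem exists_strata [QuasiSeparatedSpace ↥S] {X : Sp S} (hX : IsAlgSpace X)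
    (hqc : IsQuasiCompactSp X) (hqs : IsQuasiSeparatedSp X) (hN : IsLocNoethSp X) :
    ∃ (t : ℕ) (C : ℕ → Closeds (Points X)), C 0 = ⊤ ∧ C t = ⊥ ∧ Antitone C ∧
      ∀ k < t, ∃ (Z : Sp S) (i : Z ⟶ X), GoodStep X (C k) (C (k + 1)) i := by
  classical
  have := noetherianSpace_points hX hqc hN
  have key : ∀ C : Closeds (Points X), C ≠ ⊥ → ∃ C' < C, ∃ (Z : Sp S) (i : Z ⟶ X),
      GoodStep X C C' i := by
    intro C hC
    obtain ⟨Z, i, hZ, hi, hir, hred⟩ := Groth.AlgSp3.exists_isRedInduced hX C.isClosed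
    have hia : IsAffineMor i := isAffineMor_iff_repWith.2
      (repWith_mono (fun _ _ g (_ : IsClosedImmersion g) => inferInstanceAs (IsAffineHom g)) hi)
    have hZne : Nonempty (Points Z) := by
      by_contra h
      refine hC (Closeds.ext ?_)
      rw [← hir, Closeds.coe_bot]
      exact Set.eq_empty_of_forall_notMem fun x ⟨z, _⟩ => h ⟨z⟩
    obtain ⟨C₁, Y, g, hC₁, hg, hgs, hgl, het⟩ := exists_step hZ
      (Groth.AlgSp2.Approx.isQuasiCompactSp_of_affineMor hZ hia hX hqc)
      (Groth.AlgSp2.Approx.isQuasiSeparatedSp_of_affineMor hZ hia hqs)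
      (Saturation.isLocNoethSp_of_closed hX hZ hN hi) hZne
    have he := isEmbedding_map_of_immersion hX (i := i)
      (repWith_mono (fun _ _ g (_ : IsClosedImmersion g) => inferInstanceAs (IsImmersion g)) hi)
    have hcl : IsClosed (Points.map i '' (C₁ : Set (Points Z))) :=
      (isClosedMap_map_of_repWith (fun _ _ g (_ : IsClosedImmersion g) => g.isClosedMap) hi) _
        C₁.isClosed
    have hle : (⟨_, hcl⟩ : Closeds (Points X)) ≤ C := fun x ⟨z, _, hz⟩ => hir.le ⟨z, hz⟩
    refine ⟨⟨_, hcl⟩, lt_of_le_of_ne hle fun e => hC₁ (Closeds.ext (Set.eq_univ_of_forall fun z => ?_)),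
      Z, i, hi, hir, hred, hZ, Y, g, hg, hgs, repWith_of_locP hZ hg.rep hgl,
      fun T t ht W fst snd sq => het T t (fun p hp => ht p ⟨_, hp, Points.map_ofPt _ _ _⟩) W fst snd sq⟩
    obtain ⟨z', hz', hzz⟩ : Points.map i z ∈ (⟨_, hcl⟩ : Closeds (Points X)) :=
      e.ge (hir.le ⟨z, rfl⟩)
    exact he.1.injective hzz ▸ hz'
  choose f hf Z i hZi using key
  let F : Closeds (Points X) → Closeds (Points X) := fun C => if h : C = ⊥ then ⊥ else f C h
  have hFle : ∀ C, F C ≤ C := fun C => by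
    show (if h : C = ⊥ then ⊥ else f C h) ≤ C
    split
    · exact bot_le
    · exact (hf C _).le
  have hex : ∀ C : Closeds (Points X), ∃ n, F^[n] C = ⊥ := fun C => by
    induction C using WellFoundedLT.induction with
    | _ C ih =>
      by_cases h : C = ⊥
      · exact ⟨0, h⟩
      · have hlt : F C < C := by
          show (if h : C = ⊥ then ⊥ else f C h) < C
          rw [dif_neg h]
          exact hf C h
        obtain ⟨n, hn⟩ := ih (F C) hlt
        exact ⟨n + 1, by rw [Function.iterate_succ_apply]; exact hn⟩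
  refine ⟨Nat.find (hex ⊤), fun k => F^[k] ⊤, rfl, Nat.find_spec (hex ⊤), ?_, fun k hk => ?_⟩
  · exact antitone_nat_of_succ_le fun k => by rw [Function.iterate_succ_apply']; exact hFle _
  · have hne : F^[k] ⊤ ≠ ⊥ := Nat.find_min (hex ⊤) hk
    refine ⟨Z _ hne, i _ hne, ?_⟩
    have e : F^[k + 1] ⊤ = f (F^[k] ⊤) hne := by
      rw [Function.iterate_succ_apply']
      exact dif_neg hne
    show GoodStep X (F^[k] ⊤) (F^[k + 1] ⊤) (i _ hne)
    rw [e]
    exact hZi _ hne

variable {S' : Scheme.{u}} (γ : S ⟶ S')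

/-- The map of an extension to the new base is quasi-separated for a quasi-separated space. -/
theorem isQuasiSeparatedMor_shriekToBase {F : Sp S} (hF : IsQuasiSeparatedSp F) :
    IsQuasiSeparatedMor (shriekToBase γ F) := by
  let hT : IsTerminal ((yon S).obj (Over.mk (𝟙 S))) :=
    IsTerminal.isTerminalObj (yon S) _ Over.mkIdTerminal
  let m := shriekToBase γ ((yon S).obj (Over.mk (𝟙 S)))
  have : Mono m := ⟨fun {W} a b hab => by
    ext T w
    have h1 : (a.hom.app T w : Groth.AlgSp3.shriekObj γ _ (Opposite.unop T)).1.1 =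
        (b.hom.app T w : Groth.AlgSp3.shriekObj γ _ (Opposite.unop T)).1.1 :=
      congrArg (fun k : W ⟶ (yon S').obj (Over.mk γ) => (k.hom.app T w).down.left) hab
    refine Groth.AlgSp3.shriekObj_ext _ _ h1 ?_
    exact ULift.ext _ _ (Over.mkIdTerminal.hom_ext _ _)⟩
  have hm : (shriek γ).map (hT.from F) ≫ m = shriekToBase γ F :=
    Groth.AlgSp3.shriekToBase_naturality γ _
  have sq := Groth.AlgSp3.isPullback_shriek γ (IsPullback.of_is_product' (prodIsProd F F) hT)
  have sq₁ : IsPullback ((shriek γ).map (prod.fst : F ⨯ F ⟶ F))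
      ((shriek γ).map (prod.snd : F ⨯ F ⟶ F)) (shriekToBase γ F) (shriekToBase γ F) := by
    rw [← hm]
    exact ⟨⟨by rw [← Category.assoc, sq.w, Category.assoc]⟩,
      ⟨PullbackCone.isLimitOfCompMono _ _ m _ sq.isLimit⟩⟩
  have hd : (shriek γ).map (Limits.diag F) ≫ sq₁.isoPullback.hom =
      pullback.diagonal (shriekToBase γ F) := by
    apply pullback.hom_ext
    · rw [Category.assoc, sq₁.isoPullback_hom_fst, pullback.diagonal_fst, ← Functor.map_comp,
        prod.lift_fst, CategoryTheory.Functor.map_id]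
    · rw [Category.assoc, sq₁.isoPullback_hom_snd, pullback.diagonal_snd, ← Functor.map_comp,
        prod.lift_snd, CategoryTheory.Functor.map_id]
  show RepWith @QuasiCompact (pullback.diagonal (shriekToBase γ F))
  rw [← hd]
  exact repWith_comp (Groth.AlgSp3.repWith_shriek_map γ hF) (repWith_isIso _)

/-- A qcqs space is, over an absolute base, affine over a Noetherian space. -/
theorem exists_noetherian_model [QuasiSeparatedSpace ↥S] [QuasiSeparatedSpace ↥S']
    [IsLocallyNoetherian S'] {X : Sp S} (hX : IsAlgSpace X) (hqc : IsQuasiCompactSp X)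
    (hqs : IsQuasiSeparatedSp X) :
    ∃ (X₀ : Sp S') (a : (shriek γ).obj X ⟶ X₀), IsAlgSpace X₀ ∧ IsQuasiCompactSp X₀ ∧
      IsQuasiSeparatedSp X₀ ∧ IsLocNoethSp X₀ ∧ IsAffineMor a := by
  have hXa := (Groth.AlgSp3.isAlgSpace_shriek_iff γ X).2 hX
  have hc : IsQuasiCompactSp ((shriek γ).obj X) := by
    obtain ⟨U, a, hae, has, hU⟩ := hqc
    exact ⟨(Over.map γ).obj U, (shriekYonIso γ U).inv ≫ (shriek γ).map a,
      repWith_comp (repWith_isIso _) (Groth.AlgSp3.repWith_shriek_map γ hae),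
      repWith_comp (repWith_isIso _) (Groth.AlgSp3.repWith_shriek_map γ has), hU⟩
  have : QuasiSeparated γ := QuasiSeparated.of_quasiSeparatedSpace γ
  have hs : IsQuasiSeparatedSp ((shriek γ).obj X) :=
    isQuasiSeparatedSp_of_mor (isQuasiSeparatedMor_shriekToBase γ hqs)
      (haveI : QuasiSeparated (Over.mk γ).hom := ‹QuasiSeparated γ›
       Groth.SpLimit.isQuasiSeparatedSp_yon_of_hom (Over.mk γ))
  obtain ⟨X₀, a, h₁, h₂, h₃, h₄, ha⟩ := Groth.AlgSp2.Absolute.hasModel hXa hc hs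
  obtain ⟨U, b, hb, hbs⟩ := h₁.atlas
  have : LocallyOfFinitePresentation U.hom := Groth.AlgSp2.Absolute.lfp_hom_of_lfpS
    (Groth.AlgSp2.Absolute.LfpS.of_locP (IsAlgSpace.yon_obj U) h₁ h₄
      (locP_of_repWith (repWith_mono (fun _ _ g (_ : Etale g) =>
        inferInstanceAs (LocallyOfFinitePresentation g)) hb)))
  exact ⟨X₀, a, h₁, h₂, h₃, ⟨U, b, hb, hbs, LocallyOfFiniteType.isLocallyNoetherian U.hom⟩, ha⟩

variable {γ} {X : Sp S} {X₀ : Sp S'} {a : (shriek γ).obj X ⟶ X₀}

/-- The inverse image of a closed subspace of the model. -/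
theorem exists_pullback_closed (hX : IsAlgSpace X) {Z₀ : Sp S'} {i₀ : Z₀ ⟶ X₀}
    (hi₀ : RepWith @IsClosedImmersion i₀) :
    ∃ (Z : Sp S) (i : Z ⟶ X) (G : (shriek γ).obj Z ⟶ Z₀), IsAlgSpace Z ∧
      IsPullback G ((shriek γ).map i) i₀ a ∧ RepWith @IsClosedImmersion i := by
  let sq := IsPullback.of_hasPullback i₀ a
  have hsnd : RepWith @IsClosedImmersion (pullback.snd i₀ a) := repWith_of_isPullback sq hi₀
  obtain ⟨e, he⟩ := Groth.AlgSp3.exists_shriek_fibre_iso γ (G := pullback i₀ a)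
    (pullback.snd i₀ a ≫ shriekToBase γ X)
  obtain ⟨i, hi⟩ := Groth.AlgSp3.exists_of_over γ (e.hom ≫ pullback.snd i₀ a)
    (by rw [Category.assoc, he])
  have hi' : RepWith @IsClosedImmersion i :=
    Groth.AlgSp3.repWith_of_shriek_map γ (hi ▸ repWith_comp (repWith_isIso _) hsnd)
  exact ⟨_, i, e.hom ≫ pullback.fst i₀ a, isAlgSpace_of_representable hX i hi'.rep,
    sq.of_iso e.symm (Iso.refl _) (Iso.refl _) (Iso.refl _) (by simp) (by simp [hi]) (by simp) (by simp),
    hi'⟩

/-- Lifts into the inverse image from lifts into the model. -/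
theorem exists_lift_of_model {Z P : Sp S} {Z₀ : Sp S'} {i₀ : Z₀ ⟶ X₀} {i : Z ⟶ X}
    {G : (shriek γ).obj Z ⟶ Z₀} (sq : IsPullback G ((shriek γ).map i) i₀ a) (z : P ⟶ X)
    (l : (shriek γ).obj P ⟶ Z₀) (hl : l ≫ i₀ = (shriek γ).map z ≫ a) : ∃ m : P ⟶ Z, m ≫ i = z := by
  obtain ⟨m, hm⟩ := Groth.AlgSp3.exists_of_over γ (sq.lift l ((shriek γ).map z) hl) (by
    rw [← Groth.AlgSp3.shriekToBase_naturality γ i, ← Category.assoc, sq.lift_snd,
      Groth.AlgSp3.shriekToBase_naturality])
  exact ⟨m, Groth.AlgSp3.shriek_faithful γ (by rw [Functor.map_comp, hm, sq.lift_snd])⟩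

/-- A point whose image in the model lies in a closed subspace lies in its inverse image. -/
theorem mem_range_of_model {Z : Sp S} {Z₀ : Sp S'} {i₀ : Z₀ ⟶ X₀} {i : Z ⟶ X}
    (hi₀ : RepWith @IsClosedImmersion i₀) {G : (shriek γ).obj Z ⟶ Z₀}
    (sq : IsPullback G ((shriek γ).map i) i₀ a) {T : Over S} (z : (yon S).obj T ⟶ X) (p : ↥T.left)
    (h : Points.ofPt ((shriekYonIso γ T).inv ≫ (shriek γ).map z ≫ a)
      (p : ↥((Over.map γ).obj T).left) ∈ Set.range (Points.map i₀)) :
    Points.ofPt z p ∈ Set.range (Points.map i) := by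
  obtain ⟨l, hl⟩ := exists_fac_residue_of_range hi₀ _ _ h
  let κ : Over S := Over.mk (T.left.fromSpecResidueField p ≫ T.hom)
  let r : κ ⟶ T := Over.homMk (T.left.fromSpecResidueField p) rfl
  let c : (Over.map γ).obj κ ⟶ (FieldPt.ofPt ((shriekYonIso γ T).inv ≫ (shriek γ).map z ≫ a)
      (p : ↥((Over.map γ).obj T).left)).pt :=
    Over.homMk (𝟙 _) (by
      show 𝟙 _ ≫ T.left.fromSpecResidueField p ≫ T.hom ≫ γ =
        (T.left.fromSpecResidueField p ≫ T.hom) ≫ γ
      rw [Category.id_comp, Category.assoc])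
  let rr : (FieldPt.ofPt ((shriekYonIso γ T).inv ≫ (shriek γ).map z ≫ a)
      (p : ↥((Over.map γ).obj T).left)).pt ⟶ (Over.map γ).obj T :=
    Over.homMk (((Over.map γ).obj T).left.fromSpecResidueField p) rfl
  have hc : c ≫ rr = (Over.map γ).map r := Over.OverMorphism.ext (Category.id_comp _)
  obtain ⟨m, hm⟩ := exists_lift_of_model sq ((yon S).map r ≫ z)
    ((shriekYonIso γ κ).hom ≫ (yon S').map c ≫ l) (by
      have hl' : l ≫ i₀ = (yon S').map rr ≫ (shriekYonIso γ T).inv ≫ (shriek γ).map z ≫ a := hl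
      rw [Category.assoc, Category.assoc, hl', ← Category.assoc ((yon S').map c), ← Functor.map_comp,
        hc, ← Category.assoc ((yon S').map _), Groth.AlgSp3.yon_map_shriekYonIso_inv, Category.assoc,
        Iso.hom_inv_id_assoc, Functor.map_comp, Category.assoc])
  refine ⟨Points.ofPt m (IsLocalRing.closedPoint _ : ↥(Spec (T.left.residueField p))), ?_⟩
  rw [Points.map_ofPt, hm, ofPt_comp_yon]
  congr 1
  exact Scheme.fromSpecResidueField_apply _ _

/-- The inverse image of a good stratum. -/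
theorem exists_cover_of_goodStep (hX : IsAlgSpace X) (ha : IsAffineMor a) {C C' : Closeds (Points X₀)}
    {Z₀ : Sp S'} {i₀ : Z₀ ⟶ X₀} (hstep : GoodStep X₀ C C' i₀) {Z : Sp S} {i : Z ⟶ X}
    (hZ : IsAlgSpace Z) {G : (shriek γ).obj Z ⟶ Z₀} (sq : IsPullback G ((shriek γ).map i) i₀ a) :
    ∃ (Y : Over S) (g : (yon S).obj Y ⟶ Z), RepWith @IsFinite g ∧ RepWith @Surjective g ∧
      RepWith @LocallyOfFinitePresentation g ∧
      ∀ (T : Over S) (t : (yon S).obj T ⟶ Z),
        (∀ p : ↥T.left, Points.ofPt ((shriekYonIso γ T).inv ≫ (shriek γ).map (t ≫ i) ≫ a)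
          (p : ↥((Over.map γ).obj T).left) ∉ C') →
        ∀ (W : Over S) (fst : (yon S).obj W ⟶ (yon S).obj Y) (snd : W ⟶ T),
          IsPullback fst ((yon S).map snd) g t → Etale snd.left := by
  obtain ⟨-, -, -, -, Y₀, g₀, hg, hgs, hgl, het⟩ := hstep
  have hG : RepWith @IsAffineHom G :=
    repWith_of_isPullback sq.flip (isAffineMor_iff_repWith.1 ha)
  obtain ⟨Y₁, snd₁, fst₁, sq₁⟩ := hG.rep g₀
  obtain ⟨A, e, s, hs⟩ := Groth.AlgSp3.exists_shriek_lift γ fst₁
  have hs' : (shriek γ).map s = (shriekYonIso γ A).hom ≫ (yon S').map e.hom ≫ fst₁ := by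
    rw [hs, Iso.hom_inv_id_assoc]
  let E := shriekYonIso γ A ≪≫ (yon S').mapIso e
  have sqs : IsPullback ((shriek γ).map s) (E.hom ≫ (yon S').map snd₁) G g₀ :=
    sq₁.of_iso E.symm (Iso.refl _) (Iso.refl _) (Iso.refl _) (by simp [E, hs']) (by simp)
      (by simp) (by simp)
  refine ⟨A, s, Groth.AlgSp3.repWith_of_shriek_map γ (repWith_of_isPullback sqs.flip hg),
    Groth.AlgSp3.repWith_of_shriek_map γ (repWith_of_isPullback sqs.flip hgs),
    Groth.AlgSp3.repWith_of_shriek_map γ (repWith_of_isPullback sqs.flip hgl), ?_⟩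
  intro T t ht W fst snd sqW
  have h1 := (Groth.AlgSp3.isPullback_shriek γ sqW).flip.paste_vert sqs
  have h2 : IsPullback ((shriekYonIso γ W).inv ≫ (shriek γ).map fst ≫ E.hom ≫ (yon S').map snd₁)
      ((yon S').map ((Over.map γ).map snd)) g₀ ((shriekYonIso γ T).inv ≫ (shriek γ).map t ≫ G) :=
    h1.flip.of_iso (shriekYonIso γ W) (Iso.refl _) (shriekYonIso γ T) (Iso.refl _) (by simp)
      (Groth.AlgSp3.shriekYonIso_naturality γ snd) (by simp) (by simp)
  exact het _ _ (fun p => by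
    rw [Category.assoc, Category.assoc, sq.w, ← Functor.map_comp_assoc]
    exact ht p) _ _ _ h2

end

end Groth.AlgSpBasic.FiniteStrata
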