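import Groth.Agent.AlgSpBasic.DecentFiniteDense

/-!
# Spaces with a monomorphism to a discrete scheme
-/

set_option autoImplicit false
set_option backward.isDefEq.respectTransparency.types false
universe u

open CategoryTheory CategoryTheory.Limits AlgebraicGeometry Opposite TopologicalSpace AlgSp

namespace Groth.AlgSpBasic

variable {S : Scheme.{u}}

/-- A space all of whose points are schematic is a scheme. -/
theorem isRepresentable_of_schematic (X : Space S) (h : ∀ x, IsSchematicPt X.obj x) :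
    X.obj.obj.IsRepresentable := by
  obtain ⟨X₀, j, hj, ⟨G, ⟨hG⟩⟩, hr⟩ := exists_schematic_openSub X
  have : Mono j.hom := mono_of_repWith (fun _ _ g (_ : IsOpenImmersion g) => inferInstance) hj
  obtain ⟨s, hs⟩ := exists_lift_of_range_openImmersion X.property hj (𝟙 _)
    fun x _ => hr.ge (h x)
  exact isRepresentable_of_iso ((isoOfRepresentableBy hG).trans
    ⟨j.hom, s, by rw [← cancel_mono j.hom, Category.assoc, hs, Category.comp_id, Category.id_comp], hs⟩)

/-- A space with a monomorphism to a discrete scheme is a scheme. -/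
theorem isRepresentable_of_mono_discrete (Y : Over S) [DiscreteTopology ↥Y.left] (X : Space S)
    (f : X.obj ⟶ (yon S).obj Y) [Mono f] : X.obj.obj.IsRepresentable := by
  refine isRepresentable_of_schematic X fun x => ?_
  obtain ⟨U, p, hp, hps⟩ := X.property.atlas
  obtain ⟨u, rfl⟩ := surjective_ofPt_of_repWith hps x
  obtain ⟨φ, hφ⟩ := (yon S).map_surjective (p ≫ f)
  let y := φ.left u
  let Y₀ : Y.left.Opens := ⟨{y}, isOpen_discrete _⟩
  obtain ⟨V, hV, hyV, hVY⟩ := exists_isAffineOpen_mem_and_subset (X := Y.left) (x := y) (U := Y₀) rfl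
  obtain ⟨A₀, hA, huA, hAV⟩ :=
    exists_isAffineOpen_mem_and_subset (X := U.left) (x := u) (U := φ.left ⁻¹ᵁ V) hyV
  let A : Over S := Over.mk (A₀.ι ≫ U.hom)
  let jA : A ⟶ U := Over.homMk A₀.ι rfl
  have : IsAffine A.left := hA
  have : IsAffine (V : Scheme) := hV
  let a : (yon S).obj A ⟶ X.obj := (yon S).map jA ≫ p
  have ha : RepWith @Etale a :=
    repWith_comp ((repWith_yon_map_iff _ jA).2 (inferInstanceAs (Etale A₀.ι))) hp
  let VO : Over S := Over.mk (V.ι ≫ Y.hom)
  let jV : VO ⟶ Y := Over.homMk V.ι rfl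
  let ψ : A ⟶ VO := Over.homMk (φ.left.resLE V A₀ hAV) (by
    show φ.left.resLE V A₀ hAV ≫ V.ι ≫ Y.hom = A₀.ι ≫ U.hom
    rw [Scheme.Hom.resLE_comp_ι_assoc, Over.w φ])
  have hψ : (yon S).map ψ ≫ (yon S).map jV = a ≫ f := by
    show _ = ((yon S).map jA ≫ p) ≫ f
    rw [Category.assoc, ← hφ, ← Functor.map_comp, ← Functor.map_comp]
    congr 1
    ext1
    exact φ.left.resLE_comp_ι hAV
  obtain ⟨R, t, s, sq⟩ := exists_pullback_yon ha.rep a
  have : Etale s.left := repWith_fst_of_isPullback sq ha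
  have : Etale t.left := repWith_fst_of_isPullback sq.flip ha
  have : Mono jV := Over.mono_of_mono_left jV (hk := inferInstanceAs (Mono V.ι))
  have hcomm : ∀ {T : Sp S} (x₁ x₂ : T ⟶ (yon S).obj A),
      x₁ ≫ (yon S).map ψ = x₂ ≫ (yon S).map ψ ↔ x₁ ≫ a = x₂ ≫ a := fun {T} x₁ x₂ => by
    have k : ∀ x : T ⟶ (yon S).obj A, (x ≫ a) ≫ f = (x ≫ (yon S).map ψ) ≫ (yon S).map jV :=
      fun x => ((Category.assoc x a f).trans (congrArg (x ≫ ·) hψ.symm)).trans
        (Category.assoc _ _ _).symm
    constructor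
    · intro e
      apply Mono.right_cancellation (f := f)
      rw [k, k, e]
    · intro e
      apply Mono.right_cancellation (f := (yon S).map jV)
      rw [← k, ← k, e]
  have hR : IsPullback ((yon S).map t) ((yon S).map s) ((yon S).map ψ) ((yon S).map ψ) :=
    ⟨⟨(hcomm _ _).2 sq.w⟩, ⟨PullbackCone.IsLimit.mk _
      (fun c => sq.lift c.fst c.snd ((hcomm _ _).1 c.condition))
      (fun c => sq.lift_fst _ _ _) (fun c => sq.lift_snd _ _ _)
      (fun c m h₁ h₂ => sq.hom_ext (by rw [sq.lift_fst, h₁]) (by rw [sq.lift_snd, h₂]))⟩⟩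
  have hpb := isPullback_left (isPullback_of_yon hR)
  have : IsAffine VO.left := hV
  have : IsAffine R.left := IsAffine.of_isIso hpb.isoPullback.hom
  have hsqc : QuasiCompact s.left := inferInstance
  have : LocallyQuasiFinite s.left := Groth.DescentBase.locallyQuasiFinite_of_etale s.left
  have : IsSeparated s.left := isSeparated_kernelPair sq
  have hone : ∀ a₁ a₂ : ↥A.left, AlgSp.Points.ofPt a a₁ = AlgSp.Points.ofPt a a₂ := fun a₁ a₂ => by
    apply Groth.AlgSp2.map_injective_of_mono f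
    rw [AlgSp.Points.map_ofPt, AlgSp.Points.map_ofPt, ← hψ, ofPt_comp_yon, ofPt_comp_yon]
    have e : ∀ a' : ↥A.left, jV.left (ψ.left a') = y := fun a' => hVY (ψ.left a').2
    exact (ofPt_eq_map _ _).trans ((congrArg _ (congrArg _ (Subtype.ext ((e a₁).trans (e a₂).symm) :
      ψ.left a₁ = ψ.left a₂))).trans (ofPt_eq_map _ _).symm)
  let v : ↥A.left := ⟨u, huA⟩
  have hA' : (Set.univ : Set ↥A.left).Finite :=
    ((s.left.finite_preimage_singleton v).image t.left).subset fun a' _ => by
      obtain ⟨r, hr₁, hr₂⟩ := (ofPt_eq_ofPt_iff sq a' v).1 (hone a' v)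
      exact ⟨r, hr₂, hr₁⟩
  have hR' : (Set.univ : Set ↥R.left).Finite :=
    (hA'.biUnion fun a' _ => s.left.finite_preimage_singleton a').subset
      fun r _ => Set.mem_biUnion (Set.mem_univ (s.left r)) rfl
  have hv : ringKrullDim ↥(A.left.presheaf.stalk v) = 0 := by
    obtain ⟨η, -, hη⟩ := exists_codimZero_specializes v
    obtain ⟨r, hr₁, hr₂⟩ := (ofPt_eq_ofPt_iff sq v η).1 (hone v η)
    have e := (etaleInvariant_ringKrullDim t.left r).symm.trans (etaleInvariant_ringKrullDim s.left r)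
    rw [← hr₁]
    refine e.trans ?_
    rw [hr₂]
    exact hη
  obtain ⟨D, -, hvD, hDf⟩ := exists_isFinite_of_codimZero s.left hv (hR'.subset (Set.subset_univ _))
    (s.left.finite_preimage_singleton v)
  have := hDf
  have h := isSchematicPt_of_finite ha sq D hvD
  rwa [ofPt_comp_yon] at h

end Groth.AlgSpBasic
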