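import Groth.Agent.AlgSpBasic.DecentCriteria
import Groth.Agent.AlgSpBasic.DecentSober
import Groth.Agent.AlgSp2.DecentCover
import Mathlib.Topology.Spectral.Basic

/-!
# Decency along etale maps; spectral spaces of points
-/

set_option autoImplicit false
set_option backward.isDefEq.respectTransparency.types false
universe u

open CategoryTheory CategoryTheory.Limits AlgebraicGeometry Opposite TopologicalSpace AlgSp

namespace Groth.AlgSpBasic

variable {S : Scheme.{u}} {X : Sp S}

/-- A space etale over a decent space is decent. -/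
theorem isDecent_of_isEtaleMor {Y : Sp S} (hX : IsAlgSpace X) (hY : IsAlgSpace Y) {f : X ⟶ Y}
    (hf : IsEtaleMor f) (hd : IsDecent Y) : IsDecent X := by
  intro x
  have hx : FiniteAt X x := fun V b hV hb =>
    (finiteAt_of_isDecent hd (AlgSp.Points.map f x) V (b ≫ f) hV (hf b hb)).subset fun v hv => by
      show AlgSp.Points.ofPt (b ≫ f) v = _
      rw [← AlgSp.Points.map_ofPt, show AlgSp.Points.ofPt b v = x from hv]
  obtain ⟨U, p, hp, hps⟩ := hX.atlas
  obtain ⟨u, rfl⟩ := surjective_ofPt_of_repWith hps x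
  obtain ⟨A, hA, huA, -⟩ :=
    exists_isAffineOpen_mem_and_subset (X := U.left) (x := u) (U := ⊤) trivial
  let AO : Over S := Over.mk (A.ι ≫ U.hom)
  let jA : AO ⟶ U := Over.homMk A.ι rfl
  have : Etale jA.left := inferInstanceAs (Etale A.ι)
  have : IsAffine AO.left := hA
  have hb : RepWith @Etale ((yon S).map jA ≫ p) :=
    repWith_comp ((repWith_yon_map_iff _ jA).2 ‹_›) hp
  obtain ⟨R, t, s, sq⟩ := exists_pullback_yon hb.rep ((yon S).map jA ≫ p)
  obtain ⟨R', t', s', sq'⟩ := exists_pullback_yon (hf _ hb).rep (((yon S).map jA ≫ p) ≫ f)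
  obtain ⟨g, hg⟩ := (yon S).map_surjective (sq'.lift ((yon S).map t) ((yon S).map s)
    (by rw [← Category.assoc, sq.w, Category.assoc]))
  have hgt : g ≫ t' = t := (yon S).map_injective (by rw [Functor.map_comp, hg, sq'.lift_fst])
  have hgs : g ≫ s' = s := (yon S).map_injective (by rw [Functor.map_comp, hg, sq'.lift_snd])
  have : Mono g := ⟨fun {T} a b h => by
    refine (yon S).map_injective (sq.hom_ext ?_ ?_) <;> rw [← Functor.map_comp, ← Functor.map_comp]
    · rw [← hgt, reassoc_of% h]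
    · rw [← hgs, reassoc_of% h]⟩
  have : Mono g.left := inferInstanceAs (Mono ((Over.forget S).map g))
  refine exists_monoQC_of_finiteAt hX hx hb sq (u := ⟨u, huA⟩) (by rw [ofPt_comp_yon]; rfl)
    (((finite_fibre_kernelPair hY hd (hf _ hb) sq' ⟨u, huA⟩).preimage g.left.injective.injOn).subset
      fun r hr => ?_)
  show s'.left (g.left r) = _
  rw [← Scheme.Hom.comp_apply, ← Over.comp_left, hgs]
  exact hr.1

theorem isDecent_of_locally_qs (hX : IsAlgSpace X) {ι : Type u} {Y : ι → Sp S} (j : ∀ i, Y i ⟶ X)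
    (hj : ∀ i, RepWith @IsOpenImmersion (j i))
    (hcov : ∀ x : AlgSp.Points X, ∃ i, x ∈ Set.range (AlgSp.Points.map (j i)))
    (hY : ∀ i, IsAlgSpace (Y i)) (hqs : ∀ i, IsQuasiSeparatedSp (Y i)) : IsDecent X :=
  Groth.AlgSp2.isDecent_of_openCover hX j hj hcov fun i => isDecent_of_qs (hY i) (hqs i)

/-- Two quasi-compact opens of a quasi-separated space over a quasi-separated base meet in a
quasi-compact open. -/
theorem isCompact_range_inter [QuasiSeparatedSpace ↥S] (hX : IsAlgSpace X)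
    (hqs : IsQuasiSeparatedSp X) {A B : Over S} [CompactSpace ↥A.left] [CompactSpace ↥B.left]
    (a : (yon S).obj A ⟶ X) (b : (yon S).obj B ⟶ X) :
    IsCompact (Set.range (AlgSp.Points.ofPt a) ∩ Set.range (AlgSp.Points.ofPt b)) := by
  obtain ⟨W, fst, snd, sq⟩ := exists_pullback_of_diag hX.diag a b
  have : QuasiCompact (prod.lift fst snd).left := prop_lift_of_repWith_diag hqs sq
  have : QuasiCompact A.hom := inferInstance
  have : CompactSpace ↥(pullback A.hom B.hom) :=
    QuasiCompact.compactSpace_of_compactSpace (pullback.snd A.hom B.hom)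
  have : CompactSpace ↥(A ⨯ B).left :=
    (Over.prodLeftIsoPullback A B).inv.homeomorph.compactSpace
  have : CompactSpace ↥W.left :=
    QuasiCompact.compactSpace_of_compactSpace (prod.lift fst snd).left
  have e : Set.range (AlgSp.Points.ofPt a) ∩ Set.range (AlgSp.Points.ofPt b) =
      Set.range (AlgSp.Points.ofPt ((yon S).map fst ≫ a)) := by
    ext y
    constructor
    · rintro ⟨⟨v, rfl⟩, ⟨w, hw⟩⟩
      obtain ⟨z, hz, -⟩ := (ofPt_eq_ofPt_iff sq v w).1 hw.symm
      exact ⟨z, by rw [ofPt_comp_yon, hz]⟩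
    · rintro ⟨z, rfl⟩
      rw [ofPt_comp_yon]
      exact ⟨⟨_, rfl⟩, ⟨snd.left z, ((ofPt_eq_ofPt_iff sq _ _).2 ⟨z, rfl, rfl⟩).symm⟩⟩
  rw [e]
  exact isCompact_range (AlgSp.Points.continuous_ofPt _)

theorem spectralSpace_points [QuasiSeparatedSpace ↥S] (hX : IsAlgSpace X)
    (hqc : IsQuasiCompactSp X) (hqs : IsQuasiSeparatedSp X) : SpectralSpace (AlgSp.Points X) := by
  obtain ⟨U, p, hp, hps, hU⟩ := hqc
  have : CompactSpace ↥U.left := hU
  have hc : CompactSpace (AlgSp.Points X) := compactSpace_points hps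
  have hd := isDecent_of_qs hX hqs
  have : T0Space (AlgSp.Points X) := t0Space_of_isDecent hX hd
  have : QuasiSober (AlgSp.Points X) := quasiSober_of_isDecent hX hd
  let I := {A : U.left.Opens // IsAffineOpen A}
  let O : I → Set (AlgSp.Points X) := fun A => AlgSp.Points.ofPt p '' (A.1 : Set ↥U.left)
  have hO : ∀ A, O A = Set.range (AlgSp.Points.ofPt
      ((yon S).map (Over.homMk A.1.ι rfl : Over.mk (A.1.ι ≫ U.hom) ⟶ U) ≫ p)) := fun A => by
    ext y
    simp only [O, Set.mem_image, Set.mem_range, ofPt_comp_yon]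
    exact ⟨fun ⟨v, hv, e⟩ => ⟨⟨v, hv⟩, e⟩, fun ⟨v, e⟩ => ⟨_, v.2, e⟩⟩
  have hbasis : IsTopologicalBasis (Set.range O) := by
    refine isTopologicalBasis_of_isOpen_of_nhds ?_ fun y W hy hW => ?_
    · rintro _ ⟨A, rfl⟩
      exact isOpenMap_ofPt_of_etale hp _ A.1.2
    · obtain ⟨u, rfl⟩ := surjective_ofPt_of_repWith hps y
      obtain ⟨A, hA, huA, hAW⟩ := exists_isAffineOpen_mem_and_subset (X := U.left) (x := u)
        (U := ⟨AlgSp.Points.ofPt p ⁻¹' W, hW.preimage (AlgSp.Points.continuous_ofPt p)⟩) hy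
      exact ⟨O ⟨A, hA⟩, ⟨_, rfl⟩, ⟨u, huA, rfl⟩, fun z ⟨v, hv, hz⟩ => hz ▸ hAW hv⟩
  have : PrespectralSpace (AlgSp.Points X) := PrespectralSpace.of_isTopologicalBasis hbasis
    (by
      rintro _ ⟨A, rfl⟩
      exact A.2.isCompact.image (AlgSp.Points.continuous_ofPt p))
  have : QuasiSeparatedSpace (AlgSp.Points X) :=
    QuasiSeparatedSpace.of_isTopologicalBasis hbasis fun A B => by
      rw [hO A, hO B]
      have : CompactSpace ↥(Over.mk (A.1.ι ≫ U.hom)).left := isCompact_iff_compactSpace.1 A.2.isCompact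
      have : CompactSpace ↥(Over.mk (B.1.ι ≫ U.hom)).left := isCompact_iff_compactSpace.1 B.2.isCompact
      exact isCompact_range_inter hX hqs _ _
  exact {}

end Groth.AlgSpBasic
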