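import Groth.Agent.AlgSpBasic.DenseSchemeQS
import Mathlib.AlgebraicGeometry.Morphisms.UniversallyOpen

/-!
# Points of decent spaces: specializations lift and none lie inside fibres
-/

set_option autoImplicit false
set_option backward.isDefEq.respectTransparency.types false
universe u

open CategoryTheory CategoryTheory.Limits AlgebraicGeometry Opposite TopologicalSpace AlgSp

namespace Groth.AlgSpBasic

variable {S : Scheme.{u}} {X : Sp S}

/-- All fibres over `x` of affine etale charts are finite. -/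
def FiniteAt (X : Sp S) (x : AlgSp.Points X) : Prop :=
  ∀ (V : Over S) (b : (yon S).obj V ⟶ X), IsAffine V.left → RepWith @Etale b →
    (AlgSp.Points.ofPt b ⁻¹' {x}).Finite

/-- A point represented by a quasi-compact map from a field has finite fibres in compact charts. -/
theorem finite_fibre_of_qc (p : FieldPt X) (hq : RepWith @QuasiCompact p.toHom) {W : Over S}
    [CompactSpace ↥W.left] {a : (yon S).obj W ⟶ X} (ha : RepWith @Etale a) :
    (AlgSp.Points.ofPt a ⁻¹' {AlgSp.Points.mk p}).Finite := by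
  obtain ⟨A, fst, snd, sqA⟩ := exists_pullback_yon ha.rep p.toHom
  have : QuasiCompact fst.left := hq.property _ _ _ sqA.flip
  have : CompactSpace ↥A.left := QuasiCompact.compactSpace_of_compactSpace fst.left
  have : Etale snd.left := ha.property _ _ _ sqA
  have : DiscreteTopology ↥A.left := discreteTopology_of_etale (k := p.K) snd.left
  have : Finite ↥A.left := finite_of_compact_of_discrete
  refine (Set.finite_range fst.left).subset fun w hw => ?_
  obtain ⟨z, hz, -⟩ := (ofPt_eq_ofPt_iff sqA w (IsLocalRing.closedPoint p.K)).1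
    ((show AlgSp.Points.ofPt a w = AlgSp.Points.mk p from hw).trans
      (AlgSp.Points.ofPt_toHom p _).symm)
  exact ⟨z, hz⟩

theorem finiteAt_of_qc {x : AlgSp.Points X} (p : FieldPt X) (hp : AlgSp.Points.mk p = x)
    (hq : RepWith @QuasiCompact p.toHom) : FiniteAt X x := fun _ _ hV hb => by
  subst hp
  have := hV
  exact finite_fibre_of_qc p hq hb

theorem finiteAt_of_isDecent (hd : IsDecent X) (x : AlgSp.Points X) : FiniteAt X x :=
  let ⟨p, hp, _, hq⟩ := hd x
  finiteAt_of_qc p hp hq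

/-- A specialization inside a fibre of an etale map of schemes is trivial. -/
theorem eq_of_specializes_of_etale {A B : Scheme.{u}} (f : A ⟶ B) [Etale f] {a a' : A} (h : a' ⤳ a)
    (e : f a' = f a) : a' = a := by
  have : LocallyQuasiFinite f := Groth.DescentBase.locallyQuasiFinite_of_etale f
  have hdisc : DiscreteTopology (f ⁻¹' {f a}) :=
    isDiscrete_iff_discreteTopology.mp (f.isDiscrete_preimage_singleton (f a))
  have h' : (⟨a', e⟩ : f ⁻¹' {f a}) ⤳ ⟨a, rfl⟩ :=
    Topology.IsInducing.subtypeVal.specializes_iff.1 h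
  exact congrArg Subtype.val (Specializes.eq h')

/-- Specializations inside fibres of a chart are trivial at points with finite fibres. -/
theorem eq_of_specializes_of_finiteAt (hX : IsAlgSpace X) {x : AlgSp.Points X} (hx : FiniteAt X x)
    {U : Over S} {a : (yon S).obj U ⟶ X} (ha : RepWith @Etale a) {u u' : ↥U.left}
    (hu : AlgSp.Points.ofPt a u = x) (hu' : AlgSp.Points.ofPt a u' = x) (hs : u' ⤳ u) : u = u' := by
  obtain ⟨A, hA, huA, -⟩ :=
    exists_isAffineOpen_mem_and_subset (X := U.left) (x := u) (U := ⊤) trivial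
  let AO : Over S := Over.mk (A.ι ≫ U.hom)
  let jA : AO ⟶ U := Over.homMk A.ι rfl
  have : Etale jA.left := inferInstanceAs (Etale A.ι)
  have : IsAffine AO.left := hA
  let b := (yon S).map jA ≫ a
  have hb : RepWith @Etale b := repWith_comp ((repWith_yon_map_iff _ jA).2 ‹_›) ha
  obtain ⟨P, t, s, sq⟩ := exists_pullback_yon hb.rep b
  have : Etale s.left := repWith_fst_of_isPullback sq hb
  have : Etale t.left := repWith_fst_of_isPullback sq.flip hb
  let F := AlgSp.Points.ofPt b ⁻¹' {x}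
  have hF : F.Finite := hx AO b ‹_› hb
  let B := {v' | v' ∈ F ∧ ∃ v ∈ F, v' ⤳ v ∧ v' ≠ v}
  have step : ∀ v' ∈ B, ∃ v'' ∈ B, v'' ⤳ v' ∧ v'' ≠ v' := by
    rintro v' ⟨hv', v, hv, hvv, hne⟩
    obtain ⟨r, hrt, hrs⟩ := (ofPt_eq_ofPt_iff sq v' v).1
      ((show AlgSp.Points.ofPt b v' = x from hv').trans (show AlgSp.Points.ofPt b v = x from hv).symm)
    subst hrs
    obtain ⟨r', hr', hrs'⟩ := Flat.generalizingMap s.left hvv
    have hsp : t.left r' ⤳ v' := hrt ▸ hr'.map t.left.continuous
    have hmem : t.left r' ∈ F :=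
      ((ofPt_eq_ofPt_iff sq _ _).2 ⟨r', rfl, hrs'⟩).trans hv'
    have hne' : t.left r' ≠ v' := fun e => hne <| by
      have := eq_of_specializes_of_etale t.left hr' (e.trans hrt.symm)
      rw [← hrs', this]
    exact ⟨_, ⟨hmem, v', hv', hsp, hne'⟩, hsp, hne'⟩
  by_contra hne
  have hu'A : u' ∈ A := hs.mem_open A.2 huA
  have hB : B.Nonempty := by
    refine ⟨⟨u', hu'A⟩, ?_, ⟨u, huA⟩, ?_, Topology.IsInducing.subtypeVal.specializes_iff.1 hs,
      fun e => hne (congrArg Subtype.val e).symm⟩ <;>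
    · show AlgSp.Points.ofPt b _ = x
      rw [ofPt_comp_yon]
      assumption
  obtain ⟨v', hv', hmin⟩ := Set.exists_min_image B (fun v => {w ∈ F | w ⤳ v}.ncard)
    (hF.subset fun _ h => h.1) hB
  obtain ⟨v'', hv'', hsp, hne'⟩ := step v' hv'
  have hsub : {w ∈ F | w ⤳ v''} ⊆ {w ∈ F | w ⤳ v'} := fun w hw => ⟨hw.1, hw.2.trans hsp⟩
  refine (hmin v'' hv'').not_gt (Set.ncard_lt_ncard ?_ (hF.subset fun _ h => h.1))
  exact (Set.ssubset_iff_of_subset hsub).2
    ⟨v', ⟨hv'.1, specializes_rfl⟩, fun h => hne' (Specializes.antisymm hsp h.2).eq⟩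

/-- Generizations lift along a chart when the fibre over the generization is finite. -/
theorem exists_specializes_of_finiteAt {x' : AlgSp.Points X} (hx' : FiniteAt X x') {U : Over S}
    {a : (yon S).obj U ⟶ X} (ha : RepWith @Etale a) {u : ↥U.left}
    (h : x' ⤳ AlgSp.Points.ofPt a u) :
    ∃ u' : ↥U.left, u' ⤳ u ∧ AlgSp.Points.ofPt a u' = x' := by
  obtain ⟨A, hA, huA, -⟩ :=
    exists_isAffineOpen_mem_and_subset (X := U.left) (x := u) (U := ⊤) trivial
  let AO : Over S := Over.mk (A.ι ≫ U.hom)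
  let jA : AO ⟶ U := Over.homMk A.ι rfl
  have : Etale jA.left := inferInstanceAs (Etale A.ι)
  have : IsAffine AO.left := hA
  let b := (yon S).map jA ≫ a
  have hb : RepWith @Etale b := repWith_comp ((repWith_yon_map_iff _ jA).2 ‹_›) ha
  have hmem : (⟨u, huA⟩ : ↥AO.left) ∈ AlgSp.Points.ofPt b ⁻¹' closure {x'} := by
    show AlgSp.Points.ofPt b ⟨u, huA⟩ ∈ closure {x'}
    rw [ofPt_comp_yon, ← specializes_iff_mem_closure]
    exact h
  rw [(isOpenMap_ofPt_of_etale hb).preimage_closure_eq_closure_preimage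
      (AlgSp.Points.continuous_ofPt b)] at hmem
  have hfin := hx' AO b ‹_› hb
  rw [← Set.biUnion_of_singleton (AlgSp.Points.ofPt b ⁻¹' {x'}), hfin.closure_biUnion] at hmem
  obtain ⟨v, hv, hvu⟩ := Set.mem_iUnion₂.1 hmem
  refine ⟨jA.left v, ?_, ?_⟩
  · exact (specializes_iff_mem_closure.2 hvu).map jA.left.continuous
  · rw [← ofPt_comp_yon]; exact hv

/-- The space of points of a space with finite fibres everywhere is a T0 space. -/
theorem t0Space_of_finiteAt (hX : IsAlgSpace X) (hfin : ∀ x, FiniteAt X x) :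
    T0Space (AlgSp.Points X) := by
  refine ⟨fun x y hxy => ?_⟩
  obtain ⟨U, p, hp, hps⟩ := hX.atlas
  obtain ⟨v, rfl⟩ := surjective_ofPt_of_repWith hps y
  obtain ⟨u, hu, rfl⟩ := exists_specializes_of_finiteAt (hfin x) hp hxy.specializes
  obtain ⟨v', hv', e⟩ := exists_specializes_of_finiteAt (hfin (AlgSp.Points.ofPt p v)) hp
    hxy.specializes'
  have := eq_of_specializes_of_finiteAt hX (hfin _) hp rfl e (hv'.trans hu)
  subst this
  rw [(Specializes.antisymm hu hv').eq]

theorem t0Space_of_isDecent (hX : IsAlgSpace X) (hd : IsDecent X) : T0Space (AlgSp.Points X) :=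
  t0Space_of_finiteAt hX (finiteAt_of_isDecent hd)

/-- Generalizations lift along flat morphisms of algebraic spaces at points with finite fibres. -/
theorem exists_specializes_of_locP_flat {Y : Sp S} (hX : IsAlgSpace X) (hY : IsAlgSpace Y)
    {f : Y ⟶ X} (hf : LocP @Flat f) {x' : AlgSp.Points X} (hx' : FiniteAt X x')
    (y : AlgSp.Points Y) (h : x' ⤳ AlgSp.Points.map f y) :
    ∃ y' : AlgSp.Points Y, y' ⤳ y ∧ AlgSp.Points.map f y' = x' := by
  obtain ⟨U, p, hp, hps⟩ := hX.atlas
  obtain ⟨W, q, hq, hqs⟩ := hY.atlas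
  obtain ⟨w, rfl⟩ := surjective_ofPt_of_repWith hqs y
  obtain ⟨V, c, g, sq⟩ := exists_pullback_yon hp.rep (q ≫ f)
  have : Etale g.left := hp.property _ _ _ sq
  obtain ⟨u₀, hu₀⟩ := surjective_ofPt_of_repWith hps (AlgSp.Points.map f (AlgSp.Points.ofPt q w))
  obtain ⟨v, hvc, hvg⟩ := (ofPt_eq_ofPt_iff sq u₀ w).1 (hu₀.trans (AlgSp.Points.map_ofPt _ _ _))
  have hflat : Flat c.left := hf ((yon S).map g ≫ q) p c
    (repWith_comp ((repWith_yon_map_iff _ g).2 ‹_›) hq) hp (by rw [Category.assoc, sq.w])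
  obtain ⟨u', hu', e⟩ := exists_specializes_of_finiteAt hx' hp (u := u₀) (hu₀.symm ▸ h)
  obtain ⟨v', hv', e'⟩ := Flat.generalizingMap c.left (hvc.symm ▸ hu' : u' ⤳ c.left v)
  refine ⟨AlgSp.Points.ofPt q (g.left v'), hvg ▸ ((hv'.map g.left.continuous).map
    (AlgSp.Points.continuous_ofPt q)), ?_⟩
  rw [AlgSp.Points.map_ofPt, ← ofPt_comp_yon, ← sq.w, ofPt_comp_yon, e', e]

end Groth.AlgSpBasic
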