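import Groth.Agent.AlgSpBasic.DecentFiniteDense
import Groth.Agent.AlgSpBasic.DecentSober
import Groth.Agent.AlgSpBasic.DecentTop
import Groth.Agent.AlgSpBasic.DecentSpectral

/-!
# Generic points of components of decent spaces
-/

set_option autoImplicit false
set_option backward.isDefEq.respectTransparency.types false
universe u

open CategoryTheory CategoryTheory.Limits AlgebraicGeometry Opposite TopologicalSpace AlgSp

namespace Groth.AlgSpBasic

theorem exists_component_isGenericPoint_iff {α : Type*} [TopologicalSpace α] [T0Space α]
    [QuasiSober α] (x : α) :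
    (∃ T ∈ irreducibleComponents α, IsGenericPoint x T) ↔ ∀ y, y ⤳ x → y = x := by
  constructor
  · rintro ⟨T, hT, hx⟩ y hy
    have hsub : closure {x} ⊆ closure {y} :=
      isClosed_closure.closure_subset_iff.2 (Set.singleton_subset_iff.2 hy.mem_closure)
    have hle : closure {y} ⊆ T :=
      hT.2 isIrreducible_singleton.closure (hx.def ▸ hsub)
    exact ((hy.antisymm (hx.specializes (hle (subset_closure rfl)))).eq)
  · intro h
    refine ⟨closure {x}, ⟨isIrreducible_singleton.closure, fun T' hT' hle => ?_⟩, isGenericPoint_closure⟩
    obtain ⟨η, hη⟩ := QuasiSober.sober hT'.closure isClosed_closure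
    have hηx : η ⤳ x := hη.specializes (subset_closure (hle (subset_closure rfl)))
    rw [← h η hηx, hη.def]
    exact subset_closure

variable {S : Scheme.{u}} {X : Sp S}

/-- On a decent space the points of codimension zero are those without proper generizations. -/
theorem hasAt_codimZero_iff_of_isDecent (hX : IsAlgSpace X) (hd : IsDecent X) (x : AlgSp.Points X) :
    HasAt (fun U u => ringKrullDim ↥(U.presheaf.stalk u) = 0) X x ↔ ∀ y, y ⤳ x → y = x := by
  obtain ⟨U, p, hp, hps⟩ := hX.atlas
  obtain ⟨u, rfl⟩ := surjective_ofPt_of_repWith hps x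
  constructor
  · intro h y hy
    have h0 := (hasAt_iff_forall etaleInvariant_ringKrullDim hX _ _).1 h U p u hp rfl
    obtain ⟨v, hv, rfl⟩ := exists_specializes_of_finiteAt (finiteAt_of_isDecent hd y) hp hy
    rw [eq_of_specializes_of_ringKrullDim_eq_zero h0 v hv]
  · intro h
    refine ⟨U, p, u, hp, rfl, ringKrullDim_eq_zero_iff.2 fun v hv => ?_⟩
    exact (eq_of_specializes_of_finiteAt hX (finiteAt_of_isDecent hd _) hp rfl
      (h _ (hv.map (AlgSp.Points.continuous_ofPt p))) hv).symm

/-- Generic points of components of a decent space are the points of codimension zero. -/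
theorem component_isGenericPoint_iff_codimZero (hX : IsAlgSpace X) (hd : IsDecent X)
    (x : AlgSp.Points X) :
    (∃ T ∈ irreducibleComponents (AlgSp.Points X), IsGenericPoint x T) ↔
      HasAt (fun U u => ringKrullDim ↥(U.presheaf.stalk u) = 0) X x := by
  have : T0Space (AlgSp.Points X) := t0Space_of_isDecent hX hd
  have : QuasiSober (AlgSp.Points X) := quasiSober_of_isDecent hX hd
  rw [exists_component_isGenericPoint_iff, hasAt_codimZero_iff_of_isDecent hX hd]

end Groth.AlgSpBasic
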