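import Mathlib.AlgebraicGeometry.Morphisms.Flat
import Mathlib.RingTheory.Flat.Equalizer
import Mathlib.RingTheory.IsTensorProduct

/-!
# Invariant functions and flat base change
-/

set_option autoImplicit false
set_option backward.isDefEq.respectTransparency.types false
universe u

open CategoryTheory CategoryTheory.Limits AlgebraicGeometry TensorProduct

namespace Groth.AlgSpBasic

/-- Equalizers of rings commute with flat base change. -/
theorem equalizer_flat_baseChange {A B C D B' C' : Type u} [CommRing A] [CommRing B] [CommRing C]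
    [CommRing D] [CommRing B'] [CommRing C'] [Algebra A B] [Algebra A C] [Algebra A D]
    [Module.Flat A D] [Algebra A B'] [Algebra D B'] [Algebra B B'] [IsScalarTower A D B']
    [IsScalarTower A B B'] [Algebra A C'] [Algebra D C'] [Algebra C C'] [IsScalarTower A D C']
    [IsScalarTower A C C'] [Algebra.IsPushout A D B B'] [Algebra.IsPushout A D C C']
    (t s : B →ₐ[A] C) (t' s' : B' →ₐ[D] C')
    (ht : ∀ b, t' (algebraMap B B' b) = algebraMap C C' (t b))
    (hs : ∀ b, s' (algebraMap B B' b) = algebraMap C C' (s b))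
    (hinj : Function.Injective (algebraMap A B))
    (hsurj : ∀ b, t b = s b → ∃ a, algebraMap A B a = b) :
    Function.Injective (algebraMap D B') ∧ ∀ b', t' b' = s' b' → ∃ d, algebraMap D B' d = b' := by
  let ι : A →ₗ[A] B := Algebra.linearMap A B
  let δ : B →ₗ[A] C := t.toLinearMap - s.toLinearMap
  have hexact : Function.Exact ι δ := fun b => by
    constructor
    · exact fun hb => hsurj b (sub_eq_zero.1 hb)
    · rintro ⟨a, rfl⟩
      change t (algebraMap A B a) - s (algebraMap A B a) = 0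
      rw [t.commutes, s.commutes, sub_self]
  have hD := Module.Flat.lTensor_exact D hexact
  have hDinj : Function.Injective (ι.lTensor D) :=
    Module.Flat.lTensor_preserves_injective_linearMap ι hinj
  let eB := Algebra.IsPushout.equiv A D B B'
  let eC := Algebra.IsPushout.equiv A D C C'
  have hι : ∀ d : D, eB (ι.lTensor D (d ⊗ₜ 1)) = algebraMap D B' d := fun d => by
    change eB (d ⊗ₜ algebraMap A B 1) = _
    rw [map_one, Algebra.IsPushout.equiv_tmul, map_one, mul_one]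
  refine ⟨fun d d' h => ?_, fun b' hb' => ?_⟩
  · rw [← hι, ← hι] at h
    have := congrArg (TensorProduct.rid A D) (hDinj (eB.injective h))
    simpa using this
  · have key : ∀ x, eC (δ.lTensor D x) = t' (eB x) - s' (eB x) := fun x => by
      induction x with
      | zero => simp
      | tmul d b =>
        rw [LinearMap.lTensor_tmul, LinearMap.sub_apply, TensorProduct.tmul_sub, map_sub]
        simp only [eB, eC, Algebra.IsPushout.equiv_tmul, map_mul, AlgHom.commutes, ht, hs,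
          AlgHom.toLinearMap_apply]
      | add x y hx hy => simp only [map_add, hx, hy]; abel
    have h0 : δ.lTensor D (eB.symm b') = 0 := eC.injective (by
      rw [key, AlgEquiv.apply_symm_apply, hb', sub_self, map_zero])
    obtain ⟨y, hy⟩ := (hD _).1 h0
    obtain ⟨d, rfl⟩ : ∃ d, d ⊗ₜ[A] (1 : A) = y :=
      ⟨TensorProduct.rid A D y, (TensorProduct.rid A D).injective (by simp)⟩
    exact ⟨d, by rw [← hι, hy, AlgEquiv.apply_symm_apply]⟩

/-- Invariant functions of affine schemes commute with flat base change. -/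
theorem appTop_equalizer_flat {U R Q U' R' Q' : Scheme.{u}} [IsAffine U] [IsAffine R] [IsAffine Q]
    [IsAffine Q'] {π : U ⟶ Q} {t s : R ⟶ U} (w : t ≫ π = s ≫ π) {k : Q' ⟶ Q} [Flat k]
    {kU : U' ⟶ U} {π' : U' ⟶ Q'} (hU : IsPullback kU π' π k) {kR : R' ⟶ R} {t' s' : R' ⟶ U'}
    (ht : IsPullback kR t' t kU) (hs : s' ≫ kU = kR ≫ s) (w' : t' ≫ π' = s' ≫ π')
    (hinj : Function.Injective π.appTop)
    (hsurj : ∀ a, t.appTop a = s.appTop a → ∃ d, π.appTop d = a) :
    Function.Injective π'.appTop ∧ ∀ a, t'.appTop a = s'.appTop a → ∃ d, π'.appTop d = a := by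
  have hR : IsPullback kR (t' ≫ π') (t ≫ π) k := ht.paste_vert hU
  have pB := isPushout_appTop_of_isPullback hU
  have pC := isPushout_appTop_of_isPullback hR
  let _ : Algebra Γ(Q, ⊤) Γ(U, ⊤) := π.appTop.hom.toAlgebra
  let _ : Algebra Γ(Q, ⊤) Γ(R, ⊤) := (t ≫ π).appTop.hom.toAlgebra
  let _ : Algebra Γ(Q, ⊤) Γ(Q', ⊤) := k.appTop.hom.toAlgebra
  let _ : Algebra Γ(Q', ⊤) Γ(U', ⊤) := π'.appTop.hom.toAlgebra
  let _ : Algebra Γ(U, ⊤) Γ(U', ⊤) := kU.appTop.hom.toAlgebra
  let _ : Algebra Γ(Q', ⊤) Γ(R', ⊤) := (t' ≫ π').appTop.hom.toAlgebra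
  let _ : Algebra Γ(R, ⊤) Γ(R', ⊤) := kR.appTop.hom.toAlgebra
  let _ : Algebra Γ(Q, ⊤) Γ(U', ⊤) := (π' ≫ k).appTop.hom.toAlgebra
  let _ : Algebra Γ(Q, ⊤) Γ(R', ⊤) := ((t' ≫ π') ≫ k).appTop.hom.toAlgebra
  have : IsScalarTower Γ(Q, ⊤) Γ(Q', ⊤) Γ(U', ⊤) :=
    IsScalarTower.of_algebraMap_eq' (congrArg CommRingCat.Hom.hom (Scheme.Hom.comp_appTop π' k))
  have : IsScalarTower Γ(Q, ⊤) Γ(U, ⊤) Γ(U', ⊤) :=
    IsScalarTower.of_algebraMap_eq' (congrArg CommRingCat.Hom.hom
      ((congrArg (fun f : U' ⟶ Q => f.appTop) hU.w.symm).trans (Scheme.Hom.comp_appTop kU π)))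
  have : IsScalarTower Γ(Q, ⊤) Γ(Q', ⊤) Γ(R', ⊤) :=
    IsScalarTower.of_algebraMap_eq' (congrArg CommRingCat.Hom.hom
      (Scheme.Hom.comp_appTop (t' ≫ π') k))
  have : IsScalarTower Γ(Q, ⊤) Γ(R, ⊤) Γ(R', ⊤) :=
    IsScalarTower.of_algebraMap_eq' (congrArg CommRingCat.Hom.hom
      ((congrArg (fun f : R' ⟶ Q => f.appTop) hR.w.symm).trans (Scheme.Hom.comp_appTop kR (t ≫ π))))
  have : Module.Flat Γ(Q, ⊤) Γ(Q', ⊤) := k.flat_appTop
  have : Algebra.IsPushout Γ(Q, ⊤) Γ(Q', ⊤) Γ(U, ⊤) Γ(U', ⊤) :=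
    CommRingCat.isPushout_iff_isPushout.1 pB.flip
  have : Algebra.IsPushout Γ(Q, ⊤) Γ(Q', ⊤) Γ(R, ⊤) Γ(R', ⊤) :=
    CommRingCat.isPushout_iff_isPushout.1 pC.flip
  have cU : ∀ (f : R ⟶ U), f ≫ π = t ≫ π → ∀ a, f.appTop (π.appTop a) = (t ≫ π).appTop a :=
    fun f hf a => by rw [← hf, Scheme.Hom.comp_appTop]; rfl
  have cU' : ∀ (f : R' ⟶ U'), f ≫ π' = t' ≫ π' → ∀ a, f.appTop (π'.appTop a) = (t' ≫ π').appTop a :=
    fun f hf a => by rw [← hf, Scheme.Hom.comp_appTop]; rfl
  have kk : ∀ (f' : R' ⟶ U') (f : R ⟶ U), f' ≫ kU = kR ≫ f → ∀ b,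
      f'.appTop (kU.appTop b) = kR.appTop (f.appTop b) := fun f' f hf b => by
    have := congrArg (fun g : R' ⟶ U => g.appTop b) hf
    simp only [Scheme.Hom.comp_appTop] at this
    exact this
  exact equalizer_flat_baseChange (A := Γ(Q, ⊤)) (D := Γ(Q', ⊤))
    { t.appTop.hom with commutes' := cU t rfl } { s.appTop.hom with commutes' := cU s w.symm }
    { t'.appTop.hom with commutes' := cU' t' rfl }
    { s'.appTop.hom with commutes' := cU' s' w'.symm }
    (kk t' t ht.w.symm) (kk s' s hs) hinj hsurj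

end Groth.AlgSpBasic
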