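import Groth.Agent.AlgSpBasic.MonoDiscrete
import Groth.Agent.AlgSpBasic.DenseSchemeQS
import Groth.Agent.PropsBasic.ZeroDim

/-!
# Zero-dimensional algebraic spaces are separated schemes
-/

set_option autoImplicit false
set_option backward.isDefEq.respectTransparency.types false
universe u

open CategoryTheory CategoryTheory.Limits AlgebraicGeometry Opposite TopologicalSpace AlgSp

namespace Groth.AlgSpBasic

variable {S : Scheme.{u}}

theorem topologicalKrullDim_le_of_dim_le {X : Sp S} {d : WithBot ℕ∞} (h : AlgSp.dim X ≤ d)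
    {U : Over S} {a : (yon S).obj U ⟶ X} (ha : RepWith @Etale a) :
    topologicalKrullDim ↥U.left ≤ d :=
  le_trans (le_iSup₂_of_le U a (le_iSup (fun _ : RepWith @Etale a => topologicalKrullDim ↥U.left) ha)) h

theorem codimZero_chart_of_dim_le_zero {X : Sp S} (h : AlgSp.dim X ≤ 0) {U : Over S}
    {a : (yon S).obj U ⟶ X} (ha : RepWith @Etale a) (u : ↥U.left) :
    ringKrullDim ↥(U.left.presheaf.stalk u) = 0 :=
  ringKrullDim_eq_zero_iff.2 fun y hy => Groth.PropsBasic.ZD.eq_of_specializes_of_dim_le_zero
    (topologicalKrullDim_le_of_dim_le h ha) y u hy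

theorem exists_iso_of_representable (X : Space S) (h : X.obj.obj.IsRepresentable) :
    ∃ G : Over S, Nonempty ((yon S).obj G ≅ X.obj) := by
  obtain ⟨G, ⟨e⟩⟩ := h
  exact ⟨G, ⟨isoOfRepresentableBy e⟩⟩

/-- A zero-dimensional scheme over a space is separated with affine quasi-compact opens. -/
theorem separated_of_dim_zero {X : Sp S} (h : AlgSp.dim X ≤ 0) {G : Over S}
    (e : (yon S).obj G ≅ X) [QuasiSeparatedSpace ↥G.left] :
    G.left.IsSeparated ∧ ∀ V : G.left.Opens, IsCompact (V : Set ↥G.left) → IsAffineOpen V :=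
  have h1 : ∀ x y : ↥G.left, x ⤳ y → x = y :=
    Groth.PropsBasic.ZD.eq_of_specializes_of_dim_le_zero
      (topologicalKrullDim_le_of_dim_le h (a := e.hom) (repWith_isIso _))
  ⟨Groth.PropsBasic.ZD.isSeparated h1,
    fun _ hV => Groth.PropsBasic.ZD.isAffineOpen_of_isCompact h1 hV⟩

theorem exists_scheme_of_qs_dim_zero [QuasiSeparatedSpace ↥S] (X : Space S)
    (hqs : IsQuasiSeparatedSp X.obj) (h : AlgSp.dim X.obj ≤ 0) :
    ∃ (U : Over S) (_ : (yon S).obj U ≅ X.obj), U.left.IsSeparated ∧
      ∀ V : U.left.Opens, IsCompact (V : Set ↥U.left) → IsAffineOpen V := by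
  obtain ⟨G, ⟨e⟩⟩ := exists_iso_of_representable X (isRepresentable_of_schematic X fun x => by
    obtain ⟨U, p, hp, hps⟩ := X.property.atlas
    obtain ⟨u, rfl⟩ := surjective_ofPt_of_repWith hps x
    exact isSchematicPt_of_qs X.property hqs
      ⟨U, p, u, hp, rfl, codimZero_chart_of_dim_le_zero h hp u⟩)
  have : QuasiSeparated G.hom := quasiSeparated_hom_of_mono hqs e.hom
  have : QuasiSeparatedSpace ↥G.left := quasiSeparatedSpace_of_quasiSeparated G.hom
  exact ⟨G, e, separated_of_dim_zero h e⟩

variable {k : Type u} [Field k]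

/-- An affine scheme of dimension zero and of finite type over a field is finite. -/
theorem finite_of_dim_zero {A : Scheme.{u}} [CompactSpace A] (f : A ⟶ Spec (CommRingCat.of k))
    [LocallyOfFiniteType f] (h : topologicalKrullDim A ≤ 0) : Finite A := by
  have : QuasiCompact f := inferInstance
  have := finite_fibre_of_no_specializes f (v := IsLocalRing.closedPoint k) fun w w' _ _ hs =>
    Groth.PropsBasic.ZD.eq_of_specializes_of_dim_le_zero h w w' hs
  exact Set.finite_univ_iff.1 (this.subset fun a _ =>
    Subsingleton.elim (α := ↥(Spec (CommRingCat.of k))) _ _)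

theorem exists_scheme_of_field_dim_zero (X : Space (Spec (CommRingCat.of k)))
    (p : X.obj ⟶ (yon (Spec (CommRingCat.of k))).obj (Over.mk (𝟙 _)))
    (hp : LocP @LocallyOfFiniteType p) (h : AlgSp.dim X.obj ≤ 0) :
    ∃ (U : Over (Spec (CommRingCat.of k)))
      (_ : (yon (Spec (CommRingCat.of k))).obj U ≅ X.obj), U.left.IsSeparated ∧
      ∀ V : U.left.Opens, IsCompact (V : Set ↥U.left) → IsAffineOpen V := by
  have hlft : ∀ {W : Over (Spec (CommRingCat.of k))} (c : (yon _).obj W ⟶ X.obj),
      RepWith @Etale c → LocallyOfFiniteType W.hom := by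
    intro W c hc
    obtain ⟨ω, hω⟩ := (yon _).map_surjective (c ≫ p)
    have := hp c (𝟙 _) ω hc (repWith_id _ _) (by rw [Category.comp_id, hω])
    have e : ω.left = W.hom := by rw [← Over.w ω]; exact (Category.comp_id _).symm
    rwa [e] at this
  obtain ⟨G, ⟨e⟩⟩ := exists_iso_of_representable X (isRepresentable_of_schematic X fun x => by
    obtain ⟨U, a₀, ha₀, has⟩ := X.property.atlas
    obtain ⟨u, rfl⟩ := surjective_ofPt_of_repWith has x
    obtain ⟨A₀, hA, huA, -⟩ :=
      exists_isAffineOpen_mem_and_subset (X := U.left) (x := u) (U := ⊤) trivial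
    let A : Over (Spec (CommRingCat.of k)) := Over.mk (A₀.ι ≫ U.hom)
    let jA : A ⟶ U := Over.homMk A₀.ι rfl
    have : IsAffine A.left := hA
    let a : (yon _).obj A ⟶ X.obj := (yon _).map jA ≫ a₀
    have ha : RepWith @Etale a :=
      repWith_comp ((repWith_yon_map_iff _ jA).2 (inferInstanceAs (Etale A₀.ι))) ha₀
    have : LocallyOfFiniteType A.hom := hlft a ha
    have : Finite ↥A.left := finite_of_dim_zero A.hom (topologicalKrullDim_le_of_dim_le h ha)
    have : LocallyQuasiFinite A.hom :=
      LocallyQuasiFinite.of_finite_preimage_singleton (f := A.hom) fun _ => Set.toFinite _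
    have : IsFinite A.hom := Groth.AlgSp2.isFinite_of_finite (K := k) A.hom
    obtain ⟨R, t, s, sq⟩ := exists_pullback_yon ha.rep a
    have : Etale s.left := repWith_fst_of_isPullback sq ha
    have : IsSeparated s.left := isSeparated_kernelPair sq
    have e₀ : t.left ≫ A.hom = s.left ≫ A.hom := (Over.w t).trans (Over.w s).symm
    have := mono_lift_kernelPair sq e₀
    have : Finite ↥(pullback A.hom A.hom) :=
      Groth.AlgSp2.finite_of_isFinite (pullback.snd A.hom A.hom)
    have : Finite ↥R.left :=
      Finite.of_injective _ (pullback.lift t.left s.left e₀).injective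
    let v : ↥A.left := ⟨u, huA⟩
    obtain ⟨D, -, hvD, hDf⟩ := exists_isFinite_of_codimZero s.left
      (codimZero_chart_of_dim_le_zero h ha v) (Set.toFinite _) (Set.toFinite _)
    have := hDf
    have h' := isSchematicPt_of_finite ha sq D hvD
    rwa [ofPt_comp_yon] at h')
  have : T2Space ↥G.left := by
    have : LocallyOfFiniteType G.hom := hlft e.hom (repWith_isIso _)
    have hd : topologicalKrullDim ↥G.left ≤ 0 :=
      topologicalKrullDim_le_of_dim_le h (a := e.hom) (repWith_isIso _)
    have : DiscreteTopology ↥G.left := discreteTopology_iff_isOpen_singleton.2 fun x => by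
      obtain ⟨B, hB, hxB, -⟩ :=
        exists_isAffineOpen_mem_and_subset (X := G.left) (x := x) (U := ⊤) trivial
      have : IsAffine (B : Scheme) := hB
      have hdB : topologicalKrullDim ↥(B : Scheme) ≤ 0 :=
        (B.ι.isOpenEmbedding.isInducing.topologicalKrullDim_le).trans hd
      have : Finite ↥(B : Scheme) := finite_of_dim_zero (B.ι ≫ G.hom) hdB
      have : T1Space ↥(B : Scheme) := ⟨fun z => by
        refine isClosed_of_closure_subset fun w hw => ?_
        exact (Groth.PropsBasic.ZD.eq_of_specializes_of_dim_le_zero hdB z w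
          (specializes_iff_mem_closure.2 hw)).symm⟩
      have h' := B.ι.isOpenEmbedding.isOpenMap _ (isOpen_discrete ({⟨x, hxB⟩} : Set ↥(B : Scheme)))
      rwa [Set.image_singleton] at h'
    infer_instance
  have : QuasiSeparatedSpace ↥G.left := Groth.PropsBasic.ZD.quasiSeparatedSpace_of_t2
  exact ⟨G, e, separated_of_dim_zero h e⟩

end Groth.AlgSpBasic
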