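import Groth.Agent.AlgSpBasic.PointSpace
import Groth.Agent.AlgSpBasic.Glue

/-!
# Residual spaces: monomorphisms from one-point spaces
-/

set_option autoImplicit false
set_option backward.isDefEq.respectTransparency.types false
universe u

open CategoryTheory CategoryTheory.Limits AlgebraicGeometry Opposite TopologicalSpace AlgSp

namespace Groth.AlgSpBasic

variable {S : Scheme.{u}}

/-- A preimmersion into a scheme with discrete space and field stalks is an open immersion. -/
theorem isOpenImmersion_of_preimmersion {A B : Scheme.{u}} (f : A ⟶ B) [IsPreimmersion f]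
    [DiscreteTopology B] (h : FieldStalks B) : IsOpenImmersion f := by
  rw [IsOpenImmersion.iff_isIso_stalkMap]
  refine ⟨⟨f.isEmbedding, isOpen_discrete _⟩, fun a => ?_⟩
  rw [ConcreteCategory.isIso_iff_bijective]
  refine ⟨?_, f.stalkMap_surjective a⟩
  let := (h (f a)).toField
  exact (f.stalkMap a).hom.injective

variable {X : Sp S}

/-- A monomorphism to a space with an fppf point from a field is empty or an isomorphism. -/
theorem isEmpty_or_isIso_of_mono_pointSpace {Z Z' : Sp S} (hZ : IsAlgSpace Z) (hZ' : IsAlgSpace Z')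
    (f : Z' ⟶ Z) [Mono f] {k : Type u} [Field k] {str : Spec (CommRingCat.of k) ⟶ S}
    {p : (yon S).obj (Over.mk str) ⟶ Z} (hfp : LocP @LocallyOfFinitePresentation p)
    (hf : LocP @Flat p) (hs : IsSurjectiveMor p) : IsEmpty (AlgSp.Points Z') ∨ IsIso f := by
  have hr : Representable p := hZ.representable_from_yon p
  have : Sheaf.IsLocallySurjective p := isLocallySurjective_of_repWith p
    (repWith_of_locP hZ hr hf) (repWith_of_locP hZ hr hfp) (repWith_surjective_of_points hr hs)
  have sq := IsPullback.of_hasPullback f p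
  have hk : IsAlgSpace ((yon S).obj (Over.mk str)) := IsAlgSpace.yon_obj _
  have hP : IsAlgSpace (pullback f p) := isAlgSpace_of_isPullback sq hZ.diag hZ' hk
  rcases isEmpty_or_isIso_of_mono hP (pullback.snd f p) with h | h
  · refine Or.inl ⟨fun z => ?_⟩
    obtain ⟨y, hy⟩ := hs (AlgSp.Points.map f z)
    obtain ⟨w, -⟩ := exists_point_of_isPullback sq z y hy.symm
    exact h.false w
  · refine Or.inr ?_
    have : Sheaf.IsLocallySurjective f := by
      rw [Sheaf.isLocallySurjective_iff_epi]
      have := (Sheaf.isLocallySurjective_iff_epi p).1 inferInstance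
      have e : (inv (pullback.snd f p) ≫ pullback.fst f p) ≫ f = p := by
        rw [Category.assoc, pullback.condition, IsIso.inv_hom_id_assoc]
      have : Epi ((inv (pullback.snd f p) ≫ pullback.fst f p) ≫ f) := e.symm ▸ this
      exact epi_of_epi (inv (pullback.snd f p) ≫ pullback.fst f p) f
    have := (Sheaf.isLocallySurjective_iff_epi f).1 inferInstance
    exact isIso_of_mono_of_epi f

/-- Two one-point subspaces with fppf points over the same point agree. -/
theorem exists_iso_of_mono_pointSpaces (hX : IsAlgSpace X) {Z Z' : Sp S} (hZ : IsAlgSpace Z)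
    (hZ' : IsAlgSpace Z') (i : Z ⟶ X) (i' : Z' ⟶ X) [Mono i] [Mono i'] {x : AlgSp.Points X}
    (hi : Set.range (AlgSp.Points.map i) = {x}) (hi' : Set.range (AlgSp.Points.map i') = {x})
    {k : Type u} [Field k] {str : Spec (CommRingCat.of k) ⟶ S}
    {p : (yon S).obj (Over.mk str) ⟶ Z} (hfp : LocP @LocallyOfFinitePresentation p)
    (hf : LocP @Flat p) (hs : IsSurjectiveMor p)
    {k' : Type u} [Field k'] {str' : Spec (CommRingCat.of k') ⟶ S}
    {p' : (yon S).obj (Over.mk str') ⟶ Z'} (hfp' : LocP @LocallyOfFinitePresentation p')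
    (hf' : LocP @Flat p') (hs' : IsSurjectiveMor p') :
    ∃ e : Z' ≅ Z, e.hom ≫ i = i' := by
  have sq := IsPullback.of_hasPullback i i'
  have hP : IsAlgSpace (pullback i i') := isAlgSpace_of_isPullback sq hX.diag hZ hZ'
  obtain ⟨z, hz⟩ : x ∈ Set.range (AlgSp.Points.map i) := hi ▸ rfl
  obtain ⟨z', hz'⟩ : x ∈ Set.range (AlgSp.Points.map i') := hi' ▸ rfl
  obtain ⟨w, -⟩ := exists_point_of_isPullback sq z z' (hz.trans hz'.symm)
  have h₁ : IsIso (pullback.fst i i') :=
    (isEmpty_or_isIso_of_mono_pointSpace hZ hP (pullback.fst i i') hfp hf hs).resolve_left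
      fun h => h.false w
  have h₂ : IsIso (pullback.snd i i') :=
    (isEmpty_or_isIso_of_mono_pointSpace hZ' hP (pullback.snd i i') hfp' hf' hs').resolve_left
      fun h => h.false w
  exact ⟨(asIso (pullback.snd i i')).symm ≪≫ asIso (pullback.fst i i'), by
    simp [pullback.condition]⟩

/-- The kernel pair of a residue point of a chart is etale over the point. -/
theorem etale_kernelPair_residue (hX : IsAlgSpace X) {U : Over S} {a : (yon S).obj U ⟶ X}
    (ha : RepWith @Etale a) (u : ↥U.left) {R : Over S}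
    {t' s' : R ⟶ Over.mk (U.left.fromSpecResidueField u ≫ U.hom)}
    (sqR : IsPullback ((yon S).map t') ((yon S).map s')
      ((yon S).map (Over.homMk (U.left.fromSpecResidueField u) rfl :
        Over.mk (U.left.fromSpecResidueField u ≫ U.hom) ⟶ U) ≫ a)
      ((yon S).map (Over.homMk (U.left.fromSpecResidueField u) rfl :
        Over.mk (U.left.fromSpecResidueField u ≫ U.hom) ⟶ U) ≫ a)) :
    Etale s'.left := by
  let j : Over.mk (U.left.fromSpecResidueField u ≫ U.hom) ⟶ U :=
    Over.homMk (U.left.fromSpecResidueField u) rfl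
  obtain ⟨F, qU, sF, sqF⟩ := exists_pullback_yon ha.rep ((yon S).map j ≫ a)
  have hEt : Etale sF.left := ha.property _ _ _ sqF
  obtain ⟨l, hl⟩ := (yon S).map_surjective (sqF.lift ((yon S).map (t' ≫ j)) ((yon S).map s')
    (by rw [Functor.map_comp, Category.assoc]; exact sqR.w))
  have h₁ : (yon S).map l ≫ (yon S).map qU = (yon S).map t' ≫ (yon S).map j := by
    rw [hl, sqF.lift_fst, Functor.map_comp]
  have h₂ : (yon S).map l ≫ (yon S).map sF = (yon S).map s' := by rw [hl, sqF.lift_snd]
  have hp : IsPullback ((yon S).map t') ((yon S).map l) ((yon S).map j) ((yon S).map qU) :=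
    IsPullback.of_bot (h₂.symm ▸ sqR) h₁.symm sqF
  have hp' := isPullback_left (isPullback_of_yon hp)
  have hj : IsPreimmersion j.left := inferInstanceAs (IsPreimmersion (U.left.fromSpecResidueField u))
  have hlp : IsPreimmersion l.left := MorphismProperty.of_isPullback (P := @IsPreimmersion) hp' hj
  have : DiscreteTopology ↥F.left := discreteTopology_of_etale (k := U.left.residueField u) sF.left
  have : IsOpenImmersion l.left :=
    isOpenImmersion_of_preimmersion l.left (fieldStalks_of_etale (k := U.left.residueField u) sF.left)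
  have e : l ≫ sF = s' := (yon S).map_injective (by rw [Functor.map_comp, h₂])
  rw [← e, Over.comp_left]
  infer_instance

/-- Every point lies on a one-point subspace with an fppf point. -/
theorem exists_pointSpace (hX : IsAlgSpace X) (x : AlgSp.Points X) :
    ∃ (Z : Sp S) (i : Z ⟶ X), IsAlgSpace Z ∧ Mono i ∧ Set.range (AlgSp.Points.map i) = {x} ∧
      ∃ (k : Type u) (_ : Field k) (str : Spec (CommRingCat.of k) ⟶ S)
        (p : (yon S).obj (Over.mk str) ⟶ Z),
        LocP @LocallyOfFinitePresentation p ∧ LocP @Flat p ∧ IsSurjectiveMor p := by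
  obtain ⟨U, a, ha, has⟩ := hX.atlas
  obtain ⟨u, rfl⟩ := surjective_ofPt_of_repWith has x
  let K : Over S := Over.mk (U.left.fromSpecResidueField u ≫ U.hom)
  let j : K ⟶ U := Over.homMk (U.left.fromSpecResidueField u) rfl
  let c : (yon S).obj K ⟶ X := (yon S).map j ≫ a
  obtain ⟨R, t', s', sqR⟩ := exists_pullback_yon (hX.representable_from_yon c) c
  have : Etale s'.left := etale_kernelPair_residue hX ha u sqR
  have : Etale t'.left := etale_kernelPair_residue hX ha u sqR.flip
  have sqπ : IsPullback ((yon S).map t') ((yon S).map s') (factorThruImage c) (factorThruImage c) :=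
    Groth.AlgSp2.isPullback_of_comp_mono sqR (image.fac c) (image.fac c)
  have : Sheaf.IsLocallySurjective (factorThruImage c) :=
    (Sheaf.isLocallySurjective_iff_epi _).2 inferInstance
  obtain ⟨hZ, he, hs⟩ := isAlgSpace_of_kernelPair sqπ
  have hsurj : IsSurjectiveMor (factorThruImage c) := surjective_map_of_repWith hs
  refine ⟨image c, image.ι c, hZ, inferInstance, ?_, U.left.residueField u, inferInstance, _,
    factorThruImage c,
    locP_of_repWith (repWith_mono (P := @Etale) (Q := @LocallyOfFinitePresentation)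
      (fun _ _ φ (_ : Etale φ) => inferInstance) he),
    locP_of_repWith (repWith_flat_of_etale he), hsurj⟩
  have hpt : ∀ y : AlgSp.Points ((yon S).obj K),
      AlgSp.Points.map c y = AlgSp.Points.ofPt a u := fun y => by
    obtain ⟨z, rfl⟩ := (AlgSp.Points.schemeEquiv K).surjective y
    rw [show AlgSp.Points.map c (AlgSp.Points.schemeEquiv K z) = AlgSp.Points.ofPt c z from
      (ofPt_eq_map c z).symm, ofPt_comp_yon]
    exact congrArg (AlgSp.Points.ofPt a) (Scheme.fromSpecResidueField_apply _ _)
  refine Set.eq_singleton_iff_unique_mem.2 ⟨⟨AlgSp.Points.map (factorThruImage c)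
    (AlgSp.Points.schemeEquiv K (default : ↥(Spec (U.left.residueField u)))), ?_⟩, ?_⟩
  · rw [← AlgSp.Points.map_comp, image.fac, hpt]
  · rintro _ ⟨z, rfl⟩
    obtain ⟨y, rfl⟩ := hsurj z
    rw [← AlgSp.Points.map_comp, image.fac, hpt]

/-- A morphism from a reduced scheme landing in one point factors through its residue field. -/
theorem exists_fac_fromSpecResidueField {W Y : Scheme.{u}} [IsReduced W] (f : W ⟶ Y) (u : Y)
    (h : ∀ w, f w = u) : ∃ g, g ≫ Y.fromSpecResidueField u = f := by
  let P := pullback f (Y.fromSpecResidueField u)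
  let q : P ⟶ W := pullback.fst _ _
  have : IsPreimmersion q :=
    MorphismProperty.pullback_fst (P := @IsPreimmersion) _ _ inferInstance
  have hs : Function.Surjective q := fun w => by
    obtain ⟨z, hz, -⟩ := Scheme.Pullback.exists_preimage_pullback (f := f)
      (g := Y.fromSpecResidueField u) w (default : ↥(Spec (Y.residueField u)))
      (by rw [h w, Scheme.fromSpecResidueField_apply])
    exact ⟨z, hz⟩
  have : Surjective q := ⟨hs⟩
  have : IsClosedImmersion q := .of_isPreimmersion _ (by rw [hs.range_eq]; exact isClosed_univ)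
  have : IsIso q := isIso_of_isClosedImmersion_of_surjective q
  exact ⟨inv q ≫ pullback.snd _ _, by
    rw [Category.assoc, ← pullback.condition, IsIso.inv_hom_id_assoc]⟩

/-- A morphism from a reduced space landing in a point with a quasi-compact monomorphic representative
factors through it. -/
theorem exists_fac_of_range_subset_point (hX : IsAlgSpace X) {Y : Sp S} (hY : IsAlgSpace Y)
    (f : Y ⟶ X) (p : FieldPt X) [Mono p.toHom] (hq : RepWith @QuasiCompact p.toHom)
    (hr : IsReducedSp Y) (hf : ∀ y, AlgSp.Points.map f y = AlgSp.Points.mk p) :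
    ∃ g : Y ⟶ (yon S).obj p.pt, g ≫ p.toHom = f := by
  obtain ⟨V, b, hb, hbs, hV⟩ := hr
  have : IsReduced V.left := hV
  obtain ⟨U, a, ha, has⟩ := hX.atlas
  obtain ⟨W, wU, wV, sqW⟩ := exists_pullback_yon ha.rep (b ≫ f)
  have : Etale wV.left := ha.property _ _ _ sqW
  have : Surjective wV.left := has.property _ _ _ sqW
  have : IsReduced W.left := Groth.AlgSp2.isReduced_of_smooth_morphism wV.left
  obtain ⟨T, tU, tk, sqT⟩ := exists_pullback_yon ha.rep p.toHom
  have : Mono tU := (yon S).mono_of_mono_map (Groth.AlgSp2.mono_fst_of_isPullback sqT)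
  have : Mono tU.left := inferInstanceAs (Mono ((Over.forget S).map tU))
  let P := pullback f p.toHom
  have : Mono (pullback.fst f p.toHom) := inferInstance
  let F := AlgSp.Points.ofPt a ⁻¹' {AlgSp.Points.mk p}
  have hwF : ∀ w, wU.left w ∈ F := fun w => by
    show AlgSp.Points.ofPt a (wU.left w) = _
    rw [← ofPt_comp_yon, sqW.w, ← Category.assoc, ← AlgSp.Points.map_ofPt, hf]
  have local' : ∀ w : ↥W.left, ∃ O : W.left.Opens, w ∈ O ∧
      ∃ l : (yon S).obj (Over.mk (O.ι ≫ W.hom)) ⟶ P, l ≫ pullback.fst f p.toHom =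
        ((yon S).map (Over.homMk O.ι rfl : Over.mk (O.ι ≫ W.hom) ⟶ W) ≫ (yon S).map wV) ≫ b := by
    intro w
    obtain ⟨A, hA, huA, -⟩ :=
      exists_isAffineOpen_mem_and_subset (X := U.left) (x := wU.left w) (U := ⊤) trivial
    let AO : Over S := Over.mk (A.ι ≫ U.hom)
    let jA : AO ⟶ U := Over.homMk A.ι rfl
    have : Etale jA.left := inferInstanceAs (Etale A.ι)
    have : IsAffine AO.left := hA
    have hFA : (A.ι ⁻¹' F).Finite :=
      ((finite_fibre_of_qc (W := AO) p hq
        (repWith_comp ((repWith_yon_map_iff _ jA).2 ‹_›) ha)).subset fun v hv => by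
          show AlgSp.Points.ofPt _ v = _
          rw [ofPt_comp_yon]; exact hv)
    have hG : ((A : Set ↥U.left) ∩ F).Finite :=
      (hFA.image A.ι).subset fun v hv => ⟨⟨v, hv.1⟩, hv.2, rfl⟩
    let C : Set ↥U.left := ⋃ v ∈ ((A : Set ↥U.left) ∩ F) \ {wU.left w}, closure {v}
    have hC : IsClosed C := hG.sdiff.isClosed_biUnion fun v _ => isClosed_closure
    let O : W.left.Opens := wU.left ⁻¹ᵁ (A ⊓ ⟨Cᶜ, hC.isOpen_compl⟩)
    have hwO : w ∈ O := ⟨huA, fun h => by
      obtain ⟨v, hv, hvc⟩ := Set.mem_iUnion₂.1 h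
      exact hv.2 (eq_of_specializes_of_finiteAt hX (finiteAt_of_qc p rfl hq) ha (hwF w) hv.1.2
        (specializes_iff_mem_closure.2 hvc)).symm⟩
    have hO : ∀ z : (O : Scheme), (O.ι ≫ wU.left) z = wU.left w := fun z => by
      by_contra hne
      exact z.2.2 (Set.mem_iUnion₂.2 ⟨_, ⟨⟨z.2.1, hwF z.1⟩, hne⟩, subset_closure rfl⟩)
    obtain ⟨t, htU, -⟩ := (ofPt_eq_ofPt_iff sqT (wU.left w) (IsLocalRing.closedPoint p.K)).1
      ((show AlgSp.Points.ofPt a (wU.left w) = _ from hwF w).trans
        (AlgSp.Points.ofPt_toHom p _).symm)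
    obtain ⟨g, hg⟩ := exists_fac_fromSpecResidueField (O.ι ≫ wU.left) (tU.left t)
      (fun z => (hO z).trans htU.symm)
    have := isIso_residueFieldMap_of_mono tU.left t
    let m : (O : Scheme) ⟶ T.left :=
      g ≫ Spec.map (inv (tU.left.residueFieldMap t)) ≫ T.left.fromSpecResidueField t
    have hm : m ≫ tU.left = O.ι ≫ wU.left := by
      have e : T.left.fromSpecResidueField t ≫ tU.left =
          Spec.map (tU.left.residueFieldMap t) ≫ U.left.fromSpecResidueField (tU.left t) :=
        (Scheme.Hom.SpecMap_residueFieldMap_fromSpecResidueField tU.left t).symm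
      simp only [m, Category.assoc, e]
      rw [← Category.assoc (Spec.map _), ← Spec.map_comp, IsIso.hom_inv_id, Spec.map_id,
        Category.id_comp, hg]
    let jO : Over.mk (O.ι ≫ W.hom) ⟶ W := Over.homMk O.ι rfl
    let mT : Over.mk (O.ι ≫ W.hom) ⟶ T := Over.homMk m (by
      change m ≫ T.hom = O.ι ≫ W.hom
      rw [← Over.w tU, ← Category.assoc, hm, Category.assoc, Over.w wU])
    have hmT : mT ≫ tU = jO ≫ wU := by ext1; exact hm
    refine ⟨O, hwO, pullback.lift (((yon S).map jO ≫ (yon S).map wV) ≫ b)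
      ((yon S).map (mT ≫ tk)) ?_, pullback.lift_fst _ _ _⟩
    rw [Category.assoc, Category.assoc, ← sqW.w, ← Category.assoc, ← Functor.map_comp, ← hmT,
      Functor.map_comp, Category.assoc, sqT.w, Functor.map_comp, Category.assoc]
  choose O hwO l hl using local'
  let 𝒰 : W.left.OpenCover := Scheme.openCoverOfIsOpenCover _ O
    (top_le_iff.1 fun w _ => Opens.mem_iSup.2 ⟨w, hwO w⟩)
  have hl' : ∀ i : 𝒰.I₀, l i ≫ pullback.fst f p.toHom =
      ((yon S).map (Over.homMk (𝒰.f i) rfl : Over.mk (𝒰.f i ≫ W.hom) ⟶ W) ≫ (yon S).map wV) ≫ b := hl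
  obtain ⟨L, hL⟩ := exists_glue_of_openCover (F := P) 𝒰 l fun i k Z q r h => by
    rw [← cancel_mono (pullback.fst f p.toHom), Category.assoc, Category.assoc]
    refine (congrArg _ (hl' i)).trans (Eq.trans ?_ (congrArg _ (hl' k)).symm)
    simp only [← Category.assoc, ← Functor.map_comp]
    congr 3
    ext1
    exact h
  have hLf : L ≫ pullback.fst f p.toHom = (yon S).map wV ≫ b := by
    have key : ∀ i, (yon S).map (Over.homMk (𝒰.f i) rfl : Over.mk (𝒰.f i ≫ W.hom) ⟶ W) ≫
        L ≫ pullback.fst f p.toHom =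
      (yon S).map (Over.homMk (𝒰.f i) rfl : Over.mk (𝒰.f i ≫ W.hom) ⟶ W) ≫ (yon S).map wV ≫ b :=
      fun i => by rw [reassoc_of% (hL i)]; exact (hl' i).trans (Category.assoc _ _ _)
    exact Groth.AlgSp2.yon_hom_ext_of_openCover 𝒰 _ _ key
  have : Sheaf.IsLocallySurjective b := isLocallySurjective_of_etale b hb hbs
  have : Sheaf.IsLocallySurjective ((yon S).map wV) := isLocallySurjective_of_etale _
    ((repWith_yon_map_iff _ wV).2 ‹_›) ((repWith_yon_map_iff _ wV).2 ‹_›)
  have := (Sheaf.isLocallySurjective_iff_epi b).1 inferInstance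
  have := (Sheaf.isLocallySurjective_iff_epi ((yon S).map wV)).1 inferInstance
  have : Epi (L ≫ pullback.fst f p.toHom) := by rw [hLf]; infer_instance
  have : Epi (pullback.fst f p.toHom) := epi_of_epi L _
  have : IsIso (pullback.fst f p.toHom) := isIso_of_mono_of_epi _
  exact ⟨inv (pullback.fst f p.toHom) ≫ pullback.snd f p.toHom, by
    rw [Category.assoc, ← pullback.condition, IsIso.inv_hom_id_assoc]⟩

end Groth.AlgSpBasic
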