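import Groth.Agent.AlgSpBasic.FiniteImmersion
import Groth.Agent.AlgSpBasic.ImmersionDescent
import Groth.Agent.AlgSpBasic.DiagProps
import Groth.Agent.AlgSpBasic.Sep
import Groth.Agent.AlgSpBasic.Compact
import Groth.Agent.FlatMor2.NilBaseChange
import Mathlib.AlgebraicGeometry.AffineSpace

/-!
# Affine schemes of finite type over a locally separated space embed into affine spaces
-/

set_option autoImplicit false
set_option backward.isDefEq.respectTransparency.types false
universe u

open CategoryTheory CategoryTheory.Limits AlgebraicGeometry AlgSp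

namespace Groth.AlgSpBasic.AffineSpaceImmersion

noncomputable section

variable {S : Scheme.{u}}

/-- The two projections generate the functions of a product of affine schemes. -/
theorem closure_pullback_functions {U V T : Scheme.{u}} [IsAffine U] [IsAffine V] [IsAffine T]
    (f : U ⟶ T) (g : V ⟶ T) (d : Γ(pullback f g, ⊤)) :
    d ∈ Subring.closure (Set.range (pullback.fst f g).appTop ∪ Set.range (pullback.snd f g).appTop) := by
  have H := Groth.FlatMor2.isPushout_app (IsPullback.of_hasPullback f g) (isAffineOpen_top T)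
    (isAffineOpen_top U) (show (⊤ : U.Opens) ≤ f ⁻¹ᵁ ⊤ from le_top)
  have h1 : d ∈ Subring.closure (Set.range ((pullback.fst f g).app ⊤) ∪
      Set.range ((pullback.snd f g).appLE (g ⁻¹ᵁ ⊤) (pullback.fst f g ⁻¹ᵁ ⊤) le_top)) := by
    rw [CommRingCat.closure_range_union_range_eq_top_of_isPushout H]; trivial
  have e : ((pullback.snd f g).appLE (g ⁻¹ᵁ ⊤) (pullback.fst f g ⁻¹ᵁ ⊤) le_top) =
      (pullback.snd f g).appTop := (pullback.snd f g).appLE_eq_app
  rw [e] at h1
  exact h1

/-- Finitely many functions of `U` embed a scheme immersed in `U ×_S V`, for `U`, `V` affine. -/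
theorem exists_functions [QuasiSeparatedSpace ↥S] {U V P : Over S} [IsAffine U.left] [IsAffine V.left]
    (a : P ⟶ U) (b : P ⟶ V) (himm : IsImmersion (prod.lift a b).left)
    (hqc : QuasiCompact (prod.lift a b).left) [LocallyOfFiniteType b.left] :
    ∃ s : Finset Γ(U.left, ⊤), ∀ {W : Scheme.{u}} [IsAffine W] (r : P.left ⟶ W),
      Set.range b.left.appTop ⊆ Set.range r.appTop →
      (∀ x ∈ s, a.left.appTop x ∈ Set.range r.appTop) → IsImmersion r := by
  have : CompactSpace ↥(pullback U.hom V.hom) :=
    QuasiCompact.compactSpace_of_compactSpace (pullback.snd U.hom V.hom)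
  have : CompactSpace ↥(U ⨯ V).left := (Over.prodLeftIsoPullback U V).inv.homeomorph.compactSpace
  have : CompactSpace ↥P.left := QuasiCompact.compactSpace_of_compactSpace (prod.lift a b).left
  let d := pullback.mapDesc U.hom V.hom (terminal.from S)
  have : IsImmersion d :=
    MorphismProperty.of_isPullback (pullback_map_diagonal_isPullback _ _ _) inferInstance
  let e := (prod.lift a b).left ≫ (Over.prodLeftIsoPullback U V).hom ≫ d
  refine FiniteImmersion.exists_finite_functions a.left b.left e fun c => ?_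
  have h₁ : e ≫ pullback.fst _ _ = a.left := by
    rw [← lift_left_fst a b]
    simp only [e, d, pullback.mapDesc, pullback.map, Category.assoc]
    erw [pullback.lift_fst, Category.comp_id, Over.prodLeftIsoPullback_hom_fst]
  have h₂ : e ≫ pullback.snd _ _ = b.left := by
    rw [← lift_left_snd a b]
    simp only [e, d, pullback.mapDesc, pullback.map, Category.assoc]
    erw [pullback.lift_snd, Category.comp_id, Over.prodLeftIsoPullback_hom_snd]
  clear_value e
  rw [← h₁, ← h₂, Scheme.Hom.comp_appTop, Scheme.Hom.comp_appTop]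
  have h : e.appTop c ∈ (Subring.closure _).map e.appTop.hom :=
    ⟨c, closure_pullback_functions _ _ c, rfl⟩
  rw [RingHom.map_closure, Set.image_union, ← Set.range_comp, ← Set.range_comp] at h
  exact h

/-- An affine scheme locally of finite type over a quasi-separated locally separated algebraic space
has an immersion into an affine space over it. -/
theorem exists_immersion [QuasiSeparatedSpace ↥S] {X : Sp S} (hX : IsAlgSpace X)
    (hqs : IsQuasiSeparatedSp X) (hls : IsLocallySeparatedSp X) {U : Over S} [IsAffine U.left]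
    (f : (yon S).obj U ⟶ X) (hf : LocP @LocallyOfFiniteType f) :
    ∃ (n : ℕ) (i : (yon S).obj U ⟶ X ⨯ (yon S).obj (Over.mk (𝔸(ULift.{u} (Fin n); S) ↘ S))),
      i ≫ prod.fst = f ∧ RepWith @IsImmersion i := by
  classical
  have hf' : RepWith @LocallyOfFiniteType f := repWith_of_locP hX (representable_of_diag hX.diag f) hf
  -- an affine scheme etale over `X` covering the image of `f`
  obtain ⟨V₀, p, hpe, hps⟩ := hX.atlas
  have key : ∀ x : U.left, ∃ Ω : V₀.left.Opens, IsAffineOpen Ω ∧
      Points.ofPt f x ∈ Points.ofPt p '' (Ω : Set V₀.left) := by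
    intro x
    obtain ⟨v, hv⟩ := surjective_ofPt_of_repWith hps (Points.ofPt f x)
    obtain ⟨_, ⟨Ω, hΩ, rfl⟩, hvΩ, -⟩ :=
      V₀.left.isBasis_affineOpens.exists_subset_of_mem_open (Set.mem_univ v) isOpen_univ
    exact ⟨Ω, hΩ, v, hvΩ, hv⟩
  choose Ω hΩ hmem using key
  obtain ⟨t, ht⟩ := CompactSpace.isCompact_univ.elim_finite_subcover
    (fun x => Points.ofPt f ⁻¹' (Points.ofPt p '' (Ω x : Set V₀.left)))
    (fun x => (Points.continuous_ofPt f).isOpen_preimage _ (isOpenMap_ofPt_of_etale hpe _ (Ω x).2))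
    (fun x _ => Set.mem_iUnion.2 ⟨x, hmem x⟩)
  let g : (∐ fun x : t => (Ω x.1).toScheme) ⟶ V₀.left := Sigma.desc fun x => (Ω x.1).ι
  have : Etale g := IsZariskiLocalAtSource.sigmaDesc (fun x => inferInstance)
  have : ∀ x : t, IsAffine (Ω x.1).toScheme := fun x => hΩ x.1
  let V : Over S := Over.mk (g ≫ V₀.hom)
  let gV : V ⟶ V₀ := Over.homMk g
  have hVaff : IsAffine V.left := inferInstanceAs (IsAffine (∐ fun x : t => (Ω x.1).toScheme))
  let q : (yon S).obj V ⟶ X := (yon S).map gV ≫ p
  have hq : RepWith @Etale q := repWith_comp ((repWith_yon_map_iff @Etale gV).2 ‹_›) hpe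
  have hWopen : IsOpen (Set.range (Points.ofPt q)) := (isOpenMap_ofPt_of_etale hq).isOpen_range
  let W : Set (Points X) := Set.range (Points.ofPt q)
  have hfW : ∀ x, Points.ofPt f x ∈ W := by
    intro x
    obtain ⟨y, hy, v, hv, e⟩ := Set.mem_iUnion₂.1 (ht (Set.mem_univ x))
    refine ⟨Sigma.ι (fun x : t => (Ω x.1).toScheme) ⟨y, hy⟩ (⟨v, hv⟩ : Ω y), ?_⟩
    rw [show q = (yon S).map gV ≫ p from rfl, ofPt_comp_yon, ← e]
    refine congrArg (Points.ofPt p) ?_
    show (Sigma.ι (fun x : t => (Ω x.1).toScheme) ⟨y, hy⟩ ≫ g) (⟨v, hv⟩ : Ω y) = v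
    rw [Sigma.ι_desc]; rfl
  -- functions
  obtain ⟨P, a, b, sq⟩ := exists_pullback_of_diag hX.diag f q
  have : LocallyOfFiniteType b.left := hf'.property q _ b sq
  obtain ⟨s, hs⟩ := exists_functions a b (prop_lift_of_repWith_diag hls sq)
    (prop_lift_of_repWith_diag hqs sq)
  let vec : ULift.{u} (Fin s.card) → Γ(U.left, ⊤) := fun j => (s.equivFin.symm j.down).1
  let A : Over S := Over.mk (𝔸(ULift.{u} (Fin s.card); S) ↘ S)
  let α : U ⟶ A := Over.homMk (AffineSpace.homOfVector U.hom vec) (AffineSpace.homOfVector_over _ _)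
  -- the chart of the open subspace
  have hO : IsAlgSpace (openSub X W) := isAlgSpace_openSub hX hWopen
  have hj := repWith_openSubι (X := X) (W := W) hWopen
  have : Mono (openSubι X W) :=
    mono_of_repWith (fun _ _ g (_ : IsOpenImmersion g) => inferInstance) hj
  obtain ⟨f', hf''⟩ := (openSub_exists_lift_iff X W f).2 hfW
  obtain ⟨q', hq'⟩ := (openSub_exists_lift_iff X W q).2 fun v => ⟨v, rfl⟩
  have sqq : IsPullback (𝟙 _) q' q (openSubι X W) := isPullback_of_mono_comp hq'
  have hq'e : RepWith @Etale q' := repWith_of_isPullback sqq hq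
  have hq's : RepWith @Surjective q' := repWith_surjective_of_ofPt hq'e.rep fun x => by
    obtain ⟨v, hv⟩ : Points.map (openSubι X W) x ∈ W := by
      exact (range_map_openSubι (X := X) (W := W)).le ⟨x, rfl⟩
    refine ⟨v, (isEmbedding_map_of_immersion hX
      (repWith_mono (fun _ _ g (_ : IsOpenImmersion g) => (inferInstance : IsImmersion g)) hj)).1.injective ?_⟩
    rw [Points.map_ofPt, hq']; exact hv
  have sq' : IsPullback ((yon S).map a) ((yon S).map b) f' q' := by
    refine ⟨⟨(cancel_mono (openSubι X W)).1 (by rw [Category.assoc, Category.assoc, hf'', hq', sq.w])⟩,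
      ⟨PullbackCone.IsLimit.mk _ (fun c => sq.lift c.fst c.snd (by rw [← hf'', ← hq', c.condition_assoc]))
        (fun c => sq.lift_fst _ _ _) (fun c => sq.lift_snd _ _ _)
        fun c m h₁ h₂ => sq.hom_ext (by rw [h₁, sq.lift_fst]) (by rw [h₂, sq.lift_snd])⟩⟩
  let i' : (yon S).obj U ⟶ openSub X W ⨯ (yon S).obj A := prod.lift f' ((yon S).map α)
  refine ⟨s.card, i' ≫ prod.map (openSubι X W) (𝟙 _), by
    rw [Category.assoc, prod.map_fst, prod.lift_fst_assoc, hf''], ?_⟩
  refine repWith_comp ?_ (repWith_of_isPullback (isPullback_prod_map_fst _ _)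
    (repWith_mono (fun _ _ g (_ : IsOpenImmersion g) => (inferInstance : IsImmersion g)) hj))
  -- on the chart `V × A`
  have sqp : IsPullback (prod.fst : (yon S).obj V ⨯ (yon S).obj A ⟶ _) (prod.map q' (𝟙 _)) q' prod.fst :=
    isPullback_prod_map_fst q' _
  let c : (yon S).obj (V ⨯ A) ⟶ openSub X W ⨯ (yon S).obj A :=
    prodComparison (yon S) V A ≫ prod.map q' (𝟙 _)
  have sqc : IsPullback ((yon S).map (prod.fst : V ⨯ A ⟶ V)) c q' prod.fst :=
    IsPullback.of_iso sqp (asIso (prodComparison (yon S) V A)).symm (Iso.refl _) (Iso.refl _)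
      (Iso.refl _) (by
        simp only [Iso.refl_hom, Category.comp_id, Iso.symm_hom, asIso_inv]
        rw [IsIso.eq_inv_comp, prodComparison_fst])
      (by
        simp only [Iso.refl_hom, Category.comp_id, Iso.symm_hom, asIso_inv, c]
        rw [IsIso.eq_inv_comp])
      (by simp) (by simp)
  have hce : RepWith @Etale c := repWith_of_isPullback sqc hq'e
  have hcs : RepWith @Surjective c := repWith_of_isPullback sqc hq's
  let r : P ⟶ V ⨯ A := prod.lift b (a ≫ α)
  have sqr : IsPullback ((yon S).map a) ((yon S).map r) i' c := by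
    refine IsPullback.of_bot ?_ ?_ sqc.flip
    · rw [← Functor.map_comp, show r ≫ prod.fst = b from prod.lift_fst _ _]
      rw [show i' ≫ prod.fst = f' from prod.lift_fst _ _]; exact sq'
    · apply prod.hom_ext
      · simp only [i', Category.assoc, prod.lift_fst]
        rw [← sqc.w, ← Category.assoc, ← Functor.map_comp, show r ≫ prod.fst = b from prod.lift_fst _ _,
          sq'.w]
      · simp only [i', c, Category.assoc, prod.lift_snd, prod.map_snd, Category.comp_id]
        rw [prodComparison_snd, ← Functor.map_comp, ← Functor.map_comp,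
          show r ≫ prod.snd = a ≫ α from prod.lift_snd _ _]
  have hA : IsAlgSpace (openSub X W ⨯ (yon S).obj A) :=
    isAlgSpace_of_isPullback (IsPullback.of_isLimit_binaryFan_of_isTerminal
      (prodIsProd _ _) (IsTerminal.isTerminalObj (yon S) _ Over.mkIdTerminal))
      (IsAlgSpace.yon_obj _).diag hO (IsAlgSpace.yon_obj _)
  refine repWith_isImmersion_of_cover (IsAlgSpace.yon_obj U) hA hce hcs sqr
    ((repWith_yon_map_iff @IsImmersion r).2 ?_)
  let κ : (V ⨯ A).left ⟶ 𝔸(ULift.{u} (Fin s.card); V.left) :=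
    AffineSpace.homOfVector (prod.fst : V ⨯ A ⟶ V).left
      ((prod.snd : V ⨯ A ⟶ A).left.appTop ∘ AffineSpace.coord S)
  have : IsImmersion (r.left ≫ κ) := by
    refine hs _ ?_ ?_
    · rintro _ ⟨x, rfl⟩
      refine ⟨(𝔸(ULift.{u} (Fin s.card); V.left) ↘ V.left).appTop x, ?_⟩
      rw [← CommRingCat.comp_apply, ← Scheme.Hom.comp_appTop, Category.assoc, AffineSpace.homOfVector_over,
        lift_left_fst]
    · intro x hx
      refine ⟨AffineSpace.coord V.left ⟨s.equivFin ⟨x, hx⟩⟩, ?_⟩
      rw [Scheme.Hom.comp_appTop, CommRingCat.comp_apply, AffineSpace.homOfVector_appTop_coord,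
        Function.comp_apply, ← CommRingCat.comp_apply, ← Scheme.Hom.comp_appTop, lift_left_snd]
      show (a.left ≫ AffineSpace.homOfVector U.hom vec).appTop _ = _
      rw [Scheme.Hom.comp_appTop, CommRingCat.comp_apply, AffineSpace.homOfVector_appTop_coord]
      simp [vec]
  exact IsImmersion.of_comp r.left κ

end

end Groth.AlgSpBasic.AffineSpaceImmersion
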