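import Groth.Agent.AlgSpBasic.BddFibres
import Groth.Prelude.Def_AlgSpCov

/-!
# Covers by affine étale charts with bounded fibres
-/

set_option autoImplicit false
set_option backward.isDefEq.respectTransparency.types false
universe u

open CategoryTheory CategoryTheory.Limits AlgebraicGeometry Topology TopologicalSpace Opposite AlgSp

namespace Groth.AlgSpBasic

variable {S : Scheme.{u}}

theorem repWith_yon_map (P : MorphismProperty Scheme.{u}) [P.IsStableUnderBaseChange]
    {A B : Over S} (a : A ⟶ B) (h : P a.left) : RepWith P ((yon S).map a) :=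
  repWith_of_exists fun T g => by
    obtain ⟨g₀, rfl⟩ := (yon S).map_surjective g
    exact ⟨pullback a g₀, _, pullback.snd a g₀, isPullback_yon (IsPullback.of_hasPullback a g₀),
      MorphismProperty.of_isPullback (isPullback_left (IsPullback.of_hasPullback a g₀)) h⟩

/-- Affine étale charts covering a space. -/
theorem exists_affine_etale_charts (X : AlgSp.Space S) :
    ∃ (ι : Type u) (V : ι → Over S) (φ : ∀ i, (yon S).obj (V i) ⟶ X.obj),
      (∀ i, IsAffine (V i).left) ∧ (∀ i, RepWith @Etale (φ i)) ∧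
      ∀ x : AlgSp.Points X.obj, ∃ (i : ι) (v : ↥(V i).left), AlgSp.Points.ofPt (φ i) v = x := by
  obtain ⟨U, φ, hφ, hs⟩ := X.property.atlas
  refine ⟨U.left.affineCover.I₀, fun j => Over.mk (U.left.affineCover.f j ≫ U.hom),
    fun j => (yon S).map (Over.homMk (U.left.affineCover.f j) rfl) ≫ φ,
    fun j => inferInstanceAs (IsAffine (U.left.affineCover.X j)),
    fun j => repWith_comp (repWith_yon_map @Etale _
      (inferInstanceAs (Etale (U.left.affineCover.f j)))) hφ, fun x => ?_⟩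
  obtain ⟨t, rfl⟩ := surjective_ofPt_of_repWith hs x
  obtain ⟨j, y, hy⟩ := U.left.affineCover.exists_eq t
  exact ⟨j, y, (ofPt_comp_yon _ _ _).trans (congrArg (AlgSp.Points.ofPt φ) hy)⟩

theorem hasUnivBddFibres_of_isPullback {X Y : AlgSp.Space S} {U V : Over S}
    {g : (yon S).obj U ⟶ X.obj} {p : Y ⟶ X} {fst : (yon S).obj V ⟶ (yon S).obj U}
    {snd : (yon S).obj V ⟶ Y.obj} (h : IsPullback fst snd g p.hom)
    (hg : W4dec.HasUnivBddFibres g) : W4dec.HasUnivBddFibres snd :=
  hg.imp fun _ hn => degFibresLE_of_isPullback h hn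

theorem bdd_of_representable {X Y : AlgSp.Space S} (f : X ⟶ Y) (hf : AlgSp.Representable f.hom)
    (hY : ∀ (V : Over S) (ψ : (yon S).obj V ⟶ Y.obj), IsAffine V.left → AlgSp.RepWith @Etale ψ →
      W4dec.HasUnivBddFibres ψ)
    (U : Over S) (φ : (yon S).obj U ⟶ X.obj) [IsAffine U.left] (hφ : AlgSp.RepWith @Etale φ) :
    W4dec.HasUnivBddFibres φ := by
  obtain ⟨ι, V, ψ, hV, hψ, hψs⟩ := exists_affine_etale_charts Y
  choose W c s sq using fun i => hf (ψ i)
  refine hasUnivBddFibres_of_etale_cover X W s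
    (fun i => repWith_of_isPullback (sq i).flip (hψ i)) (fun x => ?_)
    (fun i => hasUnivBddFibres_of_isPullback (sq i).flip (hY _ _ (hV i) (hψ i))) φ hφ
  obtain ⟨i, v, hv⟩ := hψs (AlgSp.Points.map f.hom x)
  obtain ⟨w, hw, -⟩ := (map_eq_ofPt_iff (sq i) x v).1 hv.symm
  exact ⟨i, w, hw⟩

theorem bdd_of_zarCover (X : AlgSp.Space S) {ι : Type u} (Xi : ι → AlgSp.Space S)
    (j : ∀ i, Xi i ⟶ X) (hj : AlgSp.IsZarCover (fun i => (Xi i).obj) (fun i => (j i).hom))
    (h : ∀ (i : ι) (V : Over S) (ψ : (yon S).obj V ⟶ (Xi i).obj), IsAffine V.left →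
      AlgSp.RepWith @Etale ψ → W4dec.HasUnivBddFibres ψ)
    (U : Over S) (φ : (yon S).obj U ⟶ X.obj) [IsAffine U.left] (hφ : AlgSp.RepWith @Etale φ) :
    W4dec.HasUnivBddFibres φ := by
  choose κ V ψ hV hψ hψs using fun i => exists_affine_etale_charts (Xi i)
  have hm : ∀ i, Mono (j i).hom := fun i => monomorphisms_repWith_mono
    (repWith_mono (fun _ _ f (hf : IsOpenImmersion f) => inferInstanceAs (Mono f)) (hj.1 i))
  refine hasUnivBddFibres_of_etale_cover X (fun p : Σ i, κ i => V p.1 p.2)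
    (fun p => ψ p.1 p.2 ≫ (j p.1).hom)
    (fun p => repWith_comp (hψ p.1 p.2)
      (repWith_mono (fun _ _ f (hf : IsOpenImmersion f) => inferInstanceAs (Etale f)) (hj.1 p.1)))
    (fun x => ?_) (fun p => ?_) φ hφ
  · obtain ⟨i, y, rfl⟩ := hj.2 x
    obtain ⟨k, v, rfl⟩ := hψs i y
    exact ⟨⟨i, k⟩, v, (Points.map_ofPt _ _ _).symm⟩
  · haveI := hm p.1
    refine (h p.1 _ _ (hV p.1 p.2) (hψ p.1 p.2)).imp fun n hn => ?_
    refine degFibresLE_of_range (isPullback_id_of_mono _ _) ?_ hn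
    rintro _ ⟨v, rfl⟩
    exact ⟨_, Points.map_ofPt _ _ _⟩

end Groth.AlgSpBasic
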