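import Groth.Agent.AlgSpBasic.BirationalSp
import Groth.Agent.AlgSpBasic.DecentSpectral
import Groth.Agent.PropsBasic2.StalkFlat
import Groth.Agent.AlgSpBasic.LocP
import Groth.Agent.AlgSpBasic.LocPInst

/-!
# Étale base change of birational morphisms
-/

set_option autoImplicit false
set_option backward.isDefEq.respectTransparency.types false
universe u

open CategoryTheory CategoryTheory.Limits AlgebraicGeometry Topology TopologicalSpace Opposite AlgSp

namespace Groth.AlgSpBasic

variable {S : Scheme.{u}}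

/-- Generic points correspond along étale maps of decent spaces. -/
theorem mem_genericPoints_iff_of_etale {P X : Sp S} (hPa : IsAlgSpace P) (hXa : IsAlgSpace X)
    (hP : IsDecent P) (hX : IsDecent X) {e : P ⟶ X} (he : RepWith @Etale e) (p : AlgSp.Points P) :
    p ∈ genericPoints (AlgSp.Points P) ↔
      AlgSp.Points.map e p ∈ genericPoints (AlgSp.Points X) := by
  haveI := quasiSober_of_isDecent hPa hP
  haveI := t0Space_of_isDecent hPa hP
  haveI := quasiSober_of_isDecent hXa hX
  haveI := t0Space_of_isDecent hXa hX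
  obtain ⟨W, q, hq, hqs⟩ := hPa.atlas
  obtain ⟨w, rfl⟩ := surjective_ofPt_of_repWith hqs p
  have hqe : RepWith @Etale (q ≫ e) := repWith_comp hq he
  refine (Groth.PropsBasic2.closure_mem_irreducibleComponents_iff _).trans
    (Iff.trans ?_ (Groth.PropsBasic2.closure_mem_irreducibleComponents_iff _).symm)
  constructor
  · intro h x' hx'
    rw [AlgSp.Points.map_ofPt] at hx' ⊢
    obtain ⟨w', hw', rfl⟩ := exists_specializes_of_finiteAt (finiteAt_of_isDecent hX x') hqe hx'
    rw [← AlgSp.Points.map_ofPt, h _ (hw'.map (AlgSp.Points.continuous_ofPt q)), AlgSp.Points.map_ofPt]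
  · intro h p' hp'
    obtain ⟨w', hw', rfl⟩ := exists_specializes_of_finiteAt (finiteAt_of_isDecent hP p') hq hp'
    have he' : AlgSp.Points.ofPt (q ≫ e) w' = AlgSp.Points.ofPt (q ≫ e) w := by
      rw [← AlgSp.Points.map_ofPt, ← AlgSp.Points.map_ofPt]
      exact h _ (hp'.map (AlgSp.Points.continuous_map e))
    rw [eq_of_specializes_of_finiteAt hXa
      (finiteAt_of_isDecent hX (AlgSp.Points.ofPt (q ≫ e) w)) hqe rfl he' hw']

theorem isIso_stalkMap_of_flat_preimmersion' {A B : Scheme.{u}} (f : A ⟶ B) [Flat f]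
    [IsPreimmersion f] (x : A) : IsIso (f.stalkMap x) :=
  (ConcreteCategory.isIso_iff_bijective _).2
    ⟨Groth.PropsBasic2.stalkMap_injective_of_flat f x, f.stalkMap_surjective x⟩

/-- If the base change to the local ring of a point is an isomorphism, so is the map of local rings at
every point above it. -/
theorem isIso_stalkMap_of_isIso_pullback_snd {A B : Scheme.{u}} (h : A ⟶ B) (v : B)
    [IsIso (pullback.snd h (B.fromSpecStalk v))] (e : A) (he : h e = v) :
    IsIso (h.stalkMap e) := by
  obtain ⟨φ, hφ, -⟩ := Scheme.Pullback.exists_preimage_pullback (f := h) (g := B.fromSpecStalk v)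
    e (IsLocalRing.closedPoint _) (he.trans Scheme.fromSpecStalk_closedPoint.symm)
  subst hφ
  haveI : Flat (pullback.fst h (B.fromSpecStalk v)) :=
    MorphismProperty.pullback_fst _ _ (Groth.PropsBasic2.flat_fromSpecStalk v)
  haveI : IsPreimmersion (pullback.fst h (B.fromSpecStalk v)) := inferInstance
  haveI := isIso_stalkMap_of_flat_preimmersion' (pullback.fst h (B.fromSpecStalk v)) φ
  haveI := Groth.PropsBasic2.flat_fromSpecStalk v
  haveI := isIso_stalkMap_of_flat_preimmersion' (B.fromSpecStalk v)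
    (pullback.snd h (B.fromSpecStalk v) φ)
  have h1 : IsIso ((pullback.snd h (B.fromSpecStalk v) ≫ B.fromSpecStalk v).stalkMap φ) :=
    (isIso_stalkMap_comp_left_iff _ _ _).2 inferInstance
  exact (isIso_stalkMap_comp_left_iff _ h φ).1 (stalkMap_isIso_of_eq pullback.condition.symm φ h1)

variable {X Y : AlgSp.Space S} {f : X ⟶ Y}

/-- Base change along a map from a local scheme to a generic point. -/
theorem isIso_pullback_snd_local (C : BirCharts f) {R : CommRingCat.{u}} [IsLocalRing R]
    (t : Spec R ⟶ C.V.left)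
    (ht : t (IsLocalRing.closedPoint R) ∈ Groth.PropsBasic.BirationalGeneric.gen C.V.left) :
    IsIso (pullback.snd C.g.left t) := by
  obtain ⟨u, hu, huv⟩ := C.bij.surjOn ht
  have hfs : IsIso (pullback.snd C.g.left (C.V.left.fromSpecStalk (t (IsLocalRing.closedPoint R)))) := by
    have := Groth.PropsBasic.BirationalGeneric.isIso_pullback_snd C.g.left C.bij C.iso hu
    rw [← show C.g.left u = t (IsLocalRing.closedPoint R) from huv]
    exact this
  rw [← Scheme.Spec_stalkClosedPointTo_fromSpecStalk t]
  let i := Spec.map (Scheme.stalkClosedPointTo t)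
  let z := C.V.left.fromSpecStalk (t (IsLocalRing.closedPoint R))
  have sq1 : IsPullback (pullback.lift (pullback.fst C.g.left (i ≫ z)) (pullback.snd _ _ ≫ i)
      (by rw [Category.assoc]; exact pullback.condition))
      (pullback.snd C.g.left (i ≫ z)) (pullback.snd C.g.left z) i := by
    refine IsPullback.of_right ?_ (pullback.lift_snd _ _ _) (IsPullback.of_hasPullback _ _)
    rw [pullback.lift_fst]
    exact IsPullback.of_hasPullback _ _
  exact MorphismProperty.of_isPullback (P := MorphismProperty.isomorphisms Scheme) sq1 hfs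

/-- The base change of a birational morphism along an étale morphism from an affine scheme. -/
theorem isBirational_baseChange (hX : IsDecent X.obj) (hY : IsDecent Y.obj)
    (hXf : (irreducibleComponents (AlgSp.Points X.obj)).Finite)
    (hYf : (irreducibleComponents (AlgSp.Points Y.obj)).Finite)
    (hf : W4stk3decentspacesp2.IsBirational f.hom) {V : Over S} [IsAffine V.left]
    (b : (yon S).obj V ⟶ Y.obj) (hb : RepWith @Etale b) {P : AlgSp.Sp S} (fst : P ⟶ X.obj)
    (snd : P ⟶ (yon S).obj V) (hP : IsPullback fst snd f.hom b) :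
    IsDecent P ∧ (irreducibleComponents (AlgSp.Points P)).Finite ∧
      (irreducibleComponents (AlgSp.Points ((yon S).obj V))).Finite ∧
        W4stk3decentspacesp2.IsBirational snd := by
  obtain ⟨C⟩ := exists_birCharts hX hY hf
  haveI := mono_of_repWith (fun _ _ φ (_ : IsOpenImmersion φ) => inferInstance) C.hb
  have hPa : IsAlgSpace P :=
    isAlgSpace_of_isPullback hP Y.property.diag X.property (IsAlgSpace.yon_obj V)
  have hfe : RepWith @Etale fst := repWith_of_isPullback hP.flip hb
  have hPd : IsDecent P :=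
    isDecent_of_isEtaleMor hPa X.property (isEtaleMor_of_locP X.property (locP_of_repWith hfe)) hX
  have hVd : IsDecent ((yon S).obj V) := isDecent_of_isEtaleMor (IsAlgSpace.yon_obj V) Y.property
    (isEtaleMor_of_locP Y.property (locP_of_repWith hb)) hY
  haveI := quasiSober_of_isDecent hPa hPd
  haveI := t0Space_of_isDecent hPa hPd
  haveI := quasiSober_of_isDecent (IsAlgSpace.yon_obj V) hVd
  haveI := t0Space_of_isDecent (IsAlgSpace.yon_obj V) hVd
  haveI := quasiSober_of_isDecent X.property hX
  haveI := t0Space_of_isDecent X.property hX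
  haveI := quasiSober_of_isDecent Y.property hY
  haveI := t0Space_of_isDecent Y.property hY
  have hgP : ∀ p, p ∈ genericPoints (AlgSp.Points P) ↔
      AlgSp.Points.map fst p ∈ genericPoints (AlgSp.Points X.obj) :=
    mem_genericPoints_iff_of_etale hPa X.property hPd hX hfe
  have hgV : ∀ v, v ∈ genericPoints (AlgSp.Points ((yon S).obj V)) ↔
      AlgSp.Points.map b v ∈ genericPoints (AlgSp.Points Y.obj) :=
    mem_genericPoints_iff_of_etale (IsAlgSpace.yon_obj V) Y.property hVd hY hb
  have hsq : ∀ p, AlgSp.Points.map b (AlgSp.Points.map snd p) =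
      AlgSp.Points.map f.hom (AlgSp.Points.map fst p) := fun p => by
    rw [← AlgSp.Points.map_comp, ← AlgSp.Points.map_comp, hP.w]
  have hmaps : ∀ p ∈ genericPoints (AlgSp.Points P),
      AlgSp.Points.map snd p ∈ genericPoints (AlgSp.Points ((yon S).obj V)) := fun p hp =>
    (hgV _).2 ((hsq p).symm ▸ hf.bijOn.mapsTo ((hgP p).1 hp))
  have hlift : ∀ p, AlgSp.Points.map snd p ∈ genericPoints (AlgSp.Points ((yon S).obj V)) →
      p ∈ genericPoints (AlgSp.Points P) := fun p hp =>
    (hgP p).2 (genericPoint_of_map hX hY hf ((hsq p) ▸ (hgV _).1 hp))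
  -- the chart over the schematic locus
  obtain ⟨V₁, r₂, r₁, sqV⟩ := exists_pullback_of_diag Y.property.diag C.b b
  haveI : IsOpenImmersion r₁.left := repWith_fst_of_isPullback sqV C.hb
  have sqU := isPullback_yon' (IsPullback.of_hasPullback C.g r₂)
  have big := sqU.paste_vert sqV
  rw [← C.comm] at big
  let a₁ : (yon S).obj (pullback C.g r₂) ⟶ P :=
    hP.lift ((yon S).map (pullback.fst C.g r₂) ≫ C.a) ((yon S).map (pullback.snd C.g r₂) ≫ (yon S).map r₁)
      ((Category.assoc _ _ _).trans big.w)
  have ha₁sq : IsPullback a₁ ((yon S).map (pullback.fst C.g r₂)) fst C.a := by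
    refine (IsPullback.of_bot ?_ (hP.lift_fst _ _ _).symm hP).flip
    rw [show a₁ ≫ snd = _ from hP.lift_snd _ _ _]
    exact big
  have ha₁ : RepWith @IsOpenImmersion a₁ := repWith_of_isPullback ha₁sq.flip C.ha
  have hcomm : a₁ ≫ snd = (yon S).map (pullback.snd C.g r₂ ≫ r₁) ≫ 𝟙 _ := by
    rw [Category.comp_id, Functor.map_comp]
    exact hP.lift_snd _ _ _
  have hiso : ∀ v : ↥V₁.left, AlgSp.Points.ofScheme V (r₁.left v) ∈
      genericPoints (AlgSp.Points ((yon S).obj V)) →
      IsIso (pullback.snd (pullback.snd C.g r₂).left (V₁.left.fromSpecStalk v)) := by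
    intro v hv
    have hs := isPullback_left (IsPullback.of_hasPullback C.g r₂)
    have hd := (IsPullback.of_hasPullback (pullback.snd C.g r₂).left (V₁.left.fromSpecStalk v)).paste_horiz hs
    have hgen : (V₁.left.fromSpecStalk v ≫ r₂.left) (IsLocalRing.closedPoint _) ∈
        Groth.PropsBasic.BirationalGeneric.gen C.V.left := by
      rw [Scheme.Hom.comp_apply, Scheme.fromSpecStalk_closedPoint, mem_gen_iff hY C.hb,
        ← ofPt_comp_yon, sqV.w, ofPt_comp_yon, ofPt_eq_map]
      exact (hgV _).1 hv
    haveI := isIso_pullback_snd_local C _ hgen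
    rw [← hd.isoPullback_hom_snd]
    infer_instance
  -- points over a generic point
  have huniq : ∀ v : ↥V₁.left, AlgSp.Points.ofScheme V (r₁.left v) ∈
      genericPoints (AlgSp.Points ((yon S).obj V)) →
      ∀ e e' : ↥(pullback C.g r₂).left, (pullback.snd C.g r₂).left e = v →
        (pullback.snd C.g r₂).left e' = v → e = e' := by
    intro v hv e e' he he'
    haveI := hiso v hv
    obtain ⟨φ, hφ, hφ'⟩ := Scheme.Pullback.exists_preimage_pullback
      (f := (pullback.snd C.g r₂).left) (g := V₁.left.fromSpecStalk v) e (IsLocalRing.closedPoint _)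
      (he.trans Scheme.fromSpecStalk_closedPoint.symm)
    obtain ⟨ψ, hψ, hψ'⟩ := Scheme.Pullback.exists_preimage_pullback
      (f := (pullback.snd C.g r₂).left) (g := V₁.left.fromSpecStalk v) e' (IsLocalRing.closedPoint _)
      (he'.trans Scheme.fromSpecStalk_closedPoint.symm)
    have : φ = ψ := (pullback.snd (pullback.snd C.g r₂).left
      (V₁.left.fromSpecStalk v)).homeomorph.injective (hφ'.trans hψ'.symm)
    rw [← hφ, ← hψ, this]
  have hex : ∀ p ∈ genericPoints (AlgSp.Points P), ∃ e, AlgSp.Points.ofPt a₁ e = p := by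
    intro p hp
    obtain ⟨u, hu⟩ := C.genX ((hgP p).1 hp)
    obtain ⟨e, he, -⟩ := (map_eq_ofPt_iff ha₁sq p u).1 hu.symm
    exact ⟨e, he⟩
  have hsnd : ∀ e, AlgSp.Points.map snd (AlgSp.Points.ofPt a₁ e) =
      AlgSp.Points.ofScheme V (r₁.left ((pullback.snd C.g r₂).left e)) := fun e => by
    rw [AlgSp.Points.map_ofPt, hcomm, Category.comp_id, ofPt_eq_map]
    exact AlgSp.Points.map_yon_map_apply (pullback.snd C.g r₂ ≫ r₁) e
  have hsurj : Set.SurjOn (AlgSp.Points.map snd) (genericPoints (AlgSp.Points P))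
      (genericPoints (AlgSp.Points ((yon S).obj V))) := by
    intro v hv
    obtain ⟨x, hx, hxv⟩ := hf.bijOn.surjOn ((hgV v).1 hv)
    obtain ⟨p, -, hp⟩ := exists_point_of_isPullback hP x v hxv
    exact ⟨p, hlift p (hp ▸ hv), hp⟩
  have hinj : Set.InjOn (AlgSp.Points.map snd) (genericPoints (AlgSp.Points P)) := by
    intro p hp p' hp' h
    obtain ⟨e, rfl⟩ := hex p hp
    obtain ⟨e', rfl⟩ := hex p' hp'
    rw [hsnd, hsnd] at h
    have h' := r₁.left.isOpenEmbedding.injective ((AlgSp.Points.schemeEquiv V).injective h)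
    exact congrArg _ (huniq _ (hsnd e ▸ hmaps _ hp) e e' rfl h'.symm)
  have hVfin : (genericPoints (AlgSp.Points ((yon S).obj V))).Finite := by
    have h1 : (genericPoints (AlgSp.Points Y.obj)).Finite := genericPoints.finite hYf
    refine ((h1.biUnion fun y _ =>
      (finiteAt_of_isDecent hY y V b inferInstance hb).image (AlgSp.Points.ofScheme V))).subset ?_
    intro v hv
    obtain ⟨t, rfl⟩ := (AlgSp.Points.schemeEquiv V).surjective v
    exact Set.mem_biUnion ((hgV _).1 hv) ⟨t, ofPt_eq_map b t, rfl⟩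
  refine ⟨hPd, ?_, ?_, ⟨⟨hmaps, hinj, hsurj⟩, fun p hp => ?_⟩⟩
  · haveI := ((hVfin.subset (Set.image_subset_iff.2 hmaps)).of_finite_image hinj).to_subtype
    exact Set.finite_coe_iff.1 (Finite.of_equiv _ (genericPoints.equiv (α := AlgSp.Points P)))
  · haveI := hVfin.to_subtype
    exact Set.finite_coe_iff.1
      (Finite.of_equiv _ (genericPoints.equiv (α := AlgSp.Points ((yon S).obj V))))
  · obtain ⟨e, rfl⟩ := hex p hp
    refine ⟨pullback C.g r₂, V, a₁, 𝟙 _, pullback.snd C.g r₂ ≫ r₁, e, ha₁, repWith_isIso _, hcomm,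
      rfl, ?_⟩
    rw [Over.comp_left]
    haveI := hiso _ (hsnd e ▸ hmaps _ hp)
    haveI := isIso_stalkMap_of_isIso_pullback_snd (pullback.snd C.g r₂).left _ e rfl
    exact (isIso_stalkMap_comp_left_iff _ _ _).2 inferInstance
where
  isPullback_yon' {U V W T : Over S} {f : U ⟶ T} {g : V ⟶ T} {fst : W ⟶ U} {snd : W ⟶ V}
      (sq : IsPullback fst snd f g) :
      IsPullback ((yon S).map fst) ((yon S).map snd) ((yon S).map f) ((yon S).map g) :=
    sq.map (yon S)

end Groth.AlgSpBasic
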