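import Groth.Agent.AlgSpBasic.DecentClosedPoints
import Groth.Agent.AlgSpBasic.Quotient
import Groth.Agent.EtaleBase.FpqcDescent
import Groth.Agent.DescentBase.Descends

/-!
# Rational points over closed points of decent spaces are finite; closed points are closed immersions
-/

set_option autoImplicit false
set_option backward.isDefEq.respectTransparency.types false
universe u

open CategoryTheory CategoryTheory.Limits AlgebraicGeometry Opposite TopologicalSpace AlgSp

namespace Groth.AlgSpBasic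

variable {S : Scheme.{u}} {X : Sp S}

/-- Local properties of maps from schemes can be checked on affine etale charts. -/
theorem repWith_of_affine_charts {P : MorphismProperty Scheme.{u}} [P.IsStableUnderBaseChange]
    [P.IsLocalAtTarget Scheme.fppfPrecoverage] [IsZariskiLocalAtTarget P] (hX : IsAlgSpace X)
    {K : Over S} (p : (yon S).obj K ⟶ X)
    (h : ∀ (A Q : Over S) (a : (yon S).obj A ⟶ X) (qA : Q ⟶ A) (qk : Q ⟶ K), IsAffine A.left →
      RepWith @Etale a → IsPullback ((yon S).map qA) ((yon S).map qk) a p → P qA.left) :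
    RepWith P p := by
  obtain ⟨U, π, hπ, hπs⟩ := hX.atlas
  have : Sheaf.IsLocallySurjective π := isLocallySurjective_of_etale π hπ hπs
  obtain ⟨Q, qU, qk, sq⟩ := exists_pullback_yon hπ.rep p
  refine repWith_of_isLocallySurjective p (hX.representable_from_yon p) π _ _ sq.flip
    ((repWith_yon_map_iff _ qU).2 ?_)
  refine (IsZariskiLocalAtTarget.iff_of_iSup_eq_top (P := P) _
    (iSup_affineOpens_eq_top U.left)).2 fun ⟨A, hA⟩ => ?_
  let AO : Over S := Over.mk (A.ι ≫ U.hom)
  let jA : AO ⟶ U := Over.homMk A.ι rfl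
  let QA : Over S := Over.mk ((qU.left ⁻¹ᵁ A).ι ≫ Q.hom)
  let kQ : QA ⟶ Q := Over.homMk (qU.left ⁻¹ᵁ A).ι rfl
  let qA : QA ⟶ AO := Over.homMk (qU.left ∣_ A) (by
    change qU.left ∣_ A ≫ A.ι ≫ U.hom = (qU.left ⁻¹ᵁ A).ι ≫ Q.hom
    rw [morphismRestrict_ι_assoc, Over.w qU])
  have hres : IsPullback qA.left kQ.left jA.left qU.left := isPullback_morphismRestrict qU.left A
  have hres' : IsPullback qA kQ jA qU :=
    IsPullback.of_map (Over.forget S) (by ext1; exact hres.w) hres
  have : Etale jA.left := inferInstanceAs (Etale A.ι)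
  have ha : RepWith @Etale ((yon S).map jA ≫ π) :=
    repWith_comp ((repWith_yon_map_iff _ jA).2 ‹_›) hπ
  have sqA : IsPullback ((yon S).map qA) ((yon S).map (kQ ≫ qk)) ((yon S).map jA ≫ π) p := by
    rw [Functor.map_comp]
    exact (hres'.map (yon S)).paste_vert sq
  exact h AO QA _ qA _ hA ha sqA

/-- The base change of a point to an affine chart is a finite discrete reduced scheme. -/
theorem fieldPullback_props {k : Type u} [Field k] {str : Spec (CommRingCat.of k) ⟶ S}
    {p : (yon S).obj (Over.mk str) ⟶ X} (hq : RepWith @QuasiCompact p) {A Q : Over S}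
    [CompactSpace ↥A.left] {a : (yon S).obj A ⟶ X} (ha : RepWith @Etale a) {qA : Q ⟶ A}
    {qk : Q ⟶ Over.mk str} (sq : IsPullback ((yon S).map qA) ((yon S).map qk) a p) :
    DiscreteTopology ↥Q.left ∧ Finite ↥Q.left ∧ IsReduced Q.left := by
  have : QuasiCompact qA.left := hq.property _ _ _ sq.flip
  have : CompactSpace ↥Q.left := QuasiCompact.compactSpace_of_compactSpace qA.left
  have : Etale qk.left := ha.property _ _ _ sq
  have : DiscreteTopology ↥Q.left := discreteTopology_of_etale (k := k) qk.left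
  have : IsReduced (Spec (CommRingCat.of k)) := inferInstance
  exact ⟨‹_›, finite_of_compact_of_discrete,
    Groth.AlgSp2.isReduced_of_smooth_morphism (B := Spec (CommRingCat.of k)) qk.left⟩

theorem isClosed_point_of_isDecent (hX : IsAlgSpace X) (hd : IsDecent X) {k : Type u} [Field k]
    {s : ↥S} (hs : IsClosed ({s} : Set ↥S)) {φ : S.residueField s ⟶ CommRingCat.of k}
    (hφ : φ.hom.IsIntegral)
    (p : (yon S).obj (Over.mk (Spec.map φ ≫ S.fromSpecResidueField s)) ⟶ X)
    (t : ↥(Spec (CommRingCat.of k))) :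
    IsClosed ({AlgSp.Points.ofPt p t} : Set (AlgSp.Points X)) := by
  obtain ⟨U, π, hπ, hπs⟩ := hX.atlas
  rw [← (isQuotientMap_ofPt hπ hπs).isClosed_preimage, ← isOpen_compl_iff]
  refine isOpen_iff_forall_mem_open.2 fun u hu => ?_
  obtain ⟨A, hA, huA, -⟩ :=
    exists_isAffineOpen_mem_and_subset (X := U.left) (x := u) (U := ⊤) trivial
  let AO : Over S := Over.mk (A.ι ≫ U.hom)
  let jA : AO ⟶ U := Over.homMk A.ι rfl
  have : Etale jA.left := inferInstanceAs (Etale A.ι)
  have : IsAffine AO.left := hA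
  let b := (yon S).map jA ≫ π
  have hb : RepWith @Etale b := repWith_comp ((repWith_yon_map_iff _ jA).2 ‹_›) hπ
  let F := AlgSp.Points.ofPt b ⁻¹' {AlgSp.Points.ofPt p t}
  have hF : IsClosed F := by
    have hfin : F.Finite := finiteAt_of_isDecent hd _ AO b ‹_› hb
    rw [← Set.biUnion_of_singleton F]
    refine hfin.isClosed_biUnion fun w (hw : AlgSp.Points.ofPt b w = _) => ?_
    obtain ⟨Q, qA, qk, sq⟩ := exists_pullback_yon hb.rep p
    obtain ⟨q, hq, -⟩ := (ofPt_eq_ofPt_iff sq w t).1 hw
    exact hq ▸ isClosed_singleton_chart hs hφ hb sq q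
  refine ⟨A.ι '' Fᶜ, ?_, A.ι.isOpenEmbedding.isOpenMap _ hF.isOpen_compl,
    ⟨⟨u, huA⟩, fun h => hu ?_, rfl⟩⟩
  · rintro _ ⟨w, hw, rfl⟩ h
    exact hw (show AlgSp.Points.ofPt b w = _ by rw [ofPt_comp_yon]; exact h)
  · show AlgSp.Points.ofPt π u ∈ ({_} : Set _)
    rw [← (show AlgSp.Points.ofPt b ⟨u, huA⟩ = AlgSp.Points.ofPt π u from ofPt_comp_yon _ _ _)]
    exact h

theorem repWith_finite_of_closed_point (hX : IsAlgSpace X) (hd : IsDecent X) {k : Type u} [Field k]
    {s : ↥S} (hs : IsClosed ({s} : Set ↥S)) {φ : S.residueField s ⟶ CommRingCat.of k}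
    (hφ : φ.hom.Finite)
    (p : (yon S).obj (Over.mk (Spec.map φ ≫ S.fromSpecResidueField s)) ⟶ X) :
    RepWith @IsFinite p ∧ (Function.Bijective φ.hom → RepWith @IsClosedImmersion p) := by
  have hq : RepWith @QuasiCompact p := by
    obtain ⟨p₀, hp₀, -, hqc⟩ := hd (AlgSp.Points.mk (Groth.AlgSp2.ofHom p))
    have := Groth.AlgSp2.repWith_quasiCompact_of_mk_eq (Groth.AlgSp2.ofHom p) p₀
      (hX.representable_from_yon _) hqc hp₀.symm
    rw [Groth.AlgSp2.toHom_ofHom] at this
    exact this
  have : IsClosedImmersion (S.fromSpecResidueField s) :=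
    isClosed_singleton_iff_isClosedImmersion.1 hs
  have : IsFinite (Spec.map φ) := (IsFinite.SpecMap_iff φ).2 hφ
  have : MorphismProperty.IsLocalAtTarget (@IsFinite.{u}) Scheme.fppfPrecoverage :=
    isLocalAtTarget_fppf _
  have : MorphismProperty.IsLocalAtTarget (@IsClosedImmersion.{u}) Scheme.fppfPrecoverage :=
    isLocalAtTarget_fppf _
  have key : ∀ (A Q : Over S) (a : (yon S).obj A ⟶ X) (qA : Q ⟶ A)
      (qk : Q ⟶ Over.mk (Spec.map φ ≫ S.fromSpecResidueField s)), IsAffine A.left →
      RepWith @Etale a → IsPullback ((yon S).map qA) ((yon S).map qk) a p → IsFinite qA.left := by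
    intro A Q a qA qk hA ha sq
    obtain ⟨h₁, h₂, h₃⟩ := fieldPullback_props hq ha sq
    refine isFinite_of_points qA.left fun q => ?_
    have := isFinite_residue_of_etale ha sq q
    have : IsSeparated A.hom := inferInstance
    have : IsFinite ((Q.left.fromSpecResidueField q ≫ qA.left) ≫ A.hom) := by
      rw [Category.assoc, Over.w qA, ← Over.w qk, ← Category.assoc]
      change IsFinite (_ ≫ Spec.map φ ≫ S.fromSpecResidueField s)
      infer_instance
    exact IsFinite.of_comp _ A.hom
  refine ⟨repWith_of_affine_charts hX p key, fun hbij => repWith_of_affine_charts hX p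
    fun A Q a qA qk hA ha sq => ?_⟩
  rw [IsClosedImmersion.iff_isFinite_and_mono]
  refine ⟨key A Q a qA qk hA ha sq, ⟨fun {Z} g g' h => ?_⟩⟩
  have : IsIso φ := (ConcreteCategory.isIso_iff_bijective φ).2 hbij
  have hm : Mono (Spec.map φ ≫ S.fromSpecResidueField s) := inferInstance
  have hw : g' ≫ Q.hom = g ≫ Q.hom := by
    rw [← Over.w qA, ← Category.assoc, ← h, Category.assoc]
  let g₁ : Over.mk (g ≫ Q.hom) ⟶ Q := Over.homMk g rfl
  let g₂ : Over.mk (g ≫ Q.hom) ⟶ Q := Over.homMk g' hw
  have hk : g₁ ≫ qk = g₂ ≫ qk := by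
    apply Over.OverMorphism.ext
    rw [← cancel_mono (Spec.map φ ≫ S.fromSpecResidueField s)]
    exact (Over.w (g₁ ≫ qk)).trans (Over.w (g₂ ≫ qk)).symm
  exact congrArg CommaMorphism.left ((yon S).map_injective (sq.hom_ext
    (by rw [← Functor.map_comp, ← Functor.map_comp, show g₁ ≫ qA = g₂ ≫ qA from by ext1; exact h])
    (by rw [← Functor.map_comp, ← Functor.map_comp, hk])) : g₁ = g₂)

theorem exists_closedImmersion_of_isClosed (hX : IsAlgSpace X) (hd : IsDecent X) {x : AlgSp.Points X}
    (hx : IsClosed ({x} : Set (AlgSp.Points X))) :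
    ∃ p : FieldPt X, AlgSp.Points.mk p = x ∧ RepWith @IsClosedImmersion p.toHom := by
  obtain ⟨p, rfl, hm, hq⟩ := hd x
  have : MorphismProperty.IsLocalAtTarget (@IsClosedImmersion.{u}) Scheme.fppfPrecoverage :=
    isLocalAtTarget_fppf _
  refine ⟨p, rfl, repWith_of_affine_charts hX p.toHom fun A Q a qA qk hA ha sq => ?_⟩
  obtain ⟨h₁, h₂, h₃⟩ := fieldPullback_props hq ha sq
  have : Mono qA := (yon S).mono_of_mono_map (Groth.AlgSp2.mono_fst_of_isPullback sq)
  have : Mono qA.left := inferInstanceAs (Mono ((Over.forget S).map qA))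
  refine isClosedImmersion_of_mono_of_points qA.left (fun q => ?_)
    (isIso_residueFieldMap_of_mono qA.left)
  have hq' : AlgSp.Points.ofPt a (qA.left q) = AlgSp.Points.mk p :=
    ((ofPt_eq_ofPt_iff sq _ _).2 ⟨q, rfl, rfl⟩).trans (AlgSp.Points.ofPt_toHom p _)
  rw [← closure_subset_iff_isClosed]
  intro z hz
  have hzx : AlgSp.Points.ofPt a z = AlgSp.Points.mk p := by
    have := (specializes_iff_mem_closure.2 hz).map (AlgSp.Points.continuous_ofPt a)
    rw [hq', specializes_iff_mem_closure, hx.closure_eq] at this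
    exact this
  exact eq_of_specializes_of_finiteAt hX (finiteAt_of_isDecent hd _) ha hzx hq'
    (specializes_iff_mem_closure.2 hz)

end Groth.AlgSpBasic
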