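import Groth.Agent.AlgSpBasic.BirationalEtale
import Groth.Agent.NeronArea.SmoothLocusNMP
import Groth.Agent.Ega4Algebra1.FlatDescent
import Groth.Agent.LocImm.Birational
import Groth.Agent.AlgSp2.FpqcRep
import Groth.Agent.AlgSpBasic.BddFibresCover
import Groth.Agent.AlgSpBasic.AffineMor
import Groth.Agent.AlgSpBasic.DecentClosedImm
import Groth.Agent.AlgSp3.ImmersionImage

/-!
# Integral birational morphisms onto normal spaces are isomorphisms
-/

set_option autoImplicit false
set_option backward.isDefEq.respectTransparency.types false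
universe u

open CategoryTheory CategoryTheory.Limits AlgebraicGeometry Topology TopologicalSpace Opposite AlgSp

namespace Groth.AlgSpBasic

/-- In a scheme with domain stalks the generic point specializing to a point is unique. -/
theorem eq_of_gen_specializes {V : Scheme.{u}} {v z z' : V} [IsDomain (V.presheaf.stalk v)]
    (hz : z ∈ Groth.PropsBasic.BirationalGeneric.gen V)
    (hz' : z' ∈ Groth.PropsBasic.BirationalGeneric.gen V) (h : z ⤳ v) (h' : z' ⤳ v) : z = z' := by
  let η : PrimeSpectrum (V.presheaf.stalk v) := ⟨⊥, Ideal.isPrime_bot⟩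
  have key : ∀ w, w ∈ Groth.PropsBasic.BirationalGeneric.gen V → w ⤳ v →
      V.fromSpecStalk v η = w := by
    intro w hw hwv
    obtain ⟨p, hp⟩ : w ∈ Set.range (V.fromSpecStalk v) := by
      rw [Scheme.range_fromSpecStalk]; exact hwv
    refine (Groth.PropsBasic2.closure_mem_irreducibleComponents_iff w).1 hw _ ?_
    rw [← hp]
    exact ((PrimeSpectrum.le_iff_specializes η p).1 bot_le).map (V.fromSpecStalk v).continuous
  rw [← key z hz h, key z' hz' h']

theorem normal_stalk_of_flat {A B : Scheme.{u}} (g : A ⟶ B) [Flat g] (a : A)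
    (hn : IsDomain (A.presheaf.stalk a) ∧ IsIntegrallyClosed (A.presheaf.stalk a)) :
    IsDomain (B.presheaf.stalk (g a)) ∧ IsIntegrallyClosed (B.presheaf.stalk (g a)) := by
  obtain ⟨h1, h2⟩ := hn
  algebraize [(g.stalkMap a).hom]
  haveI : Module.Flat (B.presheaf.stalk (g a)) (A.presheaf.stalk a) := AlgebraicGeometry.Flat.stalkMap g a
  haveI : IsLocalHom (algebraMap (B.presheaf.stalk (g a)) (A.presheaf.stalk a)) :=
    inferInstanceAs (IsLocalHom (g.stalkMap a).hom)
  haveI : Module.FaithfullyFlat (B.presheaf.stalk (g a)) (A.presheaf.stalk a) :=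
    Module.FaithfullyFlat.of_flat_of_isLocalHom
  exact ⟨Groth.Ega4Algebra1.isDomain_of_faithfullyFlat _ (A.presheaf.stalk a),
    Groth.Ega4Algebra1.isIntegrallyClosed_of_faithfullyFlat _ (A.presheaf.stalk a)⟩

open Groth.PropsBasic.BirationalGeneric in
/-- An integral birational morphism from a reduced scheme onto a normal scheme with finitely many
components is an isomorphism. -/
theorem isIso_of_integral_birational_normal {W V : Scheme.{u}} (i : W ⟶ V) [IsIntegralHom i]
    [IsReduced W] (hV : Pi1.IsNormalScheme V) (hfin : (irreducibleComponents ↥V).Finite)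
    (hbij : Set.BijOn (fun x : W => i.base x) (gen W) (gen V))
    (hiso : ∀ x ∈ gen W, IsIso (i.stalkMap x)) : IsIso i := by
  classical
  have hVf : (gen V).Finite := genericPoints.finite hfin
  haveI : IsReduced V := by
    haveI : ∀ v : V, _root_.IsReduced (V.presheaf.stalk v) := fun v => by
      haveI := (hV v).1
      infer_instance
    exact isReduced_of_isReduced_stalk V
  have hcov : ∀ v : V, ∃ c ∈ gen V, c ⤳ v := fun v =>
    Groth.PropsBasic2.exists_genericPoint_specializes v
  let O : gen V → V.Opens := fun c => ⟨(⋃ d ∈ gen V \ {c.1}, closure {d})ᶜ,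
    (hVf.sdiff.isClosed_biUnion fun d _ => isClosed_closure).isOpen_compl⟩
  have hO : ∀ (c : gen V) (v : V), v ∈ O c ↔ c.1 ⤳ v := by
    intro c v
    haveI := (hV v).1
    simp only [O, Opens.mem_mk, Set.mem_compl_iff, Set.mem_iUnion, not_exists]
    constructor
    · intro h
      obtain ⟨d, hd, hdv⟩ := hcov v
      by_cases hdc : d = c.1
      · exact hdc ▸ hdv
      · exact absurd (specializes_iff_mem_closure.1 hdv) (h d ⟨hd, hdc⟩)
    · intro hcv d hd hmem
      exact hd.2 (eq_of_gen_specializes hd.1 c.2 (specializes_iff_mem_closure.2 hmem) hcv)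
  refine (IsZariskiLocalAtTarget.iff_of_iSup_eq_top (P := MorphismProperty.isomorphisms Scheme) O
    (eq_top_iff.2 fun v _ => Opens.mem_iSup.2 (let ⟨c, hc, hcv⟩ := hcov v; ⟨⟨c, hc⟩, (hO ⟨c, hc⟩ v).2 hcv⟩))).2
    fun c => ?_
  obtain ⟨ξ, hξ, hξc⟩ := hbij.surjOn c.2
  have hcO : c.1 ∈ O c := (hO c _).2 specializes_rfl
  have hξO : ξ ∈ i ⁻¹ᵁ O c := by
    show i ξ ∈ O c
    rw [show i ξ = c.1 from hξc]; exact hcO
  have hgW : ∀ x ∈ i ⁻¹ᵁ O c, ξ ⤳ x := fun x hx => by
    obtain ⟨z, hz, hzx⟩ := Groth.PropsBasic2.exists_genericPoint_specializes x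
    haveI := (hV (i x)).1
    have h2 := eq_of_gen_specializes (hbij.mapsTo hz) c.2 (hzx.map i.continuous) ((hO c (i x)).1 hx)
    obtain rfl := hbij.injOn hz hξ (h2.trans hξc.symm)
    exact hzx
  have hgenW : IsGenericPoint (⟨ξ, hξO⟩ : ↥(i ⁻¹ᵁ O c).toScheme) Set.univ :=
    Set.eq_univ_of_forall fun x => specializes_iff_mem_closure.1
      (Topology.IsInducing.subtypeVal.specializes_iff.1 (hgW x.1 x.2))
  have hgenV : IsGenericPoint (⟨c.1, hcO⟩ : ↥(O c).toScheme) Set.univ :=
    Set.eq_univ_of_forall fun x => specializes_iff_mem_closure.1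
      (Topology.IsInducing.subtypeVal.specializes_iff.1 ((hO c x.1).1 x.2))
  haveI : Nonempty ↥(i ⁻¹ᵁ O c).toScheme := ⟨⟨ξ, hξO⟩⟩
  haveI : Nonempty ↥(O c).toScheme := ⟨⟨c.1, hcO⟩⟩
  haveI : PreirreducibleSpace ↥(i ⁻¹ᵁ O c).toScheme :=
    ⟨(show IsIrreducible (Set.univ : Set ↥(i ⁻¹ᵁ O c).toScheme) from hgenW.def ▸ isIrreducible_singleton.closure).2⟩
  haveI : PreirreducibleSpace ↥(O c).toScheme :=
    ⟨(show IsIrreducible (Set.univ : Set ↥(O c).toScheme) from hgenV.def ▸ isIrreducible_singleton.closure).2⟩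
  haveI : IrreducibleSpace ↥(i ⁻¹ᵁ O c).toScheme := ⟨inferInstance⟩
  haveI : IrreducibleSpace ↥(O c).toScheme := ⟨inferInstance⟩
  haveI : IsReduced (i ⁻¹ᵁ O c).toScheme := inferInstance
  haveI : IsReduced (O c).toScheme := inferInstance
  haveI : IsIntegral (i ⁻¹ᵁ O c).toScheme := isIntegral_of_irreducibleSpace_of_isReduced _
  haveI : IsIntegral (O c).toScheme := isIntegral_of_irreducibleSpace_of_isReduced _
  haveI : IsIntegralHom (i ∣_ O c) := IsZariskiLocalAtTarget.restrict ‹IsIntegralHom i› _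
  have hgw : genericPoint ↥(i ⁻¹ᵁ O c).toScheme = ⟨ξ, hξO⟩ := (genericPoint_spec _).eq hgenW
  refine Groth.LocImmersion.BirationalNormal.isIso_of_isIntegralHom (fun y => ?_) (i ∣_ O c) ?_ ?_
  · haveI := (hV y.1).2
    exact IsIntegrallyClosed.of_equiv ((O c).stalkIso y).symm.commRingCatIsoToRingEquiv
  · rw [hgw]
    refine (genericPoint_spec _).eq ?_ |>.symm
    rw [show (i ∣_ O c) ⟨ξ, hξO⟩ = ⟨c.1, hcO⟩ from Subtype.ext (by rw [morphismRestrict_base]; exact hξc)]
    exact hgenV
  · rw [hgw]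
    haveI := hiso ξ hξ
    exact ((MorphismProperty.isomorphisms CommRingCat).arrow_mk_iso_iff
      (morphismRestrictStalkMap i (O c) ⟨ξ, hξO⟩)).2 ‹IsIso (i.stalkMap ξ)›

variable {S : Scheme.{u}} {X Y : AlgSp.Space S} {f : X ⟶ Y}

open Groth.PropsBasic.BirationalGeneric in
/-- An integral birational morphism from a reduced space onto a normal space is an isomorphism. -/
theorem isIso_of_integralMor_birational (hX : IsDecent X.obj) (hY : IsDecent Y.obj)
    (hXf : (irreducibleComponents (AlgSp.Points X.obj)).Finite)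
    (hYf : (irreducibleComponents (AlgSp.Points Y.obj)).Finite)
    (hi : IsIntegralMor f.hom) (hf : W4stk3decentspacesp2.IsBirational f.hom)
    (hYn : EtaleLocally (fun T => ∀ t : ↥T, IsDomain ↥(T.presheaf.stalk t) ∧
      IsIntegrallyClosed ↥(T.presheaf.stalk t)) Y.obj)
    (hXr : EtaleLocally (fun T => IsReduced T) X.obj) : IsIso f.hom := by
  have key : ∀ {V : Over S} [IsAffine V.left] (b : (yon S).obj V ⟶ Y.obj), RepWith @Etale b →
      ∀ {W : Over S} (i : W ⟶ V) (fst : (yon S).obj W ⟶ X.obj),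
        IsPullback fst ((yon S).map i) f.hom b → IsIntegralHom i.left → IsIso i.left := by
    intro V _ b hb W i fst sq hint
    obtain ⟨hPd, hPf, hVf, hbir⟩ := isBirational_baseChange hX hY hXf hYf hf b hb fst _ sq
    have hVn : Pi1.IsNormalScheme V.left := fun v => by
      obtain ⟨U, p, hp, hps, hU⟩ := hYn
      obtain ⟨E, e₁, e₂, sqE⟩ := exists_pullback_of_diag Y.property.diag p b
      haveI : Etale e₁.left := repWith_fst_of_isPullback sqE.flip hb
      haveI : Etale e₂.left := repWith_fst_of_isPullback sqE hp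
      haveI : Surjective e₂.left := repWith_fst_of_isPullback sqE hps
      obtain ⟨e, rfl⟩ := e₂.left.surjective v
      exact normal_stalk_of_flat e₂.left e
        (Groth.NeronArea.isNormalScheme_of_smooth e₁.left hU e)
    haveI : IsReduced W.left :=
      Groth.AlgSp3.isReduced_etale_chart X.property hXr (repWith_of_isPullback sq.flip hb)
    have hVd : IsDecent ((yon S).obj V) := isDecent_of_isEtaleMor (IsAlgSpace.yon_obj V) Y.property
      (isEtaleMor_of_locP Y.property (locP_of_repWith hb)) hY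
    let W' : AlgSp.Space S := ⟨(yon S).obj W, IsAlgSpace.yon_obj W⟩
    let V' : AlgSp.Space S := ⟨(yon S).obj V, IsAlgSpace.yon_obj V⟩
    obtain ⟨C⟩ := exists_birCharts (X := W') (Y := V') (f := ObjectProperty.homMk ((yon S).map i))
      hPd hVd hbir
    have hWid : ∀ w : ↥W.left, w ∈ gen W.left ↔
        AlgSp.Points.ofPt (𝟙 ((yon S).obj W)) w ∈ genericPoints (AlgSp.Points ((yon S).obj W)) :=
      fun w => mem_gen_iff (X := W') hPd (repWith_isIso _) w
    have hVid : ∀ w : ↥V.left, w ∈ gen V.left ↔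
        AlgSp.Points.ofPt (𝟙 ((yon S).obj V)) w ∈ genericPoints (AlgSp.Points ((yon S).obj V)) :=
      fun w => mem_gen_iff (X := V') hVd (repWith_isIso _) w
    have hmap : ∀ w, AlgSp.Points.map ((yon S).map i) (AlgSp.Points.ofPt (𝟙 _) w) =
        AlgSp.Points.ofPt (𝟙 ((yon S).obj V)) (i.left w) := fun w => by
      rw [AlgSp.Points.map_ofPt, Category.id_comp, ← ofPt_comp_yon, Category.comp_id]
    have hb1 := (isOpenEmbedding_ofPt (g := 𝟙 ((yon S).obj W)) (repWith_isIso _)).injective
    have hb2 := (isOpenEmbedding_ofPt (g := 𝟙 ((yon S).obj V)) (repWith_isIso _)).injective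
    have hs1 := surjective_ofPt_of_repWith (a := 𝟙 ((yon S).obj W)) (repWith_isIso _)
    have hVfin : (irreducibleComponents ↥V.left).Finite := by
      haveI := quasiSober_of_isDecent V'.property hVd
      haveI := t0Space_of_isDecent V'.property hVd
      have hg : (genericPoints ↥V.left).Finite :=
        ((genericPoints.finite hVf).preimage hb2.injOn).subset fun v hv => (hVid v).1 hv
      haveI := hg.to_subtype
      exact Set.finite_coe_iff.1 (Finite.of_equiv _ (genericPoints.equiv (α := ↥V.left)))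
    refine isIso_of_integral_birational_normal i.left hVn hVfin ⟨?_, ?_, ?_⟩ fun w hw => ?_
    · intro w hw
      refine (hVid _).2 ?_
      rw [← hmap]
      exact hbir.bijOn.mapsTo ((hWid w).1 hw)
    · intro w hw w' hw' h
      refine hb1 (hbir.bijOn.injOn ((hWid w).1 hw) ((hWid w').1 hw') ?_)
      rw [hmap, hmap]
      exact congrArg _ h
    · intro v hv
      obtain ⟨x, hx, hxv⟩ := hbir.bijOn.surjOn ((hVid v).1 hv)
      obtain ⟨w, rfl⟩ := hs1 x
      exact ⟨w, (hWid w).2 hx, hb2 ((hmap w).symm.trans hxv)⟩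
    · obtain ⟨U', V'', a', b', g', u, ha', hb', hc', hu, hiso⟩ := hbir.stalkIso _ ((hWid w).1 hw)
      exact isIso_stalkMap_of_charts W'.property V'.property (repWith_isIso (𝟙 _)) ha'
        (repWith_isIso (𝟙 _)) hb' (by simp) hc' w u hu.symm hiso
  have hrep : RepWith @IsIntegralHom f.hom := isIntegralMor_iff_repWith.1 hi
  obtain ⟨U, π, hπ, hπs⟩ := Y.property.atlas
  haveI : Sheaf.IsLocallySurjective π := isLocallySurjective_of_etale π hπ hπs
  obtain ⟨Q, qU, fst, sq⟩ := hrep.rep π
  haveI hQi : IsIntegralHom qU.left := hrep.property π fst qU sq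
  have hiso : IsIso qU.left := by
    refine (IsZariskiLocalAtTarget.iff_of_iSup_eq_top (P := MorphismProperty.isomorphisms Scheme) _
      (iSup_affineOpens_eq_top U.left)).2 fun ⟨A, hA⟩ => ?_
    let AO : Over S := Over.mk (A.ι ≫ U.hom)
    let jA : AO ⟶ U := Over.homMk A.ι rfl
    let QA : Over S := Over.mk ((qU.left ⁻¹ᵁ A).ι ≫ Q.hom)
    let kQ : QA ⟶ Q := Over.homMk (qU.left ⁻¹ᵁ A).ι rfl
    let qA : QA ⟶ AO := Over.homMk (qU.left ∣_ A) (by
      change qU.left ∣_ A ≫ A.ι ≫ U.hom = (qU.left ⁻¹ᵁ A).ι ≫ Q.hom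
      rw [morphismRestrict_ι_assoc, Over.w qU])
    have hres : IsPullback qA.left kQ.left jA.left qU.left := isPullback_morphismRestrict qU.left A
    have hres' : IsPullback qA kQ jA qU :=
      IsPullback.of_map (Over.forget S) (by ext1; exact hres.w) hres
    haveI : IsAffine AO.left := hA
    haveI : Etale jA.left := inferInstanceAs (Etale A.ι)
    exact key ((yon S).map jA ≫ π) (repWith_comp ((repWith_yon_map_iff _ jA).2 inferInstance) hπ) qA
      ((yon S).map kQ ≫ fst) ((hres'.map (yon S)).flip.paste_horiz sq)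
      (IsZariskiLocalAtTarget.restrict hQi A)
  exact Groth.AlgSp2.isIso_of_repWith (repWith_of_isLocallySurjective f.hom hrep.rep π _ _ sq
    ((repWith_yon_map_iff _ qU).2 hiso))

end Groth.AlgSpBasic
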