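import Groth.Agent.AlgSpBasic.BirationalSp
import Groth.Agent.AlgSpBasic.DiagProps
import Groth.Agent.AlgSpBasic.DiagBaseChange
import Groth.Agent.AlgSpBasic.QComp
import Groth.Agent.AlgSp3.ImmersionImage
import Groth.Prelude.Def_AlgSp4

/-!
# Birational morphisms are isomorphisms over dense open subschemes
-/

set_option autoImplicit false
set_option backward.isDefEq.respectTransparency.types false
universe u

open CategoryTheory CategoryTheory.Limits AlgebraicGeometry Topology TopologicalSpace Opposite AlgSp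

namespace Groth.AlgSpBasic

variable {S : Scheme.{u}}

theorem dense_of_genericPoints_subset {α : Type*} [TopologicalSpace α] [QuasiSober α] {A : Set α}
    (h : genericPoints α ⊆ A) : Dense A :=
  dense_iff_closure_eq.2 (Set.eq_univ_of_univ_subset
    (genericPoints.closure.symm.subset.trans (closure_mono h)))

/-- An open subscheme of a chart, as a chart. -/
theorem repWith_opens_ι {X : Sp S} {U : Over S} {a : (yon S).obj U ⟶ X}
    (ha : RepWith @IsOpenImmersion a) (O : U.left.Opens) :
    RepWith @IsOpenImmersion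
      ((yon S).map (Over.homMk O.ι rfl : Over.mk (O.ι ≫ U.hom) ⟶ U) ≫ a) :=
  repWith_comp ((repWith_yon_map_iff _ _).2 (inferInstanceAs (IsOpenImmersion O.ι))) ha

theorem isClosed_range_map_of_closedImmersion {F Z : Sp S} (hF : IsAlgSpace F) {i : Z ⟶ F}
    (hi : RepWith @IsClosedImmersion i) : IsClosed (Set.range (AlgSp.Points.map i)) := by
  obtain ⟨V, φ, hφ, hφs⟩ := hF.atlas
  obtain ⟨I, snd, fst, sq⟩ := hi.rep φ
  haveI : IsClosedImmersion snd.left := hi.property φ fst snd sq
  rw [← (isQuotientMap_ofPt hφ hφs).isCoinducing.isClosed_preimage, ← range_left_eq_preimage sq]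
  exact snd.left.isClosedEmbedding.isClosed_range

variable {X Y : AlgSp.Space S} {f : X ⟶ Y}

/-- A birational morphism which is of finite type onto a reduced space, or of finite presentation, is an
isomorphism between dense open subschemes. -/
theorem exists_iso_opens (hX : IsDecent X.obj) (hY : IsDecent Y.obj)
    (hYf : (irreducibleComponents (AlgSp.Points Y.obj)).Finite)
    (hf : W4stk3decentspacesp2.IsBirational f.hom)
    (h : (LocP @LocallyOfFiniteType f.hom ∧ EtaleLocally (fun T => IsReduced T) Y.obj) ∨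
      LocP @LocallyOfFinitePresentation f.hom) :
    ∃ (U V : Over S) (a : (yon S).obj U ⟶ X.obj) (b : (yon S).obj V ⟶ Y.obj) (g : U ⟶ V),
      RepWith @IsOpenImmersion a ∧ RepWith @IsOpenImmersion b ∧
        genericPoints (AlgSp.Points X.obj) ⊆ Set.range (AlgSp.Points.ofPt a) ∧
        genericPoints (AlgSp.Points Y.obj) ⊆ Set.range (AlgSp.Points.ofPt b) ∧
          a ≫ f.hom = (yon S).map g ≫ b ∧ IsIso g.left := by
  obtain ⟨C⟩ := exists_birCharts hX hY hf
  have hae : RepWith @Etale C.a :=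
    repWith_mono (fun _ _ φ (_ : IsOpenImmersion φ) => inferInstanceAs (Etale φ)) C.ha
  have hbe : RepWith @Etale C.b :=
    repWith_mono (fun _ _ φ (_ : IsOpenImmersion φ) => inferInstanceAs (Etale φ)) C.hb
  have hVf : (irreducibleComponents ↥C.V.left).Finite := by
    haveI := quasiSober_of_isDecent Y.property hY
    haveI := t0Space_of_isDecent Y.property hY
    have hg : (genericPoints ↥C.V.left).Finite :=
      ((genericPoints.finite hYf).preimage (isOpenEmbedding_ofPt C.hb).injective.injOn).subset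
        fun v hv => (mem_gen_iff hY C.hb v).1 hv
    haveI := hg.to_subtype
    exact Set.finite_coe_iff.1 (Finite.of_equiv _ (genericPoints.equiv (α := ↥C.V.left)))
  have hloc : ∀ x ∈ Groth.PropsBasic.BirationalGeneric.gen C.U.left,
      ∃ O : C.U.left.Opens, x ∈ O ∧ IsOpenImmersion (O.ι ≫ C.g.left) := by
    intro x hx
    rcases h with ⟨hl, hr⟩ | hl
    · haveI : LocallyOfFiniteType C.g.left := hl C.a C.b C.g hae hbe C.comm
      haveI : IsReduced C.V.left := Groth.AlgSp3.isReduced_etale_chart Y.property hr hbe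
      exact Groth.PropsBasic.BirationalGeneric.exists_isOpenImmersion_of_isReduced C.g.left C.iso hVf
        hx (C.bij.mapsTo hx)
    · haveI : LocallyOfFinitePresentation C.g.left := hl C.a C.b C.g hae hbe C.comm
      exact Groth.PropsBasic.BirationalGeneric.exists_isOpenImmersion_of_lfp C.g.left C.iso hx
  obtain ⟨U', V', hUV, hgU, hgV, hiso, -⟩ :=
    Groth.PropsBasic.BirationalGeneric.exists_dense_opens C.g.left C.bij C.iso hVf hloc
  refine ⟨Over.mk (U'.ι ≫ C.U.hom), Over.mk (V'.ι ≫ C.V.hom), _, _,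
    Over.homMk (C.g.left.resLE V' U' hUV) (by
      show C.g.left.resLE V' U' hUV ≫ V'.ι ≫ C.V.hom = U'.ι ≫ C.U.hom
      rw [Scheme.Hom.resLE_comp_ι_assoc, Over.w C.g]),
    repWith_opens_ι C.ha U', repWith_opens_ι C.hb V', fun x hx => ?_, fun y hy => ?_, ?_, hiso⟩
  · obtain ⟨e, rfl⟩ := C.genX hx
    exact ⟨⟨e, hgU ((mem_gen_iff hX C.ha e).2 hx)⟩, ofPt_comp_yon _ _ _⟩
  · obtain ⟨v, rfl⟩ := C.genY hy
    exact ⟨⟨v, hgV ((mem_gen_iff hY C.hb v).2 hy)⟩, ofPt_comp_yon _ _ _⟩
  · rw [Category.assoc, C.comm, ← Category.assoc, ← Category.assoc, ← Functor.map_comp,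
      ← Functor.map_comp]
    congr 2
    ext1
    exact (Scheme.Hom.resLE_comp_ι _ _).symm

/-- For a quasi-compact morphism the preimage of a neighbourhood of a generic point lies in any given open
containing the generic points. -/
theorem exists_nhd_preimage_subset (hqc : IsQuasiCompactMor f.hom) {V : Over S}
    (b : (yon S).obj V ⟶ Y.obj) (hb : RepWith @IsOpenImmersion b) (v : ↥V.left)
    (hv : ∀ z : AlgSp.Points Y.obj, z ⤳ AlgSp.Points.ofPt b v → z = AlgSp.Points.ofPt b v)
    {O : Set (AlgSp.Points X.obj)} (hO : IsOpen O)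
    (hfib : AlgSp.Points.map f.hom ⁻¹' {AlgSp.Points.ofPt b v} ⊆ O) :
    ∃ A : V.left.Opens, v ∈ A ∧ ∀ x : AlgSp.Points X.obj, ∀ t ∈ A,
      AlgSp.Points.map f.hom x = AlgSp.Points.ofPt b t → x ∈ O := by
  obtain ⟨A, hA, hvA, -⟩ :=
    exists_isAffineOpen_mem_and_subset (X := V.left) (x := v) (U := ⊤) trivial
  let AO : Over S := Over.mk (A.ι ≫ V.hom)
  let jA : AO ⟶ V := Over.homMk A.ι rfl
  haveI : IsAffine AO.left := hA
  have sqP := IsPullback.of_hasPullback f.hom ((yon S).map jA ≫ b)
  obtain ⟨W, p, hp, hps, hW⟩ := hqc (IsAlgSpace.yon_obj AO)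
    ((isQuasiCompactSp_yon_iff AO).2 inferInstance) _ _ _ sqP
  obtain ⟨h, hh⟩ := (yon S).map_surjective (p ≫ pullback.snd f.hom ((yon S).map jA ≫ b))
  haveI : CompactSpace ↥W.left := hW
  let q := p ≫ pullback.fst f.hom ((yon S).map jA ≫ b)
  let D : Closeds ↥W.left :=
    ⟨(AlgSp.Points.ofPt q ⁻¹' O)ᶜ, (hO.preimage (AlgSp.Points.continuous_ofPt q)).isClosed_compl⟩
  let ι := (Scheme.IdealSheafData.vanishingIdeal D).subschemeι
  haveI : CompactSpace ↥(Scheme.IdealSheafData.vanishingIdeal D).subscheme :=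
    QuasiCompact.compactSpace_of_compactSpace ι
  haveI : QuasiCompact (ι ≫ h.left) := (quasiCompact_iff_compactSpace (f := ι ≫ h.left)).2 inferInstance
  have key : ∀ w : ↥W.left, AlgSp.Points.map f.hom (AlgSp.Points.ofPt q w) =
      AlgSp.Points.ofPt b (jA.left (h.left w)) := fun w => by
    rw [← ofPt_comp_yon jA b, AlgSp.Points.map_ofPt, ← ofPt_comp_yon h ((yon S).map jA ≫ b), hh]
    exact congrArg (AlgSp.Points.ofPt · w)
      ((Category.assoc _ _ _).trans ((congrArg (p ≫ ·) sqP.w).trans (Category.assoc _ _ _).symm))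
  have hnot : (⟨v, hvA⟩ : ↥AO.left) ∉ closure (Set.range (ι ≫ h.left)) := by
    intro hc
    obtain ⟨z, hz⟩ := Groth.PropsBasic2.exists_specializes_of_mem_closure_range _ hc
    have hzD : ι z ∈ (D : Set ↥W.left) := by
      rw [← Groth.PropsBasic2.range_vanishingIdeal_subschemeι D]; exact ⟨z, rfl⟩
    refine hzD (hfib ?_)
    show AlgSp.Points.map f.hom (AlgSp.Points.ofPt q (ι z)) = _
    rw [key]
    exact hv _ (hz.map ((AlgSp.Points.continuous_ofPt b).comp jA.left.continuous))
  refine ⟨A.ι ''ᵁ ⟨(closure (Set.range (ι ≫ h.left)))ᶜ, isClosed_closure.isOpen_compl⟩,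
    ⟨⟨v, hvA⟩, hnot, rfl⟩, ?_⟩
  rintro x _ ⟨t, ht, rfl⟩ hxt
  by_contra hx
  obtain ⟨P, hP₁, -⟩ := exists_point_of_isPullback sqP x (AlgSp.Points.ofScheme AO t) (by
    rw [hxt, ← ofPt_eq_map, ofPt_comp_yon]; rfl)
  obtain ⟨w, hw⟩ := surjective_ofPt_of_repWith hps P
  have hqw : AlgSp.Points.ofPt q w = x := by
    rw [← hP₁, ← hw, AlgSp.Points.map_ofPt]
  have hwD : w ∈ (D : Set ↥W.left) := by
    show AlgSp.Points.ofPt q w ∉ O
    rwa [hqw]
  obtain ⟨z, hz⟩ : w ∈ Set.range ι := by
    rw [Groth.PropsBasic2.range_vanishingIdeal_subschemeι D]; exact hwD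
  refine ht (subset_closure ⟨z, ?_⟩)
  rw [Scheme.Hom.comp_apply, hz]
  have := key w
  rw [hqw, hxt] at this
  exact (A.ι.isOpenEmbedding.injective ((isOpenEmbedding_ofPt hb).injective this)).symm

/-- A birational morphism which is quasi-compact or separated, and of finite type onto a reduced space
or of finite presentation, is an isomorphism over a dense open subscheme. -/
theorem exists_iso_over_open (hX : IsDecent X.obj) (hY : IsDecent Y.obj)
    (hYf : (irreducibleComponents (AlgSp.Points Y.obj)).Finite)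
    (hf : W4stk3decentspacesp2.IsBirational f.hom)
    (h₁ : IsQuasiCompactMor f.hom ∨ IsSeparatedMor f.hom)
    (h : (LocP @LocallyOfFiniteType f.hom ∧ EtaleLocally (fun T => IsReduced T) Y.obj) ∨
      LocP @LocallyOfFinitePresentation f.hom) :
    ∃ (V : Over S) (b : (yon S).obj V ⟶ Y.obj), RepWith @IsOpenImmersion b ∧
      Dense (Set.range (AlgSp.Points.ofPt b)) ∧
        ∀ ⦃P : AlgSp.Sp S⦄ (fst : P ⟶ X.obj) (snd : P ⟶ (yon S).obj V),
          IsPullback fst snd f.hom b → IsIso snd := by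
  haveI := quasiSober_of_isDecent Y.property hY
  haveI := t0Space_of_isDecent Y.property hY
  haveI := quasiSober_of_isDecent X.property hX
  obtain ⟨U, V, a, b, g, ha, hb, hgX, hgY, hc, hiso⟩ := exists_iso_opens hX hY hYf hf h
  haveI := hiso
  haveI hbm := mono_of_repWith (fun _ _ φ (_ : IsOpenImmersion φ) => inferInstance) hb
  have haO : IsOpen (Set.range (AlgSp.Points.ofPt a)) := (isOpenEmbedding_ofPt ha).isOpen_range
  -- an open of `V` containing the generic points with preimage inside `U`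
  have key : ∃ O : V.left.Opens,
      (∀ v, AlgSp.Points.ofPt b v ∈ genericPoints (AlgSp.Points Y.obj) → v ∈ O) ∧
      ∀ x : AlgSp.Points X.obj, ∀ t ∈ O, AlgSp.Points.map f.hom x = AlgSp.Points.ofPt b t →
        x ∈ Set.range (AlgSp.Points.ofPt a) := by
    rcases h₁ with hqc | hsep
    · choose A hA hA' using fun v : {v : ↥V.left // AlgSp.Points.ofPt b v ∈
          genericPoints (AlgSp.Points Y.obj)} =>
        exists_nhd_preimage_subset hqc b hb v.1
          ((Groth.PropsBasic2.closure_mem_irreducibleComponents_iff _).1 v.2) haO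
          (fun x hx => hgX (genericPoint_of_map hX hY hf (hx ▸ v.2)))
      refine ⟨⨆ v, A v, fun v hv => Opens.mem_iSup.2 ⟨⟨v, hv⟩, hA ⟨v, hv⟩⟩, fun x t ht hxt => ?_⟩
      obtain ⟨v, hv⟩ := Opens.mem_iSup.1 ht
      exact hA' v x t hv hxt
    · refine ⟨⊤, fun _ _ => trivial, fun x t _ hxt => ?_⟩
      by_contra hx
      have sqP := IsPullback.of_hasPullback f.hom b
      let p₁ := pullback.fst f.hom b
      let p₂ := pullback.snd f.hom b
      have hp₁ : RepWith @IsOpenImmersion p₁ := repWith_of_isPullback sqP.flip hb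
      haveI : Mono p₁ := mono_of_repWith (fun _ _ φ (_ : IsOpenImmersion φ) => inferInstance) hp₁
      haveI : IsIso ((Over.forget S).map g) := hiso
      haveI : IsIso g := isIso_of_reflects_iso g (Over.forget S)
      let σ : (yon S).obj V ⟶ pullback f.hom b :=
        sqP.lift ((yon S).map (inv g) ≫ a) (𝟙 _) (by
          rw [Category.assoc, hc, ← Category.assoc, ← Functor.map_comp, IsIso.inv_hom_id,
            CategoryTheory.Functor.map_id])
      have hσ : RepWith @IsClosedImmersion σ := repWith_section p₂ σ (sqP.lift_snd _ _ _)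
        (repWith_of_isPullback (isPullback_diagonal_baseChange sqP) hsep)
      have hPa : IsAlgSpace (pullback f.hom b) :=
        isAlgSpace_of_isPullback sqP Y.property.diag X.property (IsAlgSpace.yon_obj V)
      have hcl := isClosed_range_map_of_closedImmersion hPa hσ
      have hopen : IsOpen (AlgSp.Points.map p₁ '' (Set.range (AlgSp.Points.map σ))ᶜ) :=
        isOpenMap_map_of_repWith (fun _ _ φ (h : IsOpenImmersion φ) => φ.isOpenEmbedding.isOpenMap)
          hp₁ _ hcl.isOpen_compl
      have hmem : x ∈ AlgSp.Points.map p₁ '' (Set.range (AlgSp.Points.map σ))ᶜ := by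
        obtain ⟨z, hz, -⟩ := exists_point_of_isPullback sqP x (AlgSp.Points.ofScheme V t)
          (by rw [hxt, ofPt_eq_map])
        refine ⟨z, fun ⟨s, hs⟩ => hx ?_, hz⟩
        obtain ⟨v, rfl⟩ := (AlgSp.Points.schemeEquiv V).surjective s
        refine ⟨(inv g).left v, ?_⟩
        rw [← hz, ← hs, ← AlgSp.Points.map_comp, sqP.lift_fst, ← ofPt_comp_yon, ofPt_eq_map]
        rfl
      obtain ⟨y, hy, hya⟩ := (dense_of_genericPoints_subset hgX).inter_open_nonempty _ hopen ⟨x, hmem⟩
      obtain ⟨z, hz, rfl⟩ := hy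
      obtain ⟨u, hu⟩ := hya
      refine hz ⟨AlgSp.Points.ofScheme V (g.left u), Groth.AlgSp2.map_injective_of_mono p₁ ?_⟩
      rw [← AlgSp.Points.map_comp, sqP.lift_fst, ← hu, ← ofPt_eq_map, ofPt_comp_yon]
      exact congrArg (AlgSp.Points.ofPt a)
        (by rw [← Scheme.Hom.comp_apply, ← Over.comp_left, IsIso.hom_inv_id]; rfl)
  obtain ⟨O, hO, hpre⟩ := key
  let jO : Over.mk (O.ι ≫ V.hom) ⟶ V := Over.homMk O.ι rfl
  refine ⟨_, _, repWith_opens_ι hb O, dense_of_genericPoints_subset fun y hy => ?_,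
    fun P fst snd sq => ?_⟩
  · obtain ⟨v, rfl⟩ := hgY hy
    exact ⟨⟨v, hO v hy⟩, ofPt_comp_yon _ _ _⟩
  · obtain ⟨e, he, -⟩ := exists_iso_pullback_of_range Y.property ha hc jO sq X.property (by
      rintro _ ⟨z, rfl⟩
      obtain ⟨t, ht⟩ := (AlgSp.Points.schemeEquiv (Over.mk (O.ι ≫ V.hom))).surjective
        (AlgSp.Points.map snd z)
      refine hpre _ (O.ι t) t.2 ?_
      rw [← AlgSp.Points.map_comp, sq.w, AlgSp.Points.map_comp, ← ht]
      exact (ofPt_eq_map _ t).symm.trans (ofPt_comp_yon _ _ _))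
    haveI : IsIso ((Over.forget S).map g) := hiso
    haveI : IsIso g := isIso_of_reflects_iso g (Over.forget S)
    rw [← he]
    infer_instance

end Groth.AlgSpBasic
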