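import Groth.Agent.AlgSpBasic.SchematicPieces
import Groth.Agent.AlgSpBasic.DecentSober
import Groth.Agent.AlgSpBasic.DecentComponents
import Groth.Agent.PropsBasic.BirationalGeneric
import Groth.Prelude.Def_W4stk3decentspacesp2Birat

/-!
# Birational morphisms of decent algebraic spaces: reduction to schemes
-/

set_option autoImplicit false
set_option backward.isDefEq.respectTransparency.types false
universe u

open CategoryTheory CategoryTheory.Limits AlgebraicGeometry Topology TopologicalSpace Opposite AlgSp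

namespace Groth.AlgSpBasic

variable {S : Scheme.{u}}

theorem exists_schematic_chart (X : AlgSp.Space S) :
    ∃ (G : Over S) (g : (yon S).obj G ⟶ X.obj), RepWith @IsOpenImmersion g ∧
      ∀ x, IsSchematicPt X.obj x → x ∈ Set.range (AlgSp.Points.ofPt g) := by
  obtain ⟨X', j, hj, hrep, hjr⟩ := exists_schematic_openSub X
  obtain ⟨G, ⟨e⟩⟩ := hrep
  let iso : (yon S).obj G ≅ X'.obj := AlgSp.isoOfRepresentableBy e
  refine ⟨G, iso.hom ≫ j.hom, repWith_comp (repWith_isIso _) hj, fun x hx => ?_⟩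
  obtain ⟨z, rfl⟩ := hjr.ge hx
  obtain ⟨c, hc⟩ := (AlgSp.Points.schemeEquiv G).surjective (AlgSp.Points.map iso.inv z)
  refine ⟨c, ?_⟩
  rw [ofPt_eq_map]
  refine (congrArg (AlgSp.Points.map (iso.hom ≫ j.hom)) hc).trans ?_
  rw [← AlgSp.Points.map_comp, iso.inv_hom_id_assoc]

/-- An isomorphism on stalks gives one on residue fields. -/
theorem isIso_residueFieldMap_of_isIso_stalkMap {A B : Scheme.{u}} (f : A ⟶ B) (x : A)
    [IsIso (f.stalkMap x)] : IsIso (f.residueFieldMap x) := by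
  refine (ConcreteCategory.isIso_iff_bijective _).2 ⟨(f.residueFieldMap x).hom.injective, fun c => ?_⟩
  obtain ⟨s, rfl⟩ := A.residue_surjective x c
  obtain ⟨t, rfl⟩ := (ConcreteCategory.bijective_of_isIso (f.stalkMap x)).2 s
  exact ⟨B.residue (f x) t, congr($(Scheme.residue_residueFieldMap f x) t)⟩

theorem isIntegralHom_residue_congr {A B : Scheme.{u}} {f g : A ⟶ B} (h : f = g) (x : A)
    (hf : IsIntegralHom (Spec.map (f.residueFieldMap x))) :
    IsIntegralHom (Spec.map (g.residueFieldMap x)) := by subst h; exact hf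

/-- The charts of a birational morphism. -/
structure BirCharts {X Y : AlgSp.Space S} (f : X ⟶ Y) where
  U : Over S
  V : Over S
  a : (yon S).obj U ⟶ X.obj
  b : (yon S).obj V ⟶ Y.obj
  g : U ⟶ V
  ha : RepWith @IsOpenImmersion a
  hb : RepWith @IsOpenImmersion b
  comm : a ≫ f.hom = (yon S).map g ≫ b
  schem : ∀ y, IsSchematicPt Y.obj y → y ∈ Set.range (AlgSp.Points.ofPt b)
  genX : genericPoints (AlgSp.Points X.obj) ⊆ Set.range (AlgSp.Points.ofPt a)
  genY : genericPoints (AlgSp.Points Y.obj) ⊆ Set.range (AlgSp.Points.ofPt b)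
  bij : Set.BijOn (fun x : U.left => g.left.base x) (Groth.PropsBasic.BirationalGeneric.gen U.left)
    (Groth.PropsBasic.BirationalGeneric.gen V.left)
  iso : ∀ x ∈ Groth.PropsBasic.BirationalGeneric.gen U.left, IsIso (g.left.stalkMap x)

variable {X Y : AlgSp.Space S} {f : X ⟶ Y}

theorem mem_gen_iff (hX : IsDecent X.obj) {G : Over S} {g : (yon S).obj G ⟶ X.obj}
    (hg : RepWith @IsOpenImmersion g) (x : ↥G.left) :
    x ∈ Groth.PropsBasic.BirationalGeneric.gen G.left ↔
      AlgSp.Points.ofPt g x ∈ genericPoints (AlgSp.Points X.obj) := by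
  haveI := quasiSober_of_isDecent X.property hX
  haveI := t0Space_of_isDecent X.property hX
  exact mem_genericPoints_iff_of_isOpenEmbedding (isOpenEmbedding_ofPt hg) x

theorem exists_birCharts (hX : IsDecent X.obj) (hY : IsDecent Y.obj)
    (hf : W4stk3decentspacesp2.IsBirational f.hom) : Nonempty (BirCharts f) := by
  obtain ⟨GX, gX, hgX, hGX⟩ := exists_schematic_chart X
  obtain ⟨V, b, hb, hV⟩ := exists_schematic_chart Y
  obtain ⟨E, e₁, e₂, sq⟩ := exists_pullback_of_diag Y.property.diag (gX ≫ f.hom) b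
  haveI : IsOpenImmersion e₁.left := repWith_fst_of_isPullback sq.flip hb
  let a : (yon S).obj E ⟶ X.obj := (yon S).map e₁ ≫ gX
  have ha : RepWith @IsOpenImmersion a :=
    repWith_comp ((repWith_yon_map_iff _ e₁).2 inferInstance) hgX
  have hc : a ≫ f.hom = (yon S).map e₂ ≫ b := (Category.assoc _ _ _).trans sq.w
  have hsY : ∀ y ∈ genericPoints (AlgSp.Points Y.obj), y ∈ Set.range (AlgSp.Points.ofPt b) :=
    fun y hy => by
      obtain ⟨x, hx, rfl⟩ := hf.bijOn.surjOn hy
      obtain ⟨U', V', a', b', g', u, ha', hb', hc', hu, -⟩ := hf.stalkIso x hx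
      refine hV _ ⟨V', b', hb', g'.left u, ?_⟩
      rw [← ofPt_comp_yon, ← hc', ← AlgSp.Points.map_ofPt, hu]
  have hsX : genericPoints (AlgSp.Points X.obj) ⊆ Set.range (AlgSp.Points.ofPt a) := fun x hx => by
    obtain ⟨U', V', a', b', g', u, ha', -, -, hu, -⟩ := hf.stalkIso x hx
    obtain ⟨z, hz⟩ := hGX x ⟨U', a', ha', u, hu⟩
    obtain ⟨v, hv⟩ := hsY _ (hf.bijOn.mapsTo hx)
    obtain ⟨e, he₁, -⟩ := (ofPt_eq_ofPt_iff sq z v).1 (by
      rw [← AlgSp.Points.map_ofPt, hz]; exact hv.symm)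
    refine ⟨e, ?_⟩
    show AlgSp.Points.ofPt ((yon S).map e₁ ≫ gX) e = x
    rw [ofPt_comp_yon, he₁, hz]
  have hmap : ∀ x, AlgSp.Points.ofPt b (e₂.left x) =
      AlgSp.Points.map f.hom (AlgSp.Points.ofPt a x) := fun x => by
    rw [AlgSp.Points.map_ofPt, hc, ofPt_comp_yon]
  have hai := (isOpenEmbedding_ofPt ha).injective
  have hbi := (isOpenEmbedding_ofPt hb).injective
  refine ⟨⟨E, V, a, b, e₂, ha, hb, hc, hV, hsX, hsY, ⟨?_, ?_, ?_⟩, ?_⟩⟩
  · intro x hx
    refine (mem_gen_iff hY hb _).2 ?_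
    rw [hmap]
    exact hf.bijOn.mapsTo ((mem_gen_iff hX ha x).1 hx)
  · intro x hx x' hx' h
    apply hai
    refine hf.bijOn.injOn ((mem_gen_iff hX ha x).1 hx) ((mem_gen_iff hX ha x').1 hx') ?_
    rw [← hmap, ← hmap]
    exact congrArg _ h
  · intro y hy
    obtain ⟨x, hx, hxy⟩ := hf.bijOn.surjOn ((mem_gen_iff hY hb y).1 hy)
    obtain ⟨e, rfl⟩ := hsX hx
    exact ⟨e, (mem_gen_iff hX ha e).2 hx, hbi ((hmap e).trans hxy)⟩
  · intro x hx
    obtain ⟨U', V', a', b', g', u, ha', hb', hc', hu, hiso⟩ :=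
      hf.stalkIso _ ((mem_gen_iff hX ha x).1 hx)
    exact isIso_stalkMap_of_charts X.property Y.property ha ha' hb hb' hc hc' x u hu.symm hiso

/-- The fibre over a generic point consists of generic points. -/
theorem genericPoint_of_map (hX : IsDecent X.obj) (hY : IsDecent Y.obj)
    (hf : W4stk3decentspacesp2.IsBirational f.hom) {x : AlgSp.Points X.obj}
    (hy : AlgSp.Points.map f.hom x ∈ genericPoints (AlgSp.Points Y.obj)) :
    x ∈ genericPoints (AlgSp.Points X.obj) := by
  haveI := quasiSober_of_isDecent X.property hX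
  haveI := t0Space_of_isDecent X.property hX
  haveI := quasiSober_of_isDecent Y.property hY
  haveI := t0Space_of_isDecent Y.property hY
  obtain ⟨C⟩ := exists_birCharts hX hY hf
  obtain ⟨x₁, hx₁, hs⟩ := Groth.PropsBasic2.exists_genericPoint_specializes x
  have hfx : AlgSp.Points.map f.hom x₁ = AlgSp.Points.map f.hom x :=
    (Groth.PropsBasic2.closure_mem_irreducibleComponents_iff _).1 hy _
      (hs.map (AlgSp.Points.continuous_map f.hom))
  suffices x₁ = x from this ▸ hx₁
  obtain ⟨W, p, hp, hps⟩ := X.property.atlas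
  obtain ⟨w, rfl⟩ := surjective_ofPt_of_repWith hps x
  obtain ⟨w₁, hw, rfl⟩ := exists_specializes_of_finiteAt (finiteAt_of_isDecent hX x₁) hp hs
  obtain ⟨v, hv⟩ := C.genY hy
  obtain ⟨D, d₁, d₂, sqD⟩ := exists_pullback_of_diag Y.property.diag (p ≫ f.hom) C.b
  haveI : IsOpenImmersion d₁.left := repWith_fst_of_isPullback sqD.flip C.hb
  obtain ⟨z, rfl, hz⟩ := (ofPt_eq_ofPt_iff sqD w v).1 (by
    rw [← AlgSp.Points.map_ofPt, hv])
  obtain ⟨z₁, rfl, hz₁⟩ := (ofPt_eq_ofPt_iff sqD w₁ v).1 (by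
    rw [← AlgSp.Points.map_ofPt, hfx, hv])
  have hzs : z₁ ⤳ z := d₁.left.isOpenEmbedding.isInducing.specializes_iff.1 hw
  obtain ⟨u₀, hu₀⟩ := C.genX hx₁
  have hu₀g : u₀ ∈ Groth.PropsBasic.BirationalGeneric.gen C.U.left :=
    (mem_gen_iff hX C.ha u₀).2 (hu₀ ▸ hx₁)
  have hp₁ : RepWith @Etale ((yon S).map d₁ ≫ p) :=
    repWith_comp ((repWith_yon_map_iff _ d₁).2 inferInstance) hp
  obtain ⟨E, k₁, k₂, sqE⟩ := exists_pullback_of_diag X.property.diag ((yon S).map d₁ ≫ p) C.a
  haveI : IsOpenImmersion k₁.left := repWith_fst_of_isPullback sqE.flip C.ha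
  haveI : Etale k₂.left := repWith_fst_of_isPullback sqE hp₁
  obtain ⟨e, he₁, he₂⟩ := (ofPt_eq_ofPt_iff sqE z₁ u₀).1 (by rw [ofPt_comp_yon, hu₀])
  subst he₁ he₂
  haveI := mono_of_repWith (fun _ _ φ (_ : IsOpenImmersion φ) => inferInstance) C.hb
  have hcomp : k₂ ≫ C.g = k₁ ≫ d₂ := (yon S).map_injective (by
    rw [← cancel_mono C.b, Functor.map_comp, Functor.map_comp, Category.assoc, Category.assoc,
      ← C.comm, ← Category.assoc, ← sqE.w, Category.assoc, Category.assoc, sqD.w])
  haveI := C.iso _ hu₀g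
  haveI := isIso_residueFieldMap_of_isIso_stalkMap C.g.left (k₂.left e)
  haveI := finite_residueFieldMap_of_etale k₂.left e
  have h1 : IsIntegralHom (Spec.map ((k₂.left ≫ C.g.left).residueFieldMap e)) := by
    rw [Scheme.residueFieldMap_comp]
    erw [Spec.map_comp]
    exact MorphismProperty.comp_mem @IsIntegralHom _ _
      (inferInstanceAs (IsIntegralHom (Spec.map (k₂.left.residueFieldMap e))))
      (inferInstanceAs (IsIntegralHom (Spec.map (C.g.left.residueFieldMap (k₂.left e)))))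
  have h2 := isIntegralHom_residue_congr (g := k₁.left ≫ d₂.left)
    (by rw [← Over.comp_left, ← Over.comp_left, hcomp]) e h1
  rw [Scheme.residueFieldMap_comp] at h2
  erw [Spec.map_comp] at h2
  haveI : IsIntegralHom (Spec.map (d₂.left.residueFieldMap (k₁.left e))) :=
    (MorphismProperty.cancel_left_of_respectsIso @IsIntegralHom
      (Spec.map (k₁.left.residueFieldMap e)) _).1 h2
  have := eq_of_specializes_of_integral_residue d₂.left hzs (hz.trans hz₁.symm)
  rw [this]

/-- The base change to the local ring of a generic point is an isomorphism. -/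
theorem isIso_baseChange_specStalk (hX : IsDecent X.obj) (hY : IsDecent Y.obj)
    (hf : W4stk3decentspacesp2.IsBirational f.hom) {V : Over S} (b : (yon S).obj V ⟶ Y.obj)
    (hb : RepWith @IsOpenImmersion b) (v : ↥V.left)
    (hv : AlgSp.Points.ofPt b v ∈ genericPoints (AlgSp.Points Y.obj)) {P : AlgSp.Sp S}
    (fst : P ⟶ X.obj) (snd : P ⟶ (yon S).obj (Over.mk (V.left.fromSpecStalk v ≫ V.hom)))
    (hP : IsPullback fst snd f.hom
      ((yon S).map (Over.homMk (V.left.fromSpecStalk v) rfl) ≫ b)) : IsIso snd := by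
  haveI := quasiSober_of_isDecent Y.property hY
  haveI := t0Space_of_isDecent Y.property hY
  obtain ⟨C⟩ := exists_birCharts hX hY hf
  haveI := mono_of_repWith (fun _ _ φ (_ : IsOpenImmersion φ) => inferInstance) C.hb
  let Tv : Over S := Over.mk (V.left.fromSpecStalk v ≫ V.hom)
  let ιv : Tv ⟶ V := Over.homMk (V.left.fromSpecStalk v) rfl
  have hmax : ∀ t : ↥Tv.left, AlgSp.Points.ofPt ((yon S).map ιv ≫ b) t = AlgSp.Points.ofPt b v := by
    intro t
    rw [ofPt_comp_yon]
    have hs : ιv.left t ⤳ v := by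
      have : V.left.fromSpecStalk v t ∈ Set.range (V.left.fromSpecStalk v) := ⟨t, rfl⟩
      rw [Scheme.range_fromSpecStalk] at this
      exact this
    exact (Groth.PropsBasic2.closure_mem_irreducibleComponents_iff _).1 hv _
      (hs.map (AlgSp.Points.continuous_ofPt b))
  obtain ⟨v₀, hv₀⟩ := C.genY hv
  obtain ⟨Q, q₁, q₂, sqQ⟩ := exists_pullback_of_diag Y.property.diag b C.b
  haveI : IsOpenImmersion q₁.left := repWith_fst_of_isPullback sqQ.flip C.hb
  haveI : IsOpenImmersion q₂.left := repWith_fst_of_isPullback sqQ hb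
  obtain ⟨z, hz₁, hz₂⟩ := (ofPt_eq_ofPt_iff sqQ v v₀).1 hv₀.symm
  subst hz₁ hz₂
  let t₀ : Spec (V.left.presheaf.stalk (q₁.left z)) ⟶ C.V.left :=
    inv (Spec.map (q₁.left.stalkMap z)) ≫ Q.left.fromSpecStalk z ≫ q₂.left
  let t : Tv ⟶ C.V := Over.homMk t₀ (by
    show t₀ ≫ C.V.hom = V.left.fromSpecStalk (q₁.left z) ≫ V.hom
    simp only [t₀, Category.assoc, IsIso.inv_comp_eq]
    rw [Scheme.SpecMap_stalkMap_fromSpecStalk_assoc, Over.w q₁, Over.w q₂])
  have hq : ∀ z' : Tv ⟶ Q, z' ≫ q₁ = ιv → (yon S).map (z' ≫ q₂) ≫ C.b = (yon S).map ιv ≫ b :=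
    fun z' hz' => by
      rw [← hz', Functor.map_comp, Functor.map_comp, Category.assoc, Category.assoc, sqQ.w]
  let z' : Tv ⟶ Q := Over.homMk (inv (Spec.map (q₁.left.stalkMap z)) ≫ Q.left.fromSpecStalk z) (by
    show _ = V.left.fromSpecStalk (q₁.left z) ≫ V.hom
    simp only [Category.assoc, IsIso.inv_comp_eq]
    rw [Scheme.SpecMap_stalkMap_fromSpecStalk_assoc, Over.w q₁])
  have hz' : z' ≫ q₁ = ιv := Over.OverMorphism.ext (by
    show (inv (Spec.map (q₁.left.stalkMap z)) ≫ Q.left.fromSpecStalk z) ≫ q₁.left =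
      V.left.fromSpecStalk (q₁.left z)
    rw [Category.assoc, IsIso.inv_comp_eq, Scheme.SpecMap_stalkMap_fromSpecStalk])
  have ht : z' ≫ q₂ = t := Over.OverMorphism.ext (by
    show (inv (Spec.map (q₁.left.stalkMap z)) ≫ Q.left.fromSpecStalk z) ≫ q₂.left = t₀
    rw [Category.assoc])
  have hP' : IsPullback fst snd f.hom ((yon S).map t ≫ C.b) := by
    rw [← ht, hq z' hz']; exact hP
  obtain ⟨e, he, -⟩ := exists_iso_pullback_of_range Y.property C.ha C.comm t hP' X.property (by
    rintro _ ⟨p, rfl⟩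
    refine C.genX (genericPoint_of_map hX hY hf ?_)
    obtain ⟨s, hs⟩ := (AlgSp.Points.schemeEquiv Tv).surjective (AlgSp.Points.map snd p)
    rw [← AlgSp.Points.map_comp, hP.w, AlgSp.Points.map_comp, ← hs]
    have := hmax s
    rw [ofPt_eq_map] at this
    rw [show AlgSp.Points.map ((yon S).map ιv ≫ b) (AlgSp.Points.schemeEquiv Tv s) = _ from this]
    exact hv)
  -- the scheme statement
  obtain ⟨u, hu, huv⟩ := C.bij.surjOn ((mem_gen_iff hY C.hb (q₂.left z)).2 (hv₀ ▸ hv))
  have hfs : IsIso (pullback.snd C.g.left (C.V.left.fromSpecStalk (q₂.left z))) := by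
    have := Groth.PropsBasic.BirationalGeneric.isIso_pullback_snd C.g.left C.bij C.iso hu
    rw [← show C.g.left u = q₂.left z from huv]
    exact this
  have ht₀ : t₀ = (inv (Spec.map (q₁.left.stalkMap z)) ≫ Spec.map (q₂.left.stalkMap z)) ≫
      C.V.left.fromSpecStalk (q₂.left z) := by
    simp only [t₀, Category.assoc, Scheme.SpecMap_stalkMap_fromSpecStalk]
  have hfs' : IsIso (pullback.snd C.g.left t₀) := by
    rw [ht₀]
    let i := inv (Spec.map (q₁.left.stalkMap z)) ≫ Spec.map (q₂.left.stalkMap z)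
    have sq1 : IsPullback (pullback.lift (pullback.fst C.g.left (i ≫ C.V.left.fromSpecStalk (q₂.left z)))
        (pullback.snd _ _ ≫ i) (by rw [Category.assoc]; exact pullback.condition))
        (pullback.snd C.g.left (i ≫ C.V.left.fromSpecStalk (q₂.left z)))
        (pullback.snd C.g.left (C.V.left.fromSpecStalk (q₂.left z))) i := by
      refine IsPullback.of_right ?_ (pullback.lift_snd _ _ _) (IsPullback.of_hasPullback _ _)
      rw [pullback.lift_fst]
      exact IsPullback.of_hasPullback _ _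
    exact MorphismProperty.of_isPullback (P := MorphismProperty.isomorphisms Scheme) sq1 hfs
  have hso : IsIso (pullback.snd C.g t).left := by
    have hs := isPullback_left (IsPullback.of_hasPullback C.g t)
    rw [show (pullback.snd C.g t).left = hs.isoPullback.hom ≫ pullback.snd C.g.left t.left from
      hs.isoPullback_hom_snd.symm]
    haveI : IsIso (pullback.snd C.g.left t.left) := hfs'
    infer_instance
  haveI : IsIso ((Over.forget S).map (pullback.snd C.g t)) := hso
  haveI : IsIso (pullback.snd C.g t) := isIso_of_reflects_iso _ (Over.forget S)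
  rw [← he]
  infer_instance

end Groth.AlgSpBasic
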