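import Groth.Agent.AlgSpBasic.BlowUpProperSp
import Groth.Agent.AlgSp3.SchImage
import Groth.Agent.AlgSp3.ClosedSub
import Groth.Agent.AlgSp3.RedInduced
import Groth.Agent.AlgSp2.InfGlue
import Groth.Agent.AlgSp2.Approx.ClosedLimit
import Groth.Agent.RefRank.BlowUpTwist
import Groth.Agent.Flatmor4.ImageDom
import Groth.Agent.S8907
import Groth.Agent.S1683
import Groth.Agent.S10035

/-!
# Composites of blow-ups of algebraic spaces in finitely presented centres
-/

set_option autoImplicit false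
set_option backward.isDefEq.respectTransparency.types false
universe u

open CategoryTheory CategoryTheory.Limits AlgebraicGeometry Opposite TopologicalSpace AlgSp
open Groth.AlgSpCartier (subOver incl)

namespace Groth.AlgSpBasic.BlowUpCompSp

open BlowUpProperSp

noncomputable section

section Scheme

/-- The support of the twisted centre of a composite of blow-ups. -/
theorem support_mul_eq {X X' : Scheme.{u}} {b : X' ⟶ X} {I : X.IdealSheafData}
    (hb : BlowUp.IsBlowUp b I) (J : X'.IdealSheafData) (n : ℕ) (K : X.IdealSheafData)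
    (hK : K.comap b = Groth.RefRank.twistIdeal b I J n) :
    ((I * K).support : Set X) = (I.support : Set X) ∪ b '' (J.support : Set X') := by
  have hpre : ∀ x' : X', b x' ∈ K.support ↔ x' ∈ J.support ∨ (n ≠ 0 ∧ b x' ∈ I.support) := by
    intro x'
    have e1 : x' ∈ (K.comap b).support ↔ b x' ∈ K.support := by
      rw [Scheme.IdealSheafData.support_comap]; rfl
    rw [← e1, hK, Groth.RefRank.twistIdeal, Scheme.IdealSheafData.support_mul]
    refine or_congr Iff.rfl ?_
    rcases Nat.eq_zero_or_pos n with rfl | hn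
    · rw [pow_zero, Scheme.IdealSheafData.one_eq_top, Scheme.IdealSheafData.support_top]
      simp
    · rw [Scheme.IdealSheafData.support_pow (hn := hn.ne'), Scheme.IdealSheafData.support_comap]
      exact ⟨fun h => ⟨hn.ne', h⟩, fun h => h.2⟩
  rw [Scheme.IdealSheafData.support_mul]
  refine Set.ext fun x => ⟨?_, ?_⟩
  · rintro (hx | hx)
    · exact Or.inl hx
    by_cases hxI : x ∈ I.support
    · exact Or.inl hxI
    let U : X.Opens := I.support.compl
    have : IsIso (b ∣_ U) := Groth.BlowUpBasics.isIso_morphismRestrict hb U disjoint_compl_right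
    obtain ⟨x', hx'⟩ := (b ∣_ U).surjective ⟨x, hxI⟩
    have hx'' : b x'.1 = x := by
      have h := congrArg Subtype.val hx'
      rwa [morphismRestrict_base] at h
    refine Or.inr ⟨x'.1, ?_, hx''⟩
    rcases (hpre x'.1).1 (hx''.symm ▸ hx) with h | ⟨-, h⟩
    · exact h
    · exact absurd (hx'' ▸ h) hxI
  · rintro (hx | ⟨x', hx', rfl⟩)
    · exact Or.inl hx
    · exact Or.inr ((hpre x').2 (Or.inl hx'))

end Scheme

variable {S : Scheme.{u}}

/-- A map which is a blow-up over an etale chart is a blow-up. -/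
theorem isBlowUpSp_of_chart {X X' Z : Sp S} (hX : IsAlgSpace X)
    {i : Z ⟶ X} (hi : RepWith @IsClosedImmersion i) {b : X' ⟶ X} {V : Over S}
    {p : (yon S).obj V ⟶ X} (hp : RepWith @Etale p) (hps : RepWith @Surjective p)
    {N : V.left.IdealSheafData} {fN : (yon S).obj (subOver V N) ⟶ Z}
    (sqN : IsPullback fN ((yon S).map (incl V N)) i p) {VB : Over S} {c : VB ⟶ V}
    (hc : BlowUp.IsBlowUp c.left N) {a : (yon S).obj VB ⟶ X'}
    (sq : IsPullback a ((yon S).map c) b p) : IsBlowUpSp b i := by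
  have ha : RepWith @Etale a := repWith_of_isPullback sq.flip hp
  have has : RepWith @Surjective a := repWith_of_isPullback sq.flip hps
  constructor
  · have sqQ := IsPullback.of_hasPullback i b
    refine ⟨_, _, _, sqQ, repWith_of_isPullback sqQ hi, VB, a, N.comap c.left, ?_⟩
    obtain ⟨f₁, sq₁⟩ := Groth.AlgSpCartier.exists_isPullback_comap hi sqN c
    rw [← sq.w] at sq₁
    exact ⟨sqQ.lift f₁ ((yon S).map (incl VB _) ≫ a) (by rw [sq₁.w, Category.assoc]), ha, has,
      IsPullback.of_right (by rw [sqQ.lift_fst]; exact sq₁) (sqQ.lift_snd _ _ _) sqQ, hc.1⟩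
  intro W hW g hg
  -- maps from schemes over a map with Cartier inverse image agree
  have huniq : ∀ (T : Over S) (g' : (yon S).obj T ⟶ X), InvImageIsEffCartier i g' →
      ∀ e₁ e₂ : (yon S).obj T ⟶ X', e₁ ≫ b = g' → e₂ ≫ b = g' → e₁ = e₂ := by
    intro T g' hg' e₁ e₂ h₁ h₂
    obtain ⟨R, ρ, φ, sqR⟩ := exists_pullback_yon (representable_of_diag hX.diag g') p
    have hρe : RepWith @Etale ((yon S).map ρ) := repWith_of_isPullback sqR.flip hp
    have hρs : RepWith @Surjective ((yon S).map ρ) := repWith_of_isPullback sqR.flip hps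
    have hR : BlowUp.IsEffCartierIdeal (N.comap φ.left) := by
      refine (invImage_iff hi sqN φ).1 ?_
      rw [← sqR.w]
      exact invImage_flat hX (IsAlgSpace.yon_obj T) (IsAlgSpace.yon_obj R) hg' _
        (locP_flat_of_etale hρe)
    have key : ∀ e : (yon S).obj T ⟶ X', e ≫ b = g' →
        ∃ u : R ⟶ VB, u ≫ c = φ ∧ (yon S).map u ≫ a = (yon S).map ρ ≫ e := fun e he => by
      obtain ⟨u, hu⟩ := (yon S).map_surjective (sq.lift ((yon S).map ρ ≫ e) ((yon S).map φ)
        (by rw [Category.assoc, he, sqR.w]))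
      exact ⟨u, (yon S).map_injective (by rw [Functor.map_comp, hu, sq.lift_snd]),
        by rw [hu, sq.lift_fst]⟩
    obtain ⟨u₁, hu₁, hu₁'⟩ := key e₁ h₁
    obtain ⟨u₂, hu₂, hu₂'⟩ := key e₂ h₂
    have : u₁ = u₂ := Over.OverMorphism.ext ((hc.2 _ φ.left hR).unique
      (congrArg CommaMorphism.left hu₁) (congrArg CommaMorphism.left hu₂))
    exact Groth.AlgSp2.hom_ext_of_etale _ hρe hρs (by rw [← hu₁', ← hu₂', this])
  obtain ⟨T, q, φ, hq, hqs, hqφ⟩ := exists_chart_over hW hX.diag g p hp hps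
  have hinv : InvImageIsEffCartier i (q ≫ g) :=
    invImage_flat hX hW (IsAlgSpace.yon_obj T) hg _ (locP_flat_of_etale hq)
  obtain ⟨u₀, hu₀, -⟩ := hc.2 _ φ.left ((invImage_iff hi sqN φ).1 (hqφ ▸ hinv))
  let u : T ⟶ VB := Over.homMk u₀ (by rw [← Over.w c, reassoc_of% hu₀, Over.w φ])
  let x := (yon S).map u ≫ a
  have huc : u ≫ c = φ := Over.OverMorphism.ext hu₀
  have hxb : x ≫ b = q ≫ g := by
    rw [Category.assoc, sq.w, ← Functor.map_comp_assoc, huc, hqφ]
  obtain ⟨R, r₁, r₂, sqR⟩ := exists_pullback_of_diag hW.diag q q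
  have hr₁ : RepWith @Etale ((yon S).map r₁) := repWith_of_isPullback sqR.flip hq
  have heq : (yon S).map r₁ ≫ x = (yon S).map r₂ ≫ x := by
    refine huniq R ((yon S).map r₁ ≫ q ≫ g)
      (invImage_flat hX (IsAlgSpace.yon_obj T) (IsAlgSpace.yon_obj R) hinv _
        (locP_flat_of_etale hr₁)) _ _ ?_ ?_
    · rw [Category.assoc, hxb]
    · rw [Category.assoc, hxb, reassoc_of% sqR.w]
  have : Sheaf.IsLocallySurjective q := isLocallySurjective_of_etale q hq hqs
  obtain ⟨hcol⟩ := isColimit_of_isLocallySurjective sqR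
  obtain ⟨m, hm⟩ : ∃ m : W ⟶ X', q ≫ m = x :=
    ⟨Cofork.IsColimit.desc hcol x heq, Cofork.IsColimit.π_desc hcol⟩
  have : Epi q := inferInstance
  refine ⟨m, ?_, fun m' hm' => ?_⟩
  · show m ≫ b = g
    rw [← cancel_epi q, ← Category.assoc, hm, hxb]
  · rw [← cancel_epi q, hm]
    exact huniq T (q ≫ g) hinv _ _ (by rw [Category.assoc]; exact congrArg (q ≫ ·) hm') hxb

/-- A finite type invariant ideal cuts out a finitely presented closed subspace. -/
theorem exists_fp_closedSub {X : Sp S} (hX : IsAlgSpace X) {V : Over S}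
    {p : (yon S).obj V ⟶ X} (hp : RepWith @Etale p) (hps : RepWith @Surjective p)
    {N : V.left.IdealSheafData} (hN : Groth.AlgSp3.IsInvIdeal p N)
    (hfg : BlowUp.IsFiniteTypeIdeal N) :
    ∃ (Y : Sp S) (iY : Y ⟶ X) (fY : (yon S).obj (subOver V N) ⟶ Y), IsAlgSpace Y ∧
      RepWith (@IsClosedImmersion ⊓ @LocallyOfFinitePresentation) iY ∧
      IsPullback fY ((yon S).map (incl V N)) iY p := by
  obtain ⟨Y, iY, fY, hY, hiY, sqY⟩ := Groth.AlgSp3.exists_closedSub hX hp hps hN
  have : LocallyOfFinitePresentation N.subschemeι :=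
    Groth.Flatmor4.lfp_of_ker_fg N.subschemeι (by rw [N.ker_subschemeι]; exact hfg)
  have hl : LocP @LocallyOfFinitePresentation iY :=
    locP_of_chart hY.diag hX.diag (repWith_of_isPullback sqY.flip hp)
      (repWith_of_isPullback sqY.flip hps) hp (h := incl V N) sqY.w this
  exact ⟨Y, iY, fY, hY, repWith_inf_iff.2 ⟨hiY, repWith_of_locP hX hiY.rep hl⟩, sqY⟩

theorem isFiniteTypeIdeal_of_lfp {V : Scheme.{u}} (I : V.IdealSheafData)
    [LocallyOfFinitePresentation I.subschemeι] : BlowUp.IsFiniteTypeIdeal I := fun U => by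
  have := Groth.HTopHyper.fg_ker_of_closedImmersion I.subschemeι U
  rwa [Scheme.IdealSheafData.ker_subschemeι] at this

theorem isInvIdeal_of_isPullback {X Z : Sp S} {i : Z ⟶ X} (hi : RepWith @IsClosedImmersion i)
    {V : Over S} {p : (yon S).obj V ⟶ X} {I : V.left.IdealSheafData}
    {fI : (yon S).obj (subOver V I) ⟶ Z} (sqI : IsPullback fI ((yon S).map (incl V I)) i p) :
    Groth.AlgSp3.IsInvIdeal p I := by
  have h := Groth.AlgSp3.isInvIdeal_ker hi sqI
  rwa [show (incl V I).left.ker = I from Scheme.IdealSheafData.ker_subschemeι I] at h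

theorem isInvIdeal_mul {X : Sp S} {V : Over S} {p : (yon S).obj V ⟶ X}
    {I J : V.left.IdealSheafData} (hI : Groth.AlgSp3.IsInvIdeal p I)
    (hJ : Groth.AlgSp3.IsInvIdeal p J) : Groth.AlgSp3.IsInvIdeal p (I * J) := fun _ a b e => by
  rw [Groth.Divisors.comap_mul, Groth.Divisors.comap_mul, hI a b e, hJ a b e]

/-- An invariant ideal on an affine atlas is a directed union of invariant finite type ideals. -/
theorem exists_invariant_ge [QuasiSeparatedSpace S] {X : Sp S} (hX : IsAlgSpace X)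
    (hqc : IsQuasiCompactSp X) (hqs : IsQuasiSeparatedSp X) {V : Over S} [IsAffine V.left]
    {p : (yon S).obj V ⟶ X} (hp : RepWith @Etale p) (hps : RepWith @Surjective p)
    {K : V.left.IdealSheafData} (hK : Groth.AlgSp3.IsInvIdeal p K)
    {K' : V.left.IdealSheafData} (hK' : BlowUp.IsFiniteTypeIdeal K') (hle : K' ≤ K) :
    ∃ L : V.left.IdealSheafData, Groth.AlgSp3.IsInvIdeal p L ∧ BlowUp.IsFiniteTypeIdeal L ∧
      K' ≤ L ∧ L ≤ K := by
  obtain ⟨Z, i, f, hZ, hi, sq⟩ := Groth.AlgSp3.exists_closedSub hX hp hps hK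
  obtain ⟨Λ, _, _, _, D, t, c, hlim, e, hDA, hDc, ht, hte⟩ := Groth.Agent.S10035.result S
    (X := ⟨Z, hZ⟩) (Y := ⟨X, hX⟩) (ObjectProperty.homMk i) hi hqc hqs
  choose L fL sqL using fun l : Λ => Groth.AlgSpCartier.exists_ideal (ht (op l)).1 p
  have hLinv : ∀ l, Groth.AlgSp3.IsInvIdeal p (L l) := fun l =>
    isInvIdeal_of_isPullback (ht (op l)).1 (sqL l)
  have hker : ∀ N : V.left.IdealSheafData, (incl V N).left.ker = N :=
    Scheme.IdealSheafData.ker_subschemeι
  have hLK : ∀ l, L l ≤ K := fun l => by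
    rw [← hker (L l), ← hker K]
    exact (Groth.AlgSp3.exists_lift_closed_iff_le hp hps (ht (op l)).1 (sqL l) sq).1
      ⟨e.inv ≫ c.π.app (op l), by rw [Category.assoc]; exact hte (op l)⟩
  have hLfg : ∀ l, BlowUp.IsFiniteTypeIdeal (L l) := fun l => by
    have : LocallyOfFinitePresentation (L l).subschemeι :=
      (ht (op l)).2.1 (fL l) p (incl V (L l)) (repWith_of_isPullback (sqL l).flip hp) hp (sqL l).w
    exact isFiniteTypeIdeal_of_lfp (L l)
  have hmono : Monotone L := fun l l' h => by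
    rw [← hker (L l), ← hker (L l')]
    refine (Groth.AlgSp3.exists_lift_closed_iff_le hp hps (ht (op l)).1 (sqL l) (sqL l')).1
      ⟨D.map (homOfLE h).op, ?_⟩
    rw [t.naturality]
    exact Category.comp_id _
  -- the closed subspace of their supremum maps to all stages
  obtain ⟨W, iW, fW, hW, hiW, sqW⟩ := Groth.AlgSp3.exists_closedSub hX hp hps
    (Groth.AlgSp3.isInvIdeal_sSup (s := Set.range L) (by rintro _ ⟨l, rfl⟩; exact hLinv l))
  have hlift : ∀ l : Λᵒᵖ, ∃ k : W ⟶ D.obj l, k ≫ t.app l = iW := fun l =>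
    (Groth.AlgSp3.exists_lift_closed_iff_le hp hps (ht l).1 (sqL l.unop) sqW).2 (by
      rw [hker, hker]; exact le_sSup ⟨_, rfl⟩)
  choose k hk using hlift
  have htmono : ∀ l, Mono (t.app l) := fun l =>
    mono_of_repWith (fun _ _ g (_ : IsClosedImmersion g) => inferInstance) (ht l).1
  let s : Cone D := Cone.mk W
    { app := k
      naturality := fun l l' φ => by
        rw [← cancel_mono (t.app l'), Category.assoc, Category.assoc, t.naturality, hk]
        show 𝟙 W ≫ iW = k l ≫ t.app l ≫ 𝟙 X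
        exact (Category.id_comp iW).trans
          ((hk l).symm.trans (congrArg (k l ≫ ·) (Category.comp_id _).symm)) }
  have hKle : K ≤ sSup (Set.range L) := by
    rw [← hker K, ← hker (sSup (Set.range L))]
    obtain ⟨l₀⟩ := (inferInstance : Nonempty Λ)
    refine (Groth.AlgSp3.exists_lift_closed_iff_le hp hps hi sq sqW).1
      ⟨hlim.lift s ≫ e.hom, ?_⟩
    have h1 : e.hom ≫ i = c.π.app (op l₀) ≫ t.app (op l₀) :=
      (congrArg (e.hom ≫ ·) (hte (op l₀)).symm).trans (e.hom_inv_id_assoc _)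
    rw [Category.assoc, h1, hlim.fac_assoc]
    exact hk _
  let U : V.left.affineOpens := ⟨⊤, isAffineOpen_top _⟩
  have htop : K'.ideal U ≤ ⨆ l, (L l).ideal U := by
    refine (hle U).trans ((hKle U).trans ?_)
    rw [sSup_range, Scheme.IdealSheafData.ideal_iSup, iSup_apply]
  obtain ⟨l, hl⟩ : ∃ l, K'.ideal U ≤ (L l).ideal U := by
    obtain ⟨s, hs⟩ := hK' U
    have hdir : Directed (· ≤ ·) fun l => (L l).ideal U := fun l l' => by
      obtain ⟨m, h₁, h₂⟩ := directed_of (· ≤ ·) l l'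
      exact ⟨m, hmono h₁ U, hmono h₂ U⟩
    have hmem : ∀ x ∈ (s : Set Γ(V.left, U.1)), x ∈ ⋃ l, ((L l).ideal U : Set Γ(V.left, U.1)) :=
      fun x hx => by
        rw [← Submodule.coe_iSup_of_directed _ hdir]
        exact htop (hs.le (Submodule.subset_span hx))
    obtain ⟨l, hl⟩ := hdir.mono_comp _ (fun _ _ h => h) |>.exists_mem_subset_of_finset_subset_biUnion
      (f := fun l => ((L l).ideal U : Set Γ(V.left, U.1))) hmem
    exact ⟨l, hs.ge.trans (Submodule.span_le.2 hl)⟩
  exact ⟨L l, hLinv l, hLfg l, Scheme.IdealSheafData.le_of_isAffine hl, hLK l⟩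

/-- A composite of blow-ups in finitely presented centres is a blow-up in one. -/
theorem exists_isBlowUpSp_comp [QuasiSeparatedSpace S] {X X' X'' Z Z' : Sp S}
    (hX : IsAlgSpace X) (hX' : IsAlgSpace X') (hX'' : IsAlgSpace X'') (hqc : IsQuasiCompactSp X)
    (hqs : IsQuasiSeparatedSp X) {i : Z ⟶ X}
    (hi : RepWith (@IsClosedImmersion ⊓ @LocallyOfFinitePresentation) i) {b : X' ⟶ X}
    (hb : IsBlowUpSp b i) {i' : Z' ⟶ X'}
    (hi' : RepWith (@IsClosedImmersion ⊓ @LocallyOfFinitePresentation) i') {b' : X'' ⟶ X'}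
    (hb' : IsBlowUpSp b' i') :
    ∃ (Y : Sp S) (iY : Y ⟶ X), IsAlgSpace Y ∧
      RepWith (@IsClosedImmersion ⊓ @LocallyOfFinitePresentation) iY ∧
      Set.range (AlgSp.Points.map iY) = Set.range (AlgSp.Points.map i) ∪
        AlgSp.Points.map b '' Set.range (AlgSp.Points.map i') ∧
      IsBlowUpSp (b' ≫ b) iY := by
  obtain ⟨V, p, hV, hp, hps⟩ := exists_affine_chart hX hqc
  have hic : RepWith @IsClosedImmersion i := repWith_mono (fun _ _ _ h => h.1) hi
  have hic' : RepWith @IsClosedImmersion i' := repWith_mono (fun _ _ _ h => h.1) hi'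
  obtain ⟨I, fI, sqI⟩ := Groth.AlgSpCartier.exists_ideal hic p
  have : LocallyOfFinitePresentation I.subschemeι := (hi.property p fI (incl V I) sqI).2
  have hIfg := isFiniteTypeIdeal_of_lfp I
  obtain ⟨VB, c, a, hc, sqa⟩ := exists_chart_blowUp hX hX' hic hb hp sqI
  have ha : RepWith @Etale a := repWith_of_isPullback sqa.flip hp
  have has : RepWith @Surjective a := repWith_of_isPullback sqa.flip hps
  obtain ⟨J, fJ, sqJ⟩ := Groth.AlgSpCartier.exists_ideal hic' a
  have : LocallyOfFinitePresentation J.subschemeι := (hi'.property a fJ (incl VB J) sqJ).2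
  have hJfg := isFiniteTypeIdeal_of_lfp J
  obtain ⟨VC, c', a', hc', sqa'⟩ := exists_chart_blowUp hX' hX'' hic' hb' ha sqJ
  have : IsProper c.left := Groth.HTopHyper.isProper_of_isBlowUp hc hIfg
  obtain ⟨n, K', hK', hK'c⟩ := Groth.RefRank.exists_ftIdeal_comap_eq_twist hc hIfg J hJfg
  -- the twisted centre is invariant
  let T := Groth.RefRank.twistIdeal c.left I J n
  have hIinv := isInvIdeal_of_isPullback hic sqI
  have hTinv : Groth.AlgSp3.IsInvIdeal a T := fun W x y e => by
    have hE : I.comap (x ≫ c).left = I.comap (y ≫ c).left := hIinv _ _ (by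
      rw [Functor.map_comp, Functor.map_comp, Category.assoc, Category.assoc, ← sqa.w,
        reassoc_of% e])
    rw [Over.comp_left, Over.comp_left, Scheme.IdealSheafData.comap_comp,
      Scheme.IdealSheafData.comap_comp] at hE
    simp only [T, Groth.RefRank.twistIdeal, Groth.Divisors.comap_mul, Groth.Divisors.comap_pow]
    rw [isInvIdeal_of_isPullback hic' sqJ x y e, hE]
  obtain ⟨ZT, iT, fT, hZT, -, sqT⟩ := Groth.AlgSp3.exists_closedSub hX' ha has hTinv
  have sqC : IsPullback fT ((yon S).map (incl VB T ≫ c)) (iT ≫ b) p := by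
    rw [Functor.map_comp]; exact sqT.paste_vert sqa
  let C : Groth.AlgSp3.PullbackChart (iT ≫ b) p :=
    ⟨_, fT, _, sqC, _, 𝟙 _, incl VB T ≫ c, repWith_isIso _, repWith_isIso _, Category.id_comp _⟩
  have : QuasiCompact C.α.left := inferInstanceAs (QuasiCompact (T.subschemeι ≫ c.left))
  have hKinv : Groth.AlgSp3.IsInvIdeal p (T.map c.left) :=
    Groth.AlgSp3.PullbackChart.isInvIdeal_ker (C := C) hX hZT hp
  have hK'le : K' ≤ T.map c.left :=
    (Scheme.IdealSheafData.le_map_comap K' c.left).trans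
      (Scheme.IdealSheafData.map_mono c.left hK'c.le)
  obtain ⟨L, hLinv, hLfg, hK'L, hLK⟩ := exists_invariant_ge hX hqc hqs hp hps hKinv hK' hK'le
  have hLc : L.comap c.left = T := le_antisymm
    ((Scheme.IdealSheafData.comap_mono c.left hLK).trans (Scheme.IdealSheafData.comap_map_le _ _))
    (hK'c.ge.trans (Scheme.IdealSheafData.comap_mono c.left hK'L))
  -- the centre
  obtain ⟨Y, iY, fY, hY, hiY, sqY⟩ := exists_fp_closedSub hX hp hps (N := I * L)
    (isInvIdeal_mul hIinv hLinv) (fun U => by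
      rw [Scheme.IdealSheafData.ideal_mul, Pi.mul_apply]
      exact (hIfg U).mul (hLfg U))
  refine ⟨Y, iY, hY, hiY, ?_, ?_⟩
  · refine Set.ext fun x => ?_
    obtain ⟨v, rfl⟩ := surjective_ofPt_of_repWith hps x
    have hsub : ∀ {X₀ Z₀ : Sp S} {i₀ : Z₀ ⟶ X₀} {V₀ : Over S} {p₀ : (yon S).obj V₀ ⟶ X₀}
        {I₀ : V₀.left.IdealSheafData} {f₀ : (yon S).obj (subOver V₀ I₀) ⟶ Z₀},
        IsPullback f₀ ((yon S).map (incl V₀ I₀)) i₀ p₀ → ∀ w,
          AlgSp.Points.ofPt p₀ w ∈ Set.range (AlgSp.Points.map i₀) ↔ w ∈ I₀.support := by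
      intro X₀ Z₀ i₀ V₀ p₀ I₀ f₀ sq₀ w
      rw [← Set.mem_preimage, ← range_left_eq_preimage sq₀, ← SetLike.mem_coe, ← Scheme.IdealSheafData.range_subschemeι]
      rfl
    rw [hsub sqY, ← SetLike.mem_coe, support_mul_eq hc J n L hLc, Set.mem_union, Set.mem_union,
      hsub sqI, SetLike.mem_coe]
    refine or_congr Iff.rfl ⟨?_, ?_⟩
    · rintro ⟨w, hw, rfl⟩
      refine ⟨_, (hsub sqJ w).2 hw, ?_⟩
      rw [AlgSp.Points.map_ofPt, sqa.w, ofPt_comp_yon]
    · rintro ⟨x', hx', hxv⟩
      obtain ⟨w, rfl, hw⟩ := (map_eq_ofPt_iff sqa x' v).1 hxv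
      exact ⟨w, (hsub sqJ w).1 hx', hw⟩
  · have hpow : ∀ k : ℕ, BlowUp.IsEffCartierIdeal ((I.comap c.left) ^ k) := fun k => by
      induction k with
      | zero =>
        rw [pow_zero, Scheme.IdealSheafData.one_eq_top]
        exact Groth.Divisors.isEffCartierIdeal_top
      | succ k ih => rw [pow_succ]; exact Groth.Divisors.isEffCartierIdeal_mul ih hc.1
    have h := Groth.Agent.S8907.result J ((I.comap c.left) ^ n) (hpow n) c'.left hc'
    rw [show J * (I.comap c.left) ^ n = L.comap c.left from hLc.symm] at h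
    have hcomp : BlowUp.IsBlowUp (c' ≫ c).left (I * L) :=
      Groth.Agent.S1683.result I L c.left hc c'.left h
    refine isBlowUpSp_of_chart hX (repWith_mono (fun _ _ _ h => h.1) hiY) hp hps sqY hcomp (a := a') ?_
    rw [Functor.map_comp]
    exact sqa'.paste_vert sqa

end

end Groth.AlgSpBasic.BlowUpCompSp
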