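import Groth.Agent.AlgSpCartier.Chart
import Groth.Agent.BlowUpBasics.Global
import Groth.Agent.HTopHyper.BlowUpProper
import Groth.Agent.AlgSp2.FiniteMor
import Groth.Agent.AlgSpBasic.Presentation
import Groth.Agent.AlgSpBasic.AlgSpace
import Groth.Agent.S10274
import Groth.Prelude.Def_W4stk3spdivBlowUp

/-!
# Blow-ups of algebraic spaces in finitely presented centres are proper
-/

set_option autoImplicit false
set_option backward.isDefEq.respectTransparency.types false
universe u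

open CategoryTheory CategoryTheory.Limits AlgebraicGeometry AlgSp
open Groth.AlgSpCartier (subOver incl)

namespace Groth.AlgSpBasic.BlowUpProperSp

noncomputable section

variable {S : Scheme.{u}}

theorem invImage_iff {X Z : Sp S} {i : Z ⟶ X} (hi : RepWith @IsClosedImmersion i) {V T : Over S}
    {p : (yon S).obj V ⟶ X} {I : V.left.IdealSheafData} {fI : (yon S).obj (subOver V I) ⟶ Z}
    (sqI : IsPullback fI ((yon S).map (incl V I)) i p) (h : T ⟶ V) :
    InvImageIsEffCartier i ((yon S).map h ≫ p) ↔ BlowUp.IsEffCartierIdeal (I.comap h.left) := by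
  obtain ⟨fst, sq⟩ := Groth.AlgSpCartier.exists_isPullback_comap hi sqI h
  constructor
  · rintro ⟨P, a, b, sqP, hP⟩
    let e := sq.isoIsPullback _ _ sqP
    have sqe : IsPullback e.hom ((yon S).map (incl T (I.comap h.left))) b (𝟙 _) :=
      IsPullback.of_horiz_isIso ⟨by rw [IsPullback.isoIsPullback_hom_snd, Category.comp_id]⟩
    exact Groth.AlgSpCartier.isEffCartierIdeal_of_isEffCartierSub (IsAlgSpace.yon_obj T) hP (𝟙 _)
      (repWith_id _ T) _ _ sqe
  · intro hI
    refine ⟨_, fst, _, sq, repWith_of_isPullback sq hi, T, 𝟙 _, I.comap h.left, 𝟙 _, repWith_id _ T,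
      repWith_id _ T, IsPullback.id_horiz _, hI⟩

theorem invImage_flat {X Y W Z : Sp S} (hX : IsAlgSpace X) (hY : IsAlgSpace Y) (hW : IsAlgSpace W)
    {i : Z ⟶ X} {g : Y ⟶ X} (hg : InvImageIsEffCartier i g) (k : W ⟶ Y) (hk : LocP @Flat k) :
    InvImageIsEffCartier i (k ≫ g) := by
  obtain ⟨P, a, b, sq, hP⟩ := hg
  exact ⟨_, _, _, (IsPullback.of_hasPullback b k).paste_horiz sq,
    Groth.AlgSpCartier.isEffCartierSub_pullback_of_flat hW hY hk hP (IsPullback.of_hasPullback b k)⟩

theorem locP_flat_of_etale {F G : Sp S} {f : F ⟶ G} (h : RepWith @Etale f) : LocP @Flat f :=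
  locP_of_repWith (repWith_mono (fun _ _ g (_ : Etale g) => (inferInstance : Flat g)) h)

/-- The base change of a blow-up to an etale chart is the blow-up of the chart. -/
theorem exists_chart_blowUp {X X' Z : Sp S} (hX : IsAlgSpace X) (hX' : IsAlgSpace X') {i : Z ⟶ X}
    (hic : RepWith @IsClosedImmersion i) {b : X' ⟶ X}
    (hb : IsBlowUpSp b i) {V : Over S} {p : (yon S).obj V ⟶ X} (hp : RepWith @Etale p)
    {I : V.left.IdealSheafData} {fI : (yon S).obj (subOver V I) ⟶ Z}
    (sqI : IsPullback fI ((yon S).map (incl V I)) i p) :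
    ∃ (VB : Over S) (c : VB ⟶ V) (a' : (yon S).obj VB ⟶ X'),
      BlowUp.IsBlowUp c.left I ∧ IsPullback a' ((yon S).map c) b p := by
  obtain ⟨Q, a, q, sq⟩ : ∃ (Q : Sp S) (a : Q ⟶ X') (q : Q ⟶ (yon S).obj V), IsPullback a q b p :=
    ⟨_, _, _, IsPullback.of_hasPullback b p⟩
  obtain ⟨B, bV, hbV⟩ := Groth.BlowUpBasics.exists_isBlowUp V.left I
  let VB : Over S := Over.mk (bV ≫ V.hom)
  let c : VB ⟶ V := Over.homMk bV
  have hQ : IsAlgSpace Q := isAlgSpace_of_isPullback sq hX.diag hX' (IsAlgSpace.yon_obj V)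
  -- the map from the scheme blow-up
  obtain ⟨β, hβ, -⟩ := hb.2 (IsAlgSpace.yon_obj VB) ((yon S).map c ≫ p) ((invImage_iff hic sqI c).2 hbV.1)
  obtain ⟨l, hla, hlq⟩ : ∃ l : (yon S).obj VB ⟶ Q, l ≫ a = β ∧ l ≫ q = (yon S).map c :=
    ⟨sq.lift β _ hβ, sq.lift_fst _ _ _, sq.lift_snd _ _ _⟩
  -- the map to the scheme blow-up
  obtain ⟨T, π, hπe, hπs⟩ := hQ.atlas
  have ha : RepWith @Etale a := repWith_of_isPullback sq.flip hp
  have hinv : InvImageIsEffCartier i ((π ≫ a) ≫ b) :=
    invImage_flat hX hX' (IsAlgSpace.yon_obj T) hb.1 _ (locP_flat_of_etale (repWith_comp hπe ha))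
  obtain ⟨hT, hhT⟩ := (yon S).map_surjective (π ≫ q)
  have hTc : BlowUp.IsEffCartierIdeal (I.comap hT.left) := by
    refine (invImage_iff hic sqI hT).1 ?_
    rw [hhT, Category.assoc, ← sq.w, ← Category.assoc]
    exact hinv
  obtain ⟨t₀, ht₀, -⟩ := hbV.2 _ hT.left hTc
  let t : T ⟶ VB := Over.homMk t₀ (by
    show t₀ ≫ bV ≫ V.hom = T.hom
    rw [reassoc_of% ht₀, Over.w])
  have htc : t ≫ c = hT := Over.OverMorphism.ext ht₀
  obtain ⟨R, r₁, r₂, sqR⟩ := exists_pullback_of_diag hQ.diag π π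
  have hr : r₁ ≫ t = r₂ ≫ t := by
    have hR : BlowUp.IsEffCartierIdeal (I.comap (r₁ ≫ hT).left) := by
      refine (invImage_iff hic sqI (r₁ ≫ hT)).1 ?_
      rw [Functor.map_comp, Category.assoc, hhT, Category.assoc, ← sq.w, ← Category.assoc, ← Category.assoc]
      have hr₁ : RepWith @Etale ((yon S).map r₁) := repWith_of_isPullback sqR.flip hπe
      exact invImage_flat hX hX' (IsAlgSpace.yon_obj R) hb.1 _
        (locP_flat_of_etale (repWith_comp (repWith_comp hr₁ hπe) ha))
    have e : r₂ ≫ hT = r₁ ≫ hT := (yon S).map_injective (by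
      rw [Functor.map_comp, Functor.map_comp, hhT, ← Category.assoc, ← Category.assoc, sqR.w])
    refine Over.OverMorphism.ext ((hbV.2 _ (r₁ ≫ hT).left hR).unique ?_ ?_)
    · show (r₁.left ≫ t₀) ≫ bV = r₁.left ≫ hT.left
      rw [Category.assoc, ht₀]
    · show (r₂.left ≫ t₀) ≫ bV = (r₁ ≫ hT).left
      rw [Category.assoc, ht₀, ← e]
      rfl
  have : Sheaf.IsLocallySurjective π := isLocallySurjective_of_etale π hπe hπs
  obtain ⟨hcol⟩ := isColimit_of_isLocallySurjective sqR
  obtain ⟨m, hm⟩ : ∃ m : Q ⟶ (yon S).obj VB, π ≫ m = (yon S).map t :=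
    ⟨Cofork.IsColimit.desc hcol ((yon S).map t) (by rw [← Functor.map_comp, hr, Functor.map_comp]),
      Cofork.IsColimit.π_desc hcol⟩
  have : Epi π := inferInstance
  have hmq : m ≫ (yon S).map c = q := by
    rw [← cancel_epi π, reassoc_of% hm, ← Functor.map_comp, htc, hhT]
  have hml : m ≫ l = 𝟙 Q := by
    apply sq.hom_ext
    · rw [Category.id_comp, ← cancel_epi π]
      refine (hb.2 (IsAlgSpace.yon_obj T) _ hinv).unique ?_ rfl
      show (π ≫ (m ≫ l) ≫ a) ≫ b = _
      simp only [Category.assoc, sq.w, reassoc_of% hlq, reassoc_of% hmq]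
    · rw [Category.assoc, hlq, hmq, Category.id_comp]
  have hlm : l ≫ m = 𝟙 _ := by
    obtain ⟨k, hk⟩ := (yon S).map_surjective (l ≫ m)
    have hkc : k ≫ c = c := (yon S).map_injective (by rw [Functor.map_comp, hk, Category.assoc, hmq, hlq])
    have hk1 : k = 𝟙 VB := Over.OverMorphism.ext ((hbV.2 _ bV hbV.1).unique
      (congrArg (fun f : VB ⟶ V => f.left) hkc) (Category.id_comp _))
    rw [← hk, hk1, (yon S).map_id]
  refine ⟨VB, c, l ≫ a, hbV, IsPullback.of_iso sq ⟨m, l, hml, hlm⟩ (Iso.refl _) (Iso.refl _)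
    (Iso.refl _) ?_ ?_ (by simp) (by simp)⟩
  · show a ≫ 𝟙 _ = m ≫ l ≫ a
    rw [← Category.assoc, hml, Category.id_comp, Category.comp_id]
  · show q ≫ 𝟙 _ = m ≫ (yon S).map c
    rw [hmq, Category.comp_id]

/-- The base change of a blow-up to an etale chart is proper. -/
theorem isProperMor_snd {X X' Z : Sp S} (hX : IsAlgSpace X) (hX' : IsAlgSpace X') {i : Z ⟶ X}
    (hi : RepWith (@IsClosedImmersion ⊓ @LocallyOfFinitePresentation) i) {b : X' ⟶ X}
    (hb : IsBlowUpSp b i) {V : Over S} {p : (yon S).obj V ⟶ X} (hp : RepWith @Etale p) {Q : Sp S}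
    {a : Q ⟶ X'} {q : Q ⟶ (yon S).obj V} (sq : IsPullback a q b p) : IsProperMor q := by
  have hic : RepWith @IsClosedImmersion i := repWith_mono (fun _ _ _ h => h.1) hi
  obtain ⟨I, fI, sqI⟩ := Groth.AlgSpCartier.exists_ideal hic p
  have : LocallyOfFinitePresentation I.subschemeι := (hi.property p fI (incl V I) sqI).2
  have hfg : ∀ U : V.left.affineOpens, (I.ideal U).FG := fun U => by
    have := Groth.HTopHyper.fg_ker_of_closedImmersion I.subschemeι U
    rwa [Scheme.IdealSheafData.ker_subschemeι] at this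
  obtain ⟨VB, c, a', hc, sq'⟩ := exists_chart_blowUp hX hX' hic hb hp sqI
  have hQ : IsAlgSpace Q := isAlgSpace_of_isPullback sq hX.diag hX' (IsAlgSpace.yon_obj V)
  have hcp : RepWith @IsProper ((yon S).map c) :=
    (repWith_yon_map_iff @IsProper c).2 (Groth.HTopHyper.isProper_of_isBlowUp hc hfg)
  have hqr : RepWith @IsProper q := by
    rw [← sq.isoIsPullback_hom_snd _ _ sq']
    exact repWith_comp (repWith_isIso _) hcp
  exact (Groth.AlgSp2.isProperMor_iff_repWith hQ (IsAlgSpace.yon_obj V) hqr.rep).2 hqr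

theorem isProperMor_of_isBlowUpSp {X X' Z : Space S} {i : Z.obj ⟶ X.obj}
    (hi : RepWith (@IsClosedImmersion ⊓ @LocallyOfFinitePresentation) i) (b : X' ⟶ X)
    (hb : IsBlowUpSp b.hom i) : IsProperMor b.hom := by
  obtain ⟨V, p, hp, hps⟩ := X.property.atlas
  exact Groth.Agent.S10274.result b V p hp hps (pullback.fst b.hom p) (pullback.snd b.hom p)
    (IsPullback.of_hasPullback b.hom p)
    (isProperMor_snd X.property X'.property hi hb hp (IsPullback.of_hasPullback b.hom p))

end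

end Groth.AlgSpBasic.BlowUpProperSp
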