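import Groth.Agent.AlgSpBasic.OpenSub
import Groth.Agent.AlgSpBasic.LocP
import Groth.Agent.AlgSpBasic.Diag
import Groth.Agent.AlgSp3.NormStable
import Groth.Prelude.Def_AlgSpCov

/-!
# Properties descending along Cech covers
-/

set_option autoImplicit false
set_option backward.isDefEq.respectTransparency.types false
universe u

open CategoryTheory CategoryTheory.Limits AlgebraicGeometry Opposite AlgSp

namespace Groth.AlgSpBasic

open Groth.AlgSp3 (resObj resι)

variable {S : Scheme.{u}} {X : Sp S}

/-- The wide pullback of copies of an etale chart is an etale chart. -/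
theorem exists_iso_widePullback (hX : IsAlgSpace X) {ι : Type u} {U : ι → Over S}
    {p : ∀ i, (yon S).obj (U i) ⟶ X} (hp : ∀ i, RepWith @Etale (p i)) :
    ∀ (n : ℕ) (c : Fin (n + 1) → ι),
      ∃ (T : Over S) (e : widePullback X (fun k => (yon S).obj (U (c k))) (fun k => p (c k)) ≅
          (yon S).obj T),
        RepWith @Etale (e.inv ≫ WidePullback.base (fun k => p (c k))) := by
  intro n
  induction n with
  | zero =>
    intro c
    have hz : ∀ k : Fin (0 + 1), k = 0 := fun k => Fin.ext (by omega)
    refine ⟨U (c 0), ⟨WidePullback.π _ 0, WidePullback.lift (p (c 0))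
      (fun k => eqToHom (by rw [hz k])) (fun k => by
        obtain rfl := hz k
        simp), ?_, WidePullback.lift_π _ _ _ _ _⟩, ?_⟩
    · apply WidePullback.hom_ext
      · intro k
        obtain rfl := hz k
        rw [Category.assoc, WidePullback.lift_π]
        simp
      · rw [Category.assoc, WidePullback.lift_base, WidePullback.π_arrow, Category.id_comp]
    · rw [WidePullback.lift_base]
      exact hp _
  | succ n ih =>
    intro c
    obtain ⟨T, e, he⟩ := ih (fun k => c k.castSucc)
    let l : Fin (n + 2) := Fin.last (n + 1)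
    obtain ⟨R, r₁, r₂, sq⟩ := exists_pullback_of_diag hX.diag
      (e.inv ≫ WidePullback.base (fun k : Fin (n + 1) => p (c k.castSucc))) (p (c l))
    let pr := WidePullback.lift (objs := fun k : Fin (n + 1) => (yon S).obj (U (c k.castSucc)))
      (arrows := fun k => p (c k.castSucc))
      (WidePullback.base (fun k => p (c k)))
      (fun k => WidePullback.π (fun k => p (c k)) k.castSucc)
      (fun k => WidePullback.π_arrow _ _)
    let h := sq.lift (pr ≫ e.hom) (WidePullback.π (fun k => p (c k)) l) (by
      rw [Category.assoc, Iso.hom_inv_id_assoc, WidePullback.lift_base, WidePullback.π_arrow])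
    let g := WidePullback.lift (objs := fun k => (yon S).obj (U (c k))) (arrows := fun k => p (c k))
      ((yon S).map r₂ ≫ p (c l))
      (Fin.lastCases ((yon S).map r₂)
        (fun k => (yon S).map r₁ ≫ e.inv ≫ WidePullback.π (fun k => p (c k.castSucc)) k))
      (fun k => by
        induction k using Fin.lastCases with
        | last => simp only [Fin.lastCases_last]; rfl
        | cast k =>
          simp only [Fin.lastCases_castSucc, Category.assoc]
          rw [WidePullback.π_arrow (fun k => p (c k.castSucc)) k, sq.w])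
    refine ⟨R, ⟨h, g, ?_, ?_⟩, ?_⟩
    · apply WidePullback.hom_ext
      · intro k
        rw [Category.assoc, WidePullback.lift_π, Category.id_comp]
        induction k using Fin.lastCases with
        | last => rw [Fin.lastCases_last]; exact sq.lift_snd _ _ _
        | cast k =>
          rw [Fin.lastCases_castSucc, sq.lift_fst_assoc, Category.assoc, Iso.hom_inv_id_assoc,
            WidePullback.lift_π]
      · rw [Category.assoc, WidePullback.lift_base, sq.lift_snd_assoc, WidePullback.π_arrow,
          Category.id_comp]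
    · refine sq.hom_ext ?_ ?_
      · rw [Category.assoc, sq.lift_fst, Category.id_comp, ← cancel_mono e.inv, Category.assoc,
          Category.assoc, Iso.hom_inv_id, Category.comp_id]
        apply WidePullback.hom_ext
        · intro k
          rw [Category.assoc, WidePullback.lift_π, WidePullback.lift_π, Fin.lastCases_castSucc,
            Category.assoc]
        · rw [Category.assoc, WidePullback.lift_base, WidePullback.lift_base, Category.assoc, sq.w]
      · rw [Category.assoc, sq.lift_snd, WidePullback.lift_π, Fin.lastCases_last, Category.id_comp]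
    · show RepWith @Etale (g ≫ _)
      rw [WidePullback.lift_base]
      exact repWith_comp (repWith_of_isPullback sq he) (hp _)

variable {P : ∀ ⦃U : Sp S⦄, (U ⟶ X) → Prop}

/-- A property checked on the intersections of an affine open cover holds for the scheme. -/
theorem cech_of_cover
    (hP : ∀ ⦃U : Sp S⦄ (a : U ⟶ X), IsAlgSpace U →
      ∀ ⦃ι : Type u⦄ (Ui : ι → Sp S) (g : ∀ i, Ui i ⟶ U), (∀ i, IsAlgSpace (Ui i)) →
      IsFppfCover Ui g →
      (∀ (n : ℕ) (c : Fin (n + 1) → ι),
        P (WidePullback.base (fun k : Fin (n + 1) => g (c k)) ≫ a)) → P a)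
    (Q : ∀ {T : Over S}, T.left.Opens → Prop)
    (hQ : ∀ ⦃V : Sp S⦄ (b : V ⟶ X) {T : Over S} (L : T.left.Opens) (_ : V ≅ (yon S).obj (resObj L)),
      Q L → RepWith @Etale b → P b)
    {U : Sp S} (a : U ⟶ X) {T : Over S} (e : U ≅ (yon S).obj T) (ha : RepWith @Etale a)
    (hT : ∀ (n : ℕ) (L : Fin (n + 1) → T.left.Opens), (∀ k, IsAffineOpen (L k)) → Q (⨅ k, L k)) :
    P a := by
  let ι := {L : T.left.Opens // IsAffineOpen L}
  let g : ∀ i : ι, (yon S).obj (resObj i.1) ⟶ U := fun i => (yon S).map (resι i.1) ≫ e.inv
  have hg : ∀ i, RepWith @IsOpenImmersion (g i) := fun i => repWith_comp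
    ((repWith_yon_map_iff _ (resι i.1)).2 (inferInstanceAs (IsOpenImmersion i.1.ι))) (repWith_isIso _)
  have hge : ∀ i, RepWith @Etale (g i) := fun i =>
    repWith_mono (fun _ _ k (_ : IsOpenImmersion k) => (inferInstance : Etale k)) (hg i)
  refine hP a (isAlgSpace_of_representable (IsAlgSpace.yon_obj T) e.hom (repWith_isIso (P := @Etale) e.hom).rep) _ g
    (fun i => IsAlgSpace.yon_obj _) ⟨fun i => ⟨?_, ?_⟩, fun x => ?_⟩ fun n c => ?_
  · exact locP_of_repWith (repWith_mono (fun _ _ k (_ : Etale k) => (inferInstance : Flat k)) (hge i))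
  · exact locP_of_repWith (repWith_mono
      (fun _ _ k (_ : Etale k) => (inferInstance : LocallyOfFinitePresentation k)) (hge i))
  · obtain ⟨t, ht⟩ : ∃ t, AlgSp.Points.ofPt e.inv t = x :=
      surjective_ofPt_of_repWith (repWith_isIso _) x
    obtain ⟨_, ⟨(L : T.left.Opens), hL, rfl⟩, htL, -⟩ :=
      T.left.isBasis_affineOpens.exists_subset_of_mem_open (Set.mem_univ t) isOpen_univ
    refine ⟨⟨L, hL⟩, AlgSp.Points.ofScheme _ ⟨t, htL⟩, ?_⟩
    rw [AlgSp.Points.map_ofPt, Category.id_comp]
    show AlgSp.Points.ofPt ((yon S).map (resι L) ≫ e.inv) _ = _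
    rw [ofPt_comp_yon, ← ht]
    rfl
  let M : T.left.Opens := ⨅ k, (c k).1
  have hle : ∀ k, M ≤ (c k).1 := fun k => iInf_le _ k
  choose j hj _ using fun k => Groth.AlgSp3.exists_resMap (hle k)
  let m : (yon S).obj (resObj M) ⟶ widePullback U _ (fun k => g (c k)) :=
    WidePullback.lift ((yon S).map (resι M) ≫ e.inv) (fun k => (yon S).map (j k)) (fun k => by
      show (yon S).map (j k) ≫ (yon S).map (resι (c k).1) ≫ e.inv = _
      rw [← Functor.map_comp_assoc, hj])
  have hmb : m ≫ WidePullback.base (fun k => g (c k)) = (yon S).map (resι M) ≫ e.inv :=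
    WidePullback.lift_base _ _ _ _
  have : ∀ k, Mono (g (c k)) := fun k =>
    mono_of_repWith (fun _ _ q (_ : IsOpenImmersion q) => (inferInstance : Mono q)) (hg _)
  have hbase : ∀ {Z : Sp S} (s s' : Z ⟶ widePullback U _ (fun k => g (c k))),
      s ≫ WidePullback.base (fun k => g (c k)) = s' ≫ WidePullback.base (fun k => g (c k)) → s = s' :=
    fun s s' h => WidePullback.hom_ext _ _ _ (fun k => (cancel_mono (g (c k))).1 (by
      rw [Category.assoc, Category.assoc, WidePullback.π_arrow, h])) h
  have sqm : IsPullback m (m ≫ WidePullback.base (fun k => g (c k)))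
      (WidePullback.base (fun k => g (c k))) (𝟙 U) := by
    refine isPullback_of_lifts (Category.comp_id _).symm (fun Z b z hbz => ?_)
      fun Z s s' h₁ h₂ => ?_
    · obtain ⟨z', hz'⟩ := (yon S).map_surjective (z ≫ e.hom)
      have hz : ∀ k, Set.range z'.left ⊆ ((c k).1 : Set ↥T.left) := by
        intro k
        obtain ⟨bk, hbk⟩ := (yon S).map_surjective (b ≫ WidePullback.π (fun k => g (c k)) k)
        have : bk ≫ resι (c k).1 = z' := (yon S).map_injective (by
          rw [Functor.map_comp, hbk, hz', ← cancel_mono e.inv, Category.assoc, Category.assoc,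
            Category.assoc, Iso.hom_inv_id]
          rw [show (yon S).map (resι (c k).1) ≫ e.inv = g (c k) from rfl, WidePullback.π_arrow, hbz])
        rw [← this]
        rintro _ ⟨w, rfl⟩
        exact (bk.left w).2
      have hM : Set.range z'.left ⊆ Set.range M.ι := by
        rw [Scheme.Opens.range_ι, show (M : Set ↥T.left) = ⋂ k, ((c k).1 : Set ↥T.left) from
          TopologicalSpace.Opens.coe_iInf _]
        exact fun w hw => Set.mem_iInter.2 fun k => hz k hw
      let s : Z ⟶ resObj M := Over.homMk (IsOpenImmersion.lift M.ι z'.left hM) (by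
        show IsOpenImmersion.lift M.ι z'.left hM ≫ M.ι ≫ T.hom = _
        rw [← Category.assoc, IsOpenImmersion.lift_fac, Over.w])
      have hs : (yon S).map s ≫ (yon S).map (resι M) ≫ e.inv = z := by
        rw [← Functor.map_comp_assoc, show s ≫ resι M = z' from
          Over.OverMorphism.ext (IsOpenImmersion.lift_fac _ _ _), hz', Category.assoc,
          Iso.hom_inv_id, Category.comp_id]
      refine ⟨(yon S).map s, hbase _ _ ?_, ?_⟩
      · rw [Category.assoc, hmb, hs, hbz, Category.comp_id]
      · rw [hmb, hs]
    · have : Mono ((yon S).map (resι M) ≫ e.inv) := inferInstance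
      rw [hmb] at h₂
      exact (cancel_mono _).1 h₂
  have : IsIso m := sqm.isIso_fst_of_isIso
  refine hQ _ M (asIso m).symm (hT n (fun k => (c k).1) fun k => (c k).2) ?_
  have h := repWith_comp (repWith_comp ((repWith_yon_map_iff _ (resι M)).2
    (inferInstanceAs (Etale M.ι))) (repWith_isIso e.inv)) ha
  rw [← hmb, Category.assoc] at h
  have := repWith_comp (repWith_isIso (inv m)) h
  simpa using this

/-- Cech descending properties holding for affine flat schemes of finite presentation hold for the space. -/
theorem cech_descending (hX : IsAlgSpace X)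
    (hP : ∀ ⦃U : Sp S⦄ (a : U ⟶ X), IsAlgSpace U →
      ∀ ⦃ι : Type u⦄ (Ui : ι → Sp S) (g : ∀ i, Ui i ⟶ U), (∀ i, IsAlgSpace (Ui i)) →
      IsFppfCover Ui g →
      (∀ (n : ℕ) (c : Fin (n + 1) → ι),
        P (WidePullback.base (fun k : Fin (n + 1) => g (c k)) ≫ a)) → P a)
    (haff : ∀ ⦃U : Sp S⦄ (a : U ⟶ X) (T : Over S) (_ : U ≅ (yon S).obj T), IsAffine T.left →
      LocP @Flat a → LocP @LocallyOfFinitePresentation a → P a) :
    P (𝟙 X) := by
  have haff' : ∀ ⦃U : Sp S⦄ (a : U ⟶ X) (T : Over S) (e : U ≅ (yon S).obj T), IsAffine T.left →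
      RepWith @Etale a → P a := fun U a T e hT ha => haff a T e hT
        (locP_of_repWith (repWith_mono (fun _ _ k (_ : Etale k) => (inferInstance : Flat k)) ha))
        (locP_of_repWith (repWith_mono
          (fun _ _ k (_ : Etale k) => (inferInstance : LocallyOfFinitePresentation k)) ha))
  -- separated schemes
  have hsep : ∀ ⦃U : Sp S⦄ (a : U ⟶ X) (T : Over S) (_ : U ≅ (yon S).obj T), T.left.IsSeparated →
      RepWith @Etale a → P a := fun U a T e hT ha =>
    cech_of_cover hP (fun L => IsAffineOpen L)
      (fun V b T' L e' hL hb => haff' b (resObj L) e' hL hb) a e ha fun n L hL => by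
        induction n with
        | zero => rw [show ⨅ k, L k = L 0 from le_antisymm (iInf_le _ 0) (le_iInf fun k => by
          rw [show k = 0 from Fin.ext (by omega)])]; exact hL 0
        | succ n ih =>
          rw [show ⨅ k, L k = L 0 ⊓ ⨅ k : Fin (n + 1), L k.succ from le_antisymm
            (le_inf (iInf_le _ 0) (le_iInf fun k => iInf_le _ _))
            (le_iInf fun k => by
              induction k using Fin.cases with
              | zero => exact inf_le_left
              | succ k => exact inf_le_right.trans (iInf_le _ k))]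
          exact (hL 0).inf (ih _ fun k => hL _)
  -- all schemes
  have hsch : ∀ ⦃U : Sp S⦄ (a : U ⟶ X) (T : Over S) (_ : U ≅ (yon S).obj T),
      RepWith @Etale a → P a := fun U a T e ha =>
    cech_of_cover hP (fun {T'} L => L.toScheme.IsSeparated)
      (fun V b T' L e' hL hb => hsep b (resObj L) e' hL hb) a e ha fun n L hL => by
        have : IsAffine (L 0).toScheme := hL 0
        have : IsOpenImmersion (T.left.homOfLE (iInf_le L 0)) := inferInstance
        constructor
        rw [← terminal.comp_from (T.left.homOfLE (iInf_le L 0))]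
        infer_instance
  obtain ⟨U, p, hp, hps⟩ := hX.atlas
  refine hP _ hX (fun _ : PUnit.{u + 1} => (yon S).obj U) (fun _ => p)
    (fun _ => IsAlgSpace.yon_obj U) ⟨fun _ => ⟨?_, ?_⟩, fun x => ⟨⟨⟩, ?_⟩⟩ fun n c => ?_
  · exact locP_of_repWith (repWith_mono (fun _ _ k (_ : Etale k) => (inferInstance : Flat k)) hp)
  · exact locP_of_repWith (repWith_mono
      (fun _ _ k (_ : Etale k) => (inferInstance : LocallyOfFinitePresentation k)) hp)
  · exact surjective_map_of_repWith hps x
  obtain ⟨T, e, he⟩ := exists_iso_widePullback hX (fun _ : PUnit.{u + 1} => hp) n c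
  refine hsch _ T e ?_
  rw [Category.comp_id]
  have := repWith_comp (repWith_isIso (P := @Etale) e.hom) he
  simpa using this

end Groth.AlgSpBasic
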