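import Groth.Agent.AlgSpBasic.ExhaustingCover
import Groth.Agent.AlgSpBasic.Univ
import Groth.Agent.AlgSpBasic.OpenSub
import Groth.Agent.AlgSpBasic.MonoDiscrete
import Groth.Agent.AlgSpBasic.DecentSpectral
import Groth.Agent.AlgSp2.Approx.SigmaPieces
import Groth.Agent.AlgSp2.Approx.MinimalNonScheme
import Groth.Agent.AlgSp2.Chevalley.Main
import Groth.Agent.AlgSp2.InfSmallExt
import Groth.Agent.AlgSp3.RedInduced
import Groth.Agent.FlatMor2.NoethFibre
import Groth.Agent.Pi1Quot.SigmaFinite
import Groth.Agent.PropsBasic.QuasiAffineSection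

/-!
# A space with a finite surjective cover by a quasi-affine scheme is a scheme

Let `π : P ⟶ X` be finite and surjective, `P` quasi-affine, `X` Noetherian.  By Noetherian induction
every proper closed subspace is a scheme.  Outside a proper closed subset `Y`, every fibre of `π` is
exhausted by finitely many maps `T ⟶ P` from irreducible schemes finite over `X`.  So an affine open
`D` of `P` which is saturated over `Y` has an affine preimage in each `T`, and Chevalley's theorem
makes the open set of points with fibre inside `D` affine.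
-/

set_option autoImplicit false
set_option linter.unusedSectionVars false
set_option backward.isDefEq.respectTransparency.types false
universe u

open CategoryTheory CategoryTheory.Limits AlgebraicGeometry AlgSp TopologicalSpace

namespace Groth.AlgSpBasic.Saturation

noncomputable section

variable {S : Scheme.{u}} {X : Sp S}

/-- The source of a finite morphism to a locally Noetherian space. -/
theorem isLocallyNoetherian_of_finite (hX : IsAlgSpace X) (hN : IsLocNoethSp X) {P : Over S}
    {π : (yon S).obj P ⟶ X} (hπ : RepWith @IsFinite π) : IsLocallyNoetherian P.left := by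
  obtain ⟨U, a, ha, has, hU⟩ := hN
  obtain ⟨W, fst, snd, sq⟩ := exists_pullback_yon hπ.rep a
  have : IsFinite snd.left := hπ.property a _ snd sq
  have : IsLocallyNoetherian W.left := LocallyOfFiniteType.isLocallyNoetherian snd.left
  have : Etale fst.left := ha.property π _ fst sq.flip
  have : Surjective fst.left := has.property π _ fst sq.flip
  exact Groth.FlatMor2.isLocallyNoetherian_of_flat_surjective fst.left

/-- Points of a finite morphism in one fibre do not specialize to each other. -/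
theorem eq_of_specializes_finite (hX : IsAlgSpace X) (hd : IsDecent X) {T : Over S}
    {g : (yon S).obj T ⟶ X} (hg : RepWith @IsFinite g) {t s : ↥T.left} (h : t ⤳ s)
    (e : Points.ofPt g t = Points.ofPt g s) : t = s := by
  obtain ⟨U, a, ha, has⟩ := hX.atlas
  obtain ⟨u, hu⟩ := surjective_ofPt_of_repWith has (Points.ofPt g s)
  obtain ⟨W, fst, snd, sq⟩ := exists_pullback_yon hg.rep a
  have : IsFinite snd.left := hg.property a _ snd sq
  have : Etale fst.left := ha.property g _ fst sq.flip
  obtain ⟨w, hw₁, hw₂⟩ := (ofPt_eq_ofPt_iff sq s u).1 hu.symm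
  obtain ⟨w', hw', hw'₁⟩ := Flat.generalizingMap fst.left (hw₁ ▸ h : t ⤳ fst.left w)
  have hsq : ∀ v : ↥W.left, Points.ofPt g (fst.left v) = Points.ofPt a (snd.left v) := fun v => by
    rw [← ofPt_comp_yon, sq.w, ofPt_comp_yon]
  have hu' : u = snd.left w' := by
    refine eq_of_specializes_of_finiteAt hX (finiteAt_of_isDecent hd (Points.ofPt g s)) ha hu ?_ ?_
    · rw [← hsq w', hw'₁, e]
    · rw [← hw₂]
      exact hw'.map snd.left.continuous
  have hdisc : DiscreteTopology (snd.left ⁻¹' {snd.left w}) :=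
    isDiscrete_iff_discreteTopology.mp (snd.left.isDiscrete_preimage_singleton (snd.left w))
  have h' : (⟨w', hu'.symm.trans hw₂.symm⟩ : snd.left ⁻¹' {snd.left w}) ⤳ ⟨w, rfl⟩ :=
    Topology.IsInducing.subtypeVal.specializes_iff.1 hw'
  have hww : w' = w := congrArg Subtype.val h'.eq
  rw [← hw'₁, hww, hw₁]

/-- Every point of the closure of an open subset of a Noetherian scheme generizes into it. -/
theorem exists_specializes_of_mem_closure_open {W : Scheme.{u}} [IsLocallyNoetherian W]
    [CompactSpace W] {U : Set W} (hU : IsOpen U) {w : W} (hw : w ∈ closure U) :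
    ∃ w' ∈ U, w' ⤳ w := by
  have : IsNoetherian W := { }
  have hfin : (irreducibleComponents W).Finite := NoetherianSpace.finite_irreducibleComponents
  let F := {Z ∈ irreducibleComponents W | (Z ∩ U).Nonempty}
  have hF : F.Finite := hfin.subset fun Z hZ => hZ.1
  have hcl : IsClosed (⋃ Z ∈ F, Z) :=
    hF.isClosed_biUnion fun Z hZ => isClosed_of_mem_irreducibleComponents Z hZ.1
  have hsub : U ⊆ ⋃ Z ∈ F, Z := fun x hx =>
    Set.mem_biUnion (show irreducibleComponent x ∈ F from
      ⟨irreducibleComponent_mem_irreducibleComponents x, x, mem_irreducibleComponent, hx⟩)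
      mem_irreducibleComponent
  obtain ⟨Z, ⟨hZ, hZU⟩, hwZ⟩ := Set.mem_iUnion₂.1 (closure_minimal hsub hcl hw)
  obtain ⟨η, hη⟩ := QuasiSober.sober hZ.1 (isClosed_of_mem_irreducibleComponents Z hZ)
  exact ⟨η, (hη.mem_open_set_iff hU).2 hZU, hη.specializes hwZ⟩

/-- Every point of a scheme is a specialization of a generic point of a component. -/
theorem exists_genericPoint_specializes {W : Scheme.{u}} (w : W) :
    ∃ p ∈ genericPoints (W : Type u), p ⤳ w := by
  obtain ⟨η, hη⟩ := QuasiSober.sober (isIrreducible_irreducibleComponent (x := w))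
    isClosed_irreducibleComponent
  refine ⟨η, ?_, hη.specializes mem_irreducibleComponent⟩
  show closure {η} ∈ irreducibleComponents W
  rw [hη.def]
  exact irreducibleComponent_mem_irreducibleComponents w

/-- A finite morphism has closed point map. -/
theorem isClosedMap_ofPt {T : Over S} {g : (yon S).obj T ⟶ X} (hg : RepWith @IsFinite g) :
    IsClosedMap (Points.ofPt g) := by
  have : Points.ofPt g = Points.map g ∘ Points.schemeHomeo T := funext fun t => ofPt_eq_map g t
  rw [this]
  refine (isClosedMap_map_of_repWith ?_ hg).comp (Points.schemeHomeo T).isClosedMap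
  exact fun _ _ f (_ : IsFinite f) => f.isClosedMap

variable {P : Over S} {π : (yon S).obj P ⟶ X}

/-- Outside a proper closed subset the fibres of `π` are exhausted by the maps `q i`. -/
theorem exists_bad (hX : IsAlgSpace X) (hN : IsLocNoethSp X) (hπ : RepWith @IsFinite π) {T : Over S}
    [T.left.IsQuasiAffine] {g : (yon S).obj T ⟶ X} (hg : RepWith @IsFinite g) {K : Type u} [Field K]
    [IsAlgClosed K] {str : Spec (CommRingCat.of K) ⟶ S} (b : Over.mk str ⟶ T) [IsDominant b.left]
    {ι : Type u} [Finite ι] (q : ι → (T ⟶ P)) (hq : ∀ i, (yon S).map (q i) ≫ π = g)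
    (hex : ∀ a : Over.mk str ⟶ P, (yon S).map a ≫ π = (yon S).map b ≫ g → ∃ i, b ≫ q i = a)
    (pt : ↥(Spec (CommRingCat.of K))) :
    ∃ C : Set ↥T.left, IsClosed C ∧ b.left pt ∉ C ∧ ∀ t ∉ C, ∀ u : ↥P.left,
      Points.ofPt π u = Points.ofPt g t → ∃ i, (q i).left t = u := by
  classical
  obtain ⟨W, fst, snd, sq⟩ := exists_pullback_yon hπ.rep g
  have : IsFinite snd.left := hπ.property g _ snd sq
  have : IsLocallyNoetherian T.left := isLocallyNoetherian_of_finite hX hN hg
  have : IsLocallyNoetherian W.left := LocallyOfFiniteType.isLocallyNoetherian snd.left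
  have : CompactSpace ↥W.left := QuasiCompact.compactSpace_of_compactSpace snd.left
  choose e he₁ he₂ using fun i => show ∃ e : T ⟶ W, e ≫ fst = q i ∧ e ≫ snd = 𝟙 _ by
    obtain ⟨e, he⟩ := (yon S).map_surjective
      (sq.lift ((yon S).map (q i)) (𝟙 _) (by rw [hq, Category.id_comp]))
    exact ⟨e, (yon S).map_injective (by rw [Functor.map_comp, he, sq.lift_fst]),
      (yon S).map_injective (by rw [Functor.map_comp, he, sq.lift_snd, CategoryTheory.Functor.map_id])⟩
  have hGc : IsClosed (⋃ i, Set.range (e i).left) := isClosed_iUnion_of_finite fun i => by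
    have : IsClosedImmersion ((e i).left ≫ snd.left) := by
      rw [← Over.comp_left, he₂]
      exact inferInstanceAs (IsClosedImmersion (𝟙 T.left))
    have : IsClosedImmersion (e i).left := IsClosedImmersion.of_comp (e i).left snd.left
    exact (e i).left.isClosedEmbedding.isClosed_range
  refine ⟨snd.left '' closure (⋃ i, Set.range (e i).left)ᶜ, snd.left.isClosedMap _ isClosed_closure,
    ?_, fun t ht u hu => ?_⟩
  · rintro ⟨w, hw, hwt⟩
    have := subsingleton_spec_field K
    have hgen : ∀ t' : ↥T.left, b.left pt ⤳ t' := fun t' => by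
      rw [specializes_iff_mem_closure]
      have hr : Set.range b.left = {b.left pt} := Set.eq_singleton_iff_unique_mem.2
        ⟨⟨pt, rfl⟩, by
          rintro _ ⟨p, rfl⟩
          rw [Subsingleton.elim (α := ↥(Spec (CommRingCat.of K))) p pt]⟩
      rw [← hr, b.left.denseRange.closure_range]
      trivial
    obtain ⟨w', hw', hww⟩ := exists_specializes_of_mem_closure_open hGc.isOpen_compl hw
    have hsw : snd.left w' = b.left pt :=
      ((hwt ▸ hww.map snd.left.continuous : snd.left w' ⤳ b.left pt).antisymm (hgen _)).eq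
    obtain ⟨V, f₁, f₂, sqV⟩ := exists_pullback_yon
      ((repWith_yon_map_iff _ snd).2 ‹IsFinite snd.left›).rep ((yon S).map b)
    have sqV' := isPullback_left (isPullback_of_yon sqV)
    have : IsFinite f₂.left := MorphismProperty.of_isPullback sqV' ‹IsFinite snd.left›
    obtain ⟨v, hv₁, -⟩ := Scheme.Pullback.exists_preimage_pullback w' pt hsw
    let v' := sqV'.isoPullback.inv v
    have hv' : f₁.left v' = w' := by
      rw [← hv₁, ← IsPullback.isoPullback_inv_fst sqV', Scheme.Hom.comp_apply]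
    obtain ⟨s, hs, hsv⟩ := exists_section f₂ v'
    have hs₂ : (s ≫ f₁) ≫ snd = b := (yon S).map_injective (by
      rw [Functor.map_comp, Functor.map_comp, Category.assoc, sqV.w, ← Category.assoc,
        ← Functor.map_comp, hs, CategoryTheory.Functor.map_id, Category.id_comp])
    obtain ⟨i, hi⟩ := hex (s ≫ f₁ ≫ fst) (by
      rw [← hs₂, Functor.map_comp, Functor.map_comp, Functor.map_comp, Functor.map_comp]
      simp only [Category.assoc, sq.w])
    have heq : b ≫ e i = s ≫ f₁ := (yon S).map_injective <| sq.hom_ext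
      (by
        rw [← Functor.map_comp, ← Functor.map_comp, Category.assoc, he₁, hi, Category.assoc])
      (by
        rw [← Functor.map_comp, ← Functor.map_comp, Category.assoc, he₂, Category.comp_id, hs₂])
    refine hw' (Set.mem_iUnion.2 ⟨i, b.left pt, ?_⟩)
    rw [← Scheme.Hom.comp_apply, ← Over.comp_left, heq, Over.comp_left, Scheme.Hom.comp_apply,
      hsv pt, hv']
  · obtain ⟨w, hw₁, hw₂⟩ := (ofPt_eq_ofPt_iff sq u t).1 hu
    by_contra! hne
    refine ht ⟨w, subset_closure fun hmem => ?_, hw₂⟩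
    obtain ⟨i, t', rfl⟩ := Set.mem_iUnion.1 hmem
    refine hne i ?_
    rw [← Scheme.Hom.comp_apply, ← Over.comp_left, he₂] at hw₂
    rw [← Scheme.Hom.comp_apply, ← Over.comp_left, he₁] at hw₁
    rw [← hw₁, ← hw₂]
    rfl

/-- The inverse image of an open subspace in a scheme is an open subscheme. -/
theorem exists_isPullback_openSub {V : Set (Points X)} {T : Over S} (g : (yon S).obj T ⟶ X)
    (O : T.left.Opens) (hO : ∀ t, t ∈ O ↔ Points.ofPt g t ∈ V) :
    ∃ l : (yon S).obj (Over.mk (O.ι ≫ T.hom)) ⟶ openSub X V,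
      IsPullback l ((yon S).map (Over.homMk O.ι rfl : Over.mk (O.ι ≫ T.hom) ⟶ T)) (openSubι X V) g := by
  let ι : Over.mk (O.ι ≫ T.hom) ⟶ T := Over.homMk O.ι rfl
  obtain ⟨l, hl⟩ := (openSub_exists_lift_iff X V ((yon S).map ι ≫ g)).2 fun t => by
    rw [ofPt_comp_yon]
    exact (hO _).1 t.2
  refine ⟨l, isPullback_of_lifts hl (fun Z b c hbc => ?_) (fun Z a a' _ h => ?_)⟩
  · obtain ⟨c', rfl⟩ := (yon S).map_surjective c
    have hr : Set.range c'.left ⊆ Set.range O.ι := by
      rintro _ ⟨z, rfl⟩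
      rw [Scheme.Opens.range_ι]
      refine (hO _).2 ?_
      rw [← ofPt_comp_yon, ← hbc]
      exact (openSub_exists_lift_iff X V (b ≫ openSubι X V)).1 ⟨b, rfl⟩ z
    let k : Z ⟶ Over.mk (O.ι ≫ T.hom) := Over.homMk (IsOpenImmersion.lift O.ι c'.left hr) (by
      show IsOpenImmersion.lift O.ι c'.left hr ≫ O.ι ≫ T.hom = Z.hom
      rw [IsOpenImmersion.lift_fac_assoc, Over.w])
    have hk : k ≫ ι = c' := Over.OverMorphism.ext (IsOpenImmersion.lift_fac O.ι c'.left hr)
    refine ⟨(yon S).map k, openSub_hom_ext X V ?_, by rw [← Functor.map_comp, hk]⟩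
    rw [Category.assoc, hl, ← Category.assoc, ← Functor.map_comp, hk, hbc]
  · obtain ⟨a₁, rfl⟩ := (yon S).map_surjective a
    obtain ⟨a₂, rfl⟩ := (yon S).map_surjective a'
    rw [← Functor.map_comp, ← Functor.map_comp] at h
    have h' := congrArg Over.Hom.left ((yon S).map_injective h)
    simp only [Over.comp_left] at h'
    exact congrArg (yon S).map (Over.OverMorphism.ext ((cancel_mono O.ι).1 h'))

/-- A finite family of finite morphisms to a space gives a finite morphism from the coproduct. -/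
theorem repWith_finite_sigma {ι : Type u} [Finite ι] (T : ι → Over S)
    (g : ∀ i, (yon S).obj (T i) ⟶ X) (hg : ∀ i, RepWith @IsFinite (g i))
    (G : (yon S).obj (Groth.AlgSp2.sigmaObj T) ⟶ X)
    (hG : ∀ i, (yon S).map (Groth.AlgSp2.sigmaIncl T i) ≫ G = g i) : RepWith @IsFinite G := by
  refine repWith_of_exists fun Z z => ?_
  choose W fst snd sq using fun i => exists_pullback_yon (hg i).rep z
  obtain ⟨Q, hQ, sqQ⟩ := Groth.AlgSp2.Approx.exists_isPullback_sigma z G
    (fun i => (yon S).map (snd i)) fst (fun i => by rw [hG]; exact (sq i).flip)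
  obtain ⟨Q', rfl⟩ := (yon S).map_surjective Q
  refine ⟨_, _, _, sqQ.flip, ?_⟩
  have : ∀ i, IsFinite (snd i).left := fun i => (hg i).property z _ (snd i) (sq i)
  have hd : Q'.left = Sigma.desc fun i => (snd i).left := Sigma.hom_ext _ _ fun i => by
    rw [Sigma.ι_desc]
    have h := (yon S).map_injective ((Functor.map_comp _ _ _).trans (hQ i))
    exact congrArg Over.Hom.left h
  show IsFinite Q'.left
  rw [hd]
  exact Groth.Pi1Quot.isFinite_sigmaDesc _

/-- An affine open containing a fibre, saturated over a closed subset whose subspace is a scheme. -/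
theorem exists_saturated [P.left.IsQuasiAffine] (hπ : RepWith @IsFinite π) {G : Over S}
    (h : (yon S).obj G ⟶ X) (hh : RepWith @IsClosedImmersion h) (x : Points X)
    (hF : (Points.ofPt π ⁻¹' {x}).Finite) :
    ∃ D : P.left.Opens, IsAffineOpen D ∧ (∀ u, Points.ofPt π u = x → u ∈ D) ∧
      ∀ u u', Points.ofPt π u = Points.ofPt π u' → Points.ofPt π u ∈ Set.range (Points.ofPt h) →
        u ∈ D → u' ∈ D := by
  classical
  obtain ⟨Yt, c, k, sq⟩ := exists_pullback_yon hπ.rep h
  have : IsClosedImmersion c.left := hh.property π _ c sq.flip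
  have : IsFinite k.left := hπ.property h _ k sq
  have hsq : ∀ v, Points.ofPt π (c.left v) = Points.ofPt h (k.left v) := fun v => by
    rw [← ofPt_comp_yon, sq.w, ofPt_comp_yon]
  have hrange : ∀ u, Points.ofPt π u ∈ Set.range (Points.ofPt h) → u ∈ Set.range c.left := by
    rintro u ⟨z, hz⟩
    obtain ⟨v, hv, -⟩ := (ofPt_eq_ofPt_iff sq u z).1 hz.symm
    exact ⟨v, hv⟩
  have hinj : Function.Injective (Points.ofPt h) := by
    intro z z' e
    have := Groth.AlgSpCartier.repWith_mono_closedImmersion hh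
    obtain ⟨R, r₁, r₂, sqR⟩ := exists_pullback_yon hh.rep h
    obtain ⟨r, rfl, rfl⟩ := (ofPt_eq_ofPt_iff sqR z z').1 e
    rw [(yon S).map_injective ((cancel_mono h).1 sqR.w)]
  by_cases hx : x ∈ Set.range (Points.ofPt h)
  · obtain ⟨z, rfl⟩ := hx
    obtain ⟨W, hW, hzW, -⟩ :=
      exists_isAffineOpen_mem_and_subset (X := G.left) (x := z) (U := ⊤) trivial
    let O₁ : P.left.Opens := ⟨(c.left '' (k.left ⁻¹ᵁ W : Set Yt.left)ᶜ)ᶜ,
      (c.left.isClosedEmbedding.isClosedMap _ (k.left ⁻¹ᵁ W).isOpen.isClosed_compl).isOpen_compl⟩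
    have hFO : ∀ u ∈ hF.toFinset, u ∈ O₁ := by
      rintro u hu ⟨v, hv, rfl⟩
      refine hv ?_
      have e : k.left v = z := hinj ((hsq v).symm.trans (hF.mem_toFinset.1 hu))
      show k.left v ∈ W
      rw [e]
      exact hzW
    obtain ⟨f₀, hf₀a, hf₀m, hf₀l⟩ :=
      Groth.PropsBasic.Ample.exists_affine_basicOpen_of_finite O₁ hF.toFinset hFO
    let D₀ := P.left.basicOpen f₀
    let A : Yt.left.Opens := c.left ⁻¹ᵁ D₀
    have hAW : A ≤ k.left ⁻¹ᵁ W := fun v hv => by
      by_contra hn
      exact hf₀l hv ⟨v, hn, rfl⟩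
    let W' : G.left.Opens := W ⊓ ⟨(k.left '' (A : Set Yt.left)ᶜ)ᶜ,
      (k.left.isClosedMap _ A.isOpen.isClosed_compl).isOpen_compl⟩
    have hzW' : z ∈ W' := ⟨hzW, by
      rintro ⟨v, hv, hkv⟩
      refine hv (hf₀m _ (hF.mem_toFinset.2 ?_))
      show Points.ofPt π (c.left v) = Points.ofPt h z
      rw [hsq, hkv]⟩
    obtain ⟨r, hrW', hzr⟩ := hW.exists_basicOpen_le ⟨z, hzW'⟩ hzW
    let r' : Γ(Yt.left, A) := Yt.left.presheaf.map (homOfLE hAW).op (k.left.app W r)
    obtain ⟨a, ha⟩ := c.left.app_surjective D₀ hf₀a r'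
    have hDm : ∀ v, c.left v ∈ P.left.basicOpen a ↔ k.left v ∈ G.left.basicOpen r := by
      intro v
      show v ∈ c.left ⁻¹ᵁ P.left.basicOpen a ↔ v ∈ k.left ⁻¹ᵁ G.left.basicOpen r
      have hb : Yt.left.basicOpen (c.left.app D₀ a) = Yt.left.basicOpen r' :=
        congrArg Yt.left.basicOpen ha
      rw [Scheme.preimage_basicOpen c.left a, Scheme.preimage_basicOpen k.left r, hb,
        Scheme.basicOpen_res]
      refine ⟨fun hv => hv.2, fun hv => ⟨?_, hv⟩⟩
      rw [← Scheme.preimage_basicOpen k.left r] at hv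
      by_contra hn
      exact (hrW' hv).2 ⟨v, hn, rfl⟩
    refine ⟨P.left.basicOpen a, hf₀a.basicOpen a, fun u hu => ?_, fun u u' e hY hu => ?_⟩
    · obtain ⟨v, rfl, hkv⟩ := (ofPt_eq_ofPt_iff sq u z).1 hu
      rw [hDm, hkv]
      exact hzr
    · obtain ⟨v, rfl⟩ := hrange u hY
      obtain ⟨v', rfl⟩ := hrange u' (e ▸ hY)
      rw [hDm] at hu ⊢
      rwa [← hinj ((hsq v).symm.trans (e.trans (hsq v')))]
  · let O₁ : P.left.Opens := ⟨(Set.range c.left)ᶜ, c.left.isClosedEmbedding.isClosed_range.isOpen_compl⟩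
    have hFO : ∀ u ∈ hF.toFinset, u ∈ O₁ := by
      rintro u hu ⟨v, rfl⟩
      exact hx ⟨k.left v, (hsq v).symm.trans (hF.mem_toFinset.1 hu)⟩
    obtain ⟨f₀, hf₀a, hf₀m, hf₀l⟩ :=
      Groth.PropsBasic.Ample.exists_affine_basicOpen_of_finite O₁ hF.toFinset hFO
    exact ⟨_, hf₀a, fun u hu => hf₀m u (hF.mem_toFinset.2 hu),
      fun u u' _ hY hu => absurd (hrange u hY) (hf₀l hu)⟩

/-- The minimal case: all proper closed subspaces are schemes. -/
theorem isSchematicPt_of_minimal [QuasiSeparatedSpace ↥S] (hX : IsAlgSpace X)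
    (hqs : IsQuasiSeparatedSp X) (hN : IsLocNoethSp X) [P.left.IsQuasiAffine]
    (hπ : RepWith @IsFinite π) (hs : RepWith @Surjective π)
    (hmin : ∀ (Z : Sp S) (i : Z ⟶ X), RepWith @IsClosedImmersion i → ¬ IsIso i →
      Z.obj.IsRepresentable) (x : Points X) : IsSchematicPt X x := by
  classical
  have hd : IsDecent X := isDecent_of_locally_qs hX (ι := PUnit.{u + 1}) (Y := fun _ => X)
    (fun _ => 𝟙 X) (fun _ => repWith_isIso _) (fun y => ⟨PUnit.unit, y, Points.map_id _ ▸ rfl⟩)
    (fun _ => hX) (fun _ => hqs)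
  have : T0Space (Points X) := t0Space_of_isDecent hX hd
  have : IsLocallyNoetherian P.left := isLocallyNoetherian_of_finite hX hN hπ
  have : IsNoetherian P.left := { }
  let ι := genericPoints (P.left : Type u)
  have : Finite ι :=
    (genericPoints.finite NoetherianSpace.finite_irreducibleComponents).to_subtype
  have key : ∀ p : ι, ∃ (T : Over S) (_ : T.left.IsQuasiAffine) (g : (yon S).obj T ⟶ X)
      (t : ↥T.left) (C : Set ↥T.left) (J : Type u) (_ : Finite J) (_ : Nonempty J) (q : J → (T ⟶ P)),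
      RepWith @IsFinite g ∧ (∀ j, IsFinite (q j).left) ∧ (∀ j, (yon S).map (q j) ≫ π = g) ∧
      Points.ofPt g t = Points.ofPt π p.1 ∧ (∀ t', t ⤳ t') ∧ IsClosed C ∧ t ∉ C ∧
      ∀ t' ∉ C, ∀ u : ↥P.left, Points.ofPt π u = Points.ofPt g t' → ∃ j, (q j).left t' = u := by
    intro p
    let κ := P.left.residueField p.1
    let K : Type u := AlgebraicClosure κ
    let sK : Spec (CommRingCat.of K) ⟶ P.left :=
      Spec.map (CommRingCat.ofHom (algebraMap κ K)) ≫ P.left.fromSpecResidueField p.1
    let a₀ : Over.mk (sK ≫ P.hom) ⟶ P := Over.homMk sK rfl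
    obtain ⟨T, hT, g, b, J, hJ, hJne, q, hg, hdom, hqf, hq, hb, hex⟩ := exists_exhausting hπ a₀
    let pt : ↥(Spec (CommRingCat.of K)) := IsLocalRing.closedPoint K
    obtain ⟨C, hC, htC, hCq⟩ := exists_bad hX hN hπ hg b q hq
      (fun a ha => hex a (ha.trans hb)) pt
    refine ⟨T, hT, g, b.left pt, C, J, hJ, hJne, q, hg, hqf, hq, ?_, fun t' => ?_, hC, htC, hCq⟩
    · rw [← ofPt_comp_yon, hb, ofPt_comp_yon]
      congr 1
      show sK pt = p.1
      rw [Scheme.Hom.comp_apply]
      exact Scheme.fromSpecResidueField_apply _ _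
    · have := subsingleton_spec_field K
      rw [specializes_iff_mem_closure]
      have hr : Set.range b.left = {b.left pt} := Set.eq_singleton_iff_unique_mem.2
        ⟨⟨pt, rfl⟩, by
          rintro _ ⟨p, rfl⟩
          rw [Subsingleton.elim (α := ↥(Spec (CommRingCat.of K))) p pt]⟩
      rw [← hr, b.left.denseRange.closure_range]
      trivial
  choose T hT g t C J hJ hJne q hg hqf hq hgt hgen hC htC hCq using key
  let Y : Set (Points X) := ⋃ p, Points.ofPt (g p) '' C p
  have hY : IsClosed Y := isClosed_iUnion_of_finite fun p => isClosedMap_ofPt (hg p) _ (hC p)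
  have hsub : ∀ p (t' : ↥(T p).left), Points.ofPt π p.1 ⤳ Points.ofPt (g p) t' := fun p t' =>
    hgt p ▸ (hgen p t').map (Points.continuous_ofPt _)
  obtain ⟨x', hx'⟩ := surjective_ofPt_of_repWith hs x
  obtain ⟨p₁, hp₁, -⟩ := exists_genericPoint_specializes x'
  have : Nonempty ι := ⟨⟨p₁, hp₁⟩⟩
  have := Fintype.ofFinite ι
  obtain ⟨p₀, -, hp₀⟩ := Finset.exists_min_image Finset.univ
    (fun p : ι => (Finset.univ.filter fun r : ι => Points.ofPt π r.1 ⤳ Points.ofPt π p.1).card)
    Finset.univ_nonempty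
  have hmax : ∀ r : ι, Points.ofPt π r.1 ⤳ Points.ofPt π p₀.1 →
      Points.ofPt π r.1 = Points.ofPt π p₀.1 := by
    intro r hr
    have heq := Finset.eq_of_subset_of_card_le (fun s hs => ?_) (hp₀ r (Finset.mem_univ r))
    · have hm : p₀ ∈ Finset.univ.filter fun s : ι => Points.ofPt π s.1 ⤳ Points.ofPt π p₀.1 :=
        Finset.mem_filter.2 ⟨Finset.mem_univ _, specializes_rfl⟩
      rw [← heq] at hm
      exact (hr.antisymm (Finset.mem_filter.1 hm).2).eq
    · exact Finset.mem_filter.2 ⟨Finset.mem_univ _, (Finset.mem_filter.1 hs).2.trans hr⟩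
  have hp₀Y : Points.ofPt π p₀.1 ∉ Y := by
    intro hmem
    obtain ⟨r, hr⟩ := Set.mem_iUnion.1 hmem
    obtain ⟨t', ht', he⟩ := hr
    have e : t r = t' := eq_of_specializes_finite hX hd (hg r) (hgen r t')
      (by rw [hgt, he]; exact hmax r (he ▸ hsub r t'))
    exact htC r (e ▸ ht')
  obtain ⟨Z, i, hZ, hi, hir, -⟩ := Groth.AlgSp3.exists_isRedInduced hX hY
  obtain ⟨G, ⟨hG⟩⟩ := hmin Z i hi fun hiso => hp₀Y (hir ▸
    ⟨Points.map (inv i) (Points.ofPt π p₀.1), by rw [← Points.map_comp, IsIso.inv_hom_id, Points.map_id]⟩)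
  let e : (yon S).obj G ≅ Z := isoOfRepresentableBy hG
  have hh : RepWith @IsClosedImmersion (e.hom ≫ i) := repWith_comp (repWith_isIso _) hi
  have hYr : Set.range (Points.ofPt (e.hom ≫ i)) = Y := by
    rw [← hir]
    ext y
    constructor
    · rintro ⟨z, rfl⟩
      exact ⟨Points.ofPt e.hom z, Points.map_ofPt _ _ _⟩
    · rintro ⟨z, rfl⟩
      obtain ⟨z', hz'⟩ := (Points.schemeEquiv G).surjective (Points.map e.inv z)
      refine ⟨z', ?_⟩
      rw [ofPt_eq_map, Points.map_comp, show Points.ofScheme G z' = _ from hz', ← Points.map_comp e.inv,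
        e.inv_hom_id, Points.map_id]
  have hF : (Points.ofPt π ⁻¹' {x}).Finite := by
    obtain ⟨U, a, ha, has⟩ := hX.atlas
    obtain ⟨v, hv⟩ := surjective_ofPt_of_repWith has x
    obtain ⟨W, fst, snd, sq⟩ := exists_pullback_yon hπ.rep a
    have : IsFinite snd.left := hπ.property a _ snd sq
    refine ((snd.left.finite_preimage_singleton v).image fst.left).subset fun u hu => ?_
    obtain ⟨w, hw₁, hw₂⟩ := (ofPt_eq_ofPt_iff sq u v).1 (hu.trans hv.symm)
    exact ⟨w, hw₂, hw₁⟩
  obtain ⟨D, hD, hxD, hsat⟩ := exists_saturated hπ _ hh x hF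
  let V : Set (Points X) := (Points.ofPt π '' (D : Set P.left)ᶜ)ᶜ
  have hV : IsOpen V := (isClosedMap_ofPt hπ _ D.isOpen.isClosed_compl).isOpen_compl
  let O : ∀ p, (T p).left.Opens := fun p => ⨅ j, (q p j).left ⁻¹ᵁ D
  have hO : ∀ p (t' : ↥(T p).left), t' ∈ O p ↔ Points.ofPt (g p) t' ∈ V := by
    intro p t'
    have hmem : t' ∈ O p ↔ ∀ j, (q p j).left t' ∈ D := by
      have := hJ p
      show t' ∈ ((⨅ j, (q p j).left ⁻¹ᵁ D : (T p).left.Opens) : Set _) ↔ _
      rw [TopologicalSpace.Opens.coe_iInf (fun j => (q p j).left ⁻¹ᵁ D)]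
      exact Set.mem_iInter
    have hπq : ∀ j, Points.ofPt π ((q p j).left t') = Points.ofPt (g p) t' := fun j => by
      rw [← ofPt_comp_yon, hq]
    rw [hmem]
    constructor
    · rintro h ⟨u, hu, hue⟩
      by_cases hyY : Points.ofPt (g p) t' ∈ Y
      · exact hu (hsat _ u ((hπq (hJne p).some).trans hue.symm) (hYr ▸ (hπq _).symm ▸ hyY)
          (h (hJne p).some))
      · obtain ⟨j, rfl⟩ := hCq p t' (fun hc => hyY (Set.mem_iUnion.2 ⟨p, t', hc, rfl⟩)) u hue
        exact hu (h j)
    · intro h j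
      by_contra hn
      exact h ⟨_, hn, hπq j⟩
  have hOa : ∀ p, IsAffineOpen (O p) := fun p => by
    have := hT p
    have := hJ p
    have := hJne p
    exact IsAffineOpen.iInf fun j => by
      have := hqf p j
      exact hD.preimage (q p j).left
  choose l hl using fun p => exists_isPullback_openSub (g p) (O p) (hO p)
  obtain ⟨Gt, hGt, -⟩ := Groth.AlgSp2.exists_glue T g
  obtain ⟨Q, hQ, sqQ⟩ := Groth.AlgSp2.Approx.exists_isPullback_sigma (openSubι X V) Gt l
    (fun p => Over.homMk (O p).ι rfl) (fun p => by rw [hGt]; exact hl p)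
  let W : ι → Over S := fun p => Over.mk ((O p).ι ≫ (T p).hom)
  have : ∀ p, IsAffine (W p).left := fun p => hOa p
  have : IsAffine (Groth.AlgSp2.sigmaObj W).left :=
    inferInstanceAs (IsAffine (∐ fun p => (W p).left))
  have hQfin : RepWith @IsFinite Q :=
    repWith_of_isPullback sqQ.flip (repWith_finite_sigma T g hg Gt hGt)
  have hQuc : RepWith @UniversallyClosed Q :=
    repWith_mono (fun _ _ f (_ : IsFinite f) => inferInstanceAs (UniversallyClosed f)) hQfin
  have hQs : IsSurjectiveMor Q := by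
    intro y
    obtain ⟨x₁, hx₁⟩ := surjective_ofPt_of_repWith hs (Points.map (openSubι X V) y)
    obtain ⟨p, hp, hps⟩ := exists_genericPoint_specializes x₁
    have hcl : IsClosed (Set.range (Points.ofPt (g ⟨p, hp⟩))) :=
      (isClosedMap_ofPt (hg _)).isClosed_range
    obtain ⟨t', ht'⟩ : Points.map (openSubι X V) y ∈ Set.range (Points.ofPt (g ⟨p, hp⟩)) :=
      (hx₁ ▸ hps.map (Points.continuous_ofPt π)).mem_closed hcl ⟨t _, hgt _⟩
    obtain ⟨z, hz, -⟩ := (map_eq_ofPt_iff (hl ⟨p, hp⟩) y t').1 ht'.symm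
    refine ⟨Points.ofPt ((yon S).map (Groth.AlgSp2.sigmaIncl W ⟨p, hp⟩)) z, ?_⟩
    rw [Points.map_ofPt, hQ]
    exact hz
  obtain ⟨V', -, ⟨eV⟩⟩ := Groth.AlgSp2.Chevalley.exists_iso_affine (isAlgSpace_openSub hX hV) hQs
    (Groth.AlgSp2.Chevalley.isUnivClosedMor_of_repWith hQuc)
  refine ⟨V', eV.hom ≫ openSubι X V, repWith_comp (repWith_isIso _) (repWith_openSubι hV), ?_⟩
  have hxV : x ∈ Set.range (Points.map (openSubι X V)) := by
    rw [range_map_openSubι]
    rintro ⟨u, hu, hux⟩
    exact hu (hxD u hux)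
  obtain ⟨y, hy⟩ := hxV
  obtain ⟨z, hz⟩ := (Points.schemeEquiv V').surjective (Points.map eV.inv y)
  refine ⟨z, ?_⟩
  rw [ofPt_eq_map, Points.map_comp, show Points.ofScheme V' z = _ from hz, ← Points.map_comp eV.inv,
    eV.inv_hom_id, Points.map_id, hy]

/-- A closed subspace of a locally Noetherian space is locally Noetherian. -/
theorem isLocNoethSp_of_closed (hX : IsAlgSpace X) {Z : Sp S} (hZ : IsAlgSpace Z) (hN : IsLocNoethSp X)
    {i : Z ⟶ X} (hi : RepWith @IsClosedImmersion i) : IsLocNoethSp Z := by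
  obtain ⟨U, a, ha, has, hU⟩ := hN
  obtain ⟨W, snd, fst, sq⟩ := hi.rep a
  have : IsClosedImmersion snd.left := hi.property a _ snd sq
  exact ⟨W, fst, repWith_of_isPullback sq.flip ha, repWith_of_isPullback sq.flip has,
    LocallyOfFiniteType.isLocallyNoetherian snd.left⟩

/-- A Noetherian space with a finite surjection from a quasi-affine scheme is a scheme. -/
theorem isRepresentable_of_finite_surjective [QuasiSeparatedSpace ↥S] (hX : IsAlgSpace X)
    (hqc : IsQuasiCompactSp X) (hqs : IsQuasiSeparatedSp X) (hN : IsLocNoethSp X)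
    [P.left.IsQuasiAffine] (hπ : RepWith @IsFinite π) (hs : RepWith @Surjective π) :
    X.obj.IsRepresentable := by
  by_contra hnr
  obtain ⟨Z, i, hZ, hi, hnrZ, hmin⟩ :=
    Groth.AlgSp2.Approx.exists_minimal_nonscheme hX hqc hqs hnr
  obtain ⟨P', snd, fst, sq⟩ := hi.rep π
  have : IsClosedImmersion snd.left := hi.property π _ snd sq
  have : P'.left.IsQuasiAffine := Scheme.IsQuasiAffine.of_isAffineHom snd.left
  refine hnrZ (isRepresentable_of_schematic ⟨Z, hZ⟩ fun x => isSchematicPt_of_minimal hZ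
    (Groth.AlgSp2.Approx.isQuasiSeparatedSp_of_affineMor hZ (isAffineMor_iff_repWith.2
      (repWith_mono (fun _ _ g (_ : IsClosedImmersion g) => inferInstanceAs (IsAffineHom g)) hi)) hqs)
    (isLocNoethSp_of_closed hX hZ hN hi) (repWith_of_isPullback sq.flip hπ)
    (repWith_of_isPullback sq.flip hs) hmin x)

end

end Groth.AlgSpBasic.Saturation
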