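import Groth.Agent.S10048
import Groth.Agent.Chow.General
import Groth.Agent.AlgSp2.FiniteTfae
import Groth.Agent.AlgSp2.Absolute.ClosedApprox
import Groth.Agent.AlgSpBasic.Proper
import Groth.Agent.AlgSpBasic.ColimitSep
import Groth.Agent.AlgSpBasic.QComp
import Groth.Agent.AlgSp2.FlatSubmersive
import Groth.Agent.Variety2.ProjBasics

/-!
# The Chow lemma for separated finite type morphisms of algebraic spaces
-/

set_option autoImplicit false
set_option backward.isDefEq.respectTransparency.types false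
universe u

open CategoryTheory CategoryTheory.Limits AlgebraicGeometry AlgSp

namespace Groth.AlgSpBasic.ChowFiniteType

variable {S : Scheme.{u}}

/-- Separated morphisms of sheaves are stable under base change. -/
theorem isSeparatedMor_of_isPullback {X Y X' Y' : Sp S} {f : X ⟶ Y} {g : Y' ⟶ Y} {fst : X' ⟶ X}
    {f' : X' ⟶ Y'} (sq : IsPullback fst f' f g) (h : IsSeparatedMor f) : IsSeparatedMor f' := by
  have : MorphismProperty.IsStableUnderBaseChange (RepWith @IsClosedImmersion (S := S)) :=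
    ⟨fun sq h => repWith_of_isPullback sq h⟩
  exact MorphismProperty.of_isPullback (P := (RepWith @IsClosedImmersion (S := S)).diagonal) sq h

theorem exists_chow [QuasiSeparatedSpace ↥S] {X Y : Sp S} (hX : IsAlgSpace X) (hY : IsAlgSpace Y)
    (f : X ⟶ Y) (hY1 : IsQuasiCompactSp Y) (hY2 : IsQuasiSeparatedSp Y)
    (hf1 : IsSeparatedMor f) (hf2 : IsFiniteTypeMor f) :
    ∃ (X' Xb : Over S) (a : (yon S).obj X' ⟶ X) (b : X' ⟶ Xb) (c : (yon S).obj Xb ⟶ Y),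
      (yon S).map b ≫ c = a ≫ f ∧ IsProperMor a ∧ IsSurjectiveMor a ∧ IsOpenImmersion b.left ∧
        IsProperMor c ∧ Representable c := by
  obtain ⟨V, q, hqe, hqs⟩ := hY.atlas
  obtain ⟨Y₁, gY, hgf, hgs, -, -⟩ := Groth.Agent.S10048.result S ⟨Y, hY⟩ hY1 hY2 V q hqe hqs
  have hY₁ := IsAlgSpace.yon_obj (S := S) Y₁
  have hpY := Groth.AlgSp2.isProperMor_of_isFiniteMor hY₁ hY hgf
  have hY₁c := Groth.AlgSp2.Absolute.isQuasiCompactSp_of_qcMor hY hY1 hpY.2.1.2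
  have hY₁q := Groth.AlgSp2.Absolute.isQuasiSeparatedSp_of_sepMor hpY.1 hY2
  have : CompactSpace ↥Y₁.left := (isQuasiCompactSp_yon_iff Y₁).1 hY₁c
  have : QuasiSeparatedSpace ↥Y₁.left := by
    have : QuasiSeparated Y₁.hom := ⟨(repWith_diag_yon_iff _ Y₁).1 hY₁q⟩
    exact quasiSeparatedSpace_of_quasiSeparated Y₁.hom
  -- base change to the scheme `Y₁`
  obtain ⟨X₁, a₁, f₁, sq⟩ : ∃ (X₁ : Sp S) (a₁ : X₁ ⟶ X) (f₁ : X₁ ⟶ (yon S).obj Y₁),
      IsPullback a₁ f₁ f gY := ⟨_, _, _, IsPullback.of_hasPullback f gY⟩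
  have hX₁ := isAlgSpace_of_isPullback sq hY.diag hX hY₁
  have ha₁ : IsProperMor a₁ := Groth.AlgSp2.isProperMor_of_isFiniteMor hX₁ hX
    ((Groth.AlgSp2.isFiniteMor_iff hX₁ hX).2
      (repWith_of_isPullback sq.flip ((Groth.AlgSp2.isFiniteMor_iff hY₁ hY).1 hgf)))
  have hs₁ : IsSurjectiveMor a₁ := Groth.AlgSp2.isSurjectiveMor_of_isPullback' sq.flip hgs
  have hf₁s : IsSeparatedMor f₁ := isSeparatedMor_of_isPullback sq hf1
  have hf₁l : LocP @LocallyOfFiniteType f₁ := locP_of_isPullback hX hY hY₁ sq hf2.1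
  have hf₁c : IsQuasiCompactMor f₁ := isQuasiCompactMor_of_isPullback sq hf2.2
  have hX₁c := Groth.AlgSp2.Absolute.isQuasiCompactSp_of_qcMor hY₁ hY₁c hf₁c
  have hX₁q := Groth.AlgSp2.Absolute.isQuasiSeparatedSp_of_sepMor hf₁s hY₁q
  obtain ⟨U, p, hpe, hps⟩ := hX₁.atlas
  obtain ⟨Z, gZ, hZf, hZs, -, -⟩ := Groth.Agent.S10048.result S ⟨X₁, hX₁⟩ hX₁c hX₁q U p hpe hps
  have hZ := IsAlgSpace.yon_obj (S := S) Z
  have hpZ := Groth.AlgSp2.isProperMor_of_isFiniteMor hZ hX₁ hZf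
  obtain ⟨φ, hφ⟩ := (yon S).map_surjective (gZ ≫ f₁)
  have : LocallyOfFiniteType φ.left := by
    have h := locP_comp hZ hX₁ hY₁ hpZ.2.1.1 hf₁l
    rw [← hφ] at h
    exact (repWith_yon_map_iff _ φ).1 (repWith_of_locP hY₁ (representable_of_diag hY₁.diag _) h)
  have : IsSeparated φ.left := by
    have h := ColimitSep.isSeparatedMor_comp hpZ.1 hf₁s
    rw [← hφ] at h
    exact (isSeparatedMor_yon_map_iff φ).1 h
  have : CompactSpace ↥Z.left :=
    (isQuasiCompactSp_yon_iff Z).1 (Groth.AlgSp2.Absolute.isQuasiCompactSp_of_qcMor hX₁ hX₁c hpZ.2.1.2)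
  have : QuasiSeparatedSpace ↥Z.left := quasiSeparatedSpace_of_quasiSeparated φ.left
  obtain ⟨N, X', π, j, hj, hjπ, hπ, hπs⟩ := Groth.Chow.exists_chow_general φ.left
  have : CompactSpace ↥X' := QuasiCompact.compactSpace_of_compactSpace π
  have : IsProper (CohB1.ProjSpaceOver.toBase N Y₁.left) :=
    Groth.Variety2.isProper_projSpaceOver_toBase N Y₁.left
  have : QuasiCompact j := by
    have : QuasiCompact (j ≫ CohB1.ProjSpaceOver.toBase N Y₁.left) := by rw [hjπ]; infer_instance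
    exact QuasiCompact.of_comp j (CohB1.ProjSpaceOver.toBase N Y₁.left)
  obtain ⟨W, b₁, b₂, hb₁, hb₂, hb⟩ : ∃ (W : Scheme.{u}) (b₁ : X' ⟶ W) (b₂ : W ⟶ _),
      IsOpenImmersion b₁ ∧ IsClosedImmersion b₂ ∧ b₁ ≫ b₂ = j :=
    ⟨_, j.toImage, j.imageι, inferInstance, inferInstance, j.toImage_imageι⟩
  let T : Over S := Over.mk (π ≫ Z.hom)
  let Xb : Over S := Over.mk (b₂ ≫ CohB1.ProjSpaceOver.toBase N Y₁.left ≫ Y₁.hom)
  let bT : T ⟶ Xb := Over.homMk b₁ (by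
    show b₁ ≫ b₂ ≫ CohB1.ProjSpaceOver.toBase N Y₁.left ≫ Y₁.hom = π ≫ Z.hom
    rw [reassoc_of% hb, reassoc_of% hjπ, Over.w])
  let πT : T ⟶ Z := Over.homMk π
  let cY : Xb ⟶ Y₁ := Over.homMk (b₂ ≫ CohB1.ProjSpaceOver.toBase N Y₁.left) (Category.assoc _ _ _)
  have hT := IsAlgSpace.yon_obj (S := S) T
  have hXb := IsAlgSpace.yon_obj (S := S) Xb
  have key : ∀ {A B : Over S} (g : A ⟶ B), IsProper g.left → IsProperMor ((yon S).map g) := fun g hg =>
    (Groth.AlgSp2.isProperMor_iff_repWith (IsAlgSpace.yon_obj _) (IsAlgSpace.yon_obj _)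
      ((repWith_yon_map_iff @IsProper g).2 hg).rep).2 ((repWith_yon_map_iff @IsProper g).2 hg)
  have comp : ∀ {A B C : Sp S} (g : A ⟶ B) (h : B ⟶ C), IsAlgSpace A → IsAlgSpace B → IsAlgSpace C →
      IsProperMor g → IsProperMor h → IsProperMor (g ≫ h) := fun g h hA hB hC hg hh =>
    ⟨ColimitSep.isSeparatedMor_comp hg.1 hh.1,
      ⟨locP_comp hA hB hC hg.2.1.1 hh.2.1.1, isQuasiCompactMor_comp hB hC hg.2.1.2 hh.2.1.2⟩,
      isUnivClosedMor_comp hB hC hg.2.2 hh.2.2⟩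
  refine ⟨T, Xb, ((yon S).map πT ≫ gZ) ≫ a₁, bT, (yon S).map cY ≫ gY, ?_, ?_, ?_, hb₁, ?_,
    representable_of_diag hY.diag _⟩
  · have e : bT ≫ cY = πT ≫ φ := Over.OverMorphism.ext (by
      show b₁ ≫ b₂ ≫ CohB1.ProjSpaceOver.toBase N Y₁.left = π ≫ φ.left
      rw [reassoc_of% hb, hjπ])
    rw [← Category.assoc, ← Functor.map_comp, e, Functor.map_comp, hφ]
    simp only [Category.assoc, sq.w]
  · exact comp _ _ hT hX₁ hX (comp _ _ hT hZ hX₁ (key πT hπ) hpZ) ha₁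
  · intro x
    obtain ⟨y, rfl⟩ := hs₁ x
    obtain ⟨z, rfl⟩ := hZs y
    obtain ⟨t, rfl⟩ := surjective_map_of_repWith ((repWith_yon_map_iff @Surjective πT).2 hπs) z
    exact ⟨t, by rw [Points.map_comp, Points.map_comp]⟩
  · exact comp _ _ hXb hY₁ hY (key cY (inferInstanceAs (IsProper (b₂ ≫ _)))) hpY

end Groth.AlgSpBasic.ChowFiniteType
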