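import Groth.Agent.AlgSpBasic.ChowFiniteType
import Groth.Agent.AlgSp2.Absolute.RelApprox
import Groth.Agent.AlgSp2.SectionPoint
import Groth.Agent.S10005
import Groth.Agent.S10039
import Groth.Agent.SpLimit.Basic
import Groth.Agent.Chow.Segre
import Groth.Agent.AlgSpBasic.DiagProps
import Groth.Agent.AlgSpBasic.Immersion

/-!
# The Chow lemma with an immersion into a relative projective space
-/

set_option autoImplicit false
set_option backward.isDefEq.respectTransparency.types false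
universe u

open CategoryTheory CategoryTheory.Limits AlgebraicGeometry AlgSp Opposite

namespace Groth.AlgSpBasic.ChowProjective

noncomputable section

variable {S : Scheme.{u}}

theorem isProperMor_comp' {A B C : Sp S} (hA : IsAlgSpace A) (hB : IsAlgSpace B) (hC : IsAlgSpace C)
    {g : A ⟶ B} {h : B ⟶ C} (hg : IsProperMor g) (hh : IsProperMor h) : IsProperMor (g ≫ h) :=
  ⟨ColimitSep.isSeparatedMor_comp hg.1 hh.1,
    ⟨locP_comp hA hB hC hg.2.1.1 hh.2.1.1, isQuasiCompactMor_comp hB hC hg.2.1.2 hh.2.1.2⟩,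
    isUnivClosedMor_comp hB hC hg.2.2 hh.2.2⟩

theorem isProperMor_yon_map {A B : Over S} (g : A ⟶ B) (hg : IsProper g.left) :
    IsProperMor ((yon S).map g) :=
  (Groth.AlgSp2.isProperMor_iff_repWith (IsAlgSpace.yon_obj _) (IsAlgSpace.yon_obj _)
    ((repWith_yon_map_iff @IsProper g).2 hg).rep).2 ((repWith_yon_map_iff @IsProper g).2 hg)

/-- The scheme of a quasi-separated space is quasi-separated. -/
theorem quasiSeparatedSpace_left [QuasiSeparatedSpace ↥S] {W : Over S}
    (h : IsQuasiSeparatedSp ((yon S).obj W)) : QuasiSeparatedSpace ↥W.left := by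
  have : QuasiSeparated W.hom := ⟨(repWith_diag_yon_iff _ W).1 h⟩
  exact quasiSeparatedSpace_of_quasiSeparated W.hom

/-- Chow's lemma for a morphism to a space, after base change to a scheme proper and surjective over
it. -/
theorem exists_chow_over [QuasiSeparatedSpace ↥S] {X Y : Sp S} (hX : IsAlgSpace X) (hY : IsAlgSpace Y)
    (f : X ⟶ Y) (hf1 : IsSeparatedMor f) (hf2 : IsFiniteTypeMor f) {W : Over S}
    [CompactSpace ↥W.left] (gW : (yon S).obj W ⟶ Y) (hW : IsQuasiSeparatedSp ((yon S).obj W))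
    (hg : IsProperMor gW) (hgs : IsSurjectiveMor gW) :
    ∃ (T : Over S) (a : (yon S).obj T ⟶ X) (φ : T ⟶ W) (m : ℕ)
      (j : T.left ⟶ CohB1.ProjSpaceOver m W.left),
      (yon S).map φ ≫ gW = a ≫ f ∧ IsProperMor a ∧ IsSurjectiveMor a ∧ IsImmersion j ∧
        j ≫ CohB1.ProjSpaceOver.toBase m W.left = φ.left := by
  have hW' := IsAlgSpace.yon_obj (S := S) W
  have hWc : IsQuasiCompactSp ((yon S).obj W) := (isQuasiCompactSp_yon_iff W).2 ‹_›
  have : QuasiSeparatedSpace ↥W.left := quasiSeparatedSpace_left hW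
  obtain ⟨X₁, a₁, f₁, sq⟩ : ∃ (X₁ : Sp S) (a₁ : X₁ ⟶ X) (f₁ : X₁ ⟶ (yon S).obj W),
      IsPullback a₁ f₁ f gW := ⟨_, _, _, IsPullback.of_hasPullback f gW⟩
  have hX₁ := isAlgSpace_of_isPullback sq hY.diag hX hW'
  have ha₁ : IsProperMor a₁ :=
    ⟨ChowFiniteType.isSeparatedMor_of_isPullback sq.flip hg.1,
      ⟨locP_of_isPullback hW' hY hX sq.flip hg.2.1.1, isQuasiCompactMor_of_isPullback sq.flip hg.2.1.2⟩,
      isUnivClosedMor_of_isPullback sq.flip hg.2.2⟩
  have hs₁ : IsSurjectiveMor a₁ := Groth.AlgSp2.isSurjectiveMor_of_isPullback' sq.flip hgs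
  have hf₁s : IsSeparatedMor f₁ := ChowFiniteType.isSeparatedMor_of_isPullback sq hf1
  have hf₁l : LocP @LocallyOfFiniteType f₁ := locP_of_isPullback hX hY hW' sq hf2.1
  have hf₁c : IsQuasiCompactMor f₁ := isQuasiCompactMor_of_isPullback sq hf2.2
  have hX₁c := Groth.AlgSp2.Absolute.isQuasiCompactSp_of_qcMor hW' hWc hf₁c
  have hX₁q := Groth.AlgSp2.Absolute.isQuasiSeparatedSp_of_sepMor hf₁s hW
  obtain ⟨U, p, hpe, hps⟩ := hX₁.atlas
  obtain ⟨Z, gZ, hZf, hZs, -, -⟩ := Groth.Agent.S10048.result S ⟨X₁, hX₁⟩ hX₁c hX₁q U p hpe hps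
  have hZ := IsAlgSpace.yon_obj (S := S) Z
  have hpZ := Groth.AlgSp2.isProperMor_of_isFiniteMor hZ hX₁ hZf
  obtain ⟨φ, hφ⟩ := (yon S).map_surjective (gZ ≫ f₁)
  have : LocallyOfFiniteType φ.left := by
    have h := locP_comp hZ hX₁ hW' hpZ.2.1.1 hf₁l
    rw [← hφ] at h
    exact (repWith_yon_map_iff _ φ).1 (repWith_of_locP hW' (representable_of_diag hW'.diag _) h)
  have : IsSeparated φ.left := by
    have h := ColimitSep.isSeparatedMor_comp hpZ.1 hf₁s
    rw [← hφ] at h
    exact (isSeparatedMor_yon_map_iff φ).1 h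
  have : CompactSpace ↥Z.left :=
    (isQuasiCompactSp_yon_iff Z).1 (Groth.AlgSp2.Absolute.isQuasiCompactSp_of_qcMor hX₁ hX₁c hpZ.2.1.2)
  have : QuasiSeparatedSpace ↥Z.left := quasiSeparatedSpace_of_quasiSeparated φ.left
  obtain ⟨N, X', π, j, hj, hjπ, hπ, hπs⟩ := Groth.Chow.exists_chow_general φ.left
  let πT : Over.mk (π ≫ Z.hom) ⟶ Z := Over.homMk π
  refine ⟨Over.mk (π ≫ Z.hom), ((yon S).map πT ≫ gZ) ≫ a₁, πT ≫ φ, N, j, ?_, ?_, ?_, hj, ?_⟩
  · rw [Functor.map_comp, hφ]
    simp only [Category.assoc, sq.w]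
  · exact isProperMor_comp' (IsAlgSpace.yon_obj _) hX₁ hX
      (isProperMor_comp' (IsAlgSpace.yon_obj _) hZ hX₁ (isProperMor_yon_map πT hπ) hpZ) ha₁
  · intro x
    obtain ⟨y, rfl⟩ := hs₁ x
    obtain ⟨z, rfl⟩ := hZs y
    obtain ⟨t, rfl⟩ := surjective_map_of_repWith ((repWith_yon_map_iff @Surjective πT).2 hπs) z
    exact ⟨t, by rw [Points.map_comp, Points.map_comp]⟩
  · rw [hjπ]; rfl

/-- The graph of a map to a separated space is a closed immersion. -/
theorem repWith_graph {A M : Sp S} (hM : IsSeparatedSp M) (g : A ⟶ M) :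
    RepWith @IsClosedImmersion (prod.lift (𝟙 A) g) := by
  refine repWith_of_isPullback (f := Limits.diag M) (a := g) (b := prod.map g (𝟙 M))
    ⟨⟨?_⟩, ⟨PullbackCone.IsLimit.mk _ (fun s => s.snd ≫ prod.fst) (fun s => ?_) (fun s => ?_) ?_⟩⟩ hM
  · apply prod.hom_ext <;>
      simp [prod.lift_fst, prod.lift_snd, prod.map_fst, prod.map_snd]
  · have h₁ := s.condition =≫ prod.fst
    simp only [Category.assoc, prod.map_fst, prod.lift_fst, Category.comp_id] at h₁
    rw [Category.assoc]; exact h₁.symm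
  · have h₁ := s.condition =≫ prod.fst
    have h₂ := s.condition =≫ prod.snd
    simp only [Category.assoc, prod.map_fst, prod.map_snd, prod.lift_fst, prod.lift_snd,
      Category.comp_id] at h₁ h₂
    apply prod.hom_ext
    · simp [prod.lift_fst]
    · rw [Category.assoc, Category.assoc, prod.lift_snd, ← h₁, h₂]
  · intro s m _ h₂
    rw [← h₂, Category.assoc, prod.lift_fst, Category.comp_id]

/-- A quasi-compact separated space over a separated base is affine over a separated space which is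
quasi-compact, locally of finite type and separated over the base. -/
theorem exists_separated_model [S.IsSeparated] {Y : Sp S} (hY : IsAlgSpace Y)
    (hc : IsQuasiCompactSp Y) (hs : IsSeparatedSp Y) :
    ∃ (M : Sp S) (g : Y ⟶ M), IsAlgSpace M ∧ IsQuasiCompactSp M ∧ IsSeparatedSp M ∧
      (∀ q : M ⟶ (yon S).obj (Over.mk (𝟙 S)), LocP @LocallyOfFiniteType q) ∧ IsAffineMor g := by
  have qs_of_sep : ∀ {F : Sp S}, IsSeparatedSp F → IsQuasiSeparatedSp F := fun h =>
    repWith_mono (P := @IsClosedImmersion)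
      (fun _ _ k (_ : IsClosedImmersion k) => (inferInstance : QuasiCompact k)) h
  have ht : IsTerminal ((yon S).obj (Over.mk (𝟙 S))) := Groth.AlgSp2.SectionPoint.isTerminalYon S
  -- a quasi-compact open of the base through which `Y` factors
  have hK : IsCompact (Set.range fun y : Points Y =>
      Points.toScheme _ (Points.map (ht.from Y) y)) := by
    have := (isQuasiCompactSp_iff_compactSpace hY).1 hc
    exact isCompact_range ((Points.schemeHomeo (Over.mk (𝟙 S))).symm.continuous.comp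
      (Points.continuous_map _))
  have key : ∀ s : S, ∃ A : S.Opens, IsAffineOpen A ∧ s ∈ A := fun s => by
    obtain ⟨_, ⟨A, hA, rfl⟩, hs, -⟩ :=
      S.isBasis_affineOpens.exists_subset_of_mem_open (Set.mem_univ s) isOpen_univ
    exact ⟨A, hA, hs⟩
  choose A hA hsA using key
  obtain ⟨t, htc⟩ := hK.elim_finite_subcover (fun s => (A s : Set S)) (fun s => (A s).isOpen)
    (fun s _ => Set.mem_iUnion.2 ⟨s, hsA s⟩)
  let O : S.Opens := ⨆ s : t, A s
  have hO : CompactSpace ↥(O : Scheme) := isCompact_iff_compactSpace.1 (by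
    simp only [O, TopologicalSpace.Opens.coe_iSup]
    exact isCompact_iUnion fun s => (hA s.1).isCompact)
  let S₀ : Over S := Over.mk O.ι
  let iO : S₀ ⟶ Over.mk (𝟙 S) := Over.homMk O.ι (Category.comp_id _)
  have hiO : RepWith @IsOpenImmersion ((yon S).map iO) :=
    (repWith_yon_map_iff @IsOpenImmersion iO).2 (inferInstanceAs (IsOpenImmersion O.ι))
  have : Mono ((yon S).map iO) :=
    mono_of_repWith (fun _ _ g (_ : IsOpenImmersion g) => inferInstance) hiO
  obtain ⟨f₀, -⟩ := exists_lift_of_range_openImmersion hY hiO (ht.from Y) (by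
    rintro _ ⟨y, rfl⟩
    obtain ⟨w, hw⟩ := (Points.schemeEquiv (Over.mk (𝟙 S))).surjective (Points.map (ht.from Y) y)
    obtain ⟨s, hs, hys⟩ := Set.mem_iUnion₂.1 (htc ⟨y, rfl⟩)
    refine ⟨Points.ofScheme S₀ ⟨_, TopologicalSpace.Opens.mem_iSup.2 ⟨⟨s, hs⟩, hys⟩⟩, ?_⟩
    rw [← ofPt_eq_map]
    have e := ofPt_comp_yon iO (𝟙 _) (⟨_, TopologicalSpace.Opens.mem_iSup.2 ⟨⟨s, hs⟩, hys⟩⟩ : O)
    rw [Category.comp_id] at e
    exact e.trans ((Points.schemeEquiv (Over.mk (𝟙 S))).apply_symm_apply _))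
  have hS₀ := IsAlgSpace.yon_obj (S := S) S₀
  have hS₀q : IsQuasiSeparatedSp ((yon S).obj S₀) :=
    (repWith_diag_yon_iff _ _).2 (inferInstanceAs (QuasiCompact (pullback.diagonal O.ι)))
  obtain ⟨I, _, _, _, D, t₀, c, hcl, e, hD, hDa, hDf, -⟩ :=
    Groth.Agent.S10039.result S (X := ⟨Y, hY⟩) (Y := ⟨(yon S).obj S₀, hS₀⟩)
      (ObjectProperty.homMk f₀) hc (qs_of_sep hs) hS₀q
  have hDc : ∀ i, IsQuasiCompactSp (D.obj i) := fun i =>
    Groth.AlgSp2.Absolute.isQuasiCompactSp_of_qcMor hS₀ ((isQuasiCompactSp_yon_iff S₀).2 hO) (hDf i).2.1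
  have hDq : ∀ i, IsQuasiSeparatedSp (D.obj i) := fun i => isQuasiSeparatedSp_of_mor (hDf i).2.2 hS₀q
  have hsep : IsSeparatedSp c.pt := by
    have hsm : IsSeparatedMor (e.hom ≫ ht.from Y) :=
      ColimitSep.isSeparatedMor_comp (ColimitSep.isSeparatedMor_of_mono e.hom)
        (repWith_diagonal_of_repWith_diag hs _)
    exact Groth.AlgSp2.SectionPoint.isSeparatedSp_of_isSeparatedMor ht _ hsm
  obtain ⟨i, hi⟩ := Groth.Agent.S10005.result S D hD hDa hDc hDq c hcl hsep
  refine ⟨D.obj i, e.inv ≫ c.π.app i, hD i, hDc i, hi, fun q => ?_, ?_⟩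
  · obtain rfl : q = t₀.app i ≫ (yon S).map iO := ht.hom_ext _ _
    refine locP_comp (hD i) hS₀ (IsAlgSpace.yon_obj _) (locP_mono
      (fun _ _ g (h : LocallyOfFinitePresentation g) => (inferInstance : LocallyOfFiniteType g))
      (hDf i).1) (locP_of_repWith (repWith_mono
        (fun _ _ g (_ : IsOpenImmersion g) => (inferInstance : LocallyOfFiniteType g)) hiO))
  · exact isAffineMor_iff_repWith.2 (repWith_comp (repWith_isIso _)
      (Groth.SpLimit.repWith_isAffineHom_π D hDa hcl i))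

/-- A quasi-compact separated space has a proper surjective cover by a scheme immersed in a
projective space over it. -/
theorem exists_projective_cover [S.IsSeparated] {Y : Sp S} (hY : IsAlgSpace Y)
    (hc : IsQuasiCompactSp Y) (hs : IsSeparatedSp Y) :
    ∃ (W : Over S) (gW : (yon S).obj W ⟶ Y) (n : ℕ)
      (b : (yon S).obj W ⟶ (yon S).obj (Over.mk (CohB1.ProjSpaceOver.toBase n S)) ⨯ Y),
      CompactSpace ↥W.left ∧ IsQuasiSeparatedSp ((yon S).obj W) ∧ IsProperMor gW ∧
        IsSurjectiveMor gW ∧ RepWith @IsImmersion b ∧ b ≫ prod.snd = gW := by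
  have qs_of_sep : ∀ {F : Sp S}, IsSeparatedSp F → IsQuasiSeparatedSp F := fun h =>
    repWith_mono (P := @IsClosedImmersion)
      (fun _ _ k (_ : IsClosedImmersion k) => (inferInstance : QuasiCompact k)) h
  have ht : IsTerminal ((yon S).obj (Over.mk (𝟙 S))) := Groth.AlgSp2.SectionPoint.isTerminalYon S
  obtain ⟨M, g, hM, hMc, hMs, hMf, hga⟩ := exists_separated_model hY hc hs
  obtain ⟨U, p, hpe, hps⟩ := hM.atlas
  obtain ⟨Z, gZ, hZf, hZs, -, -⟩ :=
    Groth.Agent.S10048.result S ⟨M, hM⟩ hMc (qs_of_sep hMs) U p hpe hps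
  have hZ := IsAlgSpace.yon_obj (S := S) Z
  have hpZ := Groth.AlgSp2.isProperMor_of_isFiniteMor hZ hM hZf
  let tZ : Z ⟶ Over.mk (𝟙 S) := Over.homMk Z.hom (Category.comp_id _)
  have hone := IsAlgSpace.yon_obj (S := S) (Over.mk (𝟙 S))
  have eZ : (yon S).map tZ = gZ ≫ ht.from M := ht.hom_ext _ _
  have : LocallyOfFiniteType Z.hom := by
    have h := locP_comp hZ hM hone hpZ.2.1.1 (hMf (ht.from M))
    rw [← eZ] at h
    exact (repWith_yon_map_iff _ tZ).1 (repWith_of_locP hone (representable_of_diag hone.diag _) h)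
  have : IsSeparated Z.hom := by
    have h := ColimitSep.isSeparatedMor_comp hpZ.1 (repWith_diagonal_of_repWith_diag hMs (ht.from M))
    rw [← eZ] at h
    exact (isSeparatedMor_yon_map_iff tZ).1 h
  have : CompactSpace ↥Z.left :=
    (isQuasiCompactSp_yon_iff Z).1 (Groth.AlgSp2.Absolute.isQuasiCompactSp_of_qcMor hM hMc hpZ.2.1.2)
  have : QuasiSeparatedSpace ↥Z.left := quasiSeparatedSpace_of_quasiSeparated Z.hom
  obtain ⟨n, T', π, k, hk, hkπ, hπ, hπs⟩ := Groth.Chow.exists_chow_general Z.hom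
  let T : Over S := Over.mk (π ≫ Z.hom)
  let πT : T ⟶ Z := Over.homMk π
  let kO : T ⟶ Over.mk (CohB1.ProjSpaceOver.toBase n S) := Over.homMk k hkπ
  let gT : (yon S).obj T ⟶ M := (yon S).map πT ≫ gZ
  have hgT : IsProperMor gT :=
    isProperMor_comp' (IsAlgSpace.yon_obj _) hZ hM (isProperMor_yon_map πT hπ) hpZ
  have hgTs : IsSurjectiveMor gT := fun x => by
    obtain ⟨z, rfl⟩ := hZs x
    obtain ⟨t, rfl⟩ := surjective_map_of_repWith ((repWith_yon_map_iff @Surjective πT).2 hπs) z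
    exact ⟨t, Points.map_comp _ _ _⟩
  have hTc : CompactSpace ↥T.left :=
    have : CompactSpace ↥T' := QuasiCompact.compactSpace_of_compactSpace π
    this
  let iM : (yon S).obj T ⟶ (yon S).obj (Over.mk (CohB1.ProjSpaceOver.toBase n S)) ⨯ M :=
    prod.lift ((yon S).map kO) gT
  have hiM : RepWith @IsImmersion iM := by
    have e : iM = prod.lift (𝟙 _) gT ≫ prod.map ((yon S).map kO) (𝟙 _) := by
      apply prod.hom_ext <;>
        simp [iM, prod.lift_fst, prod.lift_snd, prod.map_fst, prod.map_snd, prod.lift_fst_assoc,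
          prod.lift_snd_assoc]
    rw [e]
    exact repWith_comp (repWith_mono (fun _ _ g (_ : IsClosedImmersion g) =>
      (inferInstance : IsImmersion g)) (repWith_graph hMs gT))
      (repWith_of_isPullback (isPullback_prod_map_fst _ _) ((repWith_yon_map_iff @IsImmersion kO).2 hk))
  obtain ⟨W, wT, gW, sq⟩ := (isAffineMor_iff_repWith.1 hga).rep gT
  let b : (yon S).obj W ⟶ (yon S).obj (Over.mk (CohB1.ProjSpaceOver.toBase n S)) ⨯ Y :=
    prod.lift ((yon S).map wT ≫ (yon S).map kO) gW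
  have sqb : IsPullback ((yon S).map wT) b iM (prod.map (𝟙 _) g) := by
    refine IsPullback.of_bot ?_ ?_ (isPullback_prod_map_snd g _).flip
    · rw [show b ≫ prod.snd = gW from prod.lift_snd _ _,
        show iM ≫ prod.snd = gT from prod.lift_snd _ _]
      exact sq.flip
    · apply prod.hom_ext
      · simp [b, iM, prod.map_fst, prod.lift_fst]
      · simp only [b, iM, Category.assoc, prod.map_snd, prod.lift_snd, prod.lift_snd_assoc]
        exact sq.w.symm
  have hgW : IsProperMor gW :=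
    ⟨ChowFiniteType.isSeparatedMor_of_isPullback sq.flip hgT.1,
      ⟨locP_of_isPullback (IsAlgSpace.yon_obj _) hM hY sq.flip hgT.2.1.1,
        isQuasiCompactMor_of_isPullback sq.flip hgT.2.1.2⟩,
      isUnivClosedMor_of_isPullback sq.flip hgT.2.2⟩
  refine ⟨W, gW, n, b, ?_, ?_, hgW, Groth.AlgSp2.isSurjectiveMor_of_isPullback' sq.flip hgTs,
    repWith_of_isPullback sqb hiM, prod.lift_snd _ _⟩
  · exact (isQuasiCompactSp_yon_iff W).1
      (Groth.AlgSp2.Absolute.isQuasiCompactSp_of_qcMor hY hc hgW.2.1.2)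
  · exact Groth.AlgSp2.Absolute.isQuasiSeparatedSp_of_sepMor hgW.1 (qs_of_sep hs)

/-- An immersion into `P^m_W` is an immersion into `P^m_S × W`. -/
theorem repWith_lift_projSpace {T W : Over S} {m : ℕ} (φ : T ⟶ W)
    (j : T.left ⟶ CohB1.ProjSpaceOver m W.left) (hj : IsImmersion j)
    (hjφ : j ≫ CohB1.ProjSpaceOver.toBase m W.left = φ.left) :
    ∃ j' : T ⟶ Over.mk (CohB1.ProjSpaceOver.toBase m S),
      RepWith @IsImmersion (prod.lift ((yon S).map j') ((yon S).map φ)) := by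
  let v : CohB1.ProjSpaceOver m W.left ⟶ CohB1.ProjSpaceOver m S :=
    pullback.lift (pullback.fst _ _) (pullback.snd _ _ ≫ W.hom) (specULiftZIsTerminal.hom_ext _ _)
  let j' : T ⟶ Over.mk (CohB1.ProjSpaceOver.toBase m S) := Over.homMk (j ≫ v) (by
    show (j ≫ v) ≫ pullback.snd _ _ = T.hom
    rw [Category.assoc]
    erw [pullback.lift_snd]
    rw [← Category.assoc]
    exact (congrArg (· ≫ W.hom) hjφ).trans (Over.w φ))
  refine ⟨j', ?_⟩
  let r := prod.lift j' φ
  let κ : (Over.mk (CohB1.ProjSpaceOver.toBase m S) ⨯ W).left ⟶ CohB1.ProjSpaceOver m W.left :=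
    pullback.lift ((prod.fst : Over.mk (CohB1.ProjSpaceOver.toBase m S) ⨯ W ⟶ _).left ≫ pullback.fst _ _)
      (prod.snd : Over.mk (CohB1.ProjSpaceOver.toBase m S) ⨯ W ⟶ W).left (specULiftZIsTerminal.hom_ext _ _)
  have hrκ : r.left ≫ κ = j := by
    apply pullback.hom_ext
    · erw [Category.assoc, pullback.lift_fst]
      rw [← Category.assoc]
      erw [lift_left_fst]
      show (j ≫ v) ≫ pullback.fst _ _ = _
      erw [Category.assoc, pullback.lift_fst]
      rfl
    · erw [Category.assoc, pullback.lift_snd, lift_left_snd]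
      exact hjφ.symm
  have : IsImmersion (r.left ≫ κ) := hrκ ▸ hj
  have hr : RepWith @IsImmersion ((yon S).map r) :=
    (repWith_yon_map_iff @IsImmersion r).2 (IsImmersion.of_comp r.left κ)
  have e : prod.lift ((yon S).map j') ((yon S).map φ) = (yon S).map r ≫ prodComparison (yon S) _ _ := by
    apply prod.hom_ext
    · rw [prod.lift_fst, Category.assoc, prodComparison_fst, ← Functor.map_comp, prod.lift_fst]
    · rw [prod.lift_snd, Category.assoc, prodComparison_snd, ← Functor.map_comp, prod.lift_snd]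
  rw [e]
  exact repWith_comp hr (repWith_isIso _)

/-- The Segre morphism in sheaves. -/
theorem exists_segre_sp (n m : ℕ) :
    ∃ σ : (yon S).obj (Over.mk (CohB1.ProjSpaceOver.toBase n S)) ⨯
        (yon S).obj (Over.mk (CohB1.ProjSpaceOver.toBase m S)) ⟶
      (yon S).obj (Over.mk (CohB1.ProjSpaceOver.toBase (n * m + n + m) S)),
      RepWith @IsClosedImmersion σ := by
  obtain ⟨φ, hφ, hφb⟩ := Groth.Chow.exists_segre_over S n m
  let P := Over.mk (CohB1.ProjSpaceOver.toBase n S) ⨯ Over.mk (CohB1.ProjSpaceOver.toBase m S)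
  let q : P ⟶ Over.mk (CohB1.ProjSpaceOver.toBase (n * m + n + m) S) :=
    Over.homMk ((Over.prodLeftIsoPullback _ _).hom ≫ φ) (by
      show ((Over.prodLeftIsoPullback _ _).hom ≫ φ) ≫ CohB1.ProjSpaceOver.toBase _ S = P.hom
      rw [Category.assoc, hφb, ← Category.assoc]
      erw [Over.prodLeftIsoPullback_hom_fst]
      exact Over.w (prod.fst : P ⟶ _))
  refine ⟨inv (prodComparison (yon S) _ _) ≫ (yon S).map q,
    repWith_comp (repWith_isIso _) ((repWith_yon_map_iff @IsClosedImmersion q).2 ?_)⟩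
  exact inferInstanceAs (IsClosedImmersion ((Over.prodLeftIsoPullback (Over.mk (CohB1.ProjSpaceOver.toBase n S))
    (Over.mk (CohB1.ProjSpaceOver.toBase m S))).hom ≫ φ))

theorem exists_chow_projective [S.IsSeparated] {X Y : Sp S} (hX : IsAlgSpace X) (hY : IsAlgSpace Y)
    (f : X ⟶ Y) (hc : IsQuasiCompactSp Y) (hs : IsSeparatedSp Y)
    (hf1 : IsSeparatedMor f) (hf2 : IsFiniteTypeMor f) :
    ∃ (n : ℕ) (T : Over S) (a : (yon S).obj T ⟶ X)
      (b : (yon S).obj T ⟶ (yon S).obj (Over.mk (CohB1.ProjSpaceOver.toBase n S)) ⨯ Y),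
      b ≫ prod.snd = a ≫ f ∧ IsProperMor a ∧ IsSurjectiveMor a ∧ RepWith @IsImmersion b := by
  obtain ⟨W, gW, n, bW, hWc, hWq, hgW, hgWs, hbW, hbW'⟩ := exists_projective_cover hY hc hs
  obtain ⟨T, a, φ, m, j, hcomm, ha, has, hj, hjφ⟩ := exists_chow_over hX hY f hf1 hf2 gW hWq hgW hgWs
  obtain ⟨j', hj'⟩ := repWith_lift_projSpace φ j hj hjφ
  obtain ⟨σ, hσ⟩ := exists_segre_sp (S := S) m n
  let Pm := (yon S).obj (Over.mk (CohB1.ProjSpaceOver.toBase m S))
  let b₁ : (yon S).obj T ⟶ Pm ⨯ _ := prod.lift ((yon S).map j') ((yon S).map φ) ≫ prod.map (𝟙 Pm) bW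
  let b := (b₁ ≫ (Limits.prod.associator _ _ _).inv) ≫ prod.map σ (𝟙 Y)
  refine ⟨_, T, a, b, ?_, ha, has, ?_⟩
  · simp only [b, b₁, Category.assoc, prod.map_snd, Category.comp_id, Limits.prod.associator_inv,
      prod.lift_snd, prod.map_snd_assoc, prod.lift_snd_assoc, hbW', hcomm]
  · refine repWith_comp (repWith_comp (repWith_comp hj' ?_) (repWith_isIso _))
      (repWith_of_isPullback (isPullback_prod_map_fst _ _) (repWith_mono (fun _ _ g
        (_ : IsClosedImmersion g) => (inferInstance : IsImmersion g)) hσ))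
    exact repWith_of_isPullback (isPullback_prod_map_snd _ _) hbW

end

end Groth.AlgSpBasic.ChowProjective
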