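import Groth.Agent.AlgSpBasic.DecentFiniteDense
import Groth.Agent.S9798
import Mathlib.Topology.JacobsonSpace

/-!
# Fibres over points of codimension zero
-/

set_option autoImplicit false
set_option backward.isDefEq.respectTransparency.types false
universe u

open CategoryTheory CategoryTheory.Limits AlgebraicGeometry Opposite TopologicalSpace AlgSp

namespace Groth.AlgSpBasic

theorem fibreDimAt_zero_iff_isOpen {U V : Scheme.{u}} (h : U ⟶ V) [LocallyOfFiniteType h] (u : U) :
    FlatMor.fibreDimAt h u = 0 ↔ IsOpen ({h.asFiber u} : Set ↥(h.fiber (h u))) := by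
  have : LocallyOfFiniteType (h.fiberToSpecResidueField (h u)) :=
    inferInstanceAs (LocallyOfFiniteType (pullback.snd h (V.fromSpecResidueField (h u))))
  have : IsLocallyNoetherian (h.fiber (h u)) :=
    LocallyOfFiniteType.isLocallyNoetherian (h.fiberToSpecResidueField (h u))
  exact (Groth.Agent.S9798.result _ _).symm.symm

/-- If all points over a maximal point are maximal, the map is quasi-finite there. -/
theorem fibreDimAt_zero_of_codimZero {U V : Scheme.{u}} (h : U ⟶ V) [LocallyOfFiniteType h] (u : U)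
    (hall : ∀ u', h u' = h u → ringKrullDim ↥(U.presheaf.stalk u') = 0) :
    FlatMor.fibreDimAt h u = 0 := by
  obtain ⟨V₀, hV₀, huV, -⟩ :=
    exists_isAffineOpen_mem_and_subset (X := V) (x := h u) (U := ⊤) trivial
  obtain ⟨W, hW, huW, hWV⟩ :=
    exists_isAffineOpen_mem_and_subset (X := U) (x := u) (U := h ⁻¹ᵁ V₀) huV
  have : IsAffine (V₀ : Scheme) := hV₀
  have : IsAffine (W : Scheme) := hW
  let g := h.resLE V₀ W hWV
  have hg : ∀ w, (g w).1 = h w.1 := fun w => by
    have := congr(($(show g ≫ V₀.ι = W.ι ≫ h from h.resLE_comp_ι hWV)).base w)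
    exact this
  have hfin : (g ⁻¹' {(⟨h u, huV⟩ : ↥V₀)}).Finite :=
    finite_fibre_of_no_specializes g fun w w' _ hw' hs => Subtype.ext
      (ringKrullDim_eq_zero_iff.1 (hall w'.1 ((hg w').symm.trans (congrArg Subtype.val hw')))
        w.1 (hs.map W.ι.continuous))
  have hF : ((h ⁻¹' {h u}) ∩ (W : Set U)).Finite :=
    (hfin.image W.ι).subset fun a ⟨ha, haW⟩ =>
      ⟨⟨a, haW⟩, Subtype.ext ((hg _).trans ha), rfl⟩
  let C : Set U := ⋃ a ∈ ((h ⁻¹' {h u}) ∩ (W : Set U)) \ {u}, closure {a}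
  have huC : u ∉ C := fun hu' => by
    obtain ⟨a, ⟨-, hne⟩, hua⟩ := Set.mem_iUnion₂.1 hu'
    exact hne (ringKrullDim_eq_zero_iff.1 (hall u rfl) a (specializes_iff_mem_closure.2 hua))
  rw [fibreDimAt_zero_iff_isOpen]
  have hO : IsOpen ((W : Set U) \ C) :=
    W.2.sdiff (hF.sdiff.isClosed_biUnion fun _ _ => isClosed_closure)
  convert hO.preimage (h.fiberι (h u)).continuous using 1
  ext z
  constructor
  · rintro rfl
    show h.fiberι (h u) (h.asFiber u) ∈ (W : Set U) \ C
    rw [h.fiberι_asFiber]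
    exact ⟨huW, huC⟩
  · intro hz
    refine (h.fiberι (h u)).isEmbedding.injective ?_
    rw [h.fiberι_asFiber]
    by_contra hne
    have hzu : h.fiberι (h u) z ∈ h ⁻¹' {h u} := h.range_fiberι (h u) ▸ Set.mem_range_self z
    exact hz.2 (Set.mem_biUnion ⟨⟨hzu, hz.1⟩, hne⟩ (subset_closure rfl))

/-- Over a maximal point, quasi-finiteness at the maximal points of the fibre makes all points of
the fibre maximal. -/
theorem codimZero_of_fibreDimAt_zero {U V : Scheme.{u}} (h : U ⟶ V) [LocallyOfFiniteType h] (u : U)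
    (hv : ringKrullDim ↥(V.presheaf.stalk (h u)) = 0)
    (hall : ∀ u', h u' = h u → ringKrullDim ↥(U.presheaf.stalk u') = 0 →
      FlatMor.fibreDimAt h u' = 0) :
    ringKrullDim ↥(U.presheaf.stalk u) = 0 := by
  obtain ⟨η, hη, h0⟩ := exists_codimZero_specializes u
  have he : h η = h u := ringKrullDim_eq_zero_iff.1 hv _ (hη.map h.continuous)
  have hopen := (fibreDimAt_zero_iff_isOpen h η).1 (hall η he h0)
  have : LocallyOfFiniteType (h.fiberToSpecResidueField (h η)) :=
    inferInstanceAs (LocallyOfFiniteType (pullback.snd h (V.fromSpecResidueField (h η))))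
  have : JacobsonSpace ↥(h.fiber (h η)) :=
    LocallyOfFiniteType.jacobsonSpace (h.fiberToSpecResidueField (h η))
  have hcl : IsClosed ({h.asFiber η} : Set ↥(h.fiber (h η))) :=
    isClosed_singleton_of_isLocallyClosed_singleton hopen.isLocallyClosed
  have hu : u ∈ Set.range (h.fiberι (h η)) := by
    rw [h.range_fiberι]; exact he.symm
  obtain ⟨z, hz⟩ := hu
  have hs : h.asFiber η ⤳ z := by
    refine (h.fiberι (h η)).isEmbedding.isInducing.specializes_iff.1 ?_
    rw [h.fiberι_asFiber, hz]; exact hη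
  have : z = h.asFiber η := hs.mem_closed hcl rfl
  rw [this, h.fiberι_asFiber] at hz
  rw [← hz]; exact h0

variable {S : Scheme.{u}}

theorem fibre_codimZero_iff {X Y : Sp S} (hX : IsAlgSpace X) (hY : IsAlgSpace Y) (f : X ⟶ Y)
    (hf : LocP @LocallyOfFiniteType f) (y : AlgSp.Points Y)
    (hy : HasAt (fun U u => ringKrullDim ↥(U.presheaf.stalk u) = 0) Y y) :
    ((∀ x, AlgSp.Points.map f x = y → HasAt (fun U u => ringKrullDim ↥(U.presheaf.stalk u) = 0) X x)
      ↔ ∀ x, AlgSp.Points.map f x = y → HasAtMor (fun _ _ h u => FlatMor.fibreDimAt h u = 0) f x) ∧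
    ((∀ x, AlgSp.Points.map f x = y → HasAt (fun U u => ringKrullDim ↥(U.presheaf.stalk u) = 0) X x →
        HasAtMor (fun _ _ h u => FlatMor.fibreDimAt h u = 0) f x) →
      ∀ x, AlgSp.Points.map f x = y →
        HasAt (fun U u => ringKrullDim ↥(U.presheaf.stalk u) = 0) X x) := by
  obtain ⟨U, V, a, b, h, ha, has, hb, -, comm⟩ := Groth.AlgSpBasic.exists_charts hX hY f
  have : LocallyOfFiniteType h.left := hf a b h ha hb comm
  have hmap : ∀ u, AlgSp.Points.map f (AlgSp.Points.ofPt a u) = AlgSp.Points.ofPt b (h.left u) :=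
    fun u => by rw [AlgSp.Points.map_ofPt, comm, ofPt_comp_yon]
  have hat : ∀ u, HasAt (fun U u => ringKrullDim ↥(U.presheaf.stalk u) = 0) X (AlgSp.Points.ofPt a u) ↔
      ringKrullDim ↥(U.left.presheaf.stalk u) = 0 := fun u =>
    ⟨fun H => (hasAt_iff_forall etaleInvariant_ringKrullDim hX _ _).1 H U a u ha rfl,
      fun H => ⟨U, a, u, ha, rfl, H⟩⟩
  have hatm : ∀ u, HasAtMor (fun _ _ h u => FlatMor.fibreDimAt h u = 0) f (AlgSp.Points.ofPt a u) ↔
      FlatMor.fibreDimAt h.left u = 0 := fun u =>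
    Groth.AlgSp3.hasAtMor_iff_of_chart Groth.AlgSp3.etMor_fibreDimAt (fun d => d = 0) hX.diag
      hY.diag ha hb comm u
  have hv : ∀ u, AlgSp.Points.map f (AlgSp.Points.ofPt a u) = y →
      ringKrullDim ↥(V.left.presheaf.stalk (h.left u)) = 0 := fun u hu =>
    (hasAt_iff_forall etaleInvariant_ringKrullDim hY _ _).1 hy V b _ hb ((hmap u).symm.trans hu)
  have h3 : (∀ x, AlgSp.Points.map f x = y →
      HasAt (fun U u => ringKrullDim ↥(U.presheaf.stalk u) = 0) X x →
        HasAtMor (fun _ _ h u => FlatMor.fibreDimAt h u = 0) f x) →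
      ∀ x, AlgSp.Points.map f x = y →
        HasAt (fun U u => ringKrullDim ↥(U.presheaf.stalk u) = 0) X x := by
    intro H x hx
    obtain ⟨u, rfl⟩ := surjective_ofPt_of_repWith has x
    exact (hat u).2 (codimZero_of_fibreDimAt_zero h.left u (hv u hx) fun u' hu' h0 =>
      (hatm u').1 (H _ (by rw [hmap, hu', ← hmap]; exact hx) ((hat u').2 h0)))
  refine ⟨⟨fun H x hx => ?_, fun H => h3 fun x hx _ => H x hx⟩, h3⟩
  obtain ⟨u, rfl⟩ := surjective_ofPt_of_repWith has x
  exact (hatm u).2 (fibreDimAt_zero_of_codimZero h.left u fun u' hu' =>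
    (hat u').1 (H _ (by rw [hmap, hu', ← hmap]; exact hx)))

end Groth.AlgSpBasic

namespace Groth.AlgSpBasic

variable {S : Scheme.{u}}

/-- A finite fibre over a point of codimension zero consists of quasi-finite points. -/
theorem fibreDimAt_zero_of_finite_fibre {X Y : Sp S} (hX : IsAlgSpace X) (hY : IsAlgSpace Y)
    (hd : IsDecent X) {f : X ⟶ Y} (hf : LocP @LocallyOfFiniteType f) {y : AlgSp.Points Y}
    (hfin : (AlgSp.Points.map f ⁻¹' {y}).Finite) (x : AlgSp.Points X)
    (hx : AlgSp.Points.map f x = y) :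
    HasAtMor (fun _ _ h u => FlatMor.fibreDimAt h u = 0) f x := by
  obtain ⟨U, V, a, b, h, u, ha, hb, comm, rfl⟩ := Groth.AlgSp3.exists_chart_at hX hY f x
  have : LocallyOfFiniteType h.left := hf a b h ha hb comm
  refine ⟨U, V, a, b, h, u, ha, hb, comm, rfl, (fibreDimAt_zero_iff_isOpen h.left u).2 ?_⟩
  obtain ⟨W, hW, huW, -⟩ := exists_isAffineOpen_mem_and_subset (X := U.left) (x := u) (U := ⊤) trivial
  let WO : Over S := Over.mk (W.ι ≫ U.hom)
  let jW : WO ⟶ U := Over.homMk W.ι rfl
  have hc : RepWith @Etale ((yon S).map jW ≫ a) :=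
    repWith_comp ((repWith_yon_map_iff _ jW).2 (inferInstanceAs (Etale W.ι))) ha
  have hWf : ((h.left ⁻¹' {h.left u}) ∩ (W : Set ↥U.left)).Finite := by
    refine ((hfin.biUnion fun x' _ =>
      (finiteAt_of_isDecent hd x' WO _ hW hc).image jW.left).subset fun z ⟨hz, hzW⟩ => ?_)
    refine Set.mem_biUnion (x := AlgSp.Points.ofPt a z) ?_ ⟨(⟨z, hzW⟩ : ↥WO.left), ?_, rfl⟩
    · show AlgSp.Points.map f _ = y
      rw [← hx, AlgSp.Points.map_ofPt, AlgSp.Points.map_ofPt, comm, ofPt_comp_yon, ofPt_comp_yon,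
        show h.left z = h.left u from hz]
    · show AlgSp.Points.ofPt ((yon S).map jW ≫ a) (⟨z, hzW⟩ : ↥WO.left) = AlgSp.Points.ofPt a z
      rw [ofPt_comp_yon]; rfl
  let O : Set ↥(h.left.fiber (h.left u)) := (h.left.fiberι (h.left u)) ⁻¹' (W : Set ↥U.left)
  have hO : IsOpen O := W.2.preimage (h.left.fiberι _).continuous
  have : Finite ↥O := by
    refine (Set.Finite.of_finite_image (hWf.subset ?_)
      (h.left.fiberι (h.left u)).isEmbedding.injective.injOn).to_subtype
    rintro _ ⟨z, hz, rfl⟩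
    exact ⟨h.left.range_fiberι (h.left u) ▸ Set.mem_range_self z, hz⟩
  have : LocallyOfFiniteType (h.left.fiberToSpecResidueField (h.left u)) :=
    inferInstanceAs (LocallyOfFiniteType (pullback.snd h.left (V.left.fromSpecResidueField (h.left u))))
  have : JacobsonSpace ↥(h.left.fiber (h.left u)) :=
    LocallyOfFiniteType.jacobsonSpace (h.left.fiberToSpecResidueField (h.left u))
  have : JacobsonSpace ↥O := JacobsonSpace.of_isOpenEmbedding hO.isOpenEmbedding_subtypeVal
  have huO : h.left.asFiber u ∈ O := by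
    show h.left.fiberι _ (h.left.asFiber u) ∈ (W : Set ↥U.left)
    rw [h.left.fiberι_asFiber]; exact huW
  have := hO.isOpenMap_subtype_val _ (isOpen_discrete ({⟨_, huO⟩} : Set ↥O))
  rwa [Set.image_singleton] at this

end Groth.AlgSpBasic
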