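import Groth.Agent.SpecFerrand.AlgSpPushout

/-!
# Colimits of schemes stable under etale base change are colimits of algebraic spaces
-/

set_option autoImplicit false
set_option backward.isDefEq.respectTransparency.types false
universe w v u

open CategoryTheory CategoryTheory.Limits AlgebraicGeometry Opposite AlgSp

namespace Groth.AlgSpBasic.ColimitEtale

open Groth.SpecFerrand.AlgSpPush (exists_separated_atlas isSeparated_snd yon_cover_ext)

noncomputable section

variable {S : Scheme.{u}} {I : Type v} [Category.{w} I] {D : I ⥤ Over S}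

/-- Maps from a colimit into an algebraic space are determined on the members. -/
theorem hom_ext_colimit {c : Cocone D} (hc : IsColimit c) (F : AlgSp.Space S)
    {r₁ r₂ : (yon S).obj c.pt ⟶ F.obj}
    (h : ∀ i, (yon S).map (c.ι.app i) ≫ r₁ = (yon S).map (c.ι.app i) ≫ r₂) : r₁ = r₂ := by
  obtain ⟨W, p₁, p₂, sq⟩ := exists_pullback_of_diag F.property.diag r₁ r₂
  choose l hl using fun i => (yon S).map_surjective (sq.lift _ _ (h i))
  have e₁ : ∀ i, l i ≫ p₁ = c.ι.app i := fun i =>
    (yon S).map_injective (by rw [Functor.map_comp, hl, sq.lift_fst])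
  have e₂ : ∀ i, l i ≫ p₂ = c.ι.app i := fun i =>
    (yon S).map_injective (by rw [Functor.map_comp, hl, sq.lift_snd])
  let cW : Cocone D := Cocone.mk W
    { app := l
      naturality := fun i j φ => (yon S).map_injective (sq.hom_ext
        (by rw [← Functor.map_comp, ← Functor.map_comp, Category.assoc, Category.assoc,
          Functor.const_obj_map, e₁, c.w]; exact congrArg _ ((congrArg (l i ≫ ·) (Category.id_comp p₁)).trans (e₁ i)).symm)
        (by rw [← Functor.map_comp, ← Functor.map_comp, Category.assoc, Category.assoc,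
          Functor.const_obj_map, e₂, c.w]; exact congrArg _ ((congrArg (l i ≫ ·) (Category.id_comp p₂)).trans (e₂ i)).symm)) }
  have h₁ : hc.desc cW ≫ p₁ = 𝟙 _ := hc.hom_ext fun i => by
    rw [hc.fac_assoc, Category.comp_id]; exact e₁ i
  have h₂ : hc.desc cW ≫ p₂ = 𝟙 _ := hc.hom_ext fun i => by
    rw [hc.fac_assoc, Category.comp_id]; exact e₂ i
  have := (yon S).map (hc.desc cW) ≫= sq.w
  rw [← Category.assoc, ← Category.assoc, ← Functor.map_comp, ← Functor.map_comp, h₁, h₂,
    (yon S).map_id, Category.id_comp, Category.id_comp] at this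
  exact this

variable {c : Cocone D}

theorem exists_desc
    (h₂ : ∀ x : ↥c.pt.left, ∃ (i : I) (y : ↥(D.obj i).left), (c.ι.app i).left y = x)
    (h₃ : ∀ (D' : I ⥤ Over S) (α : D' ⟶ D) (c' : Cocone D') (a : c'.pt ⟶ c.pt), Etale a.left →
      (∀ i, IsPullback (c'.ι.app i) (α.app i) a (c.ι.app i)) → Nonempty (IsColimit c'))
    (h₄ : ∀ (D' : I ⥤ Over S) (α : D' ⟶ D), NatTrans.Equifibered α → (∀ i, Etale (α.app i).left) →
      (∀ i, IsSeparated (α.app i).left) →
      ∃ (c' : Cocone D') (a : c'.pt ⟶ c.pt), Etale a.left ∧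
        ∀ i, IsPullback (c'.ι.app i) (α.app i) a (c.ι.app i))
    (F : AlgSp.Space S) (g : ∀ i, (yon S).obj (D.obj i) ⟶ F.obj)
    (hg : ∀ ⦃i j : I⦄ (φ : i ⟶ j), (yon S).map (D.map φ) ≫ g j = g i) :
    ∃ τ : (yon S).obj c.pt ⟶ F.obj, ∀ i, (yon S).map (c.ι.app i) ≫ τ = g i := by
  obtain ⟨U, p, hpe, hps, hUsep⟩ := exists_separated_atlas F
  choose X uX fX sq using fun i => exists_pullback_yon hpe.rep (g i)
  have hmap : ∀ {i j : I} (φ : i ⟶ j), ∃ m : X i ⟶ X j, m ≫ uX j = uX i ∧ m ≫ fX j = fX i ≫ D.map φ := by
    intro i j φ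
    obtain ⟨m, hm⟩ := (yon S).map_surjective ((sq j).lift ((yon S).map (uX i))
      ((yon S).map (fX i) ≫ (yon S).map (D.map φ)) (by rw [Category.assoc, hg φ, (sq i).w]))
    exact ⟨m, (yon S).map_injective (by rw [Functor.map_comp, hm, (sq j).lift_fst]),
      (yon S).map_injective (by rw [Functor.map_comp, hm, (sq j).lift_snd, Functor.map_comp])⟩
  choose m hm₁ hm₂ using @hmap
  have ext : ∀ {j : I} {T : Over S} {a b : T ⟶ X j}, a ≫ uX j = b ≫ uX j → a ≫ fX j = b ≫ fX j →
      a = b := fun {j} _ a b e₁ e₂ => (yon S).map_injective ((sq j).hom_ext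
        (by rw [← Functor.map_comp, ← Functor.map_comp, e₁])
        (by rw [← Functor.map_comp, ← Functor.map_comp, e₂]))
  let D' : I ⥤ Over S :=
    { obj := X
      map := fun φ => m φ
      map_id := fun i => ext (by rw [hm₁, Category.id_comp])
        (by rw [hm₂, D.map_id, Category.comp_id, Category.id_comp])
      map_comp := fun φ ψ => ext (by rw [Category.assoc, hm₁, hm₁, hm₁])
        (by rw [Category.assoc, hm₂, hm₂, ← Category.assoc, hm₂, D.map_comp, Category.assoc]) }
  let α : D' ⟶ D := { app := fX, naturality := fun i j φ => hm₂ φ }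
  have hα : NatTrans.Equifibered α := fun {i j} φ => by
    refine isPullback_of_yon (IsPullback.of_right ?_ ?_ (sq j))
    · rw [← Functor.map_comp]
      show IsPullback ((yon S).map (m φ ≫ uX j)) ((yon S).map (fX i)) p ((yon S).map (D.map φ) ≫ g j)
      rw [hm₁, hg]
      exact sq i
    · rw [← Functor.map_comp, ← Functor.map_comp]
      exact congrArg _ (hm₂ φ)
  have het : ∀ i, Etale (α.app i).left := fun i => repWith_fst_of_isPullback (sq i) hpe
  have hsep : ∀ i, IsSeparated (α.app i).left := fun i => isSeparated_snd p (sq i)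
  obtain ⟨c', a, ha, hpb⟩ := h₄ D' α hα het hsep
  obtain ⟨hc'⟩ := h₃ D' α c' a ha hpb
  have : Surjective a.left := ⟨fun x => by
    obtain ⟨i, y, rfl⟩ := h₂ x
    have : Surjective (fX i).left := repWith_fst_of_isPullback (sq i) hps
    obtain ⟨z, rfl⟩ := (fX i).left.surjective y
    refine ⟨(c'.ι.app i).left z, ?_⟩
    show _ = (c.ι.app i).left ((α.app i).left z)
    rw [← Scheme.Hom.comp_apply, ← Scheme.Hom.comp_apply, ← Over.comp_left, ← Over.comp_left,
      (hpb i).w]⟩
  let cU : Cocone D' := Cocone.mk U
    { app := uX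
      naturality := fun i j φ => (hm₁ φ).trans (Category.comp_id _).symm }
  let η := hc'.desc cU
  let σ := (yon S).map η ≫ p
  have hσ : ∀ i, (yon S).map (c'.ι.app i) ≫ σ = (yon S).map (fX i) ≫ g i := fun i => by
    rw [← Category.assoc, ← Functor.map_comp, hc'.fac, (sq i).w.symm]
  have agree : ∀ ⦃T : Over S⦄ (g₁ g₂ : T ⟶ c'.pt), g₁ ≫ a = g₂ ≫ a →
      (yon S).map g₁ ≫ σ = (yon S).map g₂ ≫ σ := by
    -- the universal pair
    suffices (yon S).map (pullback.fst a a) ≫ σ = (yon S).map (pullback.snd a a) ≫ σ by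
      intro T g₁ g₂ hgg
      rw [← pullback.lift_fst g₁ g₂ hgg]
      conv_rhs => rw [← pullback.lift_snd g₁ g₂ hgg]
      rw [Functor.map_comp, Functor.map_comp, Category.assoc, Category.assoc, this]
    let b : pullback a a ⟶ c.pt := pullback.fst a a ≫ a
    let D'' : I ⥤ Over S :=
      { obj := fun i => pullback (c.ι.app i) b
        map := fun {i j} φ => pullback.map _ _ _ _ (D.map φ) (𝟙 _) (𝟙 _)
          (by rw [c.w φ, Category.comp_id]) (by rw [Category.id_comp, Category.comp_id])
        map_id := fun i => by apply pullback.hom_ext <;> simp [pullback.map]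
        map_comp := fun φ ψ => by
          apply pullback.hom_ext
          · simp only [pullback.map, Category.assoc, pullback.lift_fst, pullback.lift_fst_assoc, D.map_comp]
          · simp only [pullback.map, Category.assoc, pullback.lift_snd, Category.comp_id] }
    let β : D'' ⟶ D :=
      { app := fun i => pullback.fst _ _, naturality := fun i j φ => pullback.lift_fst _ _ _ }
    let c'' : Cocone D'' := Cocone.mk (pullback a a)
      { app := fun i => pullback.snd _ _
        naturality := fun i j φ => by
          simp only [D'', Functor.const_obj_map, Category.comp_id]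
          rw [pullback.lift_snd, Category.comp_id] }
    have hbe : Etale b.left := by
      have h₁ : Etale (pullback.fst a a).left :=
        MorphismProperty.of_isPullback (isPullback_left (IsPullback.of_hasPullback a a)).flip ha
      have := ha
      rw [Over.comp_left]
      infer_instance
    obtain ⟨hc''⟩ := h₃ D'' β c'' b hbe fun i => (IsPullback.of_hasPullback _ _).flip
    refine hom_ext_colimit hc'' F fun i => ?_
    have key : ∀ π : pullback a a ⟶ c'.pt, π ≫ a = b →
        (yon S).map (c''.ι.app i) ≫ (yon S).map π ≫ σ =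
          (yon S).map (pullback.fst (c.ι.app i) b) ≫ g i := by
      intro π hπ
      have w : (pullback.snd (c.ι.app i) b ≫ π) ≫ a = pullback.fst (c.ι.app i) b ≫ c.ι.app i := by
        rw [Category.assoc, hπ, pullback.condition]
      have l₁ := (hpb i).lift_fst _ _ w
      have l₂ := (hpb i).lift_snd _ _ w
      generalize (hpb i).lift _ _ w = l at l₁ l₂
      rw [← Category.assoc, ← Functor.map_comp]
      show (yon S).map (pullback.snd (c.ι.app i) b ≫ π) ≫ σ = _
      rw [← l₁, Functor.map_comp, Category.assoc, hσ, ← Category.assoc, ← Functor.map_comp]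
      exact congrArg (fun x => (yon S).map x ≫ g i) l₂
    exact (key _ rfl).trans (key _ pullback.condition.symm).symm
  have := ha
  obtain ⟨τ, hτ⟩ := Groth.AlgSp2.exists_desc_of_cover a σ agree
  refine ⟨τ, fun i => ?_⟩
  have := het i
  have : Surjective (α.app i).left := repWith_fst_of_isPullback (sq i) hps
  refine yon_cover_ext (α.app i) ?_
  rw [← Category.assoc, ← Functor.map_comp, ← (hpb i).w, Functor.map_comp, Category.assoc, hτ, hσ]

end

end Groth.AlgSpBasic.ColimitEtale
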