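import Groth.Agent.AlgSpBasic.LocP
import Groth.Agent.AlgSpBasic.Points
import Groth.Agent.AlgSp2.MonoPoint
import Groth.Prelude.Def_AlgSpDec
import Mathlib.AlgebraicGeometry.Sites.EtalePoint

/-!
# Field valued points of algebraic spaces
-/

set_option autoImplicit false
set_option backward.isDefEq.respectTransparency.types false
universe u

open CategoryTheory CategoryTheory.Limits AlgebraicGeometry Topology TopologicalSpace Opposite AlgSp

namespace Groth.AlgSpBasic

variable {S : Scheme.{u}}

theorem mono_snd_of_isPullback {F : Sp S} {U V W : Over S} {a : (yon S).obj U ⟶ F} [Mono a]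
    {b : (yon S).obj V ⟶ F} {fst : W ⟶ U} {snd : W ⟶ V}
    (sq : IsPullback ((yon S).map fst) ((yon S).map snd) a b) : Mono snd := by
  constructor
  intro Z g h e
  apply (yon S).map_injective
  apply sq.hom_ext
  · rw [← cancel_mono a]
    simp only [Category.assoc, sq.w]
    rw [← Category.assoc, ← Functor.map_comp, e, Functor.map_comp, Category.assoc]
  · rw [← Functor.map_comp, e, Functor.map_comp]

theorem existsUnique_factor_of_mono {X : Sp S} (hX : IsAlgSpace X) (p q : FieldPt X)
    (h : AlgSp.Points.mk p = AlgSp.Points.mk q) [Mono p.toHom] :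
    ∃! c : q.pt ⟶ p.pt, (yon S).map c ≫ p.toHom = q.toHom := by
  obtain ⟨W, fst, snd, sq⟩ := exists_pullback_of_diag hX.diag p.toHom q.toHom
  have := mono_snd_of_isPullback sq
  have : Mono snd.left := inferInstance
  obtain ⟨w, -⟩ := (ofPt_eq_ofPt_iff sq (IsLocalRing.closedPoint p.K)
    (IsLocalRing.closedPoint q.K)).mp (by rw [Points.ofPt_toHom, Points.ofPt_toHom]; exact h)
  have : Nonempty ↥W.left := ⟨w⟩
  have : IsIso snd.left := Groth.AlgSp2.isIso_of_mono_to_field snd.left
  have : IsIso snd := by have : IsIso ((Over.forget S).map snd) := this; exact isIso_of_reflects_iso snd (Over.forget S)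
  refine ⟨inv snd ≫ fst, ?_, fun c hc => ?_⟩
  · dsimp only
    rw [Functor.map_comp, Category.assoc, sq.w, ← Category.assoc, ← Functor.map_comp,
      IsIso.inv_hom_id, CategoryTheory.Functor.map_id, Category.id_comp]
  · apply (yon S).map_injective
    rw [← cancel_mono p.toHom, hc, Functor.map_comp, Category.assoc, sq.w, ← Category.assoc,
      ← Functor.map_comp, IsIso.inv_hom_id, CategoryTheory.Functor.map_id, Category.id_comp]

theorem exists_lift_geometric {U X : Sp S} (hU : IsAlgSpace U) (hX : IsAlgSpace X) {φ : U ⟶ X}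
    (hφ : IsEtaleMor φ) (xbar : FieldPt X) (hx : xbar.IsGeometric) (u : AlgSp.Points U)
    (hu : AlgSp.Points.map φ u = AlgSp.Points.mk xbar) :
    ∃ ubar : (yon S).obj xbar.pt ⟶ U,
      ubar ≫ φ = xbar.toHom ∧ AlgSp.Points.ofPt ubar (IsLocalRing.closedPoint xbar.K) = u := by
  obtain ⟨W, p, hp, hps⟩ := hU.atlas
  obtain ⟨w, rfl⟩ := surjective_ofPt_of_repWith hps u
  obtain ⟨E, fst, snd, sq⟩ := exists_pullback_of_diag hX.diag (p ≫ φ) xbar.toHom
  have : Etale snd.left := repWith_fst_of_isPullback sq (hφ p hp)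
  obtain ⟨e, he₁, -⟩ := (ofPt_eq_ofPt_iff sq w (IsLocalRing.closedPoint xbar.K)).mp (by
    rw [Points.ofPt_toHom, ← hu, Points.map_ofPt])
  have : IsAlgClosed xbar.K := hx
  obtain ⟨l, hl, hle⟩ := Scheme.exists_fac_of_etale_of_isSepClosed snd.left
    (𝟙 (Spec (.of xbar.K))) e (Subsingleton.elim (α := Spec (.of xbar.K)) _ _)
  let σ : xbar.pt ⟶ E := Over.homMk l (by
    change l ≫ E.hom = xbar.pt.hom
    rw [← Over.w snd, ← Category.assoc, hl]
    exact Category.id_comp _)
  have hσ : σ ≫ snd = 𝟙 _ := by ext1; exact hl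
  refine ⟨(yon S).map (σ ≫ fst) ≫ p, ?_, ?_⟩
  · rw [Category.assoc, Functor.map_comp, Category.assoc, sq.w, ← Category.assoc,
      ← Functor.map_comp, hσ, CategoryTheory.Functor.map_id, Category.id_comp]
  · rw [ofPt_comp_yon]
    congr 1
    rw [Over.comp_left, Scheme.Hom.comp_apply, ← he₁]
    congr 1
    rw [← hle]
    exact congrArg _ (Subsingleton.elim (α := Spec (.of xbar.K)) _ _)

end Groth.AlgSpBasic
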