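import Groth.Agent.AlgSpBasic.DenseScheme
import Groth.Agent.AlgSpBasic.Sep
import Groth.Agent.AlgSpBasic.Compact
import Groth.Agent.AlgSpBasic.FieldPoints
import Groth.Agent.AlgSpBasic.BddFibresCover

/-!
# Configurations of distinct lifts along an etale chart

For an affine etale chart `a : U ⟶ X` the scheme parametrising `n + 1` lifts along `a` which are
pairwise distinct at every point is constructed as a clopen piece of the iterated fibre product.
-/

set_option autoImplicit false
set_option backward.isDefEq.respectTransparency.types false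
universe u

open CategoryTheory CategoryTheory.Limits AlgebraicGeometry Topology TopologicalSpace Opposite AlgSp

namespace Groth.AlgSpBasic

noncomputable section

variable {S : Scheme.{u}}

/-- The spectrum of a field maps epimorphically. -/
theorem epi_fromSpec_field {K : Type u} [Field K] (p : ↥(Spec (CommRingCat.of K))) :
    Epi ((Spec (CommRingCat.of K)).fromSpecResidueField p) := by
  obtain ⟨φ, hφ⟩ := Spec.map_surjective ((Spec (CommRingCat.of K)).fromSpecResidueField p)
  rw [← hφ]
  algebraize [φ.hom]
  have : Flat (Spec.map φ) := (HasRingHomProperty.Spec_iff (P := @Flat)).2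
    (show RingHom.Flat φ.hom from Module.Flat.of_free)
  have : Surjective (Spec.map φ) :=
    ⟨fun y => ⟨IsLocalRing.closedPoint _, Subsingleton.elim (α := ↥(Spec (CommRingCat.of K))) _ _⟩⟩
  infer_instance

/-- Agreement of two maps at a point is read on the image point. -/
theorem comp_fromSpec_eq_iff {T T' Y : Scheme.{u}} (m : T' ⟶ T) (t : ↥T') (f g : T ⟶ Y) :
    T'.fromSpecResidueField t ≫ m ≫ f = T'.fromSpecResidueField t ≫ m ≫ g ↔
      T.fromSpecResidueField (m t) ≫ f = T.fromSpecResidueField (m t) ≫ g := by
  have e := Scheme.Hom.SpecMap_residueFieldMap_fromSpecResidueField m t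
  let φ := m.residueFieldMap t
  algebraize [φ.hom]
  have : Flat (Spec.map φ) := (HasRingHomProperty.Spec_iff (P := @Flat)).2
    (show RingHom.Flat φ.hom from Module.Flat.of_free)
  have : Surjective (Spec.map φ) := ⟨fun y => ⟨IsLocalRing.closedPoint (T'.residueField t),
    Subsingleton.elim (α := PrimeSpectrum (T.residueField (m t))) _ _⟩⟩
  rw [← reassoc_of% e, ← reassoc_of% e, cancel_epi]

/-- Morphisms which are pairwise distinct at every point. -/
def PtsInj {ι : Sort*} {T U : Over S} (f : ι → (T ⟶ U)) : Prop :=
  ∀ t : ↥T.left, Function.Injective fun i => T.left.fromSpecResidueField t ≫ (f i).left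

theorem PtsInj.comp {ι : Sort*} {T T' U : Over S} {f : ι → (T ⟶ U)} (h : PtsInj f) (m : T' ⟶ T) :
    PtsInj fun i => m ≫ f i := by
  intro t i j e
  apply h (m.left t)
  simp only [Over.comp_left] at e
  exact (comp_fromSpec_eq_iff m.left t (f i).left (f j).left).1 e

/-- The spectrum of a field over the base. -/
abbrev fieldOver {K : Type u} [Field K] (str : Spec (CommRingCat.of K) ⟶ S) : Over S := Over.mk str

theorem ptsInj_field_iff {ι : Sort*} {K : Type u} [Field K] {str : Spec (CommRingCat.of K) ⟶ S}
    {U : Over S} {f : ι → (fieldOver str ⟶ U)} : PtsInj f ↔ Function.Injective f := by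
  constructor
  · intro h i j e
    have h' := h (show ↥(fieldOver str).left from IsLocalRing.closedPoint K)
    exact h' (congrArg (fun k => _ ≫ CommaMorphism.left k) e)
  · intro h t i j e
    have := epi_fromSpec_field t
    exact h (Over.OverMorphism.ext ((cancel_epi ((Spec (.of K)).fromSpecResidueField t)).1 e))

variable {X : Sp S} {U : Over S} {a : (yon S).obj U ⟶ X}

/-- The locus where two lifts agree is open and closed. -/
theorem isClopen_agree (hX : IsAlgSpace X) [IsAffine U.left] (ha : RepWith @Etale a) {Q : Over S}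
    {f g : Q ⟶ U} (h : (yon S).map f ≫ a = (yon S).map g ≫ a) :
    IsClopen {z : ↥Q.left |
      Q.left.fromSpecResidueField z ≫ f.left = Q.left.fromSpecResidueField z ≫ g.left} := by
  obtain ⟨R, t, s, sq⟩ := exists_pullback_of_diag hX.diag a a
  have hinj := (isEqvRel_of_isPullback sq).injective
  obtain ⟨r, hr⟩ := (yon S).map_surjective (sq.lift _ _ h)
  have hrt : r ≫ t = f := (yon S).map_injective (by rw [Functor.map_comp, hr, sq.lift_fst])
  have hrs : r ≫ s = g := (yon S).map_injective (by rw [Functor.map_comp, hr, sq.lift_snd])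
  obtain ⟨δ, hδt, hδs⟩ := (isEqvRel_of_isPullback sq).equivalence U |>.refl (𝟙 U)
  have : IsSeparated s.left := isSeparated_kernelPair sq
  have : Etale s.left := repWith_fst_of_isPullback sq ha
  have hδ : δ.left ≫ s.left = 𝟙 U.left := by rw [← Over.comp_left, hδs]; rfl
  have hδt' : δ.left ≫ t.left = 𝟙 U.left := by rw [← Over.comp_left, hδt]; rfl
  have : IsIso (δ.left ≫ s.left) := by rw [hδ]; infer_instance
  have : IsClosedImmersion δ.left := IsClosedImmersion.of_comp δ.left s.left
  have : Etale δ.left := MorphismProperty.of_postcomp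
    (W' := @Etale) (W := @Etale) δ.left s.left inferInstance inferInstance
  have : IsOpenImmersion δ.left := IsOpenImmersion.of_flat_of_mono δ.left
  have key : {z : ↥Q.left | Q.left.fromSpecResidueField z ≫ f.left =
      Q.left.fromSpecResidueField z ≫ g.left} = r.left ⁻¹' Set.range δ.left := by
    ext z
    let x := Q.left.fromSpecResidueField z
    constructor
    · intro e
      have e' : x ≫ r.left = (x ≫ f.left) ≫ δ.left := by
        let Z : Over S := Over.mk (x ≫ Q.hom)
        let m : Z ⟶ Q := Over.homMk x rfl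
        have hm : m ≫ r = (m ≫ f) ≫ δ := by
          refine hinj Z (m ≫ r) ((m ≫ f) ≫ δ) ?_ ?_
          · simp only [Category.assoc, hrt, hδt, Category.comp_id]
          · simp only [Category.assoc, hrs, hδs, Category.comp_id]
            exact (Over.OverMorphism.ext (show (m ≫ f).left = (m ≫ g).left from e)).symm
        exact congrArg CommaMorphism.left hm
      refine ⟨(x ≫ f.left) (IsLocalRing.closedPoint _), ?_⟩
      rw [← Scheme.Hom.comp_apply, ← e', Scheme.Hom.comp_apply]
      exact congrArg r.left (Scheme.fromSpecResidueField_apply _ _)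
    · intro hz
      have hr' : Set.range (x ≫ r.left) ⊆ Set.range δ.left := by
        rintro _ ⟨w, rfl⟩
        rw [Scheme.Hom.comp_apply, Scheme.fromSpecResidueField_apply]
        exact hz
      have el := IsOpenImmersion.lift_fac δ.left (x ≫ r.left) hr'
      show x ≫ f.left = x ≫ g.left
      rw [← hrt, ← hrs, Over.comp_left, Over.comp_left, ← Category.assoc, ← Category.assoc, ← el,
        Category.assoc, Category.assoc, hδ, hδt']
  rw [key]
  exact (δ.left.isClosedEmbedding.isClosed_range.preimage r.left.continuous) |> fun hc =>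
    ⟨hc, δ.left.isOpenEmbedding.isOpen_range.preimage r.left.continuous⟩

/-- An iterated fibre product of a chart. -/
structure TupleSpace (a : (yon S).obj U ⟶ X) (n : ℕ) where
  Q : Over S
  q : (yon S).obj Q ⟶ X
  e : Fin (n + 1) → (Q ⟶ U)
  comm : ∀ i, (yon S).map (e i) ≫ a = q
  exists_lift : ∀ {T : Over S} (f : Fin (n + 1) → (T ⟶ U)) (g : (yon S).obj T ⟶ X),
    (∀ i, (yon S).map (f i) ≫ a = g) → ∃ m : T ⟶ Q, ∀ i, m ≫ e i = f i
  hom_ext : ∀ {T : Over S} (m m' : T ⟶ Q), (∀ i, m ≫ e i = m' ≫ e i) → m = m'
  etale : RepWith @Etale q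
  etale_zero : Etale (e 0).left
  sep : Q.left.IsSeparated
  compact : RepWith @QuasiCompact a → CompactSpace ↥Q.left

theorem exists_tupleSpace (hX : IsAlgSpace X) [IsAffine U.left] (ha : RepWith @Etale a) (n : ℕ) :
    Nonempty (TupleSpace a n) := by
  induction n with
  | zero =>
    refine ⟨⟨U, a, fun _ => 𝟙 U, fun _ => by simp, ?_, ?_, ha, inferInstanceAs (Etale (𝟙 U.left)),
      inferInstance, fun _ => inferInstance⟩⟩
    · intro T f g _
      exact ⟨f 0, fun i => by rw [Category.comp_id, Fin.fin_one_eq_zero i]⟩
    · intro T m m' h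
      simpa using h 0
  | succ n ih =>
    obtain ⟨P⟩ := ih
    obtain ⟨Q, w₁, w₂, sq⟩ := exists_pullback_of_diag hX.diag P.q a
    have hw₂ : Etale w₂.left := repWith_fst_of_isPullback sq P.etale
    have : IsSeparated w₁.left :=
      repWith_fst_of_isPullback sq.flip (repWith_isSeparated_of_isSeparated hX a)
    have := P.sep
    refine ⟨⟨Q, (yon S).map w₂ ≫ a, Fin.cons w₂ fun i => w₁ ≫ P.e i, ?_, ?_, ?_, ?_, hw₂, ?_, ?_⟩⟩
    · intro i
      induction i using Fin.cases with
      | zero => simp
      | succ i => rw [Fin.cons_succ, Functor.map_comp, Category.assoc, P.comm, sq.w]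
    · intro T f g hf
      obtain ⟨m, hm⟩ := P.exists_lift (fun i => f i.succ) g (fun i => hf i.succ)
      obtain ⟨l, hl⟩ := (yon S).map_surjective (sq.lift ((yon S).map m) ((yon S).map (f 0)) (by
        rw [← P.comm 0, ← Category.assoc, ← Functor.map_comp, hm]
        exact (hf (Fin.succ 0)).trans (hf 0).symm))
      have h₁ : l ≫ w₁ = m := (yon S).map_injective (by rw [Functor.map_comp, hl, sq.lift_fst])
      have h₂ : l ≫ w₂ = f 0 := (yon S).map_injective (by rw [Functor.map_comp, hl, sq.lift_snd])
      refine ⟨l, fun i => ?_⟩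
      induction i using Fin.cases with
      | zero => rw [Fin.cons_zero, h₂]
      | succ i => rw [Fin.cons_succ, ← Category.assoc, h₁, hm]
    · intro T m m' h
      apply (yon S).map_injective
      apply sq.hom_ext
      · rw [← Functor.map_comp, ← Functor.map_comp, P.hom_ext (m ≫ w₁) (m' ≫ w₁) fun i => by
          have := h i.succ; rwa [Fin.cons_succ, ← Category.assoc, ← Category.assoc] at this]
      · rw [← Functor.map_comp, ← Functor.map_comp]
        have := h 0
        rw [Fin.cons_zero] at this
        rw [this]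
    · exact repWith_comp ((repWith_yon_map_iff _ w₂).2 hw₂) ha
    · constructor
      rw [← terminal.comp_from w₁.left]
      infer_instance
    · intro hqc
      have : CompactSpace ↥P.Q.left := P.compact hqc
      have : QuasiCompact w₁.left := repWith_fst_of_isPullback sq.flip hqc
      exact QuasiCompact.compactSpace_of_compactSpace w₁.left

/-- The space of lifts which are distinct at every point. -/
structure DistinctSpace (a : (yon S).obj U ⟶ X) (n : ℕ) where
  W : Over S
  c : (yon S).obj W ⟶ X
  e : Fin (n + 1) → (W ⟶ U)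
  comm : ∀ i, (yon S).map (e i) ≫ a = c
  inj : PtsInj e
  exists_lift : ∀ {T : Over S} (f : Fin (n + 1) → (T ⟶ U)) (g : (yon S).obj T ⟶ X),
    (∀ i, (yon S).map (f i) ≫ a = g) → PtsInj f → ∃ m : T ⟶ W, ∀ i, m ≫ e i = f i
  hom_ext : ∀ {T : Over S} (m m' : T ⟶ W), (∀ i, m ≫ e i = m' ≫ e i) → m = m'
  etale : RepWith @Etale c
  etale_zero : Etale (e 0).left
  sep : W.left.IsSeparated
  compact : RepWith @QuasiCompact a → CompactSpace ↥W.left

theorem exists_distinctSpace (hX : IsAlgSpace X) [IsAffine U.left] (ha : RepWith @Etale a) (n : ℕ) :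
    Nonempty (DistinctSpace a n) := by
  obtain ⟨P⟩ := exists_tupleSpace hX ha n
  let D : Set ↥P.Q.left := ⋂ (i : Fin (n + 1)) (j : Fin (n + 1)) (_ : i ≠ j),
    {z | P.Q.left.fromSpecResidueField z ≫ (P.e i).left =
      P.Q.left.fromSpecResidueField z ≫ (P.e j).left}ᶜ
  have hD : IsClopen D := isClopen_iInter_of_finite fun i => isClopen_iInter_of_finite fun j =>
    isClopen_iInter_of_finite fun _ =>
      (isClopen_agree hX ha ((P.comm i).trans (P.comm j).symm)).compl
  have hmem : ∀ z, z ∈ D ↔ Function.Injective fun i =>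
      P.Q.left.fromSpecResidueField z ≫ (P.e i).left := by
    intro z
    simp only [D, Set.mem_iInter, Set.mem_compl_iff, Set.mem_setOf_eq]
    exact ⟨fun h i j e => by_contra fun hne => h i j hne e, fun h i j hne e => hne (h e)⟩
  let O : P.Q.left.Opens := ⟨D, hD.isOpen⟩
  let W : Over S := Over.mk (O.ι ≫ P.Q.hom)
  let j : W ⟶ P.Q := Over.homMk O.ι rfl
  have : IsOpenImmersion j.left := inferInstanceAs (IsOpenImmersion O.ι)
  have hj : RepWith @Etale ((yon S).map j) := (repWith_yon_map_iff _ j).2 inferInstance
  have := P.etale_zero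
  have := P.sep
  refine ⟨⟨W, (yon S).map j ≫ P.q, fun i => j ≫ P.e i, fun i => ?_, ?_, ?_, ?_,
    repWith_comp hj P.etale, ?_, ?_, ?_⟩⟩
  · rw [Functor.map_comp, Category.assoc, P.comm]
  · intro t i k e
    have h := (hmem (j.left t)).1 t.2
    apply h
    simp only [Over.comp_left] at e
    exact (comp_fromSpec_eq_iff j.left t (P.e i).left (P.e k).left).1 e
  · intro T f g hf hinj
    obtain ⟨m, hm⟩ := P.exists_lift f g hf
    have hr : Set.range m.left ⊆ Set.range j.left := by
      rintro _ ⟨t, rfl⟩
      refine (Scheme.Opens.range_ι O).ge ((hmem _).2 fun i k e => hinj t ?_)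
      dsimp only
      rw [← hm i, ← hm k, Over.comp_left, Over.comp_left]
      exact (comp_fromSpec_eq_iff m.left t (P.e i).left (P.e k).left).2 e
    let l : T ⟶ W := Over.homMk (IsOpenImmersion.lift j.left m.left hr) (by
      show _ ≫ O.ι ≫ P.Q.hom = _
      rw [← Category.assoc, show IsOpenImmersion.lift j.left m.left hr ≫ O.ι = m.left from
        IsOpenImmersion.lift_fac _ _ _, Over.w m])
    have hl : l ≫ j = m := Over.OverMorphism.ext (IsOpenImmersion.lift_fac _ _ _)
    exact ⟨l, fun i => by rw [← Category.assoc, hl, hm]⟩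
  · intro T m m' h
    have := P.hom_ext (m ≫ j) (m' ≫ j) fun i => by rw [Category.assoc, Category.assoc, h i]
    exact Over.OverMorphism.ext ((cancel_mono j.left).1 (congrArg CommaMorphism.left this))
  · rw [Over.comp_left]; infer_instance
  · constructor
    rw [← terminal.comp_from j.left]
    infer_instance
  · intro hqc
    have := P.compact hqc
    exact isCompact_iff_compactSpace.1 hD.isClosed.isCompact

end

end Groth.AlgSpBasic
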