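import Groth.Agent.AlgSpBasic.DecentNbhdCofiltered
import Groth.Agent.AlgSpBasic.DecentClosedPoints
import Groth.Agent.Hensel1.BranchNbhd
import Groth.Agent.Hensel1.EtaleStalk

/-!
# Branches at a point of a decent space, through elementary neighbourhoods
-/

set_option autoImplicit false
set_option backward.isDefEq.respectTransparency.types false
universe u

open CategoryTheory CategoryTheory.Limits AlgebraicGeometry Topology Opposite AlgSp

namespace Groth.AlgSpBasic

open Groth.Hensel1

noncomputable section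

variable {S : Scheme.{u}} {X : Sp S} {x : AlgSp.Points X}

/-- The point of `U'` over a point of `U` factors through the latter. -/
theorem exists_toHom_ofPt_comp {U U' : Over S} (g : U' ⟶ U) (a : (yon S).obj U ⟶ X) (u' : ↥U'.left) :
    ∃ φ : (FieldPt.ofPt ((yon S).map g ≫ a) u').pt ⟶ (FieldPt.ofPt a (g.left u')).pt,
      φ.left = Spec.map (g.left.residueFieldMap u') ∧
        (FieldPt.ofPt ((yon S).map g ≫ a) u').toHom =
          (yon S).map φ ≫ (FieldPt.ofPt a (g.left u')).toHom := by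
  refine ⟨Over.homMk (Spec.map (g.left.residueFieldMap u')) ?_, rfl, ?_⟩
  · show Spec.map (g.left.residueFieldMap u') ≫ U.left.fromSpecResidueField (g.left u') ≫ U.hom =
      U'.left.fromSpecResidueField u' ≫ U'.hom
    rw [Scheme.Hom.SpecMap_residueFieldMap_fromSpecResidueField_assoc, Over.w g]
  · refine (FieldPt.toHom_ofPt _ _).trans ?_
    refine Eq.trans ?_ (congrArg (_ ≫ ·) (FieldPt.toHom_ofPt a (g.left u')).symm)
    rw [← Category.assoc, ← Category.assoc, ← Functor.map_comp, ← Functor.map_comp]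
    congr 2
    exact Over.OverMorphism.ext
      (Scheme.Hom.SpecMap_residueFieldMap_fromSpecResidueField g.left u').symm

/-- An etale neighbourhood of an elementary neighbourhood is elementary. -/
theorem isElemEtaleNbhd_comp {U : Over S} {a : (yon S).obj U ⟶ X} {u : ↥U.left}
    (h : IsElemEtaleNbhd a u x) {U' : Over S} (g : U' ⟶ U) (u' : ↥U'.left)
    (hg : Hens2.IsEtaleNbhd g.left u' u) :
    IsElemEtaleNbhd ((yon S).map g ≫ a) u' x := by
  obtain rfl := hg.base_eq
  refine ⟨repWith_comp ((repWith_yon_map_iff _ g).2 hg.etale) h.etale, ?_, ?_⟩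
  · rw [ofPt_comp_yon]; exact h.ofPt_eq
  · obtain ⟨φ, hφ, e⟩ := exists_toHom_ofPt_comp g a u'
    have : IsIso (g.left.residueFieldMap u') :=
      (ConcreteCategory.isIso_iff_bijective _).2 hg.residue_bijective
    have : IsIso φ.left := by
      rw [hφ]
      exact isIso_SpecMap_iff.2 hg.residue_bijective
    have : IsIso φ := (isIso_iff_of_reflects_iso φ (Over.forget S)).1 ‹IsIso φ.left›
    rw [e]
    exact mono_comp' inferInstance h.mono

/-- Maps between elementary neighbourhoods are etale neighbourhoods of schemes. -/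
theorem isEtaleNbhd_of_isElemEtaleNbhd {U U' : Over S} {a : (yon S).obj U ⟶ X}
    {g : U' ⟶ U} {u' : ↥U'.left} (h : IsElemEtaleNbhd a (g.left u') x)
    (h' : IsElemEtaleNbhd ((yon S).map g ≫ a) u' x) :
    Hens2.IsEtaleNbhd g.left u' (g.left u') := by
  refine ⟨etale_of_repWith_comp g h.etale h'.etale, rfl, ?_⟩
  obtain ⟨φ, hφ, e⟩ := exists_toHom_ofPt_comp g a u'
  have : Mono ((yon S).map φ ≫ (FieldPt.ofPt a (g.left u')).toHom) := e ▸ h'.mono
  have : Mono ((yon S).map φ) := mono_of_mono _ (FieldPt.ofPt a (g.left u')).toHom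
  have : Mono φ := (yon S).mono_of_mono_map this
  have : Mono (Spec.map (g.left.residueFieldMap u')) := hφ ▸ Over.mono_left_of_mono φ
  have : IsIso (Spec.map (g.left.residueFieldMap u')) :=
    Groth.AlgSp2.isIso_of_mono_to_field (K := U.left.residueField (g.left u')) _
  exact isIso_SpecMap_iff.1 this

/-- A henselization of a neighbourhood is one of the neighbourhood below. -/
theorem isHenselization_stalk_comp {U U' : Scheme.{u}} (g : U' ⟶ U) (u' : U')
    (hg : Hens2.IsEtaleNbhd g u' (g u')) (R : Type u) [CommRing R] [IsLocalRing R]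
    [Algebra (U'.presheaf.stalk u') R] [IsLocalHom (algebraMap (U'.presheaf.stalk u') R)]
    [Hensel.IsHenselization (U'.presheaf.stalk u') R] :
    letI : Algebra (U.presheaf.stalk (g u')) R :=
      ((algebraMap (U'.presheaf.stalk u') R).comp (g.stalkMap u').hom).toAlgebra
    ∃ (_ : IsLocalHom (algebraMap (U.presheaf.stalk (g u')) R)),
      Hensel.IsHenselization (U.presheaf.stalk (g u')) R := by
  have := hg.etale
  let _ : Algebra (U.presheaf.stalk (g u')) (U'.presheaf.stalk u') := (g.stalkMap u').hom.toAlgebra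
  let _ : Algebra (U.presheaf.stalk (g u')) R :=
    ((algebraMap (U'.presheaf.stalk u') R).comp (g.stalkMap u').hom).toAlgebra
  have : IsScalarTower (U.presheaf.stalk (g u')) (U'.presheaf.stalk u') R :=
    .of_algebraMap_eq fun _ => rfl
  have : IsLocalHom (algebraMap (U.presheaf.stalk (g u')) (U'.presheaf.stalk u')) :=
    inferInstanceAs (IsLocalHom (g.stalkMap u').hom)
  have hl : IsLocalHom (algebraMap (U.presheaf.stalk (g u')) R) :=
    inferInstanceAs (IsLocalHom ((algebraMap (U'.presheaf.stalk u') R).comp (g.stalkMap u').hom))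
  exact ⟨hl, isHenselization_of_essentiallyEtale (isEssentiallyEtale_stalkMap_of_etale g u')
    hg.residue_bijective.2 R⟩

/-- A map of schemes which is an etale neighbourhood keeps the number of branches. -/
theorem numBranchesAt_eq_of_isEtaleNbhd {U U' : Scheme.{u}} (g : U' ⟶ U) (u' : U') (u : U)
    (hg : Hens2.IsEtaleNbhd g u' u) : Brnch.numBranchesAt U' u' = Brnch.numBranchesAt U u := by
  obtain rfl := hg.base_eq
  have := hg.etale
  let _ := (g.stalkMap u').hom.toAlgebra
  have : IsLocalHom (algebraMap (U.presheaf.stalk (g u')) (U'.presheaf.stalk u')) :=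
    inferInstanceAs (IsLocalHom (g.stalkMap u').hom)
  exact numBranches_eq_of_essentiallyEtale (isEssentiallyEtale_stalkMap_of_etale g u')
    hg.residue_bijective.2

theorem encard_minimalPrimes_stalk (U : Scheme.{u}) (u : U) :
    (minimalPrimes (U.presheaf.stalk u)).encard =
      {Z : Set ↑U | Z ∈ irreducibleComponents ↑U ∧ u ∈ Z}.encard :=
  (encard_components_eq_card_minimalPrimes u).symm

theorem hasUniqueMinimalPrime_iff_encard (A : Type u) [CommRing A] :
    CAlgX.HasUniqueMinimalPrime A ↔ (minimalPrimes A).encard = 1 := by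
  rw [Set.encard_eq_one]
  exact ⟨fun ⟨p, hp, hu⟩ => ⟨p, Set.eq_singleton_iff_unique_mem.2 ⟨hp, hu⟩⟩,
    fun ⟨p, hp⟩ => ⟨p, (Set.eq_singleton_iff_unique_mem.1 hp).1, (Set.eq_singleton_iff_unique_mem.1 hp).2⟩⟩

section Decent

variable (hX : IsAlgSpace X) {U₀ : Over S} {a₀ : (yon S).obj U₀ ⟶ X} {u₀ : ↥U₀.left}
  (h₀ : IsElemEtaleNbhd a₀ u₀ x) (R : Type u) [CommRing R] [IsLocalRing R]
  [Algebra ↥(U₀.left.presheaf.stalk u₀) R]
  [IsLocalHom (algebraMap ↥(U₀.left.presheaf.stalk u₀) R)]
  [Hensel.IsHenselization ↥(U₀.left.presheaf.stalk u₀) R]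

include hX h₀

theorem numBranchesAt_eq_encard {U : Over S} {a : (yon S).obj U ⟶ X} {u : ↥U.left}
    (h : IsElemEtaleNbhd a u x) : Brnch.numBranchesAt U.left u = (minimalPrimes R).encard := by
  obtain ⟨W, b, v, g₁, g₂, hb, rfl, hg, rfl, rfl⟩ := exists_common_elementary hX h h₀
  rw [← numBranchesAt_eq_of_isEtaleNbhd g₁.left v _ (isEtaleNbhd_of_isElemEtaleNbhd h hb),
    numBranchesAt_eq_of_isEtaleNbhd g₂.left v _
      (isEtaleNbhd_of_isElemEtaleNbhd h₀ (hg ▸ hb))]
  exact (card_minimalPrimes_henselization_eq_numBranches _ R).symm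

theorem encard_components_le {U : Over S} {a : (yon S).obj U ⟶ X} {u : ↥U.left}
    (h : IsElemEtaleNbhd a u x) :
    {Z : Set ↥U.left | Z ∈ irreducibleComponents ↥U.left ∧ u ∈ Z}.encard ≤
      (minimalPrimes R).encard := by
  rw [← numBranchesAt_eq_encard hX h₀ R h, ← encard_minimalPrimes_stalk]
  exact card_minimalPrimes_le_numBranches _

theorem encard_le_of_components_le {n : ℕ∞}
    (hn : ∀ (U : Over S) (a : (yon S).obj U ⟶ X) (u : ↥U.left), IsElemEtaleNbhd a u x →
      {Z : Set ↥U.left | Z ∈ irreducibleComponents ↥U.left ∧ u ∈ Z}.encard ≤ n) :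
    (minimalPrimes R).encard ≤ n := by
  rw [← numBranchesAt_eq_encard hX h₀ R h₀, numBranchesAt_eq_iSup]
  refine iSup_le fun V => iSup_le fun g => iSup_le fun v => iSup_le fun hv => ?_
  exact hn (Over.mk (g ≫ U₀.hom)) _ v
    (isElemEtaleNbhd_comp h₀ (Over.homMk g rfl : Over.mk (g ≫ U₀.hom) ⟶ U₀) v hv)

theorem components_eq_one_iff :
    (∀ (U : Over S) (a : (yon S).obj U ⟶ X) (u : ↥U.left), IsElemEtaleNbhd a u x →
      {Z : Set ↥U.left | Z ∈ irreducibleComponents ↥U.left ∧ u ∈ Z}.encard = 1) ↔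
      (minimalPrimes R).encard = 1 := by
  refine ⟨fun h => le_antisymm (encard_le_of_components_le hX h₀ R fun U a u hu => (h U a u hu).le)
    ((h _ _ _ h₀).ge.trans (encard_components_le hX h₀ R h₀)),
    fun h U a u hu => le_antisymm (h ▸ encard_components_le hX h₀ R hu) (one_le_encard_components u)⟩

theorem unibranch_iff :
    (∀ (U : Over S) (a : (yon S).obj U ⟶ X) (u : ↥U.left), IsElemEtaleNbhd a u x →
      CAlg2.IsUnibranch ↥(U.left.presheaf.stalk u)) ↔ (minimalPrimes R).encard = 1 := by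
  refine ⟨fun h => ?_, fun h U a u hu => ?_⟩
  · rw [← numBranchesAt_eq_encard hX h₀ R h₀]
    exact (numBranches_eq_one_iff _).2 (h _ _ _ h₀)
  · rw [← numBranchesAt_eq_encard hX h₀ R hu] at h
    exact (numBranches_eq_one_iff _).1 h

theorem components_le_and_attained_iff {n : ℕ} (hn : 1 ≤ n) :
    ((∀ (U : Over S) (a : (yon S).obj U ⟶ X) (u : ↥U.left), IsElemEtaleNbhd a u x →
        {Z : Set ↥U.left | Z ∈ irreducibleComponents ↥U.left ∧ u ∈ Z}.encard ≤ n) ∧
      (∃ (U : Over S) (a : (yon S).obj U ⟶ X) (u : ↥U.left), IsElemEtaleNbhd a u x ∧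
        {Z : Set ↥U.left | Z ∈ irreducibleComponents ↥U.left ∧ u ∈ Z}.encard = n)) ↔
      (minimalPrimes R).encard = n := by
  refine ⟨fun ⟨h₁, U, a, u, hu, h₂⟩ => le_antisymm (encard_le_of_components_le hX h₀ R h₁)
    (h₂ ▸ encard_components_le hX h₀ R hu), fun h => ⟨fun U a u hu => h ▸ encard_components_le hX h₀ R hu, ?_⟩⟩
  by_contra hne
  obtain ⟨m, rfl⟩ := Nat.exists_eq_add_of_le' hn
  have hle : (minimalPrimes R).encard ≤ m := encard_le_of_components_le hX h₀ R fun U a u hu => by
    have h₁ := h ▸ encard_components_le hX h₀ R hu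
    have h₂ : _ ≠ ((m + 1 : ℕ) : ℕ∞) := fun e => hne ⟨U, a, u, hu, e⟩
    exact Order.le_of_lt_add_one (by exact_mod_cast lt_of_le_of_ne h₁ h₂)
  rw [h] at hle
  exact absurd (ENat.natCast_le_natCast.1 hle) (by omega)

theorem numBranchesAt_le_and_attained_iff (n : ℕ) :
    ((∀ (U : Over S) (a : (yon S).obj U ⟶ X) (u : ↥U.left), IsElemEtaleNbhd a u x →
        Brnch.numBranchesAt U.left u ≤ n) ∧
      (∃ (U : Over S) (a : (yon S).obj U ⟶ X) (u : ↥U.left), IsElemEtaleNbhd a u x ∧
        Brnch.numBranchesAt U.left u = n)) ↔ (minimalPrimes R).encard = n := by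
  refine ⟨fun ⟨_, U, a, u, hu, h⟩ => (numBranchesAt_eq_encard hX h₀ R hu) ▸ h,
    fun h => ⟨fun U a u hu => ((numBranchesAt_eq_encard hX h₀ R hu).trans h).le,
      _, _, _, h₀, (numBranchesAt_eq_encard hX h₀ R h₀).trans h⟩⟩

end Decent

end

end Groth.AlgSpBasic
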