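import Groth.Agent.AlgSpBasic.DecentDim
import Groth.Agent.AlgSp3.HasAtMor
import Groth.Agent.AlgSp3.FibreInv
import Groth.Agent.FibreDim.LowerSemicont
import Groth.Agent.Cycles.DimFunLft
import Groth.Agent.PropsBasic.Catenary
import Groth.Agent.S12447
import Groth.Agent.S12459
import Groth.Agent.S9126
import Groth.Prelude.Def_W4stk3decentspacesp2Birat

/-!
# Decent spaces locally of finite type over a universally catenary scheme are catenary
-/

set_option autoImplicit false
set_option backward.isDefEq.respectTransparency.types false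
universe u

open CategoryTheory CategoryTheory.Limits AlgebraicGeometry Opposite TopologicalSpace AlgSp

namespace Groth.AlgSpBasic.DecentCatenary

variable {S : Scheme.{u}}

theorem isUniversallyCatenary_opens (hS : ∀ s : S, CAlg.IsUniversallyCatenary (S.presheaf.stalk s))
    (V : S.Opens) (v : V) : CAlg.IsUniversallyCatenary ((V : Scheme.{u}).presheaf.stalk v) := by
  letI := (V.ι.stalkMap v).hom.toAlgebra
  haveI : Algebra.FiniteType (S.presheaf.stalk (V.ι v)) ((V : Scheme.{u}).presheaf.stalk v) :=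
    RingHom.finiteType_algebraMap.mp
      (RingHom.FiniteType.of_surjective _ (V.ι.stalkMap_surjective v))
  exact Groth.Agent.S9126.result (S.presheaf.stalk (V.ι v)) _ (hS _)

variable {X : Sp S} (p : X ⟶ (yon S).obj (Over.mk (𝟙 S)))

/-- The image in the base of a point of a space. -/
noncomputable def basePt (x : AlgSp.Points X) : S :=
  AlgSp.Points.toScheme (Over.mk (𝟙 S)) (AlgSp.Points.map p x)

theorem continuous_basePt : Continuous (basePt p) :=
  (AlgSp.Points.schemeHomeo (Over.mk (𝟙 S))).symm.continuous.comp (AlgSp.Points.continuous_map p)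

theorem basePt_ofPt {U : Over S} (a : (yon S).obj U ⟶ X) (u : ↥U.left) :
    basePt p (AlgSp.Points.ofPt a u) = U.hom u := by
  obtain ⟨ω, hω⟩ := (yon S).map_surjective (a ≫ p)
  show AlgSp.Points.toScheme (Over.mk (𝟙 S)) _ = _
  rw [AlgSp.Points.map_ofPt, ← hω, AlgSp.Points.toScheme_ofPt,
    show ω.left = U.hom from (Category.comp_id ω.left).symm.trans (Over.w ω)]

/-- A space locally of finite type over a universally catenary base has local dimension functions. -/
theorem exists_dimensionFunction (hXa : IsAlgSpace X) (hd : IsDecent X) [IsLocallyNoetherian S]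
    (hS : ∀ s : S, CAlg.IsUniversallyCatenary (S.presheaf.stalk s))
    (hp : LocP @LocallyOfFiniteType p) (V : S.Opens) (δ : V → ℤ) (hδ : PtTop.IsDimensionFunction δ) :
    ∃ δW : (basePt p ⁻¹' (V : Set S) : Set (AlgSp.Points X)) → ℤ, PtTop.IsDimensionFunction δW := by
  classical
  obtain ⟨U, a, ha, has⟩ := hXa.atlas
  obtain ⟨ω, hω⟩ := (yon S).map_surjective (a ≫ p)
  have hωl : ω.left = U.hom := (Category.comp_id ω.left).symm.trans (Over.w ω)
  have hωe : a ≫ p = (yon S).map ω ≫ 𝟙 _ := by rw [Category.comp_id, hω]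
  haveI : LocallyOfFiniteType U.hom := hωl ▸ hp a (𝟙 _) ω ha (repWith_isIso _) hωe
  have hfin : ∀ u : ↥U.left, ∃ n : ℕ, Dual3.resTrdeg U.hom u = (n : Cardinal.{u}) := fun u =>
    (Groth.FibreDim.exists_relTrdeg_eq_height U.hom u).imp fun n h => h.1
  choose n hn using hfin
  have hinv : ∀ u u' : ↥U.left, AlgSp.Points.ofPt a u = AlgSp.Points.ofPt a u' → n u = n u' := by
    intro u u' e
    have h1 : ∀ v : ↥U.left, HasAtMor (fun _ _ h w => Dual3.resTrdeg h w = (n v : Cardinal.{u})) p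
        (AlgSp.Points.ofPt a v) :=
      fun v => ⟨U, Over.mk (𝟙 S), a, 𝟙 _, ω, v, ha, repWith_isIso _, hωe, rfl, hωl.symm ▸ hn v⟩
    exact Nat.cast_injective (R := Cardinal.{u})
      (Groth.AlgSp3.eq_of_hasAtMor Groth.AlgSp3.etMor_resTrdeg hXa (IsAlgSpace.yon_obj _) (h1 u) (e ▸ h1 u'))
  choose sec hsec using surjective_ofPt_of_repWith has
  let δW : (basePt p ⁻¹' (V : Set S) : Set (AlgSp.Points X)) → ℤ :=
    fun x => δ ⟨basePt p x.1, x.2⟩ + n (sec x.1)
  let UV : U.left.Opens := U.hom ⁻¹ᵁ V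
  let δU : UV → ℤ := fun u => δ ⟨U.hom u.1, u.2⟩ + n u.1
  have hcompat : Cyc.DeltaCompat (U.hom ∣_ V) δU δ := by
    intro u
    refine ⟨n u.1, ?_, ?_⟩
    · show Dual3.resTrdeg (U.hom ∣_ V) u = _
      rw [← Groth.AlgSp3.resTrdeg_comp_etale (U.hom ∣_ V) V.ι u, morphismRestrict_ι,
        Groth.AlgSp3.resTrdeg_etale_comp]
      exact hn u.1
    · show δ ⟨U.hom u.1, u.2⟩ + (n u.1 : ℤ) = _
      congr 2
      refine Subtype.ext ?_
      exact (congrArg (fun g : (UV : Scheme.{u}) ⟶ S => g u) (morphismRestrict_ι U.hom V)).symm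
  have hsetup : Cyc.IsSetup (V : Scheme.{u}) δ :=
    ⟨inferInstance, isUniversallyCatenary_opens hS V, fun x y hxy hne =>
      ⟨hδ.1 x y hxy hne, fun h => hδ.2 x y ⟨hxy, hne, h⟩⟩⟩
  have hdU := Groth.Cycles.isDimFun_of_deltaCompat (U.hom ∣_ V) hsetup hcompat
  have hmem : ∀ u : UV, AlgSp.Points.ofPt a u.1 ∈ basePt p ⁻¹' (V : Set S) := fun u => by
    show basePt p (AlgSp.Points.ofPt a u.1) ∈ (V : Set S)
    rw [basePt_ofPt]
    exact u.2
  let g : UV → (basePt p ⁻¹' (V : Set S) : Set (AlgSp.Points X)) := fun u => ⟨_, hmem u⟩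
  have hg : ∀ u, δW (g u) = δU u := fun u => by
    have h1 : n (sec (AlgSp.Points.ofPt a u.1)) = n u.1 := hinv _ _ (hsec _)
    have h2 : (⟨basePt p (g u).1, (g u).2⟩ : V) = ⟨U.hom u.1, u.2⟩ := Subtype.ext (basePt_ofPt p a u.1)
    show δ ⟨basePt p (g u).1, (g u).2⟩ + (n (sec (AlgSp.Points.ofPt a u.1)) : ℤ) =
      δ ⟨U.hom u.1, u.2⟩ + (n u.1 : ℤ)
    rw [h2, h1]
  refine ⟨δW, ?_⟩
  have main : ∀ x y : (basePt p ⁻¹' (V : Set S) : Set (AlgSp.Points X)), x ⤳ y → x ≠ y →
      δW y < δW x ∧ ((∀ z, x ⤳ z → z ⤳ y → z = x ∨ z = y) → δW x = δW y + 1) := by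
    intro x y hxy hne
    obtain ⟨u, hu⟩ := surjective_ofPt_of_repWith has y.1
    obtain ⟨u', hu', hux⟩ := exists_specializes_of_finiteAt (finiteAt_of_isDecent hd x.1) ha
      (u := u) (hu.symm ▸ hxy.map continuous_subtype_val)
    have huV : u ∈ UV := by
      show U.hom u ∈ V
      rw [← basePt_ofPt p a u, hu]
      exact y.2
    have huV' : u' ∈ UV := hu'.mem_open UV.isOpen huV
    obtain rfl : g ⟨u, huV⟩ = y := Subtype.ext hu
    obtain rfl : g ⟨u', huV'⟩ = x := Subtype.ext hux
    obtain ⟨h1, h2⟩ := hdU ⟨u', huV'⟩ ⟨u, huV⟩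
      (Topology.IsInducing.subtypeVal.specializes_iff.1 hu') fun e => hne (congrArg g e)
    rw [hg, hg]
    refine ⟨h1, fun h => h2 fun w hw hw' => ?_⟩
    have hw₁ : u' ⤳ w.1 := hw.map continuous_subtype_val
    have hw₂ : w.1 ⤳ u := hw'.map continuous_subtype_val
    rcases h (g w) (Topology.IsInducing.subtypeVal.specializes_iff.1 (hw₁.map (AlgSp.Points.continuous_ofPt a)))
      (Topology.IsInducing.subtypeVal.specializes_iff.1 (hw₂.map (AlgSp.Points.continuous_ofPt a))) with e | e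
    · exact Or.inl (Subtype.ext (eq_of_specializes_of_finiteAt hXa (finiteAt_of_isDecent hd _) ha
        (congrArg Subtype.val e) rfl hw₁))
    · exact Or.inr (Subtype.ext (eq_of_specializes_of_finiteAt hXa (finiteAt_of_isDecent hd _) ha
        rfl (congrArg Subtype.val e) hw₂).symm)
  exact ⟨fun x y h hne => (main x y h hne).1, fun x y h => (main x y h.1 h.2.1).2 h.2.2⟩

/-- A decent space locally of finite type over a universally catenary scheme is catenary. -/
theorem isCatenarySpace_points (hXa : IsAlgSpace X) (hd : IsDecent X) [IsLocallyNoetherian S]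
    (hS : ∀ s : S, CAlg.IsUniversallyCatenary (S.presheaf.stalk s))
    (hp : LocP @LocallyOfFiniteType p) : PtTop.IsCatenarySpace (AlgSp.Points X) := by
  haveI := t0Space_of_isDecent hXa hd
  haveI := quasiSober_of_isDecent hXa hd
  refine Groth.SitesTopoi.isCatenarySpace_iff_local.1.mpr fun x => ?_
  obtain ⟨V, hxV, δ, hδ⟩ := (Groth.Agent.S12447.result S).1
    ((Groth.Agent.S12459.result S).2 hS S (𝟙 S) inferInstance) (basePt p x)
  obtain ⟨δW, hδW⟩ := exists_dimensionFunction p hXa hd hS hp V δ hδ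
  have hopen := V.isOpen.preimage (continuous_basePt p)
  refine ⟨⟨_, hopen⟩, hxV, fun T T' hTT' => ?_⟩
  haveI : QuasiSober (⟨_, hopen⟩ : Opens (AlgSp.Points X)) := hopen.isOpenEmbedding_subtypeVal.quasiSober
  exact (Groth.SitesTopoi.catAt_of_dimensionFunction hδW hTT').1

/-- The two notions of catenary space agree. -/
theorem isCatenarySpace' {α : Type u} [TopologicalSpace α] (h : PtTop.IsCatenarySpace α) :
    W4stk3decentspacesp2.IsCatenarySpace α := by
  obtain ⟨h1, h2⟩ := Groth.PropsBasic.Cat.catAt_iff_catOrd.1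
    (fun (a b : IrreducibleCloseds α) hab => h a b hab)
  exact fun T T' hTT' => ⟨h1 T T' hTT', fun p q hp hp' hq hq' => h2 p q (hp.trans hq.symm) (hp'.trans hq'.symm)⟩

end Groth.AlgSpBasic.DecentCatenary
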