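import Groth.Agent.AlgSpBasic.DecentDim
import Groth.Agent.AlgSpBasic.LocalDim

/-!
# Codimension in decent spaces
-/

set_option autoImplicit false
set_option backward.isDefEq.respectTransparency.types false
universe u

open CategoryTheory CategoryTheory.Limits AlgebraicGeometry Opposite TopologicalSpace AlgSp

namespace Groth.AlgSpBasic

section Top

variable {α β : Type*} [TopologicalSpace α] [T0Space α] [TopologicalSpace β] [T0Space β]

attribute [local instance 10] specializationOrder

/-- Coheight is invariant under maps lifting generizations without specializations in fibres. -/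
theorem coheight_eq_of_generalizing (f : α → β) (hf : Continuous f)
    (hd : ∀ a b, b ⤳ a → f a = f b → a = b) (hg : GeneralizingMap f) (a : α) :
    Order.coheight a = Order.coheight (f a) := by
  have hmono : StrictMono f := fun x y hxy =>
    lt_of_le_of_ne ((show y ⤳ x from hxy.le).map hf) fun he => hxy.ne (hd x y hxy.le he)
  refine le_antisymm (Order.coheight_le_coheight_apply_of_strictMono _ hmono a) ?_
  have key : ∀ l : LTSeries β, ∀ a, f a = l.head →
      ∃ l' : LTSeries α, l'.head = a ∧ l'.length = l.length := fun l => by
    induction l using RelSeries.inductionOn with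
    | singleton x => exact fun a _ => ⟨RelSeries.singleton _ a, rfl, rfl⟩
    | cons p x hx ih =>
      intro a ha
      rw [RelSeries.head_cons] at ha
      obtain ⟨a', h1, h2⟩ := hg (show p.head ⤳ f a by rw [ha]; exact le_of_lt hx)
      obtain ⟨l', hl', hlen⟩ := ih a' h2
      have hlt : a < l'.head := by
        rw [hl']
        exact lt_of_le_of_ne h1 fun he => ne_of_lt (show x < p.head from hx) (by rw [← ha, he, h2])
      exact ⟨l'.cons a hlt, RelSeries.head_cons .., by
        rw [RelSeries.cons_length, RelSeries.cons_length, hlen]⟩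
  rw [Order.coheight_eq]
  refine iSup₂_le fun l hl => ?_
  by_cases hl' : l.head = f a
  · obtain ⟨l', h, hlen⟩ := key l a hl'.symm
    rw [← hlen, ← h]
    exact Order.length_le_coheight le_rfl
  · obtain ⟨l', h, hlen⟩ := key (l.cons (f a) (lt_of_le_of_ne hl (Ne.symm hl'))) a
      (by rw [RelSeries.head_cons])
    rw [RelSeries.cons_length] at hlen
    refine le_trans ?_ (Order.length_le_coheight (p := l') h.ge)
    rw [hlen]
    exact_mod_cast Nat.le_succ _

theorem coheight_irreducibleCloseds [QuasiSober α] (T : IrreducibleCloseds α) {ξ : α}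
    (h : IsGenericPoint ξ (T : Set α)) : Order.coheight T = Order.coheight ξ := by
  have e : irreducibleSetEquivPoints T = ξ :=
    (T.isClosed.closure_eq ▸ T.isIrreducible.isGenericPoint_genericPoint_closure).eq h
  rw [← e, Order.coheight_orderIso]

theorem coheight_transfer [QuasiSober β] (f : α → β) (hf : Continuous f)
    (hd : ∀ a b, b ⤳ a → f a = f b → a = b) (hg : GeneralizingMap f) (T : IrreducibleCloseds β)
    (a : α) (h : IsGenericPoint (f a) (T : Set β)) : Order.coheight T = Order.coheight a :=
  (coheight_irreducibleCloseds T h).trans (coheight_eq_of_generalizing f hf hd hg a).symm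

end Top

variable {S : Scheme.{u}} {X : Sp S}

theorem coheight_eq_ringKrullDim (hX : IsAlgSpace X) (hd : IsDecent X)
    (T : IrreducibleCloseds (AlgSp.Points X)) {U : Over S} {a : (yon S).obj U ⟶ X}
    (ha : RepWith @Etale a) (u : ↥U.left)
    (hu : IsGenericPoint (AlgSp.Points.ofPt a u) (T : Set (AlgSp.Points X))) :
    (Order.coheight T : WithBot ℕ∞) = ringKrullDim ↥(U.left.presheaf.stalk u) := by
  have : T0Space (AlgSp.Points X) := t0Space_of_isDecent hX hd
  have : QuasiSober (AlgSp.Points X) := quasiSober_of_isDecent hX hd
  rw [ringKrullDim_stalk_eq_coheight, WithBot.coe_inj]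
  refine coheight_transfer _ (AlgSp.Points.continuous_ofPt a) (fun v w h e => ?_) (fun v y hy => ?_)
    T u hu
  · exact eq_of_specializes_of_finiteAt hX (finiteAt_of_isDecent hd _) ha rfl e.symm h
  · obtain ⟨v', hv', e⟩ := exists_specializes_of_finiteAt (finiteAt_of_isDecent hd y) ha hy
    exact ⟨v', hv', e⟩

end Groth.AlgSpBasic
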