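import Groth.Agent.AlgSpBasic.DecentSober
import Groth.Agent.DescentBase.DimEtale

/-!
# Dimension of decent algebraic spaces
-/

set_option autoImplicit false
set_option backward.isDefEq.respectTransparency.types false
universe u

open CategoryTheory CategoryTheory.Limits AlgebraicGeometry Opposite TopologicalSpace AlgSp

namespace Groth.AlgSpBasic

section Top

variable {α β : Type*} [TopologicalSpace α] [TopologicalSpace β]

attribute [local instance] specializationOrder

theorem topologicalKrullDim_le_of_no_specializations [QuasiSober α] [T0Space α] [QuasiSober β]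
    [T0Space β] (f : α → β) (hf : Continuous f) (hd : ∀ a b, b ⤳ a → f a = f b → a = b) :
    topologicalKrullDim α ≤ topologicalKrullDim β := by
  rw [Groth.DescentBase.topologicalKrullDim_eq_points, Groth.DescentBase.topologicalKrullDim_eq_points]
  refine Order.krullDim_le_of_strictMono f fun a b hab => ?_
  have hba : b ⤳ a := hab.le
  exact lt_of_le_of_ne (hba.map hf) fun he => hab.ne (hd a b hba he)

end Top

variable {S : Scheme.{u}} {X : Sp S}

theorem topologicalKrullDim_image_eq (hX : IsAlgSpace X) (hd : IsDecent X) {U : Over S}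
    {a : (yon S).obj U ⟶ X} (ha : RepWith @Etale a) {W : Set ↥U.left} (hW : IsOpen W) :
    topologicalKrullDim W = topologicalKrullDim (AlgSp.Points.ofPt a '' W) := by
  have : T0Space (AlgSp.Points X) := t0Space_of_isDecent hX hd
  have : QuasiSober (AlgSp.Points X) := quasiSober_of_isDecent hX hd
  have : QuasiSober W := hW.isOpenEmbedding_subtypeVal.quasiSober
  have : QuasiSober (AlgSp.Points.ofPt a '' W) :=
    ((isOpenMap_ofPt_of_etale ha) W hW).isOpenEmbedding_subtypeVal.quasiSober
  let f : W → AlgSp.Points.ofPt a '' W := fun w => ⟨AlgSp.Points.ofPt a w, w, w.2, rfl⟩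
  have hf : Continuous f :=
    ((AlgSp.Points.continuous_ofPt a).comp continuous_subtype_val).subtype_mk _
  refine le_antisymm (topologicalKrullDim_le_of_no_specializations f hf fun v w h e => ?_)
    (Groth.DescentBase.topologicalKrullDim_le_of_generalizing f ?_ ?_)
  · exact Subtype.ext (eq_of_specializes_of_finiteAt hX (finiteAt_of_isDecent hd _) ha rfl
      (congrArg Subtype.val e).symm (h.map continuous_subtype_val))
  · intro w y hy
    obtain ⟨w', hw', e⟩ := exists_specializes_of_finiteAt (finiteAt_of_isDecent hd y.1) ha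
      (u := w.1) (hy.map continuous_subtype_val)
    exact ⟨⟨w', hw'.mem_open hW w.2⟩, Topology.IsInducing.subtypeVal.specializes_iff.1 hw',
      Subtype.ext e⟩
  · rintro ⟨_, w, hw, rfl⟩
    exact ⟨⟨w, hw⟩, rfl⟩

theorem localDim_eq_of_isDecent (hX : IsAlgSpace X) (hd : IsDecent X) {U : Over S}
    {a : (yon S).obj U ⟶ X} (ha : RepWith @Etale a) (u : ↥U.left) :
    FlatMor.localDim ↥U.left u = FlatMor.localDim (AlgSp.Points X) (AlgSp.Points.ofPt a u) := by
  refine le_antisymm (le_iInf fun V => ?_) (le_iInf fun W => ?_)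
  · let W : Opens ↥U.left := ⟨AlgSp.Points.ofPt a ⁻¹' (V.1 : Set (AlgSp.Points X)),
      V.1.2.preimage (AlgSp.Points.continuous_ofPt a)⟩
    refine (Groth.SpectralTopology.localDim_le_of_mem (U := W) V.2).trans ?_
    rw [topologicalKrullDim_image_eq hX hd ha W.isOpen]
    exact (Topology.IsEmbedding.inclusion
      (Set.image_preimage_subset _ _)).toIsInducing.topologicalKrullDim_le
  · rw [topologicalKrullDim_image_eq hX hd ha W.1.isOpen]
    exact Groth.SpectralTopology.localDim_le_of_mem
      (U := (⟨_, isOpenMap_ofPt_of_etale ha _ W.1.2⟩ : Opens (AlgSp.Points X))) ⟨u, W.2, rfl⟩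

theorem topologicalKrullDim_eq_dim (hX : IsAlgSpace X) (hd : IsDecent X) :
    topologicalKrullDim (AlgSp.Points X) = AlgSp.dim X := by
  have key : ∀ (U : Over S) (a : (yon S).obj U ⟶ X), RepWith @Etale a →
      topologicalKrullDim ↥U.left = topologicalKrullDim (AlgSp.Points.ofPt a '' Set.univ) :=
    fun U a ha => by
      rw [← topologicalKrullDim_image_eq hX hd ha isOpen_univ]
      exact (Homeomorph.Set.univ ↥U.left).symm.isHomeomorph.topologicalKrullDim_eq
  refine le_antisymm ?_ (iSup_le fun U => iSup₂_le fun a ha => ?_)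
  · obtain ⟨U, p, hp, hps⟩ := hX.atlas
    refine le_trans ?_ (le_iSup_of_le U (le_iSup₂_of_le p hp le_rfl))
    rw [key U p hp, Set.image_univ, (surjective_ofPt_of_repWith hps).range_eq]
    exact ((Homeomorph.Set.univ (AlgSp.Points X)).isHomeomorph.topologicalKrullDim_eq).ge
  · rw [key U a ha]
    exact topologicalKrullDim_subspace_le _ _

end Groth.AlgSpBasic
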