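import Groth.Agent.AlgSpBasic.FiltrationSpaces

/-!
# Elementary etale neighbourhoods from the strata
-/

set_option autoImplicit false
set_option backward.isDefEq.respectTransparency.types false
universe u

open CategoryTheory CategoryTheory.Limits AlgebraicGeometry Topology TopologicalSpace Opposite AlgSp

namespace Groth.AlgSpBasic

noncomputable section

variable {S : Scheme.{u}}

theorem UnorderedSpace.mono_comp {X : Sp S} {U : Over S} {a : (yon S).obj U ⟶ X} {n : ℕ}
    {D : DistinctSpace a n} (Q : UnorderedSpace D) {K : Over S} (i : K ⟶ Q.V) [Mono i]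
    (hi : ∀ k, AlgSp.Points.ofPt Q.f (i.left k) ∉ confSet a (n + 2)) :
    Mono ((yon S).map i ≫ Q.f) := by
  refine ⟨fun {Z} g₀ g₀' e₀ => AlgSp2.hom_ext_yon fun T z => ?_⟩
  obtain ⟨g, hg⟩ := (yon S).map_surjective (z ≫ g₀)
  obtain ⟨g', hg'⟩ := (yon S).map_surjective (z ≫ g₀')
  have e : (yon S).map g ≫ (yon S).map i ≫ Q.f = (yon S).map g' ≫ (yon S).map i ≫ Q.f := by
    rw [hg, hg', Category.assoc, Category.assoc, e₀]
  rw [← hg, ← hg']
  congr 1
  rw [← cancel_mono i]
  refine Q.eq_of_comp_eq (by simp only [Functor.map_comp, Category.assoc]; exact e) fun t => ?_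
  rw [ofPt_comp_yon, Over.comp_left, Scheme.Hom.comp_apply]
  exact hi _

/-- A decent space has affine elementary etale neighbourhoods with one point over the given point. -/
theorem exists_affine_elementary (X : AlgSp.Space S) (hX : IsDecent X.obj)
    (x : AlgSp.Points X.obj) :
    ∃ (U : Over S) (a : (yon S).obj U ⟶ X.obj) (u : ↥U.left), IsAffine U.left ∧
      IsElemEtaleNbhd a u x ∧ AlgSp.Points.ofPt a ⁻¹' {x} = {u} := by
  obtain ⟨ι, W, φ, hW, hφ, hcov⟩ := exists_affine_etale_charts X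
  obtain ⟨i, w, hw⟩ := hcov x
  have := hW i
  obtain ⟨q, rfl, -, hqc⟩ := hX x
  obtain ⟨p, hp, hmem, hnot⟩ := exists_mem_strata X (hφ i) X.property w q hqc hw
  obtain ⟨n, rfl⟩ : ∃ n, p = n + 1 := ⟨p - 1, by omega⟩
  obtain ⟨D⟩ := exists_distinctSpace X.property (hφ i) n
  obtain ⟨Q⟩ := exists_unorderedSpace X.property (hφ i) D
  obtain ⟨v, hv⟩ := Q.range_ofPt.ge hmem
  obtain ⟨O, hO, hvO, -⟩ :=
    exists_isAffineOpen_mem_and_subset (X := Q.V.left) (x := v) (U := ⊤) trivial
  let U : Over S := Over.mk (O.ι ≫ Q.V.hom)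
  let j : U ⟶ Q.V := Over.homMk O.ι rfl
  let u : ↥U.left := ⟨v, hvO⟩
  have : IsOpenImmersion j.left := inferInstanceAs (IsOpenImmersion O.ι)
  have : Mono j := (Over.forget S).mono_of_mono_map (f := j) (inferInstance : Mono j.left)
  have he : RepWith @Etale ((yon S).map j ≫ Q.f) :=
    repWith_comp ((repWith_yon_map_iff _ j).2 inferInstance) Q.f_etale
  have hu : AlgSp.Points.ofPt ((yon S).map j ≫ Q.f) u = AlgSp.Points.mk q :=
    (ofPt_comp_yon _ _ _).trans hv
  refine ⟨U, (yon S).map j ≫ Q.f, u, hO, ⟨he, hu, ?_⟩, Set.ext fun u' => ⟨fun h => ?_, ?_⟩⟩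
  · have : Mono (resPt u).left := inferInstanceAs (Mono (U.left.fromSpecResidueField u))
    have : Mono (resPt u) := (Over.forget S).mono_of_mono_map (f := resPt u) this
    have h' : (FieldPt.ofPt ((yon S).map j ≫ Q.f) u).toHom =
        (yon S).map (resPt u ≫ j) ≫ Q.f := by
      rw [Functor.map_comp]
      exact (FieldPt.toHom_ofPt _ u).trans (Category.assoc _ _ _).symm
    rw [h']
    refine Q.mono_comp (resPt u ≫ j) fun k => ?_
    have : (resPt u).left k = u := Scheme.fromSpecResidueField_apply _ _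
    rw [Over.comp_left, Scheme.Hom.comp_apply, this]
    exact fun h => hnot (hv ▸ h)
  · have h' : AlgSp.Points.ofPt Q.f (j.left u') = AlgSp.Points.mk q :=
      (ofPt_comp_yon _ _ _).symm.trans h
    have := (Q.elementary hnot h' hv).1
    exact Subtype.ext this
  · rintro rfl
    exact hu

end

end Groth.AlgSpBasic
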