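import Groth.Agent.AlgSpBasic.DecentNbhd
import Groth.Agent.AlgSpBasic.FieldPoints

/-!
# Elementary etale neighbourhoods form a cofiltered category
-/

set_option autoImplicit false
set_option backward.isDefEq.respectTransparency.types false
universe u

open CategoryTheory CategoryTheory.Limits AlgebraicGeometry Topology TopologicalSpace Opposite AlgSp

namespace Groth.AlgSpBasic

noncomputable section

variable {S : Scheme.{u}} {X : Sp S}

theorem exists_fac_residue {T : Scheme.{u}} {K : Type u} [Field K]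
    (x : Spec (CommRingCat.of K) ⟶ T) :
    ∃ ψ : Spec (CommRingCat.of K) ⟶ Spec (T.residueField (x (IsLocalRing.closedPoint K))),
      ψ ≫ T.fromSpecResidueField (x (IsLocalRing.closedPoint K)) = x :=
  ⟨_, Scheme.descResidueField_stalkClosedPointTo_fromSpecResidueField K T x⟩

theorem isIso_of_retraction_field {K L : Type u} [Field K] [Field L]
    (ψ : Spec (CommRingCat.of K) ⟶ Spec (CommRingCat.of L))
    (φ : Spec (CommRingCat.of L) ⟶ Spec (CommRingCat.of K)) (h : ψ ≫ φ = 𝟙 _) : IsIso φ := by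
  obtain ⟨a, rfl⟩ := Spec.map_surjective ψ
  obtain ⟨b, rfl⟩ := Spec.map_surjective φ
  rw [← Spec.map_comp, ← Spec.map_id] at h
  have hba := Spec.map_injective h
  have hbij : Function.Bijective a.hom :=
    ⟨a.hom.injective, fun k => ⟨b k, ConcreteCategory.congr_hom hba k⟩⟩
  have : IsIso a := (ConcreteCategory.isIso_iff_bijective a).2 hbij
  have : IsIso b := IsIso.of_isIso_fac_right hba
  infer_instance

/-- A point with a section over an elementary point is elementary. -/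
theorem mono_ofPt_of_section {U' W : Over S} {a' : (yon S).obj U' ⟶ X} {u' : ↥U'.left}
    (h : Mono (FieldPt.ofPt a' u').toHom) (g : W ⟶ U') (m : (FieldPt.ofPt a' u').pt ⟶ W)
    (hm : m.left ≫ g.left = U'.left.fromSpecResidueField u') {z : ↥W.left}
    (hz : m.left (IsLocalRing.closedPoint (FieldPt.ofPt a' u').K) = z) :
    g.left z = u' ∧ Mono (FieldPt.ofPt ((yon S).map g ≫ a') z).toHom := by
  subst hz
  have hgz : g.left (m.left (IsLocalRing.closedPoint (FieldPt.ofPt a' u').K)) = u' := by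
    have h' := congrArg (fun k => k (IsLocalRing.closedPoint (U'.left.residueField u'))) hm
    exact h'.trans (Scheme.fromSpecResidueField_apply _ _)
  refine ⟨hgz, ?_⟩
  obtain ⟨ψ, hψ⟩ := exists_fac_residue (K := (FieldPt.ofPt a' u').K) m.left
  generalize hz' : m.left (IsLocalRing.closedPoint (FieldPt.ofPt a' u').K) = z at ψ hψ hgz ⊢
  let φ : Spec (W.left.residueField z) ⟶ Spec (U'.left.residueField u') :=
    Spec.map ((U'.left.residueFieldCongr hgz).inv ≫ g.left.residueFieldMap z)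
  have hφ : φ ≫ U'.left.fromSpecResidueField u' = W.left.fromSpecResidueField z ≫ g.left := by
    rw [← Scheme.Hom.SpecMap_residueFieldMap_fromSpecResidueField g.left z]
    show Spec.map _ ≫ _ = _
    rw [Spec.map_comp, Category.assoc]
    congr 1
    rw [← Scheme.residueFieldCongr_fromSpecResidueField (X := U'.left) hgz.symm]
    rfl
  have hψφ : ψ ≫ φ = 𝟙 _ := by
    rw [← cancel_mono (U'.left.fromSpecResidueField u'), Category.assoc, hφ, ← Category.assoc, hψ,
      hm]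
    exact (Category.id_comp _).symm
  have : IsIso φ := isIso_of_retraction_field ψ φ hψφ
  let φo : (FieldPt.ofPt ((yon S).map g ≫ a') z).pt ⟶ (FieldPt.ofPt a' u').pt :=
    Over.homMk φ (by
      show φ ≫ U'.left.fromSpecResidueField u' ≫ U'.hom = W.left.fromSpecResidueField z ≫ W.hom
      rw [← Category.assoc, hφ, Category.assoc, Over.w g])
  have : IsIso φo := (isIso_iff_of_reflects_iso φo (Over.forget S)).1 ‹IsIso φ›
  have e : (FieldPt.ofPt ((yon S).map g ≫ a') z).toHom =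
      (yon S).map φo ≫ (FieldPt.ofPt a' u').toHom := by
    refine (FieldPt.toHom_ofPt _ _).trans ?_
    rw [← Category.assoc, ← Functor.map_comp]
    refine Eq.trans ?_ (congrArg (_ ≫ ·) (FieldPt.toHom_ofPt a' u').symm)
    rw [← Category.assoc, ← Functor.map_comp]
    congr 2
    exact Over.OverMorphism.ext hφ.symm
  rw [e]
  exact mono_comp' inferInstance h

/-- Two elementary neighbourhoods are dominated by a third. -/
theorem exists_common_elementary (hX : IsAlgSpace X) {x : AlgSp.Points X} {U₁ U₂ : Over S}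
    {a₁ : (yon S).obj U₁ ⟶ X} {a₂ : (yon S).obj U₂ ⟶ X} {u₁ : ↥U₁.left} {u₂ : ↥U₂.left}
    (h₁ : IsElemEtaleNbhd a₁ u₁ x) (h₂ : IsElemEtaleNbhd a₂ u₂ x) :
    ∃ (U : Over S) (a : (yon S).obj U ⟶ X) (v : ↥U.left) (g₁ : U ⟶ U₁) (g₂ : U ⟶ U₂),
      IsElemEtaleNbhd a v x ∧ (yon S).map g₁ ≫ a₁ = a ∧ (yon S).map g₂ ≫ a₂ = a ∧
        g₁.left v = u₁ ∧ g₂.left v = u₂ := by
  obtain ⟨W, w₁, w₂, sq⟩ := exists_pullback_of_diag hX.diag a₁ a₂
  have := h₁.mono
  obtain ⟨c, hc, -⟩ := existsUnique_factor_of_mono hX (FieldPt.ofPt a₁ u₁) (FieldPt.ofPt a₂ u₂)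
    (h₁.ofPt_eq.trans h₂.ofPt_eq.symm)
  let r₁ : (FieldPt.ofPt a₁ u₁).pt ⟶ U₁ := Over.homMk (U₁.left.fromSpecResidueField u₁) rfl
  let r₂ : (FieldPt.ofPt a₂ u₂).pt ⟶ U₂ := Over.homMk (U₂.left.fromSpecResidueField u₂) rfl
  have e₁ : (FieldPt.ofPt a₁ u₁).toHom = (yon S).map r₁ ≫ a₁ := FieldPt.toHom_ofPt _ _
  have e₂ : (FieldPt.ofPt a₂ u₂).toHom = (yon S).map r₂ ≫ a₂ := FieldPt.toHom_ofPt _ _
  obtain ⟨m, hm⟩ := (yon S).map_surjective (sq.lift ((yon S).map (c ≫ r₁)) ((yon S).map r₂) (by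
    rw [Functor.map_comp, Category.assoc, ← e₁, hc, e₂]))
  have hm₁ : m ≫ w₁ = c ≫ r₁ := (yon S).map_injective (by
    rw [Functor.map_comp, hm, sq.lift_fst])
  have hm₂ : m ≫ w₂ = r₂ := (yon S).map_injective (by rw [Functor.map_comp, hm, sq.lift_snd])
  obtain ⟨hz₂, hmono⟩ := mono_ofPt_of_section h₂.mono w₂ m (congrArg CommaMorphism.left hm₂) rfl
  have : Etale w₂.left := repWith_fst_of_isPullback sq h₁.etale
  refine ⟨W, (yon S).map w₂ ≫ a₂, m.left (IsLocalRing.closedPoint _), w₁, w₂,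
    ⟨repWith_comp ((repWith_yon_map_iff _ w₂).2 ‹_›) h₂.etale, ?_, hmono⟩, sq.w, rfl, ?_, hz₂⟩
  · rw [ofPt_comp_yon, hz₂]; exact h₂.ofPt_eq
  · have h' := congrArg (fun k : (FieldPt.ofPt a₂ u₂).pt ⟶ U₁ =>
      k.left (IsLocalRing.closedPoint (FieldPt.ofPt a₂ u₂).K)) hm₁
    simp only [Over.comp_left, Scheme.Hom.comp_apply] at h'
    refine Eq.trans h' ?_
    exact Scheme.fromSpecResidueField_apply u₁
      (c.left (IsLocalRing.closedPoint (FieldPt.ofPt a₂ u₂).K))

/-- Two maps of elementary neighbourhoods are equalized. -/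
theorem exists_equalizer_elementary (hX : IsAlgSpace X) {x : AlgSp.Points X} {U₁ U₂ : Over S}
    {a₁ : (yon S).obj U₁ ⟶ X} {a₂ : (yon S).obj U₂ ⟶ X} {u₁ : ↥U₁.left} {u₂ : ↥U₂.left}
    {b c : U₁ ⟶ U₂} (h₁ : IsElemEtaleNbhd a₁ u₁ x) (h₂ : IsElemEtaleNbhd a₂ u₂ x)
    (hb : (yon S).map b ≫ a₂ = a₁) (hc : (yon S).map c ≫ a₂ = a₁) (hbu : b.left u₁ = u₂)
    (hcu : c.left u₁ = u₂) :
    ∃ (U : Over S) (a : (yon S).obj U ⟶ X) (v : ↥U.left) (h : U ⟶ U₁),
      IsElemEtaleNbhd a v x ∧ (yon S).map h ≫ a₁ = a ∧ h.left v = u₁ ∧ h ≫ b = h ≫ c := by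
  obtain ⟨W, w₁, w₂, sq⟩ := exists_pullback_of_diag hX.diag a₂ a₂
  obtain ⟨l, hl⟩ := (yon S).map_surjective (sq.lift _ _ (hb.trans hc.symm))
  have hl₁ : l ≫ w₁ = b := (yon S).map_injective (by rw [Functor.map_comp, hl, sq.lift_fst])
  have hl₂ : l ≫ w₂ = c := (yon S).map_injective (by rw [Functor.map_comp, hl, sq.lift_snd])
  obtain ⟨δ, hδ⟩ := (yon S).map_surjective (sq.lift (𝟙 _) (𝟙 _) rfl)
  have hδ₁ : δ ≫ w₁ = 𝟙 _ := (yon S).map_injective (by
    rw [Functor.map_comp, hδ, sq.lift_fst, CategoryTheory.Functor.map_id])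
  have hδ₂ : δ ≫ w₂ = 𝟙 _ := (yon S).map_injective (by
    rw [Functor.map_comp, hδ, sq.lift_snd, CategoryTheory.Functor.map_id])
  have hδl : δ.left ≫ w₁.left = 𝟙 U₂.left := congrArg CommaMorphism.left hδ₁
  have : Etale w₁.left := repWith_fst_of_isPullback sq.flip h₂.etale
  have : IsIso (δ.left ≫ w₁.left) := by rw [hδl]; infer_instance
  have : Mono δ.left := mono_of_mono δ.left w₁.left
  have : Etale δ.left := MorphismProperty.of_postcomp
    (W' := @Etale) (W := @Etale) δ.left w₁.left inferInstance inferInstance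
  have : IsOpenImmersion δ.left := IsOpenImmersion.of_flat_of_mono δ.left
  let O : U₁.left.Opens := l.left ⁻¹ᵁ δ.left.opensRange
  let U : Over S := Over.mk (O.ι ≫ U₁.hom)
  let h : U ⟶ U₁ := Over.homMk O.ι rfl
  have : IsOpenImmersion h.left := inferInstanceAs (IsOpenImmersion O.ι)
  let r₁ : (FieldPt.ofPt a₁ u₁).pt ⟶ U₁ := Over.homMk (U₁.left.fromSpecResidueField u₁) rfl
  have e₁ : (FieldPt.ofPt a₁ u₁).toHom = (yon S).map r₁ ≫ a₁ := FieldPt.toHom_ofPt _ _
  let r₂ : (FieldPt.ofPt a₂ u₂).pt ⟶ U₂ := Over.homMk (U₂.left.fromSpecResidueField u₂) rfl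
  have e₂ : (FieldPt.ofPt a₂ u₂).toHom = (yon S).map r₂ ≫ a₂ := FieldPt.toHom_ofPt _ _
  have := h₂.mono
  have hfac : ∀ (d : U₁ ⟶ U₂), d.left u₁ = u₂ →
      ∃ φ : (FieldPt.ofPt a₁ u₁).pt ⟶ (FieldPt.ofPt a₂ u₂).pt, φ ≫ r₂ = r₁ ≫ d := by
    intro d hd
    let φ := Spec.map ((U₂.left.residueFieldCongr hd).inv ≫ d.left.residueFieldMap u₁)
    have hφ : φ ≫ U₂.left.fromSpecResidueField u₂ =
        U₁.left.fromSpecResidueField u₁ ≫ d.left := by
      rw [← Scheme.Hom.SpecMap_residueFieldMap_fromSpecResidueField d.left u₁]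
      show Spec.map _ ≫ _ = _
      rw [Spec.map_comp, Category.assoc]
      congr 1
      rw [← Scheme.residueFieldCongr_fromSpecResidueField (X := U₂.left) hd.symm]
      rfl
    exact ⟨Over.homMk φ (by
      show φ ≫ U₂.left.fromSpecResidueField u₂ ≫ U₂.hom = U₁.left.fromSpecResidueField u₁ ≫ U₁.hom
      rw [← Category.assoc, hφ, Category.assoc, Over.w d]), Over.OverMorphism.ext hφ⟩
  obtain ⟨φb, hφb⟩ := hfac b hbu
  obtain ⟨φc, hφc⟩ := hfac c hcu
  have hφ : φb = φc := by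
    apply (yon S).map_injective
    rw [← cancel_mono (FieldPt.ofPt a₂ u₂).toHom, e₂, ← Category.assoc, ← Category.assoc,
      ← Functor.map_comp, ← Functor.map_comp, hφb, hφc, Functor.map_comp, Functor.map_comp,
      Category.assoc, Category.assoc, hb, hc]
  have hrl : r₁ ≫ l = φb ≫ r₂ ≫ δ := by
    apply (yon S).map_injective
    apply sq.hom_ext <;> rw [← Functor.map_comp, ← Functor.map_comp]
    · rw [Category.assoc, Category.assoc, Category.assoc, hl₁, hδ₁, Category.comp_id, hφb]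
    · rw [Category.assoc, Category.assoc, Category.assoc, hl₂, hδ₂, Category.comp_id, hφ, hφc]
  have hu : u₁ ∈ O := by
    have h' := congrArg (fun k : (FieldPt.ofPt a₁ u₁).pt ⟶ W =>
      k.left (IsLocalRing.closedPoint (FieldPt.ofPt a₁ u₁).K)) hrl
    simp only [Over.comp_left, Scheme.Hom.comp_apply] at h'
    show l.left u₁ ∈ δ.left.opensRange
    have hr : r₁.left (IsLocalRing.closedPoint (FieldPt.ofPt a₁ u₁).K) = u₁ :=
      Scheme.fromSpecResidueField_apply _ _
    rw [hr] at h'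
    exact ⟨_, h'.symm⟩
  have hr : Set.range r₁.left ⊆ Set.range h.left := by
    rintro _ ⟨z, rfl⟩
    refine (Scheme.Opens.range_ι O).ge ?_
    rw [show r₁.left z = u₁ from Scheme.fromSpecResidueField_apply _ _]
    exact hu
  let m : (FieldPt.ofPt a₁ u₁).pt ⟶ U := Over.homMk (IsOpenImmersion.lift h.left r₁.left hr) (by
    show _ ≫ O.ι ≫ U₁.hom = _
    rw [← Category.assoc, show IsOpenImmersion.lift h.left r₁.left hr ≫ O.ι = r₁.left from
      IsOpenImmersion.lift_fac _ _ _]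
    rfl)
  obtain ⟨hz, hmono⟩ := mono_ofPt_of_section h₁.mono h m (IsOpenImmersion.lift_fac _ _ _) rfl
  refine ⟨U, (yon S).map h ≫ a₁, m.left (IsLocalRing.closedPoint _), h,
    ⟨repWith_comp ((repWith_yon_map_iff _ h).2 inferInstance) h₁.etale, ?_, hmono⟩, rfl, hz, ?_⟩
  · rw [ofPt_comp_yon, hz]; exact h₁.ofPt_eq
  · have hr' : Set.range (h ≫ l).left ⊆ Set.range δ.left := by
      rintro _ ⟨z, rfl⟩
      exact z.2
    have el : IsOpenImmersion.lift δ.left (h ≫ l).left hr' ≫ δ.left = (h ≫ l).left :=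
      IsOpenImmersion.lift_fac _ _ _
    apply Over.OverMorphism.ext
    rw [← hl₁, ← hl₂, ← Category.assoc, ← Category.assoc, Over.comp_left, Over.comp_left _ _ _ _ w₂,
      ← el, Category.assoc, Category.assoc, hδl,
      show δ.left ≫ w₂.left = 𝟙 U₂.left from congrArg CommaMorphism.left hδ₂]

end

end Groth.AlgSpBasic
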