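import Groth.Agent.AlgSpBasic.DecentCriteria
import Groth.Agent.AlgSpBasic.Quotient
import Groth.Agent.AlgSp2.InfSmallExt

/-!
# Locally Noetherian decent spaces are quasi-separated
-/

set_option autoImplicit false
set_option backward.isDefEq.respectTransparency.types false
universe u

open CategoryTheory CategoryTheory.Limits AlgebraicGeometry Opposite TopologicalSpace AlgSp

namespace Groth.AlgSpBasic

variable {S : Scheme.{u}} {X : Sp S}

/-- The fibre product of two Noetherian affine charts of a decent space is quasi-compact. -/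
theorem compactSpace_pullback_charts (hX : IsAlgSpace X) (hd : IsDecent X) {U A B Q R : Over S}
    {p : (yon S).obj U ⟶ X} (hp : RepWith @Etale p) {t s : R ⟶ U}
    (sqR : IsPullback ((yon S).map t) ((yon S).map s) p p) (jA : A ⟶ U) (jB : B ⟶ U)
    [IsOpenImmersion jA.left] [IsOpenImmersion jB.left] [IsAffine A.left] [IsAffine B.left]
    [IsLocallyNoetherian A.left] {qA : Q ⟶ A} {qB : Q ⟶ B}
    (sq : IsPullback ((yon S).map qB) ((yon S).map qA) ((yon S).map jB ≫ p) ((yon S).map jA ≫ p)) :
    CompactSpace ↥Q.left := by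
  have : Etale jA.left := inferInstance
  have : Etale jB.left := inferInstance
  have hb : RepWith @Etale ((yon S).map jB ≫ p) :=
    repWith_comp ((repWith_yon_map_iff _ jB).2 ‹_›) hp
  have : Etale qA.left := repWith_fst_of_isPullback sq hb
  let c : Q.left ⟶ pullback B.hom A.hom :=
    pullback.lift qB.left qA.left ((Over.w qB).trans (Over.w qA).symm)
  have hQ : ∀ {T : Over S} (g g' : T ⟶ Q), g ≫ qB = g' ≫ qB → g ≫ qA = g' ≫ qA → g = g' :=
    fun g g' h₁ h₂ => (yon S).map_injective (sq.hom_ext
      (by rw [← Functor.map_comp, ← Functor.map_comp, h₁])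
      (by rw [← Functor.map_comp, ← Functor.map_comp, h₂]))
  have : Mono c := ⟨fun {Z} g g' h => by
    have h₁ : g ≫ qB.left = g' ≫ qB.left := by
      rw [← pullback.lift_fst qB.left qA.left ((Over.w qB).trans (Over.w qA).symm),
        ← Category.assoc, ← Category.assoc]
      exact congrArg (· ≫ pullback.fst _ _) h
    have h₂ : g ≫ qA.left = g' ≫ qA.left := by
      rw [← pullback.lift_snd qB.left qA.left ((Over.w qB).trans (Over.w qA).symm),
        ← Category.assoc, ← Category.assoc]
      exact congrArg (· ≫ pullback.snd _ _) h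
    have hw : g' ≫ Q.hom = g ≫ Q.hom := by
      rw [← Over.w qB, ← Category.assoc, ← h₁, Category.assoc]
    exact congrArg CommaMorphism.left (hQ (T := Over.mk (g ≫ Q.hom)) (Over.homMk g rfl)
      (Over.homMk g' hw) (by ext1; exact h₁) (by ext1; exact h₂))⟩
  have : IsSeparated B.hom := inferInstance
  have : IsSeparated (c ≫ pullback.snd _ _) := inferInstance
  have hqA : IsSeparated qA.left := by rwa [pullback.lift_snd] at this
  -- the map to the kernel pair is injective
  obtain ⟨g, hg⟩ := (yon S).map_surjective (sqR.lift ((yon S).map (qB ≫ jB))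
    ((yon S).map (qA ≫ jA)) (by simpa using sq.w))
  have hgt : g ≫ t = qB ≫ jB :=
    (yon S).map_injective (by rw [Functor.map_comp, hg, sqR.lift_fst])
  have hgs : g ≫ s = qA ≫ jA :=
    (yon S).map_injective (by rw [Functor.map_comp, hg, sqR.lift_snd])
  have hm : ∀ {V : Over S} (j : V ⟶ U) [IsOpenImmersion j.left], Mono j := fun j _ =>
    (Over.forget S).mono_of_mono_map (inferInstanceAs (Mono j.left))
  have : Mono g := ⟨fun {T} a a' h => by
    have := hm jA; have := hm jB
    refine hQ a a' ?_ ?_
    · rw [← cancel_mono jB, Category.assoc, Category.assoc, ← hgt, reassoc_of% h]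
    · rw [← cancel_mono jA, Category.assoc, Category.assoc, ← hgs, reassoc_of% h]⟩
  have : Mono g.left := inferInstanceAs (Mono ((Over.forget S).map g))
  refine compactSpace_of_finite_fibres qA.left fun w => ?_
  obtain ⟨q, hq, -, hqc⟩ := hd (AlgSp.Points.ofPt p (jA.left w))
  have hF := finite_fibre_of_qc q hqc hb
  rw [hq] at hF
  refine Set.Finite.subset ((hF.biUnion fun b _ => (?_ :
    {r : ↥R.left | s.left r = jA.left w ∧ t.left r = jB.left b ∧
      AlgSp.Points.ofPt p (jB.left b) = AlgSp.Points.ofPt p (jA.left w)}.Finite)).preimage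
    g.left.injective.injOn) ?_
  · obtain ⟨q', hq', hm', -⟩ := hd (AlgSp.Points.ofPt p (jA.left w))
    by_cases e : AlgSp.Points.ofPt p (jB.left b) = AlgSp.Points.ofPt p (jA.left w)
    · exact (Groth.AlgSp2.finite_fibre_of_mono hp sqR q' (Groth.AlgSp2.representable_fieldPt hX q')
        (jA.left w) (jB.left b) (e.trans hq'.symm)).subset fun r hr => ⟨hr.1, hr.2.1⟩
    · exact Set.Finite.subset Set.finite_empty fun r hr => e hr.2.2
  · intro z (hz : qA.left z = w)
    have he : AlgSp.Points.ofPt p (jB.left (qB.left z)) = AlgSp.Points.ofPt p (jA.left w) := by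
      rw [← hz]
      exact (ofPt_eq_ofPt_iff sqR _ _).2 ⟨g.left z, by
        rw [← Scheme.Hom.comp_apply, ← Over.comp_left, hgt]; rfl, by
        rw [← Scheme.Hom.comp_apply, ← Over.comp_left, hgs]; rfl⟩
    refine Set.mem_biUnion (x := qB.left z) ?_ ⟨?_, ?_, he⟩
    · show AlgSp.Points.ofPt ((yon S).map jB ≫ p) (qB.left z) = _
      rw [ofPt_comp_yon, he]
    · rw [← Scheme.Hom.comp_apply, ← Over.comp_left, hgs, ← hz]; rfl
    · rw [← Scheme.Hom.comp_apply, ← Over.comp_left, hgt]; rfl

/-- A locally Noetherian decent space is quasi-separated. -/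
theorem isQuasiSeparatedSp_of_isDecent (hX : IsAlgSpace X) (hN : IsLocNoethSp X) (hd : IsDecent X) :
    IsQuasiSeparatedSp X := by
  obtain ⟨U, p, hp, hps⟩ := hX.atlas
  have : Sheaf.IsLocallySurjective p := isLocallySurjective_of_etale p hp hps
  have := isLocallySurjective_prod_map (π := p)
  have : IsLocallyNoetherian U.left := Groth.AlgSp2.isLocallyNoetherian_of_etale hX hN hp
  obtain ⟨R, t, s, sqR⟩ := exists_pullback_yon hp.rep p
  have : Etale t.left := repWith_fst_of_isPullback sqR.flip hp
  have hinj := (isEqvRel_of_isPullback sqR).injective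
  have : Mono (prod.lift t s) := ⟨fun {Z} a a' e => hinj Z a a'
    (by
      have := e =≫ prod.fst
      rwa [Category.assoc, Category.assoc, prod.lift_fst] at this)
    (by
      have := e =≫ prod.snd
      rwa [Category.assoc, Category.assoc, prod.lift_snd] at this)⟩
  have : Mono (prod.lift t s).left :=
    inferInstanceAs (Mono ((Over.forget S).map (prod.lift t s)))
  have e : (prod.lift t s).left ≫ (prod.fst : U ⨯ U ⟶ U).left = t.left := lift_left_fst t s
  have : LocallyOfFiniteType (prod.lift t s).left := by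
    have : LocallyOfFiniteType ((prod.lift t s).left ≫ (prod.fst : U ⨯ U ⟶ U).left) := by
      rw [e]; infer_instance
    exact locallyOfFiniteType_of_comp _ (prod.fst : U ⨯ U ⟶ U).left
  have : LocallyQuasiFinite (prod.lift t s).left :=
    locallyQuasiFinite_of_formallyUnramified _
  refine repWith_of_sepLQF (Q := @QuasiCompact) (prodComparison (yon S) U U ≫ prod.map p p)
    (isPullback_diag_yon sqR) ?_
  -- cover the target by products of affine opens
  let 𝒞 := U.left.affineCover
  let M : 𝒞.I₀ → Over S := fun i => Over.mk (𝒞.f i ≫ U.hom)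
  let j : ∀ i, M i ⟶ U := fun i => Over.homMk (𝒞.f i) rfl
  have hjo : ∀ i, IsOpenImmersion (j i).left := fun i => inferInstanceAs (IsOpenImmersion (𝒞.f i))
  let o : ∀ k : 𝒞.I₀ × 𝒞.I₀, (M k.1 ⨯ M k.2) ⟶ (U ⨯ U) := fun k => prod.map (j k.1) (j k.2)
  have ho : ∀ k, IsOpenImmersion (o k).left := fun k => by
    have h₁ : IsOpenImmersion (prod.map (j k.1) (𝟙 (M k.2))).left :=
      MorphismProperty.of_isPullback (P := @IsOpenImmersion)
        ((isPullback_prod_map_fst (j k.1) (M k.2)).map (Over.forget S)) (hjo k.1)
    have h₂ : IsOpenImmersion (prod.map (𝟙 U) (j k.2)).left :=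
      MorphismProperty.of_isPullback (P := @IsOpenImmersion)
        ((isPullback_prod_map_snd (j k.2) U).map (Over.forget S)) (hjo k.2)
    have : o k = prod.map (j k.1) (𝟙 _) ≫ prod.map (𝟙 _) (j k.2) := by
      rw [prod.map_map, Category.comp_id, Category.id_comp]
    rw [this, Over.comp_left]
    infer_instance
  have hcov : ∀ z : ↥(U ⨯ U).left, ∃ k, z ∈ Set.range (o k).left := by
    intro z
    obtain ⟨i, a, ha⟩ := 𝒞.exists_eq ((prod.fst : U ⨯ U ⟶ U).left z)
    obtain ⟨i', a', ha'⟩ := 𝒞.exists_eq ((prod.snd : U ⨯ U ⟶ U).left z)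
    obtain ⟨y, hy, hyz⟩ := Scheme.exists_preimage_of_isPullback
      ((isPullback_prod_map_snd (j i') U).map (Over.forget S)) a'
      z ha'
    obtain ⟨y', -, hy'⟩ := Scheme.exists_preimage_of_isPullback
      ((isPullback_prod_map_fst (j i) (M i')).map (Over.forget S)) a y (by
        change (j i).left a = (prod.fst : U ⨯ M i' ⟶ U).left y
        rw [show (prod.fst : U ⨯ M i' ⟶ U) = prod.map (𝟙 U) (j i') ≫ prod.fst from
          (by rw [prod.map_fst, Category.comp_id]), Over.comp_left, Scheme.Hom.comp_apply]
        exact ha.trans (congrArg _ hyz.symm))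
    refine ⟨(i, i'), y', ?_⟩
    have : o (i, i') = prod.map (j i) (𝟙 _) ≫ prod.map (𝟙 _) (j i') := by
      rw [prod.map_map, Category.comp_id, Category.id_comp]
    rw [this, Over.comp_left, Scheme.Hom.comp_apply]
    exact (congrArg _ hy').trans hyz
  choose k hk using hcov
  refine IsZariskiLocalAtTarget.of_openCover (P := @QuasiCompact)
    (Scheme.Cover.mkOfCovers ↥(U ⨯ U).left (fun z => (M (k z).1 ⨯ M (k z).2).left)
      (fun z => (o (k z)).left) (fun z => by obtain ⟨y, hy⟩ := hk z; exact ⟨z, y, hy⟩)
      (fun z => ho (k z))) fun z => ?_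
  change QuasiCompact (pullback.snd (prod.lift t s).left (o (k z)).left)
  have hmap : IsPullback (pullback.fst (prod.lift t s) (o (k z))).left
      (pullback.snd (prod.lift t s) (o (k z))).left (prod.lift t s).left (o (k z)).left :=
    (IsPullback.of_hasPullback (prod.lift t s) (o (k z))).map (Over.forget S)
  rw [show pullback.snd (prod.lift t s).left (o (k z)).left =
    hmap.isoPullback.inv ≫ (pullback.snd (prod.lift t s) (o (k z))).left from
      hmap.isoPullback_inv_snd.symm]
  refine (MorphismProperty.cancel_left_of_respectsIso @QuasiCompact _ _).2 ?_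
  set i := (k z).1
  set i' := (k z).2
  have sqQ := (IsPullback.of_hasPullback (prod.lift t s) (o (k z)))
  -- the preimage is the fibre product of the two charts
  have := hjo i; have := hjo i'
  have : IsAffine (M i).left := inferInstanceAs (IsAffine (𝒞.X i))
  have : IsAffine (M i').left := inferInstanceAs (IsAffine (𝒞.X i'))
  have : IsLocallyNoetherian (M i').left := isLocallyNoetherian_of_isOpenImmersion (j i').left
  have hb : RepWith @Etale ((yon S).map (j i) ≫ p) :=
    repWith_comp ((repWith_yon_map_iff _ (j i)).2 (inferInstanceAs (Etale (𝒞.f i)))) hp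
  obtain ⟨Q, qB, qA, sq⟩ := exists_pullback_yon hb.rep ((yon S).map (j i') ≫ p)
  have := compactSpace_pullback_charts hX hd hp sqR (j i') (j i) sq
  obtain ⟨r, hr⟩ := (yon S).map_surjective (sqR.lift ((yon S).map (qB ≫ j i))
    ((yon S).map (qA ≫ j i')) (by simpa using sq.w))
  have hrt : r ≫ t = qB ≫ j i :=
    (yon S).map_injective (by rw [Functor.map_comp, hr, sqR.lift_fst])
  have hrs : r ≫ s = qA ≫ j i' :=
    (yon S).map_injective (by rw [Functor.map_comp, hr, sqR.lift_snd])
  let f₁ := pullback.fst (prod.lift t s) (o (k z))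
  let f₂ := pullback.snd (prod.lift t s) (o (k z))
  have hf₁ : f₁ ≫ t = (f₂ ≫ prod.fst) ≫ j i := by
    have := congrArg (· ≫ prod.fst) (pullback.condition (f := prod.lift t s) (g := o (k z)))
    simp only [Category.assoc, prod.lift_fst, o, prod.map_fst] at this
    simpa [f₁, f₂] using this
  have hf₂ : f₁ ≫ s = (f₂ ≫ prod.snd) ≫ j i' := by
    have := congrArg (· ≫ prod.snd) (pullback.condition (f := prod.lift t s) (g := o (k z)))
    simp only [Category.assoc, prod.lift_snd, o, prod.map_snd] at this
    simpa [f₁, f₂] using this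
  obtain ⟨l, hl⟩ := (yon S).map_surjective (sq.lift ((yon S).map (f₂ ≫ prod.fst))
    ((yon S).map (f₂ ≫ prod.snd)) (by
      rw [← Category.assoc, ← Category.assoc, ← Functor.map_comp, ← Functor.map_comp, ← hf₁, ← hf₂,
        Functor.map_comp, Functor.map_comp, Category.assoc, Category.assoc, sqR.w]))
  let l' : Q ⟶ pullback (prod.lift t s) (o (k z)) := pullback.lift r (prod.lift qB qA) (by
    apply prod.hom_ext
    · rw [Category.assoc, Category.assoc, prod.lift_fst, prod.map_fst, prod.lift_fst_assoc, hrt]
    · rw [Category.assoc, Category.assoc, prod.lift_snd, prod.map_snd, prod.lift_snd_assoc, hrs])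
  have hl₁ : l ≫ qB = f₂ ≫ prod.fst :=
    (yon S).map_injective (by rw [Functor.map_comp, hl, sq.lift_fst])
  have hl₂ : l ≫ qA = f₂ ≫ prod.snd :=
    (yon S).map_injective (by rw [Functor.map_comp, hl, sq.lift_snd])
  have hll : l ≫ l' = 𝟙 _ := by
    apply pullback.hom_ext
    · rw [Category.assoc, pullback.lift_fst, Category.id_comp]
      refine hinj _ _ _ ?_ ?_
      · rw [Category.assoc, hrt, ← Category.assoc, hl₁, hf₁]
      · rw [Category.assoc, hrs, ← Category.assoc, hl₂, hf₂]
    · rw [Category.assoc, pullback.lift_snd, Category.id_comp]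
      apply prod.hom_ext
      · rw [Category.assoc, prod.lift_fst, hl₁]
      · rw [Category.assoc, prod.lift_snd, hl₂]
  have : CompactSpace ↥(pullback (prod.lift t s) (o (k z))).left := by
    refine ⟨?_⟩
    rw [← (show Function.Surjective l'.left from fun y => ⟨l.left y, by
      rw [← Scheme.Hom.comp_apply, ← Over.comp_left, hll]; rfl⟩).range_eq]
    exact isCompact_range l'.left.continuous
  have : QuasiSeparatedSpace ↥(M i ⨯ M i').left := by
    have : IsSeparated (M i).hom := inferInstance
    have : QuasiSeparatedSpace ↥(pullback (M i).hom (M i').hom) :=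
      quasiSeparatedSpace_of_quasiSeparated (pullback.snd (M i).hom (M i').hom)
    exact quasiSeparatedSpace_of_quasiSeparated (Over.prodLeftIsoPullback (M i) (M i')).hom
  infer_instance

end Groth.AlgSpBasic
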