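import Groth.Agent.AlgSpBasic.ChevalleySaturate
import Groth.Agent.AlgSp2.InfGlue
import Groth.Agent.AlgSp2.MonoPoint
import Groth.Agent.AlgSp3.RedInduced
import Groth.Agent.AlgSp2.Approx.UnionScheme
import Groth.Agent.AlgSpThick.Scheme
import Groth.Agent.AlgSpBasic.DimZeroSpace
import Mathlib.RingTheory.Flat.TorsionFree

/-!
# Spaces over a Dedekind scheme covered by a flat closed part and a special fibre
-/

set_option autoImplicit false
set_option backward.isDefEq.respectTransparency.types false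
universe u

open CategoryTheory CategoryTheory.Limits AlgebraicGeometry Topology TopologicalSpace Opposite AlgSp

namespace Groth.AlgSpBasic.DedekindClosure

noncomputable section

section Scheme

variable {S : Scheme.{u}}

theorem isLocallyNoetherian [IsIntegral S]
    (hD : ∀ U : S.affineOpens, Nonempty (U : S.Opens) → IsDedekindDomain Γ(S, U)) :
    IsLocallyNoetherian S where
  component_noetherian U := by
    by_cases h : Nonempty (U : S.Opens)
    · exact (hD U h).toIsDedekindRing.toIsNoetherian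
    · have hU : (U : S.Opens) = ⊥ := le_bot_iff.1 fun x hx => (h ⟨⟨x, hx⟩⟩).elim
      have : Subsingleton Γ(S, U) := by rw [hU]; infer_instance
      exact (isNoetherianRing_iff_ideal_fg _).2 fun I => ⟨∅, Subsingleton.elim _ _⟩

theorem eq_genericPoint_of_specializes [IsIntegral S] {s : S} (h : s ⤳ genericPoint S) :
    s = genericPoint S :=
  (h.antisymm (genericPoint_specializes s)).eq

/-- The points of a Dedekind scheme other than the generic point are closed. -/
theorem isClosed_singleton [IsIntegral S]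
    (hD : ∀ U : S.affineOpens, Nonempty (U : S.Opens) → IsDedekindDomain Γ(S, U)) {s : S}
    (hs : s ≠ genericPoint S) : IsClosed ({s} : Set S) := by
  refine isClosed_iff_clusterPt.2 fun t ht => ?_
  have hst : s ⤳ t := specializes_iff_mem_closure.2 (mem_closure_iff_clusterPt.2 ht)
  obtain ⟨_, ⟨U, hU, rfl⟩, htU, -⟩ :=
    S.isBasis_affineOpens.exists_subset_of_mem_open (Set.mem_univ t) isOpen_univ
  have hsU : s ∈ U := hst.mem_open U.isOpen htU
  have := hD ⟨U, hU⟩ ⟨⟨s, hsU⟩⟩
  have : IsIntegral (Spec Γ(S, U)) := inferInstance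
  let P : ↥(Spec Γ(S, U)) := hU.primeIdealOf ⟨s, hsU⟩
  let Q : ↥(Spec Γ(S, U)) := hU.primeIdealOf ⟨t, htU⟩
  have hPs : hU.fromSpec P = s := hU.fromSpec_primeIdealOf ⟨s, hsU⟩
  have hQt : hU.fromSpec Q = t := hU.fromSpec_primeIdealOf ⟨t, htU⟩
  have hPQ : P ⤳ Q :=
    hU.fromSpec.isOpenEmbedding.isInducing.specializes_iff.1 (by rw [hPs, hQt]; exact hst)
  have hP : P.asIdeal ≠ ⊥ := fun h => hs (by
    rw [← hPs, ← genericPoint_eq_of_isOpenImmersion hU.fromSpec]
    refine congrArg hU.fromSpec ?_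
    rw [genericPoint_eq_bot_of_affine]
    exact PrimeSpectrum.ext h)
  have hmax : P.asIdeal.IsMaximal := P.isPrime.isMaximal hP
  have hle : P.asIdeal ≤ Q.asIdeal := (PrimeSpectrum.le_iff_specializes P Q).2 hPQ
  have e : P = Q := PrimeSpectrum.ext (hmax.eq_of_le Q.isPrime.ne_top hle)
  show t = s
  rw [← hPs, ← hQt, e]

/-- A reduced scheme over a Dedekind scheme all of whose points generize to the generic fibre is
flat. -/
theorem flat_of_generizes [IsIntegral S]
    (hD : ∀ U : S.affineOpens, Nonempty (U : S.Opens) → IsDedekindDomain Γ(S, U))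
    {T : Scheme.{u}} [IsReduced T] (f : T ⟶ S)
    (h : ∀ t, ∃ w : T, w ⤳ t ∧ f w = genericPoint S) : Flat f := by
  rw [HasRingHomProperty.iff_appLE (P := @Flat)]
  intro U V e
  let φ := (f.appLE U V e).hom
  let := φ.toAlgebra
  show Module.Flat Γ(S, U) Γ(T, V)
  by_cases hU : Nonempty (U : S.Opens)
  · have := hD U hU
    suffices Module.IsTorsionFree Γ(S, U) Γ(T, V) from inferInstance
    refine ⟨fun r hr x y hxy => ?_⟩
    have hr0 : r ≠ 0 := hr.ne_zero
    have hη : genericPoint S ∈ S.basicOpen r := by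
      refine ((genericPoint_spec S).mem_open_set_iff (S.basicOpen r).isOpen).2 ?_
      by_contra hne
      refine hr0 ((basicOpen_eq_bot_iff r).1 (le_bot_iff.1 fun z hz => hne ⟨z, trivial, hz⟩))
    have h0 : φ r * (x - y) = 0 := by
      rw [mul_sub, sub_eq_zero]
      exact hxy
    refine sub_eq_zero.1 ((basicOpen_eq_bot_iff (x - y)).1 (le_bot_iff.1 fun z hz => ?_))
    obtain ⟨w, hw, hwη⟩ := h z
    have hwb : w ∈ T.basicOpen (x - y) := hw.mem_open (T.basicOpen (x - y)).isOpen hz
    have hwr : w ∈ T.basicOpen (φ r) := by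
      rw [show T.basicOpen (φ r) = _ from Scheme.basicOpen_appLE f V U e r]
      exact ⟨T.basicOpen_le (x - y) hwb, show f w ∈ S.basicOpen r by rw [hwη]; exact hη⟩
    have hw0 : w ∈ T.basicOpen (φ r * (x - y)) := by
      rw [Scheme.basicOpen_mul]
      exact ⟨hwr, hwb⟩
    rw [h0, Scheme.basicOpen_zero] at hw0
    exact hw0.elim
  · have hV : (V : T.Opens) = ⊥ := le_bot_iff.1 fun z hz => (hU ⟨⟨f z, e hz⟩⟩).elim
    have : Subsingleton Γ(T, V) := by rw [hV]; infer_instance
    infer_instance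

/-- In a Noetherian scheme over an integral scheme, the closure of the generic fibre consists of
the specializations of its points. -/
theorem exists_specializes_of_mem_closure [IsIntegral S] {U : Scheme.{u}} [NoetherianSpace U]
    (f : U ⟶ S) {u : U} (hu : u ∈ closure {w | f w = genericPoint S}) :
    ∃ w, w ⤳ u ∧ f w = genericPoint S := by
  let G := {g ∈ genericPoints (U : Type u) | f g = genericPoint S}
  have hG : G.Finite :=
    (genericPoints.finite NoetherianSpace.finite_irreducibleComponents).subset fun g hg => hg.1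
  have hcl : IsClosed (⋃ g ∈ G, closure ({g} : Set U)) :=
    hG.isClosed_biUnion fun g _ => isClosed_closure
  obtain ⟨g, hg, hgu⟩ := Set.mem_iUnion₂.1 (closure_minimal (fun w hw => by
    obtain ⟨g, hg, hgw⟩ := Saturation.exists_genericPoint_specializes w
    refine Set.mem_biUnion (show g ∈ G from ⟨hg, eq_genericPoint_of_specializes ?_⟩)
      (specializes_iff_mem_closure.1 hgw)
    exact (hw : f w = genericPoint S) ▸ hgw.map f.continuous) hcl hu)
  exact ⟨g, specializes_iff_mem_closure.2 hgu, hg.2⟩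

/-- The infinitesimal neighbourhoods of a closed point are closed subschemes with that point as
only point. -/
theorem infNhd_props {s : S} (hs : IsClosed ({s} : Set S)) (n : ℕ) :
    IsClosedImmersion (Spec.map (CommRingCat.ofHom (Ideal.Quotient.mk
      (IsLocalRing.maximalIdeal ↑(S.presheaf.stalk s) ^ (n + 1)))) ≫ S.fromSpecStalk s) ∧
    Set.range (Spec.map (CommRingCat.ofHom (Ideal.Quotient.mk
      (IsLocalRing.maximalIdeal ↑(S.presheaf.stalk s) ^ (n + 1)))) ≫ S.fromSpecStalk s) = {s} := by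
  let m := IsLocalRing.maximalIdeal ↑(S.presheaf.stalk s)
  let q := Spec.map (CommRingCat.ofHom (Ideal.Quotient.mk (m ^ (n + 1))))
  have : IsClosedImmersion q := IsClosedImmersion.spec_of_surjective _ Ideal.Quotient.mk_surjective
  have hq : Set.range q = {IsLocalRing.closedPoint ↑(S.presheaf.stalk s)} := by
    refine (range_comap_of_surjective _ _ Ideal.Quotient.mk_surjective).trans ?_
    rw [Ideal.mk_ker]
    ext p
    refine ⟨fun hp => ?_, fun hp => ?_⟩
    · exact PrimeSpectrum.ext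
        ((IsLocalRing.maximalIdeal.isMaximal _).eq_of_le p.isPrime.ne_top
          (p.isPrime.le_of_pow_le ((PrimeSpectrum.mem_zeroLocus _ _).1 hp))).symm
    · rw [Set.mem_singleton_iff.1 hp]
      exact (PrimeSpectrum.mem_zeroLocus _ _).2 (Ideal.pow_le_self n.succ_ne_zero)
  have hr : Set.range (q ≫ S.fromSpecStalk s) = {s} := by
    rw [Scheme.Hom.comp_base, TopCat.coe_comp, Set.range_comp, hq]
    exact Set.image_singleton.trans (congrArg _ Scheme.fromSpecStalk_closedPoint)
  exact ⟨IsClosedImmersion.of_isPreimmersion _ (hr ▸ hs), hr⟩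

end Scheme

section Space

variable {S : Scheme.{u}} {X : Sp S}

theorem hom_eq_of_ofPt_eq (hX : IsAlgSpace X) {T U : Over S} {a : (yon S).obj T ⟶ X}
    {b : (yon S).obj U ⟶ X} {t : T.left} {v : U.left}
    (h : AlgSp.Points.ofPt a t = AlgSp.Points.ofPt b v) : T.hom t = U.hom v := by
  obtain ⟨W, fst, snd, sq⟩ := exists_pullback_yon (representable_of_diag hX.diag a) b
  obtain ⟨w, rfl, rfl⟩ := (ofPt_eq_ofPt_iff sq t v).1 h
  rw [← Scheme.Hom.comp_apply, ← Scheme.Hom.comp_apply, Over.w, Over.w]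

/-- A map from the terminal scheme gives a projection with the same property. -/
theorem repWith_prod_fst {P : MorphismProperty Scheme.{u}} [P.RespectsIso]
    [P.IsStableUnderBaseChange] (T : Over S) (hT : P T.hom) :
    RepWith P (prod.fst : X ⨯ (yon S).obj T ⟶ X) := by
  let e : T ⟶ Over.mk (𝟙 S) := Over.homMk T.hom (Category.comp_id _)
  have ht : IsTerminal ((yon S).obj (Over.mk (𝟙 S))) :=
    Over.mkIdTerminal.isTerminalObj (yon S) _
  have sq : IsPullback (prod.snd : X ⨯ (yon S).obj T ⟶ _) prod.fst ((yon S).map e) (ht.from X) :=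
    (IsPullback.of_isLimit_binaryFan_of_isTerminal (prodIsProd X ((yon S).obj T)) ht).flip.of_iso
      (Iso.refl _) (Iso.refl _) (Iso.refl _) (Iso.refl _) (by simp) (by simp)
      (ht.hom_ext _ _) (ht.hom_ext _ _)
  exact repWith_of_isPullback sq ((repWith_yon_map_iff P e).2 hT)

/-- Every point has an affine étale neighbourhood, each point of which is either a specialization
of a point of the generic fibre or lies over the image of the given point. -/
theorem exists_chart [IsIntegral S]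
    (hD : ∀ U : S.affineOpens, Nonempty (U : S.Opens) → IsDedekindDomain Γ(S, U))
    {Y : Over S} {p : (yon S).obj Y ⟶ X} (hp : RepWith @Etale p) [LocallyOfFiniteType Y.hom]
    (y : Y.left) :
    ∃ (U : Over S) (a : (yon S).obj U ⟶ X), IsAffine U.left ∧ NoetherianSpace U.left ∧
      RepWith @Etale a ∧ AlgSp.Points.ofPt p y ∈ Set.range (AlgSp.Points.ofPt a) ∧
        ∀ v, (∃ w, w ⤳ v ∧ U.hom w = genericPoint S) ∨
          (IsClosed ({Y.hom y} : Set S) ∧ U.hom v = Y.hom y) := by
  obtain ⟨_, ⟨A₀, hA₀, rfl⟩, hy₀, -⟩ :=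
    Y.left.isBasis_affineOpens.exists_subset_of_mem_open (Set.mem_univ y) isOpen_univ
  have := isLocallyNoetherian hD
  have : IsLocallyNoetherian Y.left := LocallyOfFiniteType.isLocallyNoetherian Y.hom
  have hN : ∀ A : Y.left.Opens, IsAffineOpen A → NoetherianSpace (A : Scheme.{u}) := fun A hA => by
    have : CompactSpace (A : Scheme.{u}) := isCompact_iff_compactSpace.1 hA.isCompact
    have : IsLocallyNoetherian (A : Scheme.{u}) := isLocallyNoetherian_of_isOpenImmersion A.ι
    have : AlgebraicGeometry.IsNoetherian (A : Scheme.{u}) := { }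
    infer_instance
  have := hN A₀ hA₀
  let bad : Set S := (fun g => Y.hom ((Scheme.Opens.ι A₀) g)) '' genericPoints ((A₀ : Scheme.{u}) : Type u)
  let bad' : Set S := bad \ {genericPoint S, Y.hom y}
  have hbad : IsClosed bad' := by
    rw [← Set.biUnion_of_singleton bad']
    exact (((genericPoints.finite NoetherianSpace.finite_irreducibleComponents).image _).subset
      Set.sdiff_subset).isClosed_biUnion fun s hs =>
        isClosed_singleton hD fun e => hs.2 (Or.inl e)
  have hy : y ∈ (A₀ : Set Y.left) ∩ Y.hom ⁻¹' bad'ᶜ := ⟨hy₀, fun h => h.2 (Or.inr rfl)⟩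
  obtain ⟨_, ⟨A, hA, rfl⟩, hyA, hAG⟩ := Y.left.isBasis_affineOpens.exists_subset_of_mem_open hy
    (A₀.isOpen.inter (hbad.isOpen_compl.preimage Y.hom.continuous))
  let U : Over S := Over.mk (Scheme.Opens.ι A ≫ Y.hom)
  let i : U ⟶ Y := Over.homMk (Scheme.Opens.ι A) rfl
  have hi : Etale i.left := inferInstanceAs (Etale (Scheme.Opens.ι A))
  refine ⟨U, (yon S).map i ≫ p, hA, hN A hA, repWith_comp ((repWith_yon_map_iff _ i).2 hi) hp,
    ⟨⟨y, hyA⟩, ofPt_comp_yon i p _⟩, fun v => ?_⟩
  obtain ⟨g, hg, hgv⟩ := Saturation.exists_genericPoint_specializes (W := (A₀ : Scheme.{u}))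
    ⟨v.1, (hAG v.2).1⟩
  have hgv' : (Scheme.Opens.ι A₀) g ⤳ (Scheme.Opens.ι A) v := hgv.map (Scheme.Opens.ι A₀).continuous
  have hgA : (Scheme.Opens.ι A₀) g ∈ A := hgv'.mem_open A.isOpen v.2
  by_cases hη : Y.hom ((Scheme.Opens.ι A₀) g) = genericPoint S
  · exact Or.inl ⟨⟨(Scheme.Opens.ι A₀) g, hgA⟩, (subtype_specializes_iff _ _).2 hgv', hη⟩
  · have hgy : Y.hom ((Scheme.Opens.ι A₀) g) = Y.hom y := by
      by_contra hne
      exact (hAG hgA).2 ⟨⟨g, hg, rfl⟩, fun h => h.elim hη hne⟩
    have hcl : IsClosed ({Y.hom y} : Set S) := hgy ▸ isClosed_singleton hD hη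
    refine Or.inr ⟨hcl, ?_⟩
    have hsp : Y.hom y ⤳ U.hom v := hgy ▸ hgv'.map Y.hom.continuous
    exact hsp.mem_closed hcl rfl

/-- A space which near every point is covered by the flat closure of its generic fibre and by a
special fibre is a scheme, when both of these are schemes. -/
theorem isRepresentable [IsIntegral S]
    (hD : ∀ U : S.affineOpens, Nonempty (U : S.Opens) → IsDedekindDomain Γ(S, U))
    (hX : IsAlgSpace X) {Y : Over S} {p : (yon S).obj Y ⟶ X} (hp : RepWith @Etale p)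
    (hps : RepWith @Surjective p) [LocallyOfFiniteType Y.hom]
    {Xb : Over S} (j : (yon S).obj Xb ⟶ X) [Mono j]
    (hbar : ∀ (T : Over S), Flat T.hom → ∀ a : (yon S).obj T ⟶ X,
      ∃ b : T ⟶ Xb, (yon S).map b ≫ j = a)
    (hfib : ∀ s : S, IsClosed ({s} : Set S) → ∃ (T₀ : Over S), IsClosedImmersion T₀.hom ∧
      Set.range T₀.hom = {s} ∧ (X ⨯ (yon S).obj T₀).obj.IsRepresentable) :
    X.obj.IsRepresentable := by
  refine isRepresentable_of_schematic ⟨X, hX⟩ fun x => ?_
  obtain ⟨y, rfl⟩ := surjective_ofPt_of_repWith hps x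
  obtain ⟨U, a, hUaff, hUN, ha, hya, hdich⟩ := exists_chart hD hp y
  -- the open subspace covered by the chart
  let W := Set.range (AlgSp.Points.ofPt a)
  have hW : IsOpen W := (isOpenMap_ofPt_of_etale ha).isOpen_range
  have hWs := isAlgSpace_openSub hX hW
  let ι := openSubι X W
  have hι : RepWith @IsOpenImmersion ι := repWith_openSubι hW
  have : Mono ι := mono_of_repWith (fun _ _ g (_ : IsOpenImmersion g) => inferInstance) hι
  obtain ⟨aW, haW⟩ := (openSub_exists_lift_iff X W a).2 fun t => ⟨t, rfl⟩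
  have haWe : RepWith @Etale aW := by
    refine repWith_of_isPullback (a := 𝟙 _) (b := ι) ?_ ha
    refine ⟨⟨by rw [Category.id_comp, haW]⟩, ⟨PullbackCone.IsLimit.mk _ (fun c => c.fst)
      (fun c => Category.comp_id _) (fun c => ?_)
      (fun c m h₁ _ => (Category.comp_id m).symm.trans h₁)⟩⟩
    rw [← cancel_mono ι, Category.assoc, haW]
    exact c.condition
  have hsurjW : Function.Surjective (AlgSp.Points.ofPt aW) := fun z => by
    obtain ⟨t, ht⟩ : AlgSp.Points.map ι z ∈ W := (range_map_openSubι (X := X) (W := W)).le ⟨z, rfl⟩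
    refine ⟨t, Groth.AlgSp2.map_injective_of_mono ι ?_⟩
    rw [AlgSp.Points.map_ofPt, haW, ht]
  -- its reduction
  obtain ⟨R, i, hR, hi⟩ := Groth.AlgSp3.exists_isRedInduced hWs (C := Set.univ) isClosed_univ
  obtain ⟨V, v', v, sqV⟩ := hi.1.rep aW
  have hv' : IsClosedImmersion v'.left := hi.1.property aW v v' sqV
  have hve : RepWith @Etale v := repWith_of_isPullback sqV.flip haWe
  have hvs : RepWith @Surjective v := repWith_surjective_of_points hve.rep fun r => by
    obtain ⟨t, ht⟩ := hsurjW (AlgSp.Points.map i r)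
    obtain ⟨w, hw, -⟩ := (map_eq_ofPt_iff sqV r t).1 ht.symm
    exact ⟨AlgSp.Points.ofScheme V w, (ofPt_eq_map v w).symm.trans hw⟩
  have hVc : CompactSpace V.left := v'.left.isClosedEmbedding.compactSpace
  have hqc : IsQuasiCompactSp R := ⟨V, v, hve, hvs, hVc⟩
  let ρR : R ⟶ X := i ≫ ι
  have hρR : Representable ρR := MorphismProperty.comp_mem _ _ _ hi.1.rep hι.rep
  -- the closure of the generic fibre
  let E : Set U.left := {w | U.hom w = genericPoint S}
  let C := closure (AlgSp.Points.ofPt a '' E)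
  obtain ⟨Cs, jC, hCs, hjC⟩ := Groth.AlgSp3.exists_isRedInduced hR
    (C := AlgSp.Points.map ρR ⁻¹' C) (isClosed_closure.preimage (AlgSp.Points.continuous_map ρR))
  obtain ⟨Vc, k', k, sqk⟩ := hjC.1.rep v
  have hk' : IsClosedImmersion k'.left := hjC.1.property v k k' sqk
  have hke : RepWith @Etale k := repWith_of_isPullback sqk.flip hve
  have hks : RepWith @Surjective k := repWith_of_isPullback sqk.flip hvs
  have := Groth.AlgSp2.Approx.isReduced_of_etale_chart hCs hjC.2.2 hke
  let m : Vc ⟶ U := k' ≫ v'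
  have hm : (yon S).map m ≫ a = k ≫ jC ≫ ρR := by
    rw [Functor.map_comp, Category.assoc, ← haW, ← Category.assoc ((yon S).map v') aW,
      ← sqV.w, Category.assoc, ← reassoc_of% sqk.w]
  have hkpt : ∀ z, AlgSp.Points.map ρR (AlgSp.Points.map jC (AlgSp.Points.ofPt k z)) =
      AlgSp.Points.ofPt a (m.left z) := fun z => by
    rw [AlgSp.Points.map_ofPt, AlgSp.Points.map_ofPt, Category.assoc, ← hm, ofPt_comp_yon]
  have hflat : Flat Vc.hom := flat_of_generizes hD Vc.hom fun z => by
    have hzC : AlgSp.Points.ofPt a (m.left z) ∈ C := by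
      rw [← hkpt]
      exact hjC.2.1.le ⟨_, rfl⟩
    have hzE : m.left z ∈ closure E := by
      have h := ((isOpenMap_ofPt_of_etale ha).preimage_closure_eq_closure_preimage
        (AlgSp.Points.continuous_ofPt a) (AlgSp.Points.ofPt a '' E)).le hzC
      refine closure_mono ?_ h
      rintro w ⟨e, he, hew⟩
      exact (hom_eq_of_ofPt_eq hX hew).symm.trans he
    obtain ⟨w, hw, hwη⟩ := exists_specializes_of_mem_closure U.hom hzE
    -- lift the generization
    obtain ⟨r, hr⟩ : AlgSp.Points.ofPt aW w ∈ Set.range (AlgSp.Points.map i) :=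
      hi.2.1.ge (Set.mem_univ _)
    obtain ⟨w₁, hw₁, hw₁'⟩ := (map_eq_ofPt_iff sqV r w).1 hr
    have hrC : r ∈ Set.range (AlgSp.Points.map jC) := by
      refine hjC.2.1.ge (subset_closure ⟨w, hwη, ?_⟩)
      show AlgSp.Points.ofPt a w = AlgSp.Points.map ρR r
      rw [AlgSp.Points.map_comp, hr, AlgSp.Points.map_ofPt, haW]
    obtain ⟨c, hc⟩ := hrC
    obtain ⟨w₂, -, hw₂⟩ := (map_eq_ofPt_iff sqk c w₁).1 (hc.trans hw₁.symm)
    have hmw : m.left w₂ = w := by
      show v'.left (k'.left w₂) = w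
      rw [hw₂, hw₁']
    have : IsClosedImmersion m.left := inferInstanceAs (IsClosedImmersion (k'.left ≫ v'.left))
    refine ⟨w₂, m.left.isClosedEmbedding.isInducing.specializes_iff.1 (hmw.symm ▸ hw), ?_⟩
    rw [← Over.w m, Scheme.Hom.comp_apply, hmw, hwη]
  obtain ⟨b, hb⟩ := hbar Vc hflat ((yon S).map m ≫ a)
  obtain ⟨β, hβ⟩ := Groth.AlgSp2.exists_desc_of_etale k hke hks ((yon S).map b) fun Z p q e => by
    rw [← cancel_mono j, Category.assoc, Category.assoc, hb, hm, reassoc_of% e]
  have hβj : β ≫ j = jC ≫ ρR := Groth.AlgSp2.hom_ext_of_etale k hke hks (by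
    rw [← Category.assoc, hβ, hb, hm])
  have hρC : Representable (jC ≫ ρR) := MorphismProperty.comp_mem _ _ _ hjC.1.rep hρR
  obtain ⟨WA, n', n, sqn⟩ := hρC j
  have hn : Mono n := by
    refine ⟨fun {Z} g₁ g₂ e => sqn.hom_ext e ?_⟩
    rw [← cancel_mono j, Category.assoc, Category.assoc, ← sqn.w, reassoc_of% e]
  let l := sqn.lift (𝟙 Cs) β (by rw [Category.id_comp, hβj])
  have hl : l ≫ n = 𝟙 Cs := sqn.lift_fst _ _ _
  let eA : (yon S).obj WA ≅ Cs :=
    ⟨n, l, by rw [← cancel_mono n, Category.assoc, hl, Category.comp_id, Category.id_comp], hl⟩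
  have : IsIso eA.hom := eA.isIso_hom
  have ha₀ : RepWith @IsClosedImmersion (eA.hom ≫ jC) := repWith_comp (repWith_isIso _) hjC.1
  have hA : ∀ r, AlgSp.Points.map ρR r ∈ C → r ∈ Set.range (AlgSp.Points.map (eA.hom ≫ jC)) := by
    intro r hr
    obtain ⟨c, hc⟩ := hjC.2.1.ge hr
    refine ⟨AlgSp.Points.map eA.inv c, ?_⟩
    rw [← AlgSp.Points.map_comp, Iso.inv_hom_id_assoc, hc]
  -- the special fibre
  have hB : ∃ (WB : Over S) (b₀ : (yon S).obj WB ⟶ R), RepWith @IsClosedImmersion b₀ ∧
      ∀ r, r ∈ Set.range (AlgSp.Points.map (eA.hom ≫ jC)) ∨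
        r ∈ Set.range (AlgSp.Points.map b₀) := by
    have hrest : ∀ r, ∃ t, AlgSp.Points.map ρR r = AlgSp.Points.ofPt a t := fun r => by
      obtain ⟨t, ht⟩ := hsurjW (AlgSp.Points.map i r)
      exact ⟨t, by rw [AlgSp.Points.map_comp, ← ht, AlgSp.Points.map_ofPt, haW]⟩
    have hgen : ∀ t w, w ⤳ t → U.hom w = genericPoint S → AlgSp.Points.ofPt a t ∈ C :=
      fun t w hw hwη => (hw.map (AlgSp.Points.continuous_ofPt a)).mem_closed isClosed_closure
        (subset_closure ⟨w, hwη, rfl⟩)
    by_cases hcl : IsClosed ({Y.hom y} : Set S)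
    · obtain ⟨T₀, hT₀, hT₀r, hT₀s⟩ := hfib _ hcl
      obtain ⟨P₀, ⟨hP₀⟩⟩ := hT₀s
      let e₀ := isoOfRepresentableBy hP₀
      let bX := e₀.hom ≫ prod.fst (X := X) (Y := (yon S).obj T₀)
      have hbX : RepWith @IsClosedImmersion bX :=
        repWith_comp (repWith_isIso _) (repWith_prod_fst T₀ hT₀)
      obtain ⟨WB, o', o, sqo⟩ := hρR bX
      refine ⟨WB, o, repWith_of_isPullback sqo.flip hbX, fun r => ?_⟩
      obtain ⟨t, ht⟩ := hrest r
      rcases hdich t with ⟨w, hw, hwη⟩ | ⟨-, hts⟩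
      · exact Or.inl (hA r (ht ▸ hgen t w hw hwη))
      · refine Or.inr ?_
        obtain ⟨q, hq⟩ : t ∈ Set.range (pullback.fst U.hom T₀.hom) := by
          rw [Scheme.Pullback.range_fst, Set.mem_preimage, hT₀r, hts]
          exact rfl
        let P : Over S := Over.mk (pullback.fst U.hom T₀.hom ≫ U.hom)
        let p₁ : P ⟶ U := Over.homMk (pullback.fst U.hom T₀.hom) rfl
        let p₂ : P ⟶ T₀ := Over.homMk (pullback.snd U.hom T₀.hom) pullback.condition.symm
        let z := AlgSp.Points.ofPt (prod.lift ((yon S).map p₁ ≫ a) ((yon S).map p₂) ≫ e₀.inv) q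
        have hz : AlgSp.Points.map bX z = AlgSp.Points.map ρR r := by
          rw [AlgSp.Points.map_ofPt, Category.assoc, Iso.inv_hom_id_assoc, prod.lift_fst,
            ofPt_comp_yon, ht]
          exact congrArg _ hq
        obtain ⟨c, hc, -⟩ := exists_point_of_isPullback sqo r z hz.symm
        exact ⟨c, hc⟩
    · refine ⟨WA, eA.hom ≫ jC, ha₀, fun r => Or.inl ?_⟩
      obtain ⟨t, ht⟩ := hrest r
      rcases hdich t with ⟨w, hw, hwη⟩ | ⟨h, -⟩
      · exact hA r (ht ▸ hgen t w hw hwη)
      · exact absurd h hcl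
  obtain ⟨WB, b₀, hb₀, hcov⟩ := hB
  have hRrep := Groth.AlgSp2.Approx.isRepresentable_of_union hR hqc hi.2.2 ha₀ hb₀ hcov
  obtain ⟨G, ⟨eG⟩⟩ := Groth.AlgSpBasic.exists_iso_of_representable ⟨R, hR⟩ hRrep
  have hsurj : RepWith @Surjective i :=
    repWith_surjective_of_points hi.1.rep fun z => hi.2.1.ge (Set.mem_univ z)
  have hthick : IsThickMor (eG.hom ≫ i) :=
    repWith_inf_iff.2 ⟨repWith_comp (repWith_isIso _) hi.1, repWith_comp (repWith_isIso _) hsurj⟩
  obtain ⟨T', ⟨e'⟩⟩ := Groth.AlgSpThick.exists_iso_yon_of_thick hWs hthick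
  refine ⟨T', e'.hom ≫ ι, repWith_comp (repWith_isIso _) hι, ?_⟩
  obtain ⟨c, hc⟩ := (range_map_openSubι (X := X) (W := W)).ge hya
  obtain ⟨t, ht⟩ := surjective_ofPt_of_repWith
    (repWith_isIso (P := @Surjective) e'.hom) c
  exact ⟨t, by rw [← hc, ← ht, AlgSp.Points.map_ofPt]⟩

end Space

end

end Groth.AlgSpBasic.DedekindClosure
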