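import Groth.Agent.AlgSpBasic.BddFibres
import Groth.Agent.FlatMor2.Weighting.FibreDegree
import Groth.Agent.AlgSp3.RedInduced
import Groth.Prelude.Def_AlgSpMor5
import Groth.Prelude.Def_AlgSpSub

/-!
# The stratification of an algebraic space by the degree of the fibres
-/

set_option autoImplicit false
set_option backward.isDefEq.respectTransparency.types false
universe u

open CategoryTheory CategoryTheory.Limits AlgebraicGeometry Topology TopologicalSpace Opposite AlgSp

namespace Groth.AlgSpBasic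

variable {S : Scheme.{u}} {F : Sp S} {W : Over S}

theorem fibreAtLE_restrict_iff {r : ℕ} {w : (yon S).obj W ⟶ F} (hw : Representable w) (q : FieldPt F)
    {Ω : Type u} [Field Ω] {str : Spec (CommRingCat.of Ω) ⟶ S} (a : Over.mk str ⟶ q.pt) :
    FibreAtLE r w (mkPt ((yon S).map a ≫ q.toHom)) ↔ FibreAtLE r w q := by
  obtain ⟨T, c, snd, sq⟩ := exists_fibre hw q
  have sqT := IsPullback.of_hasPullback c a
  have big := (isPullback_yon sqT.flip).paste_vert sq
  have hleft := isPullback_left sqT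
  obtain ⟨i, hi⟩ : ∃ i, Spec.map i = a.left := ⟨_, Spec.map_preimage _⟩
  rw [← hi] at hleft
  have key := Groth.Misc3Fib.finiteOfDegLE_iff_of_isPullback (k := q.K) (L := Ω) hleft r
  constructor
  · intro h
    exact ⟨T, c, snd, sq, key.1 (fibreAtLE_unique (q := mkPt ((yon S).map a ≫ q.toHom)) h
      (T := pullback c a) (c := pullback.snd c a) (by rw [mkPt_toHom]; exact big))⟩
  · intro h
    exact ⟨pullback c a, pullback.snd c a, _, by rw [mkPt_toHom]; exact big,
      key.2 (fibreAtLE_unique h sq)⟩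

theorem fibreAtLE_congr {r : ℕ} {w : (yon S).obj W ⟶ F} (hw : Representable w) {q q' : FieldPt F}
    (h : AlgSp.Points.mk q = AlgSp.Points.mk q') : FibreAtLE r w q ↔ FibreAtLE r w q' := by
  obtain ⟨Ω, hΩ, str, a, b, hab⟩ := rel_iff.1 (Points.mk_eq_mk_iff.1 h)
  have hab' : (yon S).map a ≫ q.toHom = (yon S).map b ≫ q'.toHom := hab
  rw [← fibreAtLE_restrict_iff hw q a, hab', fibreAtLE_restrict_iff hw q' b]

/-- The points over which the fibre has degree at most `r`. -/
def degLESet (w : (yon S).obj W ⟶ F) (r : ℕ) : Set (AlgSp.Points F) :=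
  {x | ∃ q : FieldPt F, AlgSp.Points.mk q = x ∧ FibreAtLE r w q}

theorem mk_mem_degLESet_iff {w : (yon S).obj W ⟶ F} (hw : Representable w) (r : ℕ) (q : FieldPt F) :
    AlgSp.Points.mk q ∈ degLESet w r ↔ FibreAtLE r w q :=
  ⟨fun ⟨_, hq, h⟩ => (fibreAtLE_congr hw hq).1 h, fun h => ⟨q, rfl, h⟩⟩

/-- The value of `degLESet` along a chart. -/
theorem ofPt_mem_degLESet_iff {w : (yon S).obj W ⟶ F} (hw : Representable w) {T V : Over S}
    {g : (yon S).obj T ⟶ F} {snd : V ⟶ T} {pr : (yon S).obj V ⟶ (yon S).obj W}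
    (sq : IsPullback ((yon S).map snd) pr g w) [LocallyQuasiFinite snd.left] (t : ↥T.left)
    (hfin : (snd.left ⁻¹' {t}).Finite) (r : ℕ) :
    AlgSp.Points.ofPt g t ∈ degLESet w r ↔ Groth.FlatMor2.fibDeg snd.left t ≤ r := by
  refine (mk_mem_degLESet_iff hw r (FieldPt.ofPt g t)).trans ?_
  let gm : Over.mk (T.left.fromSpecResidueField t ≫ T.hom) ⟶ T :=
    Over.homMk (T.left.fromSpecResidueField t) rfl
  have hs := isPullback_left (IsPullback.of_hasPullback snd gm)
  have big := (isPullback_yon (IsPullback.of_hasPullback snd gm).flip).paste_vert sq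
  have hq : (FieldPt.ofPt g t).toHom = (yon S).map gm ≫ g := FieldPt.toHom_ofPt g t
  rw [← hq] at big
  haveI := Groth.FlatMor2.isFinite_fibMap snd.left t hfin
  have key : BddFib.FiniteOfDegLE (T.left.residueField t) (snd.left.fiberToSpecResidueField t) r ↔
      Groth.FlatMor2.fibDeg snd.left t ≤ r := by
    refine (Groth.Misc3Fib.finiteOfDegLE_iff (Groth.FlatMor2.fibMap snd.left t) r).trans ?_
    rw [Groth.Misc3Fib.deg_eq_finrank (Groth.FlatMor2.fibMap snd.left t)
      (IsLocalRing.closedPoint (T.left.residueField t))]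
    exact and_iff_right inferInstance
  refine Iff.trans ⟨fun h => ?_, fun h => ?_⟩ key
  · exact Groth.Misc3Fib.finiteOfDegLE_of_iso hs.isoPullback.symm
      (snd.left.fiberToSpecResidueField t) (pullback.snd snd gm).left hs.isoPullback_inv_snd
      (fibreAtLE_unique h big)
  · exact ⟨_, pullback.snd snd gm, _, big, Groth.Misc3Fib.finiteOfDegLE_of_iso hs.isoPullback
      (pullback.snd snd gm).left (snd.left.fiberToSpecResidueField t) hs.isoPullback_hom_snd h⟩

theorem finite_preimage_of_fibreDegLE {X Y : Scheme.{u}} (f : X ⟶ Y) {n : ℕ}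
    (h : BddFib.FibreDegLE f n) (y : ↥Y) : (f ⁻¹' {y}).Finite := by
  haveI : IsFinite (f.fiberToSpecResidueField y) :=
    ((Groth.Misc3Fib.finiteOfDegLE_iff (f.fiberToSpecResidueField y) n).1 (h y)).1
  haveI : Finite ↥(f.fiber y) := (Groth.Misc3Fib.finite_discrete_of_isFinite
    (k := ↥(Y.residueField y)) (f.fiberToSpecResidueField y)).1
  exact Set.finite_coe_iff.1 (Finite.of_equiv _ (f.fiberHomeo y).toEquiv)

end Groth.AlgSpBasic

namespace Groth.AlgSpBasic

variable {S : Scheme.{u}} {F : Sp S} {W : Over S} {w : (yon S).obj W ⟶ F} {n : ℕ}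

/-- The hypotheses of the stratification on a chart. -/
structure StrataChart {T V : Over S} (snd : V ⟶ T) : Prop where
  flat : Flat snd.left
  lfp : LocallyOfFinitePresentation snd.left
  sep : IsSeparated snd.left
  lqf : LocallyQuasiFinite snd.left
  fin : ∀ t, (snd.left ⁻¹' {t}).Finite

theorem strataChart (hfl : RepWith @Flat w) (hfp : RepWith @LocallyOfFinitePresentation w)
    (hsep : RepWith @IsSeparated w) (hqf : RepWith @LocallyQuasiFinite w)
    (hb : W4dec.DegFibresLE n w) {T V : Over S} {g : (yon S).obj T ⟶ F} {snd : V ⟶ T}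
    {pr : (yon S).obj V ⟶ (yon S).obj W} (sq : IsPullback ((yon S).map snd) pr g w) :
    StrataChart snd :=
  ⟨hfl.property g pr snd sq.flip, hfp.property g pr snd sq.flip, hsep.property g pr snd sq.flip,
    hqf.property g pr snd sq.flip, fun t => finite_preimage_of_fibreDegLE snd.left
      (fibreDegLE_left (degFibresLE_of_isPullback sq.flip hb)) t⟩

theorem isClosed_degLESet (hfl : RepWith @Flat w) (hfp : RepWith @LocallyOfFinitePresentation w)
    (hsep : RepWith @IsSeparated w) (hqf : RepWith @LocallyQuasiFinite w)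
    (hb : W4dec.DegFibresLE n w) (r : ℕ) : IsClosed (degLESet w r) := by
  rw [← isOpen_compl_iff, Points.isOpen_iff]
  intro T g
  obtain ⟨V, snd, fst, sq⟩ := hfl.rep g
  have sq' := sq.flip
  obtain ⟨h1, h2, h3, h4, h5⟩ := strataChart hfl hfp hsep hqf hb sq'
  haveI := h1; haveI := h2; haveI := h3; haveI := h4
  have : AlgSp.Points.ofPt g ⁻¹' (degLESet w r)ᶜ =
      {t | Groth.FlatMor2.fibDeg snd.left t ≤ r}ᶜ := by
    ext t
    exact not_congr (ofPt_mem_degLESet_iff hfl.rep sq' t (h5 t) r)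
  rw [this]
  exact (Groth.FlatMor2.isClosed_fibDeg_le snd.left h5 r).isOpen_compl

theorem degLESet_eq_univ (hw : Representable w) (hb : W4dec.DegFibresLE n w) :
    degLESet w n = Set.univ :=
  Set.eq_univ_of_forall fun x => by
    obtain ⟨q, rfl⟩ := AlgSp.Points.mk_surjective x
    exact (mk_mem_degLESet_iff hw n q).2 ((degFibresLE_iff hw).1 hb q)

theorem degLESet_mono {r s : ℕ} (h : r ≤ s) : degLESet w r ⊆ degLESet w s := by
  rintro _ ⟨q, rfl, T, c, snd, sq, hd⟩
  exact ⟨q, rfl, T, c, snd, sq, finiteOfDegLE_mono hd h⟩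

/-- The closed sets of the stratification, shifted by one. -/
def strataSet (w : (yon S).obj W ⟶ F) : ℕ → Set (AlgSp.Points F)
  | 0 => ∅
  | r + 1 => degLESet w r

theorem mem_strata_iff (hfl : RepWith @Flat w) (hfp : RepWith @LocallyOfFinitePresentation w)
    (hsep : RepWith @IsSeparated w) (hqf : RepWith @LocallyQuasiFinite w)
    (hb : W4dec.DegFibresLE n w) {T V : Over S} {g : (yon S).obj T ⟶ F} {snd : V ⟶ T}
    {pr : (yon S).obj V ⟶ (yon S).obj W} (sq : IsPullback ((yon S).map snd) pr g w) (r : ℕ)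
    (t : ↥T.left) :
    AlgSp.Points.ofPt g t ∈ strataSet w (r + 1) \ strataSet w r ↔
      Groth.FlatMor2.fibDeg snd.left t = r := by
  obtain ⟨h1, h2, h3, h4, h5⟩ := strataChart hfl hfp hsep hqf hb sq
  haveI := h4
  rw [Set.mem_sdiff]
  cases r with
  | zero =>
    show AlgSp.Points.ofPt g t ∈ degLESet w 0 ∧ AlgSp.Points.ofPt g t ∉ (∅ : Set _) ↔ _
    rw [ofPt_mem_degLESet_iff hfl.rep sq t (h5 t) 0]
    simp
  | succ r =>
    show AlgSp.Points.ofPt g t ∈ degLESet w (r + 1) ∧ AlgSp.Points.ofPt g t ∉ degLESet w r ↔ _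
    rw [ofPt_mem_degLESet_iff hfl.rep sq t (h5 t), ofPt_mem_degLESet_iff hfl.rep sq t (h5 t)]
    omega

theorem finLocFreeOfDeg_iff_strata (hfl : RepWith @Flat w)
    (hfp : RepWith @LocallyOfFinitePresentation w)
    (hsep : RepWith @IsSeparated w) (hqf : RepWith @LocallyQuasiFinite w)
    (hb : W4dec.DegFibresLE n w) {T V : Over S} {g : (yon S).obj T ⟶ F} {snd : V ⟶ T}
    {pr : (yon S).obj V ⟶ (yon S).obj W} (sq : IsPullback ((yon S).map snd) pr g w) (r : ℕ) :
    finLocFreeOfDeg r snd.left ↔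
      ∀ t : ↥T.left, AlgSp.Points.ofPt g t ∈ strataSet w (r + 1) \ strataSet w r := by
  obtain ⟨h1, h2, h3, h4, h5⟩ := strataChart hfl hfp hsep hqf hb sq
  haveI := h1; haveI := h2; haveI := h3; haveI := h4
  have e : Arrow.mk (pullback.snd snd.left (𝟙 T.left)) ≅ Arrow.mk snd.left :=
    Arrow.isoMk (asIso (pullback.fst snd.left (𝟙 T.left))) (Iso.refl _) (by
      simp [pullback.condition])
  refine ((finLocFreeOfDeg r).arrow_mk_iso_iff e).symm.trans ?_
  refine (Groth.FlatMor2.isFinLocFreeOfDeg_iff snd.left h5 (𝟙 T.left) r).trans ?_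
  exact forall_congr' fun t => (mem_strata_iff hfl hfp hsep hqf hb sq r t).symm

theorem exists_degree_stratification (X : AlgSp.Space S) {w : (yon S).obj W ⟶ X.obj}
    (hfl : RepWith @Flat w) (hfp : RepWith @LocallyOfFinitePresentation w)
    (hsep : RepWith @IsSeparated w) (hqf : RepWith @LocallyQuasiFinite w)
    (hb : W4dec.DegFibresLE n w) :
    ∃ (Zs : ℕ → AlgSp.Space S) (i : ∀ r, Zs r ⟶ X),
      (∀ r, AlgSp.IsRedInduced (Set.range (AlgSp.Points.map (i r).hom)) (i r).hom) ∧
      ∀ r, Set.range (AlgSp.Points.map (i r).hom) = strataSet w r := by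
  have hcl : ∀ r, IsClosed (strataSet w r) := fun r => match r with
    | 0 => isClosed_empty
    | r + 1 => isClosed_degLESet hfl hfp hsep hqf hb r
  choose Z i hZ hi using fun r => Groth.AlgSp3.exists_isRedInduced X.property (hcl r)
  refine ⟨fun r => ⟨Z r, hZ r⟩, fun r => ObjectProperty.homMk (i r), fun r => ?_, fun r => (hi r).2.1⟩
  exact ⟨(hi r).1, rfl, (hi r).2.2⟩

theorem isFinLocFreeOfDegMor_iff_range {X : AlgSp.Space S} {w : (yon S).obj W ⟶ X.obj}
    (hfl : RepWith @Flat w) (hfp : RepWith @LocallyOfFinitePresentation w)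
    (hsep : RepWith @IsSeparated w) (hqf : RepWith @LocallyQuasiFinite w)
    (hb : W4dec.DegFibresLE n w) {T P : Sp S} (g : T ⟶ X.obj) {fst : P ⟶ (yon S).obj W}
    {snd : P ⟶ T} (sq : IsPullback fst snd w g) (r : ℕ) :
    IsFinLocFreeOfDegMor r snd ↔
      Set.range (AlgSp.Points.map g) ⊆ strataSet w (r + 1) \ strataSet w r := by
  have hflat : RepWith @Flat snd := repWith_of_isPullback sq hfl
  constructor
  · intro h
    rintro _ ⟨y, rfl⟩
    obtain ⟨U, a, t, rfl⟩ := exists_ofPt y
    obtain ⟨V, s, f, sqV⟩ := h.rep a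
    rw [Points.map_ofPt]
    exact (finLocFreeOfDeg_iff_strata hfl hfp hsep hqf hb (g := a ≫ g)
      (pr := f ≫ fst) ((sqV.paste_horiz sq).flip) r).1 (h.property a f s sqV) t
  · intro h
    refine repWith_of_exists fun U a => ?_
    obtain ⟨V, s, f, sqV⟩ := hflat.rep a
    refine ⟨V, f, s, sqV, (finLocFreeOfDeg_iff_strata hfl hfp hsep hqf hb (g := a ≫ g)
      (pr := f ≫ fst) ((sqV.paste_horiz sq).flip) r).2 fun t => ?_⟩
    rw [← Points.map_ofPt]
    exact h ⟨_, rfl⟩

end Groth.AlgSpBasic
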