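import Groth.Agent.AlgSpBasic.IntegralCover

/-!
# Integral covers which are finite etale over a dense open
-/

set_option autoImplicit false
set_option backward.isDefEq.respectTransparency.types false
universe u

open CategoryTheory CategoryTheory.Limits AlgebraicGeometry Topology TopologicalSpace Opposite AlgSp

namespace Groth.AlgSpBasic

noncomputable section

variable {S : Scheme.{u}}

/-- Quasi-compact opens form a basis of the points of an algebraic space. -/
theorem exists_isCompact_open_mem {X : Sp S} (hX : IsAlgSpace X) {G : Set (AlgSp.Points X)}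
    (hG : IsOpen G) {x : AlgSp.Points X} (hx : x ∈ G) :
    ∃ V : Set (AlgSp.Points X), IsOpen V ∧ IsCompact V ∧ x ∈ V ∧ V ⊆ G := by
  obtain ⟨U, a, ha, has⟩ := hX.atlas
  obtain ⟨u, rfl⟩ := surjective_ofPt_of_repWith has x
  obtain ⟨_, ⟨A, hA, rfl⟩, hu, hAG⟩ := U.left.isBasis_affineOpens.exists_subset_of_mem_open
    (show u ∈ AlgSp.Points.ofPt a ⁻¹' G from hx)
    (hG.preimage (AlgSp.Points.continuous_ofPt a))
  exact ⟨AlgSp.Points.ofPt a '' A, isOpenMap_ofPt_of_etale ha _ A.isOpen,
    hA.isCompact.image (AlgSp.Points.continuous_ofPt a), ⟨u, hu, rfl⟩, Set.image_subset_iff.2 hAG⟩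

/-- With finitely many irreducible components and a basis of quasi-compact opens, every open set
contains a quasi-compact open set which is dense in it. -/
theorem exists_isCompact_open_dense {α : Type*} [TopologicalSpace α]
    (hfin : (irreducibleComponents α).Finite)
    (hb : ∀ {G : Set α}, IsOpen G → ∀ {x}, x ∈ G → ∃ V, IsOpen V ∧ IsCompact V ∧ x ∈ V ∧ V ⊆ G)
    {G : Set α} (hG : IsOpen G) : ∃ V, IsOpen V ∧ IsCompact V ∧ V ⊆ G ∧ G ⊆ closure V := by
  classical
  have h : ∀ C : {C : irreducibleComponents α // (G ∩ C.1).Nonempty},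
      ∃ V, IsOpen V ∧ IsCompact V ∧ V ⊆ G ∧ (V ∩ C.1.1).Nonempty := fun C => by
    obtain ⟨x, hx, hxC⟩ := C.2
    obtain ⟨V, h₁, h₂, h₃, h₄⟩ := hb hG hx
    exact ⟨V, h₁, h₂, h₄, x, h₃, hxC⟩
  choose V ho hc hVG hne using h
  have := hfin.to_subtype
  refine ⟨⋃ C, V C, isOpen_iUnion ho, isCompact_iUnion hc, Set.iUnion_subset hVG, fun x hx => ?_⟩
  let C : {C : irreducibleComponents α // (G ∩ C.1).Nonempty} :=
    ⟨⟨irreducibleComponent x, irreducibleComponent_mem_irreducibleComponents x⟩, x, hx,
      mem_irreducibleComponent⟩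
  have hsub : irreducibleComponent x ⊆ closure (irreducibleComponent x ∩ V C) :=
    subset_closure_inter_of_isPreirreducible_of_isOpen
      isIrreducible_irreducibleComponent.2 (ho C) (by rw [Set.inter_comm]; exact hne C)
  exact closure_mono (Set.inter_subset_right.trans (Set.subset_iUnion V C))
    (hsub mem_irreducibleComponent)

/-- The morphism from the empty scheme. -/
theorem exists_integral_empty {X : Sp S} (hX : IsAlgSpace X) {U : Over S}
    (a : (yon S).obj U ⟶ X) :
    ∃ (Y : Over S) (g : (yon S).obj Y ⟶ X), RepWith @IsIntegralHom g ∧ LocalFactor a g ∧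
      FEOver g ∅ ∧ IsEmpty ↥Y.left := by
  let Y : Over S := Over.mk (emptyIsInitial.to S : (∅ : Scheme.{u}) ⟶ S)
  have : IsEmpty ↥Y.left := inferInstanceAs (IsEmpty ↥(∅ : Scheme.{u}))
  let j : Y ⟶ U := Over.homMk (emptyIsInitial.to U.left) (emptyIsInitial.hom_ext _ _)
  refine ⟨Y, (yon S).map j ≫ a, ?_, fun y => isEmptyElim y, ?_, this⟩
  · refine repWith_of_representable (representable_of_diag hX.diag _) fun T P t fst snd sq => ?_
    obtain ⟨l, hl⟩ := (yon S).map_surjective fst
    have : IsEmpty ↥P.left := ⟨fun p => isEmptyElim (l.left p)⟩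
    infer_instance
  · intro T P t fst snd _ ht
    have : IsEmpty ↥T.left := ⟨fun x => ht x⟩
    have : IsEmpty ↥P.left := ⟨fun p => isEmptyElim (snd.left p)⟩
    exact ⟨inferInstance, inferInstance⟩

/-- A space with finitely many components and an affine chart receives an integral surjection from
a scheme factoring locally through the chart, finite etale over a dense quasi-compact open. -/
theorem exists_integral_feOver_of_affine [QuasiSeparatedSpace ↥S] {X : Sp S} (hX : IsAlgSpace X)
    (hqs : IsQuasiSeparatedSp X) (hirr : (irreducibleComponents (AlgSp.Points X)).Finite)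
    {U : Over S} [IsAffine U.left] {a : (yon S).obj U ⟶ X} (ha : RepWith @Etale a)
    (has : RepWith @Surjective a) :
    ∃ (Y : Over S) (g : (yon S).obj Y ⟶ X) (O : Set (AlgSp.Points X)),
      RepWith @IsIntegralHom g ∧ LocalFactor a g ∧ Function.Surjective (AlgSp.Points.ofPt g) ∧
        IsOpen O ∧ IsCompact O ∧ Dense O ∧ FEOver g O := by
  classical
  obtain ⟨N, hN⟩ := exists_degFibresLE_of_qs hX hqs ha
  have hN' := confSet_eq_empty_of_degFibresLE hX ha hN
  let F : ℕ → Set (AlgSp.Points X) := fun n => confSet a (n + 1) \ confSet a (n + 2)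
  have hV : ∀ n, ∃ V, IsOpen V ∧ IsCompact V ∧ V ⊆ interior (F n) ∧ interior (F n) ⊆ closure V :=
    fun n => exists_isCompact_open_dense hirr (fun hG => exists_isCompact_open_mem hX hG)
      isOpen_interior
  choose V hVo hVc hVF hVd using hV
  have hVd' : ∀ n n', n' < n → Disjoint (V n) (V n') := fun n n' hlt => by
    rw [Set.disjoint_left]
    intro x hx hx'
    exact (interior_subset (hVF n' hx')).2
      (confSet_antitone (by omega) (interior_subset (hVF n hx)).1)
  have main : ∀ m, ∃ (Y : Over S) (g : (yon S).obj Y ⟶ X), RepWith @IsIntegralHom g ∧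
      LocalFactor a g ∧ (⋃ n < m, V n) ⊆ Set.range (AlgSp.Points.ofPt g) ∧
      Set.range (AlgSp.Points.ofPt g) ⊆ closure (⋃ n < m, V n) ∧ FEOver g (⋃ n < m, V n) := by
    intro m
    induction m with
    | zero =>
      obtain ⟨Y, g, hg, hf, hfe, hY⟩ := exists_integral_empty hX a
      refine ⟨Y, g, hg, hf, by simp, ?_, by simpa using hfe⟩
      rintro _ ⟨y, rfl⟩
      exact isEmptyElim y
    | succ m ih =>
      obtain ⟨Y₁, g₁, hg₁, hf₁, hr₁, hc₁, he₁⟩ := ih
      obtain ⟨Y₂, g₂, hg₂, hr₂, hc₂, he₂, hf⟩ := exists_integral_piece hX hqs ha has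
        (hVo m) (hVc m) (fun x hx => (interior_subset (hVF m hx)).1)
        (fun x hx => (interior_subset (hVF m hx)).2)
      have hf₂ : LocalFactor a g₂ := fun y => by
        obtain ⟨W, c, hy, e⟩ := hf y
        exact ⟨Over.mk (W.ι ≫ Y₂.hom), Over.homMk W.ι rfl, c,
          inferInstanceAs (IsOpenImmersion W.ι), ⟨(⟨y, hy⟩ : ↥W.toScheme), rfl⟩, e⟩
      obtain ⟨Y, g, hg, hf', hrg, hl, hr⟩ := exists_integral_union' hX a hg₁ hg₂ hf₁ hf₂
      have hU : (⋃ n < m + 1, V n) = (⋃ n < m, V n) ∪ V m := Set.biUnion_lt_succ V m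
      have ho : IsOpen (⋃ n < m, V n) := isOpen_biUnion fun n _ => hVo n
      have hdis : Disjoint (⋃ n < m, V n) (V m) := by
        simp only [Set.disjoint_iUnion_left]
        exact fun n hn => (hVd' m n hn).symm
      refine ⟨Y, g, hg, hf', ?_, ?_, ?_⟩
      · rw [hU, hrg]
        exact Set.union_subset_union hr₁ hr₂
      · rw [hU, hrg, closure_union]
        exact Set.union_subset_union hc₁ hc₂
      · rw [hU]
        exact feOver_union
          (hl _ he₁ (((hdis.closure_right ho)).mono_right hc₂))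
          (hr _ he₂ ((hdis.symm.closure_right (hVo m)).mono_right hc₁)) ho (hVo m)
  obtain ⟨Y, g, hg, hf, hr, -, he⟩ := main N
  let O : Set (AlgSp.Points X) := ⋃ n < N, V n
  have hdense : Dense O := by
    rw [dense_iff_inter_open]
    intro G hG hne
    obtain ⟨x, hx⟩ := hne
    have hex : ∃ k, ∀ y ∈ G, y ∉ confSet a (k + 1) :=
      ⟨N, fun y _ => hN' ▸ Set.notMem_empty y⟩
    have hk : Nat.find hex ≤ N := Nat.find_min' hex fun y _ => hN' ▸ Set.notMem_empty y
    have h0 : 0 < Nat.find hex := by
      by_contra h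
      have h' := Nat.find_spec hex x hx
      rw [show Nat.find hex = 0 by omega, confSet_one fun y => surjective_ofPt_of_repWith has y] at h'
      exact h' (Set.mem_univ x)
    obtain ⟨k, hk'⟩ : ∃ k, Nat.find hex = k + 1 := ⟨Nat.find hex - 1, by omega⟩
    have hspec := Nat.find_spec hex
    rw [hk'] at hspec
    have hmin := Nat.find_min hex (show k < Nat.find hex by omega)
    push Not at hmin
    obtain ⟨y, hy, hyk⟩ := hmin
    have hint : G ∩ confSet a (k + 1) ⊆ interior (F k) :=
      interior_maximal (fun z hz => ⟨hz.2, hspec z hz.1⟩)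
        (hG.inter (isOpen_confSet hX ha (k + 1)))
    obtain ⟨z, hz, hzV⟩ := mem_closure_iff.1 (hVd k (hint ⟨hy, hyk⟩)) G hG hy
    exact ⟨z, hz, Set.mem_iUnion₂.2 ⟨k, by omega, hzV⟩⟩
  refine ⟨Y, g, O, hg, hf, fun x => ?_, isOpen_biUnion fun n _ => hVo n,
    (Set.finite_lt_nat N).isCompact_biUnion fun n _ => hVc n, hdense, he⟩
  have hcl : IsClosed (Set.range (AlgSp.Points.ofPt g)) := by
    have h := (isClosedMap_map_of_repWith
      (fun _ _ φ (_ : IsIntegralHom φ) => φ.isClosedMap) hg).isClosed_range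
    have e : Set.range (AlgSp.Points.map g) = Set.range (AlgSp.Points.ofPt g) := by
      refine Set.ext fun z => ⟨?_, ?_⟩
      · rintro ⟨y, rfl⟩
        obtain ⟨w, rfl⟩ := (AlgSp.Points.schemeHomeo Y).surjective y
        exact ⟨w, ofPt_eq_map g w⟩
      · rintro ⟨w, rfl⟩
        exact ⟨_, (ofPt_eq_map g w).symm⟩
    rwa [e] at h
  exact hcl.closure_subset_iff.2 hr (hdense x)

/-- An integral cover of a space with finitely many components which is finite etale over a dense
quasi-compact open subspace and factors locally through a given chart. -/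
theorem exists_integral_feOver [QuasiSeparatedSpace ↥S] (X : AlgSp.Space S)
    (hqc : IsQuasiCompactSp X.obj) (hqs : IsQuasiSeparatedSp X.obj)
    (hirr : (irreducibleComponents (AlgSp.Points X.obj)).Finite)
    {V : Over S} {b : (yon S).obj V ⟶ X.obj} (hb : RepWith @Etale b) (hbs : RepWith @Surjective b) :
    ∃ (Y : Over S) (g : (yon S).obj Y ⟶ X.obj) (U : AlgSp.Space S) (jU : U ⟶ X),
      RepWith @IsIntegralHom g ∧ RepWith @Surjective g ∧ LocalFactor b g ∧
      RepWith @IsOpenImmersion jU.hom ∧ IsQuasiCompactSp U.obj ∧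
      Dense (Set.range (AlgSp.Points.map jU.hom)) ∧
      ∀ (P : AlgSp.Sp S) (fst : P ⟶ (yon S).obj Y) (snd : P ⟶ U.obj),
        IsPullback fst snd g jU.hom → RepWith @IsFinite snd ∧ RepWith @Etale snd := by
  obtain ⟨U, k, hU, ha, has⟩ := exists_affine_subchart X.property hqc hb hbs
  obtain ⟨Y, g, O, hg, hf, hs, ho, hc, hd, he⟩ :=
    exists_integral_feOver_of_affine X.property hqs hirr ha has
  have hO := isAlgSpace_openSub X.property ho
  have hj := repWith_openSubι (X := X.obj) ho
  refine ⟨Y, g, ⟨openSub X.obj O, hO⟩, ObjectProperty.homMk (openSubι X.obj O), hg,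
    repWith_surjective_of_ofPt hg.rep hs, fun y => ?_, hj, ?_, ?_, fun P fst snd sq => ?_⟩
  · obtain ⟨W, i, c, hi, hy, e⟩ := hf y
    exact ⟨W, i, c ≫ k, hi, hy, by rw [Functor.map_comp, Category.assoc, e]⟩
  · refine (isQuasiCompactSp_iff_compactSpace hO).2 ?_
    have hemb := (isEmbedding_map_of_immersion X.property (repWith_mono
      (fun _ _ g (_ : IsOpenImmersion g) => (inferInstance : IsImmersion g)) hj)).1
    exact ⟨hemb.isCompact_iff.2 (by rw [Set.image_univ, range_map_openSubι]; exact hc)⟩
  · show Dense (Set.range (AlgSp.Points.map (openSubι X.obj O)))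
    rwa [range_map_openSubι]
  · have key : ∀ (T Q : Over S) (t : (yon S).obj T ⟶ openSub X.obj O)
        (q : (yon S).obj Q ⟶ P) (r : Q ⟶ T), IsPullback q ((yon S).map r) snd t →
        IsFinite r.left ∧ Etale r.left := fun T Q t q r sqT => by
      have big := sqT.paste_horiz sq
      obtain ⟨l, hl⟩ := (yon S).map_surjective (q ≫ fst)
      rw [← hl] at big
      exact he _ _ _ big fun x => (openSub_exists_lift_iff X.obj O _).1 ⟨t, rfl⟩ x
    have hrep : Representable snd := (repWith_of_isPullback sq hg).rep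
    exact ⟨repWith_of_representable hrep fun T Q t q r sqT => (key T Q t q r sqT).1,
      repWith_of_representable hrep fun T Q t q r sqT => (key T Q t q r sqT).2⟩

end

end Groth.AlgSpBasic
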