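import Groth.Agent.AlgSpBasic.DecentDim
import Groth.Agent.AlgSp3.HasAtMor
import Groth.Agent.FibreDim.LowerSemicont
import Groth.Agent.FibreDim.ComponentDim
import Groth.Agent.AlgSpBasic.Points

/-!
# A lower bound for the dimension of the source of a closed dominant morphism
-/

set_option autoImplicit false
set_option backward.isDefEq.respectTransparency.types false
universe u v w

open CategoryTheory CategoryTheory.Limits AlgebraicGeometry Opposite TopologicalSpace AlgSp

namespace Groth.AlgSpBasic.DimDominant

attribute [local instance] specializationOrder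

theorem krullDim_add_le_of_isClosedMap {A : Type u} {B : Type v} [TopologicalSpace A] [T0Space A] [Nonempty A] [Nonempty B]
    [TopologicalSpace B] [T0Space B] {f : A → B} (hc : Continuous f) (hf : IsClosedMap f)
    {η : B} (hη : ∀ y, η ⤳ y) (p : LTSeries A) (hp : f p.head = η) :
    Order.krullDim B + (p.length : ℕ∞) ≤ Order.krullDim A := by
  have key : ∀ (q : LTSeries B), ∃ r : LTSeries A, f r.head = q.head ∧ r.length = q.length + p.length := by
    intro q
    induction q using RelSeries.inductionOn with
    | singleton y =>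
      obtain ⟨a, ha, hfa⟩ := hf.specializingMap (hp.symm ▸ hη y : f p.head ⤳ y)
      rcases eq_or_lt_of_le (show a ≤ p.head from ha) with h | h
      · exact ⟨p, (congrArg f h).symm.trans hfa, by simp⟩
      · refine ⟨(p.cons a h).eraseLast, ?_, by simp⟩
        rw [RelSeries.head_eraseLast, RelSeries.head_cons, hfa]; rfl
    | cons q y hy ih =>
      obtain ⟨r, hr, hlen⟩ := ih
      obtain ⟨a, ha, hfa⟩ := hf.specializingMap
        (hr.symm ▸ (le_of_lt (show y < q.head from hy)) : f r.head ⤳ y)
      have hlt : a < r.head := lt_of_le_not_ge ha fun h =>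
        (show y < q.head from hy).ne (by rw [← hfa, ← hr, (Specializes.antisymm h ha).eq])
      exact ⟨r.cons a hlt, (congrArg f (RelSeries.head_cons ..)).trans
        (hfa.trans (RelSeries.head_cons ..).symm),
        by rw [RelSeries.cons_length, RelSeries.cons_length, hlen]; omega⟩
  rw [Order.krullDim_eq_iSup_length, Order.krullDim_eq_iSup_length, ← WithBot.coe_add,
    WithBot.coe_le_coe, ENat.iSup_add]
  refine iSup_le fun q => ?_
  obtain ⟨r, -, hr⟩ := key q
  exact le_of_eq_of_le (by rw [hr]; push_cast; rfl) (le_iSup (fun l : LTSeries A => (l.length : ℕ∞)) r)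

variable {S : Scheme.{u}} {X Y : Sp S} {f : X ⟶ Y}

theorem topologicalKrullDim_points_eq [T0Space (AlgSp.Points X)] (hX : IsAlgSpace X) (hd : IsDecent X) :
    topologicalKrullDim (AlgSp.Points X) = Order.krullDim (AlgSp.Points X) := by
  have := quasiSober_of_isDecent hX hd
  exact Groth.DescentBase.topologicalKrullDim_eq_points

/-- A strict chain of length the transcendence degree inside the fibre through a point. -/
theorem exists_fibre_chain [T0Space (AlgSp.Points X)] (hX : IsAlgSpace X) (hY : IsAlgSpace Y) (hd : IsDecent X)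
    (hf : LocP @LocallyOfFiniteType f) (x : AlgSp.Points X) (r : ℕ)
    (hr : HasAtMor (fun _ _ h u => Dual3.resTrdeg h u = (r : Cardinal.{u})) f x) :
    ∃ p : LTSeries (AlgSp.Points X), p.length = r ∧ p.last = x ∧
      ∀ i, AlgSp.Points.map f (p i) = AlgSp.Points.map f x := by
  obtain ⟨U, V, a, b, h, u, ha, hb, comm, rfl, hu⟩ := hr
  have : LocallyOfFiniteType h.left := hf a b h ha hb comm
  obtain ⟨n, hn, hn'⟩ := Groth.FibreDim.exists_relTrdeg_eq_height h.left u
  have hnr : n = r := Nat.cast_injective (R := Cardinal.{u}) (hn.symm.trans hu)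
  subst hnr
  obtain ⟨q, hq, hlen⟩ := Order.exists_series_of_le_height (h.left.asFiber u) hn'.ge
  let g : (h.left.fiber (h.left u)) → AlgSp.Points X :=
    fun z => AlgSp.Points.ofPt a ((h.left.fiberι (h.left u)) z)
  have hgm : ∀ z, AlgSp.Points.map f (g z) = AlgSp.Points.map f (AlgSp.Points.ofPt a u) := fun z => by
    simp only [g, AlgSp.Points.map_ofPt, comm, ofPt_comp_yon]
    exact congrArg _ (Groth.FibreDim.apply_fiberι h.left _ z)
  have hgc : Continuous g :=
    (AlgSp.Points.continuous_ofPt a).comp (h.left.fiberι (h.left u)).continuous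
  have hg : StrictMono g := by
    intro z₁ z₂ hlt
    have hs : z₂ ⤳ z₁ := hlt.le
    refine lt_of_le_of_ne (hs.map hgc) fun he => hlt.ne ?_
    refine (h.left.fiberι _).isEmbedding.injective ?_
    exact eq_of_specializes_of_finiteAt hX (finiteAt_of_isDecent hd _) ha rfl he.symm
      (hs.map (h.left.fiberι _).continuous)
  have hl : g (h.left.asFiber u) = AlgSp.Points.ofPt a u :=
    congrArg (AlgSp.Points.ofPt a) (h.left.fiberι_asFiber u)
  have h₁ : (q.map g hg).length = n := hlen
  have h₂ : (q.map g hg).last = AlgSp.Points.ofPt a u := by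
    rw [LTSeries.last_map, hq, hl]
  have h₃ : ∀ i, AlgSp.Points.map f ((q.map g hg) i) = AlgSp.Points.map f (AlgSp.Points.ofPt a u) :=
    fun i => hgm (q.toFun i)
  exact ⟨q.map g hg, h₁, h₂, h₃⟩

/-- The dimension of the source of a closed dominant morphism of decent spaces. -/
theorem dim_add_le (hX : IsAlgSpace X) (hY : IsAlgSpace Y) (hXd : IsDecent X) (hYd : IsDecent Y)
    (hf : LocP @LocallyOfFiniteType f) (hc : IsClosedMor f) (x : AlgSp.Points X)
    (hη : ∀ y, AlgSp.Points.map f x ⤳ y) (r : ℕ)
    (hr : HasAtMor (fun _ _ h u => Dual3.resTrdeg h u = (r : Cardinal.{u})) f x) :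
    AlgSp.dim Y + ((r : ℕ∞) : WithBot ℕ∞) ≤ AlgSp.dim X := by
  have := t0Space_of_isDecent hX hXd
  have := t0Space_of_isDecent hY hYd
  obtain ⟨p, hlen, -, hp⟩ := exists_fibre_chain hX hY hXd hf x r hr
  rw [← topologicalKrullDim_eq_dim hX hXd, ← topologicalKrullDim_eq_dim hY hYd,
    topologicalKrullDim_points_eq hX hXd, topologicalKrullDim_points_eq hY hYd, ← hlen]
  have : Nonempty (AlgSp.Points X) := ⟨x⟩
  have : Nonempty (AlgSp.Points Y) := ⟨AlgSp.Points.map f x⟩
  exact krullDim_add_le_of_isClosedMap (AlgSp.Points.continuous_map f) hc hη p (hp 0)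

end Groth.AlgSpBasic.DimDominant
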