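import Groth.Agent.AlgSp2.Chevalley.Main
import Groth.Agent.AlgSpBasic.MonoDiscrete
import Groth.Agent.AlgSpBasic.Univ

/-!
# Spaces universally homeomorphic to schemes
-/

set_option autoImplicit false
set_option backward.isDefEq.respectTransparency.types false

universe u

open CategoryTheory CategoryTheory.Limits AlgebraicGeometry Opposite AlgSp Groth.AlgSpBasic

namespace Groth.AlgSpBasic.EtUH

noncomputable section

variable {S : Scheme.{u}}

/-- A space receiving a universally closed bijection from a scheme, with universally closed base changes, is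
a scheme. -/
theorem isRepresentable_of_univHomeo {B : Space S} {G : Over S} {c : (yon S).obj G ⟶ B.obj}
    (hu : RepWith @UniversallyClosed c) (hs : RepWith @Surjective c)
    (hinj : Function.Injective (AlgSp.Points.map c)) : B.obj.obj.IsRepresentable := by
  refine isRepresentable_of_schematic B fun y => ?_
  obtain ⟨T, g, t, rfl⟩ := exists_ofPt y
  obtain ⟨W, snd, fst, sqW⟩ := hs.rep g
  have : Surjective snd.left := hs.property g fst snd sqW
  obtain ⟨w, rfl⟩ := snd.left.surjective t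
  obtain ⟨m, rfl⟩ := (yon S).map_surjective fst
  obtain ⟨O, hO, hxO, -⟩ := exists_isAffineOpen_mem_and_subset (x := m.left w) (U := ⊤) trivial
  obtain ⟨Og, ιO, hιO⟩ : ∃ (Og : Over S) (ιO : Og ⟶ G), Set.range ιO.left = (O : Set G.left) :=
    ⟨Over.mk (O.ι ≫ G.hom), Over.homMk O.ι rfl, O.range_ι⟩
  obtain ⟨Ω, hΩdef⟩ : ∃ Ω : Set (AlgSp.Points B.obj), Ω = AlgSp.Points.ofPt c '' (O : Set G.left) :=
    ⟨_, rfl⟩
  have hOΩ : ∀ p, AlgSp.Points.ofPt ((yon S).map ιO ≫ c) p ∈ Ω := fun p => by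
    rw [ofPt_comp_yon, hΩdef]
    exact ⟨ιO.left p, hιO.le ⟨p, rfl⟩, rfl⟩
  have hinj' : Function.Injective (AlgSp.Points.ofPt c) := fun a b e => by
    rw [AlgSp.Points.ofPt_eq_map_ofScheme, AlgSp.Points.ofPt_eq_map_ofScheme] at e
    exact (AlgSp.Points.schemeHomeo G).injective (hinj e)
  have hclosed : IsClosedMap (AlgSp.Points.map c) :=
    isClosedMap_map_of_repWith (fun _ _ φ (hφ : UniversallyClosed φ) => φ.isClosedMap) hu
  have hΩ : IsOpen Ω := by
    have hsurj : Function.Surjective (AlgSp.Points.ofPt c) := surjective_ofPt_of_repWith hs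
    rw [← isClosed_compl_iff, hΩdef, show (AlgSp.Points.ofPt c '' (O : Set G.left))ᶜ = AlgSp.Points.ofPt c '' (O : Set G.left)ᶜ from
      (Set.image_compl_eq ⟨hinj', hsurj⟩).symm,
      show AlgSp.Points.ofPt c '' (O : Set G.left)ᶜ =
        AlgSp.Points.map c '' (AlgSp.Points.schemeHomeo G '' (O : Set G.left)ᶜ) by
        rw [Set.image_image]
        exact Set.image_congr' fun z => AlgSp.Points.ofPt_eq_map_ofScheme c z]
    exact hclosed _ ((AlgSp.Points.schemeHomeo G).isClosedMap _ O.2.isClosed_compl)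
  let ιV := openSubι B.obj Ω
  have hιV : RepWith @IsOpenImmersion ιV := repWith_openSubι hΩ
  obtain ⟨V, o, fo, sqV⟩ := hιV.rep c
  have : IsOpenImmersion o.left := hιV.property c fo o sqV
  have hrange : Set.range o.left = (O : Set G.left) := by
    ext z
    constructor
    · rintro ⟨v, rfl⟩
      have hv := (openSub_exists_lift_iff B.obj Ω ((yon S).map o ≫ c)).1 ⟨fo, sqV.w⟩ v
      rw [ofPt_comp_yon, hΩdef] at hv
      obtain ⟨a, ha, hae⟩ := hv
      rw [← hinj' hae]
      exact ha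
    · intro hz
      obtain ⟨l, hl⟩ := (openSub_exists_lift_iff B.obj Ω ((yon S).map ιO ≫ c)).2 hOΩ
      obtain ⟨n, hn⟩ := (yon S).map_surjective (sqV.lift l ((yon S).map ιO) hl)
      have hno : n ≫ o = ιO := (yon S).map_injective (by rw [Functor.map_comp, hn, sqV.lift_snd])
      obtain ⟨p, rfl⟩ := hιO.ge hz
      exact ⟨n.left p, congrArg (fun k : Og ⟶ G => k.left p) hno⟩
  let θ := IsOpenImmersion.isoOfRangeEq o.left O.ι (hrange.trans O.range_ι.symm)
  have : IsAffine (O : Scheme.{u}) := hO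
  have : IsAffine V.left := .of_isIso θ.hom
  have hsV : IsAlgSpace (openSub B.obj Ω) := isAlgSpace_openSub B.property hΩ
  have hfs : RepWith @Surjective fo := repWith_of_isPullback sqV.flip hs
  obtain ⟨T', -, ⟨e⟩⟩ := Groth.AlgSp2.Chevalley.exists_iso_affine hsV (f := fo)
    (fun y => by
      obtain ⟨v, rfl⟩ := surjective_ofPt_of_repWith hfs y
      exact ⟨_, (AlgSp.Points.ofPt_eq_map_ofScheme fo v).symm⟩)
    (Groth.AlgSp2.Chevalley.isUnivClosedMor_of_repWith (repWith_of_isPullback sqV.flip hu))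
  refine ⟨T', e.hom ≫ ιV, repWith_comp (repWith_isIso _) hιV, ?_⟩
  obtain ⟨l, hl⟩ := (openSub_exists_lift_iff B.obj Ω ((yon S).map ιO ≫ c)).2 hOΩ
  obtain ⟨k, hk⟩ := (yon S).map_surjective (l ≫ e.inv)
  have hke : (yon S).map k ≫ e.hom ≫ ιV = (yon S).map ιO ≫ c := by
    rw [reassoc_of% hk, e.inv_hom_id_assoc]
    exact hl
  obtain ⟨p, hp⟩ := hιO.ge hxO
  refine ⟨k.left p, ?_⟩
  rw [← ofPt_comp_yon, hke, ofPt_comp_yon, hp]
  rw [← ofPt_comp_yon, sqW.w, ofPt_comp_yon]

end

end Groth.AlgSpBasic.EtUH
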