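import Groth.Agent.AlgSpEt.UnivHomeo
import Groth.Agent.AlgSpBasic.DimZeroSpace
import Groth.Agent.AlgSpBasic.UnivHomeoRep
import Groth.Agent.FlatMor2.Chevalley.Approx
import Groth.Prelude.Def_AlgSpOX2

/-!
# The small etale site along an integral, universally injective, surjective morphism
-/

set_option autoImplicit false
set_option backward.isDefEq.respectTransparency false

universe u

open CategoryTheory CategoryTheory.Limits AlgebraicGeometry Opposite AlgSp Groth.AlgSpBasic

namespace Groth.AlgSpBasic.EtUH

variable {S : Scheme.{u}} {X Y : Sp S} {i : X ⟶ Y} (hr : Representable i) (hi : Groth.AlgSpEt.UH.IsUH i)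

include hi

theorem bc_faithful (hY : IsAlgSpace Y) : (EtOver.bc hr).Faithful where
  map_injective {E E'} g g' h := by
    obtain ⟨φ', -, huniq⟩ := Groth.AlgSpEt.UH.existsUnique_hom hi hY (IsAlgSpace.yon_obj _)
      (IsAlgSpace.yon_obj _) (isEtaleMor_of_repWith _ E'.property) (EtOver.isPullback_bcObj hr E)
      (EtOver.isPullback_bcObj hr E') ((yon S).map (EtOver.bcMap hr g).hom.left)
      (EtOver.w (EtOver.bcMap hr g))
    have key : ∀ k : E ⟶ E', EtOver.bcMap hr k = EtOver.bcMap hr g →
        (yon S).map k.hom.left = φ' := fun k hk => huniq _ ⟨EtOver.w k, by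
      rw [← hk, ← Functor.map_comp, ← Functor.map_comp, EtOver.bcMap_snd]⟩
    exact EtOver.hom_ext _ _ ((yon S).map_injective ((key g rfl).trans (key g' h.symm).symm))

theorem bc_full (hY : IsAlgSpace Y) : (EtOver.bc hr).Full where
  map_surjective {E E'} k := by
    obtain ⟨φ', ⟨h₁, h₂⟩, -⟩ := Groth.AlgSpEt.UH.existsUnique_hom hi hY (IsAlgSpace.yon_obj _)
      (IsAlgSpace.yon_obj _) (isEtaleMor_of_repWith _ E'.property) (EtOver.isPullback_bcObj hr E)
      (EtOver.isPullback_bcObj hr E') ((yon S).map k.hom.left) (EtOver.w k)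
    obtain ⟨g, rfl⟩ := (yon S).map_surjective φ'
    refine ⟨EtOver.homMk g h₁, EtOver.hom_ext _ _ ((yon S).map_injective ?_)⟩
    refine (EtOver.isPullback_bcObj hr E').hom_ext ?_ ?_
    · exact (EtOver.w (EtOver.bcMap hr (EtOver.homMk g h₁))).trans (EtOver.w k).symm
    · rw [← h₂, ← Functor.map_comp, ← Functor.map_comp, EtOver.bc_map, EtOver.bcMap_snd]
      rfl

/-- Every etale scheme over the source is a base change. -/
theorem bc_essSurj (hX : IsAlgSpace X) (hY : IsAlgSpace Y) :
    (EtOver.bc hr).EssSurj where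
  mem_essImage E := by
    obtain ⟨V', a, c, hV', ha, sq⟩ := Groth.AlgSpEt.UH.exists_descend hi hY hX
      (IsAlgSpace.yon_obj E.obj.left) (isEtaleMor_of_repWith _ E.property)
    have hbij : Function.Bijective (AlgSp.Points.map c) := by
      refine ⟨injective_map_of_repWith (fun _ _ φ (hφ : UniversallyInjective φ) => φ.injective)
        (repWith_of_isPullback sq hi.uinj), fun y => ?_⟩
      obtain ⟨T, g, t, rfl⟩ := exists_ofPt y
      obtain ⟨W, snd, fst, sq'⟩ := (repWith_of_isPullback sq hi.surj).rep g
      have : Surjective snd.left := (repWith_of_isPullback sq hi.surj).property g fst snd sq'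
      obtain ⟨w, hw⟩ := snd.left.surjective t
      exact ⟨_, (map_eq_ofPt_iff sq' _ t).2 ⟨w, rfl, hw⟩⟩
    obtain ⟨T', ⟨e⟩⟩ := exists_iso_of_representable ⟨V', hV'⟩
      (isRepresentable_of_univHomeo (B := ⟨V', hV'⟩)
        (repWith_mono (fun _ _ g (_ : IsIntegralHom g) => (inferInstance : UniversallyClosed g))
          (repWith_of_isPullback sq hi.int))
        (repWith_of_isPullback sq hi.surj) hbij.1)
    change (yon S).obj T' ≅ V' at e
    let E' : EtOver Y := EtOver.mk (e.hom ≫ a) (ha e.hom (repWith_isIso e.hom))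
    have sq' : IsPullback E.obj.hom (c ≫ e.inv) i E'.obj.hom :=
      sq.of_iso (Iso.refl _) (Iso.refl _) e.symm (Iso.refl _) (by simp) (by simp) (by simp) (by simp [E'])
    let φ := (EtOver.isPullback_bcObj hr E').isoIsPullback _ _ sq'
    exact ⟨E', ⟨(ObjectProperty.fullyFaithfulι _).preimageIso
      (CostructuredArrow.isoMk ((yon S).preimageIso φ) (by
        rw [Functor.preimageIso_hom, Functor.map_preimage]
        exact IsPullback.isoIsPullback_hom_fst _ _ _ _))⟩⟩

/-- Affineness of an etale scheme can be tested after base change. -/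
theorem isAffine_iff (E : EtOver Y) :
    IsAffine E.obj.left.left ↔ IsAffine ((EtOver.bc hr).obj E).obj.left.left := by
  have : IsIntegralHom (EtOver.bcπ hr E).left :=
    hi.int.property E.obj.hom _ _ (EtOver.isPullback_bcObj hr E)
  have : Surjective (EtOver.bcπ hr E).left :=
    hi.surj.property E.obj.hom _ _ (EtOver.isPullback_bcObj hr E)
  constructor
  · intro h
    exact isAffine_of_isAffineHom (EtOver.bcπ hr E).left
  · intro h
    have h' : IsAffine (EtOver.bcObj hr E).obj.left.left := h
    exact Groth.FlatMor2.Chevalley.isAffine_of_universallyClosed_surjective (EtOver.bcπ hr E).left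

end Groth.AlgSpBasic.EtUH
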