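import Groth.Agent.AlgSpBasic.RepWith
import Groth.Agent.AlgSpBasic.Points
import Groth.Agent.AlgSpBasic.Diag
import Groth.Agent.AlgSpBasic.DecentTop
import Mathlib.AlgebraicGeometry.AlgClosed.Basic
import Mathlib.AlgebraicGeometry.QuasiAffine

/-!
# A cover exhausting a geometric fibre of a finite morphism

For a finite morphism `π : P ⟶ X` from a quasi-affine scheme and a geometric point `a₀` of `P`, we
build a quasi-affine scheme `T`, finite over `X`, with a dominant geometric point and finitely many
maps to `P` over `X` through which every lift of the image geometric point factors.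
-/

set_option autoImplicit false
set_option linter.unusedSectionVars false
set_option backward.isDefEq.respectTransparency.types false
universe u

open CategoryTheory CategoryTheory.Limits AlgebraicGeometry AlgSp

namespace Groth.AlgSpBasic.Saturation

noncomputable section

variable {S : Scheme.{u}}

theorem subsingleton_spec_field (K : Type u) [Field K] :
    Subsingleton ↥(Spec (CommRingCat.of K)) :=
  inferInstanceAs (Subsingleton (PrimeSpectrum K))

theorem isClosed_singleton_finite {Z : Scheme.{u}} {K : Type u} [Field K]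
    (f : Z ⟶ Spec (CommRingCat.of K)) [IsFinite f] (z : Z) : IsClosed {z} := by
  have := subsingleton_spec_field K
  have hu : f ⁻¹' {f z} = Set.univ := Set.eq_univ_of_forall fun w => Subsingleton.elim (α := ↥(Spec (CommRingCat.of K))) _ _
  have hd : DiscreteTopology (f ⁻¹' {f z}) :=
    isDiscrete_iff_discreteTopology.mp (f.isDiscrete_preimage_singleton (f z))
  have : DiscreteTopology Z := by
    rw [hu] at hd
    exact (Homeomorph.Set.univ Z).symm.isEmbedding.discreteTopology
  exact isClosed_discrete _

/-- Over an algebraically closed field, a finite scheme has a section through each point. -/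
theorem exists_section {W : Over S} {K : Type u} [Field K] [IsAlgClosed K] {str : Spec (CommRingCat.of K) ⟶ S}
    (f : W ⟶ Over.mk str) [IsFinite f.left] (z : ↥W.left) :
    ∃ s : Over.mk str ⟶ W, s ≫ f = 𝟙 _ ∧ ∀ pt, s.left pt = z := by
  have hz := isClosed_singleton_finite (K := K) f.left z
  have h : pointOfClosedPoint (K := K) f.left z hz ≫ f.left = 𝟙 _ :=
    pointOfClosedPoint_comp (K := K) f.left z hz
  refine ⟨Over.homMk (pointOfClosedPoint (K := K) f.left z hz) ?_, Over.OverMorphism.ext h,
    fun pt => pointOfClosedPoint_apply (K := K) f.left z hz pt⟩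
  rw [← Over.w f, reassoc_of% h]

/-- Over an algebraically closed field, a finite scheme has only finitely many sections. -/
theorem finite_sections {W : Over S} {K : Type u} [Field K] [IsAlgClosed K]
    {str : Spec (CommRingCat.of K) ⟶ S} (f : W ⟶ Over.mk str) [IsFinite f.left] :
    Finite {s : Over.mk str ⟶ W // s ≫ f = 𝟙 _} := by
  have := subsingleton_spec_field K
  have hfin : Finite ↥W.left := by
    rw [← Set.finite_univ_iff]
    have hu : f.left ⁻¹' (Set.univ : Set ↥(Spec (CommRingCat.of K))) = Set.univ := Set.preimage_univ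
    rw [← hu]
    have h1 : (Set.univ : Set ↥(Spec (CommRingCat.of K))) = {IsLocalRing.closedPoint K} :=
      Set.eq_singleton_iff_unique_mem.2 ⟨trivial, fun _ _ => Subsingleton.elim _ _⟩
    rw [h1]
    exact f.left.finite_preimage_singleton _
  have := hfin
  refine Finite.of_injective (β := closedPoints W.left) (fun s =>
    pointEquivClosedPoint (K := K) f.left ⟨s.1.left, congrArg Over.Hom.left s.2⟩) fun s t h => ?_
  have h' := (pointEquivClosedPoint (K := K) f.left).injective h
  exact Subtype.ext (Over.OverMorphism.ext (congrArg Subtype.val h'))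

variable {X : Sp S} {P : Over S} {π : (yon S).obj P ⟶ X}

/-- Lifts of a geometric point along a finite morphism are finite in number. -/
theorem finite_lifts (hπ : RepWith @IsFinite π) {K : Type u} [Field K] [IsAlgClosed K]
    {str : Spec (CommRingCat.of K) ⟶ S} (y : (yon S).obj (Over.mk str) ⟶ X) :
    Finite {a : Over.mk str ⟶ P // (yon S).map a ≫ π = y} := by
  obtain ⟨W, fst, snd, sq⟩ := exists_pullback_yon hπ.rep y
  have : IsFinite snd.left := hπ.property y _ snd sq
  have := finite_sections snd
  refine Finite.of_surjective (fun s : {s : Over.mk str ⟶ W // s ≫ snd = 𝟙 _} =>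
    (⟨s.1 ≫ fst, ?_⟩ : {a : Over.mk str ⟶ P // (yon S).map a ≫ π = y})) fun a => ?_
  · rw [Functor.map_comp, Category.assoc, sq.w, ← Category.assoc, ← Functor.map_comp, s.2,
      CategoryTheory.Functor.map_id, Category.id_comp]
  · obtain ⟨s, hs⟩ := (yon S).map_surjective (sq.lift ((yon S).map a.1) (𝟙 _) (by rw [a.2, Category.id_comp]))
    refine ⟨⟨s, (yon S).map_injective ?_⟩, Subtype.ext ((yon S).map_injective ?_)⟩
    · rw [Functor.map_comp, hs, sq.lift_snd, CategoryTheory.Functor.map_id]
    · rw [Functor.map_comp, hs, sq.lift_fst]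

/-- A morphism over `X` between a finite and a separated scheme over `X` is finite. -/
theorem isFinite_of_comp (hπ : RepWith @IsFinite π) {T : Over S} {g : (yon S).obj T ⟶ X}
    (hg : RepWith @IsFinite g) (q : T ⟶ P) (hq : (yon S).map q ≫ π = g) : IsFinite q.left := by
  obtain ⟨W, fst, snd, sq⟩ := exists_pullback_yon hπ.rep g
  have : IsFinite snd.left := hπ.property g _ snd sq
  have : IsFinite fst.left := hg.property π _ fst sq.flip
  obtain ⟨e, he⟩ := (yon S).map_surjective (sq.lift ((yon S).map q) (𝟙 _) (by rw [hq, Category.id_comp]))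
  have h1 : e ≫ fst = q := (yon S).map_injective (by rw [Functor.map_comp, he, sq.lift_fst])
  have h2 : e ≫ snd = 𝟙 _ := (yon S).map_injective (by
    rw [Functor.map_comp, he, sq.lift_snd, CategoryTheory.Functor.map_id])
  have : IsClosedImmersion e.left := by
    have : IsClosedImmersion (e.left ≫ snd.left) := by
      rw [← Over.comp_left, h2]
      exact inferInstanceAs (IsClosedImmersion (𝟙 T.left))
    exact IsClosedImmersion.of_comp e.left snd.left
  rw [← h1, Over.comp_left]
  infer_instance

/-- One more lift: shrink `T ×_X P` to the closure of the geometric point. -/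
theorem exists_step (hπ : RepWith @IsFinite π) {K : Type u} [Field K]
    {str : Spec (CommRingCat.of K) ⟶ S} {y : (yon S).obj (Over.mk str) ⟶ X} {T : Over S}
    [T.left.IsQuasiAffine] {g : (yon S).obj T ⟶ X} (hg : RepWith @IsFinite g) (b : Over.mk str ⟶ T)
    (hb : (yon S).map b ≫ g = y) (a : Over.mk str ⟶ P) (ha : (yon S).map a ≫ π = y) :
    ∃ (T' : Over S) (_ : T'.left.IsQuasiAffine) (e : T' ⟶ T) (q : T' ⟶ P) (b' : Over.mk str ⟶ T'),
      RepWith @IsFinite ((yon S).map e ≫ g) ∧ (yon S).map q ≫ π = (yon S).map e ≫ g ∧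
      IsDominant b'.left ∧ b' ≫ e = b ∧ b' ≫ q = a := by
  obtain ⟨W, fst, snd, sq⟩ := exists_pullback_yon hπ.rep g
  have : IsFinite snd.left := hπ.property g _ snd sq
  obtain ⟨w, hw⟩ := (yon S).map_surjective (sq.lift ((yon S).map a) ((yon S).map b) (by rw [ha, hb]))
  have hw1 : w ≫ fst = a := (yon S).map_injective (by rw [Functor.map_comp, hw, sq.lift_fst])
  have hw2 : w ≫ snd = b := (yon S).map_injective (by rw [Functor.map_comp, hw, sq.lift_snd])
  let T' : Over S := Over.mk (w.left.imageι ≫ W.hom)
  let j : T' ⟶ W := Over.homMk w.left.imageι rfl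
  let b' : Over.mk str ⟶ T' := Over.homMk w.left.toImage (by
    rw [show T'.hom = w.left.imageι ≫ W.hom from rfl, Scheme.Hom.toImage_imageι_assoc]
    exact Over.w w)
  have hb' : b' ≫ j = w := Over.OverMorphism.ext (Scheme.Hom.toImage_imageι _)
  have : IsClosedImmersion j.left := inferInstanceAs (IsClosedImmersion w.left.imageι)
  have : IsFinite (j ≫ snd).left := by rw [Over.comp_left]; infer_instance
  have hqa : T'.left.IsQuasiAffine := Scheme.IsQuasiAffine.of_isAffineHom (j ≫ snd).left
  have := subsingleton_spec_field K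
  have : Subsingleton ↥(Over.mk str).left := this
  have : QuasiCompact w.left :=
    ⟨fun U _ _ => (Set.subsingleton_of_subsingleton : (w.left ⁻¹' U).Subsingleton).finite.isCompact⟩
  refine ⟨T', hqa, j ≫ snd, j ≫ fst, b', repWith_comp ((repWith_yon_map_iff _ _).2 ‹_›) hg, ?_,
    inferInstanceAs (IsDominant w.left.toImage), by rw [reassoc_of% hb', hw2],
    by rw [reassoc_of% hb', hw1]⟩
  rw [Functor.map_comp, Functor.map_comp, Category.assoc, Category.assoc, sq.w]

/-- A scheme over `X` exhausting the lifts of a geometric point. -/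
theorem exists_exhausting [P.left.IsQuasiAffine] (hπ : RepWith @IsFinite π) {K : Type u} [Field K]
    [IsAlgClosed K] {str : Spec (CommRingCat.of K) ⟶ S} (a₀ : Over.mk str ⟶ P) :
    ∃ (T : Over S) (_ : T.left.IsQuasiAffine) (g : (yon S).obj T ⟶ X) (b : Over.mk str ⟶ T)
      (ι : Type u) (_ : Finite ι) (_ : Nonempty ι) (q : ι → (T ⟶ P)),
      RepWith @IsFinite g ∧ IsDominant b.left ∧ (∀ i, IsFinite (q i).left) ∧
      (∀ i, (yon S).map (q i) ≫ π = g) ∧
      (yon S).map b ≫ g = (yon S).map a₀ ≫ π ∧
      ∀ a : Over.mk str ⟶ P, (yon S).map a ≫ π = (yon S).map a₀ ≫ π → ∃ i, b ≫ q i = a := by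
  classical
  let L := {a : Over.mk str ⟶ P // (yon S).map a ≫ π = (yon S).map a₀ ≫ π}
  have hfin : Finite L := finite_lifts hπ _
  have key : ∀ s : Finset L, ∃ (T : Over S) (_ : T.left.IsQuasiAffine) (g : (yon S).obj T ⟶ X)
      (b : Over.mk str ⟶ T), RepWith @IsFinite g ∧ (yon S).map b ≫ g = (yon S).map a₀ ≫ π ∧
      ∀ a ∈ s, ∃ q : T ⟶ P, (yon S).map q ≫ π = g ∧ b ≫ q = a.1 := by
    intro s
    induction s using Finset.induction with
    | empty => exact ⟨P, inferInstance, π, a₀, hπ, rfl, by simp⟩
    | insert c s _ ih =>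
      obtain ⟨T, hT, g, b, hg, hb, hs⟩ := ih
      obtain ⟨T', hT', e, q', b', hg', hq', -, hbe, hbq⟩ := exists_step hπ hg b hb c.1 c.2
      refine ⟨T', hT', (yon S).map e ≫ g, b', hg',
        by rw [← Category.assoc, ← Functor.map_comp, hbe, hb], fun a ha => ?_⟩
      rcases Finset.mem_insert.1 ha with rfl | ha
      · exact ⟨q', hq', hbq⟩
      · obtain ⟨q, hq, hbq⟩ := hs a ha
        exact ⟨e ≫ q, by rw [Functor.map_comp, Category.assoc, hq],
          by rw [reassoc_of% hbe, hbq]⟩
  have := Fintype.ofFinite L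
  obtain ⟨T₁, hT₁, g₁, b₁, hg₁, hb₁, hs⟩ := key Finset.univ
  obtain ⟨T, hT, e, q₀, b, hg, -, hdom, hbe, -⟩ := exists_step hπ hg₁ b₁ hb₁ a₀ rfl
  choose q hq hbq using fun a : L => hs a (Finset.mem_univ a)
  refine ⟨T, hT, (yon S).map e ≫ g₁, b, L, hfin, ⟨⟨a₀, rfl⟩⟩, fun a => e ≫ q a, hg, hdom,
    fun a => isFinite_of_comp hπ hg _ (by rw [Functor.map_comp, Category.assoc, hq a]),
    fun a => by rw [Functor.map_comp, Category.assoc, hq a],
    by rw [← Category.assoc, ← Functor.map_comp, hbe, hb₁],
    fun a ha => ⟨⟨a, ha⟩, by rw [reassoc_of% hbe, hbq]⟩⟩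

end

end Groth.AlgSpBasic.Saturation
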