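import Groth.Agent.AlgSpBasic.PointSpace
import Groth.Agent.AlgSpBasic.DecentTop
import Groth.Agent.AlgSpBasic.DecentClosedPoints

/-!
# The fibre over a point given by a quasi-compact monomorphism
-/

set_option autoImplicit false
set_option backward.isDefEq.respectTransparency.types false
universe u

open CategoryTheory CategoryTheory.Limits AlgebraicGeometry Opposite TopologicalSpace AlgSp

namespace Groth.AlgSpBasic

variable {S : Scheme.{u}} {Y : Sp S}

/-- The base change of a quasi-compact monomorphic point to a chart is a preimmersion. -/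
theorem isPreimmersion_of_mono_point (hY : IsAlgSpace Y) (r : FieldPt Y) [Mono r.toHom]
    (hq : RepWith @QuasiCompact r.toHom) {V K : Over S} {b : (yon S).obj V ⟶ Y}
    (hb : RepWith @Etale b) {k₁ : K ⟶ V} {k₂ : K ⟶ r.pt}
    (sq : IsPullback ((yon S).map k₁) ((yon S).map k₂) b r.toHom) : IsPreimmersion k₁.left := by
  have : Etale k₂.left := hb.property _ _ _ sq
  have : QuasiCompact k₁.left := hq.property _ _ _ sq.flip
  have : DiscreteTopology ↥K.left := discreteTopology_of_etale (k := r.K) k₂.left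
  have : Mono k₁ := (yon S).mono_of_mono_map (Groth.AlgSp2.mono_fst_of_isPullback sq)
  have : Mono k₁.left := inferInstanceAs (Mono ((Over.forget S).map k₁))
  have hfib : ∀ q, AlgSp.Points.ofPt b (k₁.left q) = AlgSp.Points.mk r := fun q =>
    ((ofPt_eq_ofPt_iff sq _ _).2 ⟨q, rfl, rfl⟩).trans (AlgSp.Points.ofPt_toHom r _)
  have hfin : FiniteAt Y (AlgSp.Points.mk r) := finiteAt_of_qc r rfl hq
  have : SurjectiveOnStalks k₁.left := ⟨fun q => by
    intro s
    have hf := fieldStalks_of_etale (k := r.K) k₂.left q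
    have := isIso_residueFieldMap_of_mono k₁.left q
    obtain ⟨t, ht⟩ := ((ConcreteCategory.isIso_iff_bijective (k₁.left.residueFieldMap q)).1 this).2
      (K.left.residue q s)
    obtain ⟨t', rfl⟩ := Ideal.Quotient.mk_surjective t
    refine ⟨t', ?_⟩
    have hinj : Function.Injective (K.left.residue q).hom := by
      let := hf.toField
      exact (K.left.residue q).hom.injective
    refine hinj (Eq.trans ?_ ht)
    exact (congr($(Scheme.residue_residueFieldMap k₁.left q) t')).symm⟩
  refine ⟨⟨?_⟩, k₁.left.injective⟩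
  ext O
  refine ⟨fun _ => ?_, fun _ => isOpen_discrete _⟩
  have key : ∀ q, ∃ W : Set ↥V.left, IsOpen W ∧ k₁.left ⁻¹' W = {q} := by
    intro q
    obtain ⟨A, hA, hqA, -⟩ :=
      exists_isAffineOpen_mem_and_subset (X := V.left) (x := k₁.left q) (U := ⊤) trivial
    have hF : (k₁.left '' (k₁.left ⁻¹' (A : Set ↥V.left))).Finite :=
      ((k₁.left.isCompact_preimage hA.isCompact).finite_of_discrete).image _
    refine ⟨(A : Set ↥V.left) \ ⋃ z ∈ k₁.left '' (k₁.left ⁻¹' (A : Set ↥V.left)) \ {k₁.left q}, closure {z},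
      A.2.sdiff (hF.sdiff.isClosed_biUnion fun _ _ => isClosed_closure), Set.ext fun q' => ?_⟩
    constructor
    · rintro ⟨hq'A, hq'⟩
      by_contra hne
      exact hq' (Set.mem_biUnion ⟨⟨q', hq'A, rfl⟩, fun h => hne (k₁.left.injective h)⟩
        (subset_closure rfl))
    · rintro rfl
      refine ⟨hqA, fun h => ?_⟩
      obtain ⟨_, ⟨⟨z, -, rfl⟩, hne⟩, hz⟩ := Set.mem_iUnion₂.1 h
      exact hne (eq_of_specializes_of_finiteAt hY hfin hb (hfib _) (hfib _)
        (specializes_iff_mem_closure.2 hz)).symm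
  choose W hWo hW using key
  refine ⟨⋃ q ∈ O, W q, isOpen_biUnion fun q _ => hWo q, ?_⟩
  rw [Set.preimage_iUnion₂]
  simp only [hW, Set.biUnion_of_singleton]

/-- The fibre over a point given by a quasi-compact monomorphism is embedded. -/
theorem isEmbedding_fibre_of_mono_point {X Xk : Sp S} (hX : IsAlgSpace X) (hY : IsAlgSpace Y)
    (f : X ⟶ Y) (r : FieldPt Y) [Mono r.toHom] (hq : RepWith @QuasiCompact r.toHom)
    {fst : Xk ⟶ X} {snd : Xk ⟶ (yon S).obj r.pt} (sq : IsPullback fst snd f r.toHom) :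
    Topology.IsEmbedding (AlgSp.Points.map fst) := by
  have : Mono fst := MorphismProperty.of_isPullback (P := MorphismProperty.monomorphisms _)
    sq.flip ‹_›
  have hinj := Groth.AlgSp2.map_injective_of_mono fst
  refine ⟨⟨?_⟩, hinj⟩
  refine le_antisymm (continuous_iff_le_induced.1 (AlgSp.Points.continuous_map fst)) ?_
  intro O (hO : IsOpen O)
  obtain ⟨U, V, a, b, h, ha, has, hb, -, comm⟩ := exists_charts hX hY f
  obtain ⟨K, k₁, k₂, sqK⟩ := exists_pullback_yon hb.rep r.toHom
  have : IsPreimmersion k₁.left := isPreimmersion_of_mono_point hY r hq hb sqK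
  obtain ⟨P, π₁, π₂, sqP⟩ := exists_pullback_of_diag (IsAlgSpace.yon_obj V).diag
    ((yon S).map h) ((yon S).map k₁)
  have : IsPreimmersion π₁.left := MorphismProperty.of_isPullback (P := @IsPreimmersion)
    (isPullback_left (isPullback_of_yon sqP)).flip ‹_›
  let e : (yon S).obj P ⟶ Xk := sq.lift ((yon S).map π₁ ≫ a) ((yon S).map π₂ ≫ (yon S).map k₂) (by
    simp only [Category.assoc, comm]
    rw [reassoc_of% sqP.w, sqK.w])
  have he : IsPullback ((yon S).map π₁) e a fst := by
    refine (IsPullback.of_right ?_ (sq.lift_fst _ _ _) sq.flip).flip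
    rw [sq.lift_snd, comm]
    exact sqP.flip.paste_horiz sqK.flip
  obtain ⟨O', hO'o, hO'⟩ := π₁.left.isEmbedding.isOpen_iff.1
    (hO.preimage (AlgSp.Points.continuous_ofPt e))
  refine ⟨AlgSp.Points.ofPt a '' O', (isOpenMap_ofPt_of_etale ha) _ hO'o, Set.ext fun z => ?_⟩
  constructor
  · rintro ⟨u, hu, hz⟩
    obtain ⟨s, hs₁, hs₂⟩ := exists_point_of_isPullback he (AlgSp.Points.ofScheme U u) z
      ((ofPt_eq_map a u).symm.trans hz)
    obtain ⟨s', rfl⟩ := (AlgSp.Points.schemeHomeo P).surjective s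
    have hu' : π₁.left s' = u :=
      (AlgSp.Points.schemeHomeo U).injective ((AlgSp.Points.map_yon_map_apply π₁ s').symm.trans hs₁)
    have : s' ∈ π₁.left ⁻¹' O' := by rw [Set.mem_preimage, hu']; exact hu
    rw [hO'] at this
    rw [← hs₂]
    have h' : AlgSp.Points.ofPt e s' ∈ O := this
    rwa [ofPt_eq_map] at h'
  · intro hz
    obtain ⟨u, hu⟩ := surjective_ofPt_of_repWith has (AlgSp.Points.map fst z)
    obtain ⟨s, hs₁, hs₂⟩ := exists_point_of_isPullback he (AlgSp.Points.ofScheme U u) z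
      ((ofPt_eq_map a u).symm.trans hu)
    obtain ⟨s', rfl⟩ := (AlgSp.Points.schemeHomeo P).surjective s
    have hu' : π₁.left s' = u :=
      (AlgSp.Points.schemeHomeo U).injective ((AlgSp.Points.map_yon_map_apply π₁ s').symm.trans hs₁)
    refine ⟨u, ?_, hu⟩
    rw [← hu']
    have : s' ∈ AlgSp.Points.ofPt e ⁻¹' O := by
      show AlgSp.Points.ofPt e s' ∈ O
      rw [ofPt_eq_map]
      exact hs₂.symm ▸ hz
    rwa [← hO'] at this

end Groth.AlgSpBasic
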