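import Groth.Agent.AlgSpBasic.FieldPointConditions
import Groth.Agent.AlgSpBasic.MonoPointFibre
import Groth.Agent.AlgSpBasic.FieldPoints
import Groth.Agent.AlgSpBasic.LocPInst
import Groth.Agent.AlgSpBasic.CodimZeroFibre
import Groth.Agent.AlgSp3.NbhdInv
import Groth.Agent.AlgSp2.FieldPts
import Groth.Agent.FibreDim.BaseChange

/-!
# The space of a fibre over a field-valued point
-/

set_option autoImplicit false
set_option backward.isDefEq.respectTransparency.types false
universe u

open CategoryTheory CategoryTheory.Limits AlgebraicGeometry Topology TopologicalSpace Opposite AlgSp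

namespace Groth.AlgSpBasic

variable {S : Scheme.{u}} {X Y : Sp S} {f : X ⟶ Y}

theorem subsingleton_points_pt (r : FieldPt Y) : Subsingleton (AlgSp.Points ((yon S).obj r.pt)) :=
  haveI : Subsingleton ↥r.pt.left := inferInstanceAs (Subsingleton (PrimeSpectrum r.K))
  (AlgSp.Points.schemeEquiv r.pt).symm.injective.subsingleton

/-- The points of the fibre space map onto the fibre. -/
theorem range_map_fibre (r : FieldPt Y) {Xk : Sp S} {fst : Xk ⟶ X}
    {snd : Xk ⟶ (yon S).obj r.pt} (sq : IsPullback fst snd f r.toHom) :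
    Set.range (AlgSp.Points.map fst) = AlgSp.Points.map f ⁻¹' {AlgSp.Points.mk r} := by
  haveI := subsingleton_points_pt r
  rw [range_map_eq_of_isPullback sq.flip]
  congr 1
  ext y
  constructor
  · rintro ⟨z, rfl⟩
    obtain ⟨t, rfl⟩ := (AlgSp.Points.schemeEquiv r.pt).surjective z
    exact (ofPt_eq_map r.toHom t).symm.trans (AlgSp.Points.ofPt_toHom r t)
  · rintro (rfl : y = AlgSp.Points.mk r)
    exact ⟨AlgSp.Points.ofScheme r.pt (IsLocalRing.closedPoint r.K),
      (ofPt_eq_map r.toHom _).symm.trans (AlgSp.Points.ofPt_toHom r _)⟩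

theorem chartsNJ_fibre (hX : IsAlgSpace X) (hY : IsAlgSpace Y)
    (hf : LocP @LocallyOfFiniteType f) (r : FieldPt Y) {Xk : Sp S} {fst : Xk ⟶ X}
    {snd : Xk ⟶ (yon S).obj r.pt} (sq : IsPullback fst snd f r.toHom) : ChartsNJ Xk := by
  intro W c hc
  have hl := locP_of_isPullback hX hY (IsAlgSpace.yon_obj r.pt) sq hf
  obtain ⟨ω, hω⟩ := (yon S).map_surjective (c ≫ snd)
  haveI : LocallyOfFiniteType ω.left :=
    hl c (𝟙 _) ω hc (repWith_isIso _) (by rw [Category.comp_id, hω])
  haveI : IsLocallyNoetherian r.pt.left :=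
    inferInstanceAs (IsLocallyNoetherian (Spec (CommRingCat.of r.K)))
  haveI : JacobsonSpace ↥r.pt.left := inferInstanceAs (JacobsonSpace ↥(Spec (CommRingCat.of r.K)))
  exact ⟨LocallyOfFiniteType.isLocallyNoetherian ω.left, LocallyOfFiniteType.jacobsonSpace ω.left⟩

/-- Isolated points of the fibre space are the points of quasi-finiteness. -/
theorem hasAt_localDim_iff_qf (hX : IsAlgSpace X) (hY : IsAlgSpace Y)
    (hf : LocP @LocallyOfFiniteType f) (r : FieldPt Y) {Xk : Sp S} (hXk : IsAlgSpace Xk)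
    {fst : Xk ⟶ X} {snd : Xk ⟶ (yon S).obj r.pt} (sq : IsPullback fst snd f r.toHom)
    (xt : AlgSp.Points Xk) :
    HasAt (fun U u => FlatMor.localDim ↥U u = 0) Xk xt ↔
      HasAtMor (fun U _ h u => ∃ W : U.Opens, u ∈ W ∧ LocallyQuasiFinite (W.ι ≫ h) ∧
        LocallyOfFiniteType (W.ι ≫ h)) f (AlgSp.Points.map fst xt) := by
  rw [Groth.AlgSp3.hasAtMor_lqf_iff hX hY hf]
  obtain ⟨U, V, V', U', a, b, b', a', h, k, p, h', u', ha, hb, hb', ha', comm, -, comm', -, sq', rfl,
    hu⟩ := Groth.AlgSp3.exists_chart_baseChange hX hY (IsAlgSpace.yon_obj r.pt) sq xt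
  rw [← hu, Groth.AlgSp3.hasAtMor_iff_of_chart Groth.AlgSp3.etMor_fibreDimAt (· = 0) hX.diag hY.diag
    ha hb comm (p.left u')]
  haveI : LocallyOfFiniteType h.left := hf a b h ha hb comm
  haveI : LocallyOfFiniteType h'.left := MorphismProperty.of_isPullback sq' ‹_›
  have hdim := Groth.FibreDim.fibreDimAt_baseChange h.left k.left h'.left p.left sq' u'
  obtain ⟨σ, hσ⟩ := (yon S).map_surjective b'
  rw [← hσ] at hb'
  haveI : Etale σ.left := (repWith_yon_map_iff _ σ).1 hb'
  haveI : DiscreteTopology ↥V'.left := discreteTopology_of_etale (k := r.K) σ.left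
  obtain ⟨hUN, -⟩ := chartsNJ_fibre hX hY hf r sq ha'
  rw [show FlatMor.fibreDimAt h.left (p.left u') = FlatMor.fibreDimAt h'.left u' from hdim.symm,
    fibreDimAt_zero_iff_isOpen]
  have hF : ∀ T : Set ↥(h'.left.fiber (h'.left u')), IsOpen T →
      IsOpen (h'.left.fiberι (h'.left u') '' T) := by
    have : IsOpenEmbedding (h'.left.fiberι (h'.left u')) := by
      refine ⟨(h'.left.fiberι (h'.left u')).isEmbedding, ?_⟩
      rw [h'.left.range_fiberι]
      exact (isOpen_discrete _).preimage h'.left.continuous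
    exact this.isOpenMap
  have hloc : HasAt (fun U u => FlatMor.localDim ↥U u = 0) Xk (AlgSp.Points.ofPt a' u') ↔
      IsOpen ({u'} : Set ↥U'.left) := by
    rw [← Groth.Agent.S9798.result]
    exact ⟨fun h => (hasAt_iff_forall etaleInvariant_localDim hXk _ _).1 h U' a' u' ha' rfl,
      fun h => ⟨U', a', u', ha', rfl, h⟩⟩
  rw [hloc]
  constructor
  · intro ho
    have he := ho.preimage (h'.left.fiberι (h'.left u')).continuous
    convert he using 1
    ext z
    constructor
    · rintro rfl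
      exact h'.left.fiberι_asFiber u'
    · intro hz
      exact (h'.left.fiberι (h'.left u')).isEmbedding.injective
        (hz.trans (h'.left.fiberι_asFiber u').symm)
  · intro ho
    have := hF _ ho
    rwa [Set.image_singleton, h'.left.fiberι_asFiber] at this

theorem isolated_iff_qf (hX : IsAlgSpace X) (hY : IsAlgSpace Y)
    (hf : LocP @LocallyOfFiniteType f) (r : FieldPt Y) {Xk : Sp S} (hXk : IsAlgSpace Xk)
    {fst : Xk ⟶ X} {snd : Xk ⟶ (yon S).obj r.pt} (sq : IsPullback fst snd f r.toHom)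
    (xt : AlgSp.Points Xk) :
    IsOpen ({xt} : Set (AlgSp.Points Xk)) ↔
      HasAtMor (fun U _ h u => ∃ W : U.Opens, u ∈ W ∧ LocallyQuasiFinite (W.ι ≫ h) ∧
        LocallyOfFiniteType (W.ι ≫ h)) f (AlgSp.Points.map fst xt) :=
  (point_conditions_of_charts hXk (chartsNJ_fibre hX hY hf r sq) xt).2.trans
    (hasAt_localDim_iff_qf hX hY hf r hXk sq xt)

theorem discrete_iff_qf (hX : IsAlgSpace X) (hY : IsAlgSpace Y)
    (hf : LocP @LocallyOfFiniteType f) (r : FieldPt Y) {Xk : Sp S} (hXk : IsAlgSpace Xk)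
    {fst : Xk ⟶ X} {snd : Xk ⟶ (yon S).obj r.pt} (sq : IsPullback fst snd f r.toHom) :
    DiscreteTopology (AlgSp.Points Xk) ↔ ∀ x : AlgSp.Points X,
      AlgSp.Points.map f x = AlgSp.Points.mk r →
        HasAtMor (fun U _ h u => ∃ W : U.Opens, u ∈ W ∧ LocallyQuasiFinite (W.ι ≫ h) ∧
          LocallyOfFiniteType (W.ι ≫ h)) f x := by
  constructor
  · intro hd x hx
    obtain ⟨xt, rfl⟩ := (range_map_fibre r sq).ge hx
    exact (isolated_iff_qf hX hY hf r hXk sq xt).1 (isOpen_discrete _)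
  · exact fun h => discreteTopology_iff_isOpen_singleton.2 fun xt =>
      (isolated_iff_qf hX hY hf r hXk sq xt).2 (h _ ((range_map_fibre r sq).le ⟨xt, rfl⟩))

/-- A fibre of a morphism to a decent space is the space of a fibre over a monomorphic point. -/
theorem exists_mono_fibre (hX : IsAlgSpace X) (hY : IsAlgSpace Y) (hYd : IsDecent Y) (f : X ⟶ Y)
    (y : AlgSp.Points Y) :
    ∃ (r : FieldPt Y) (Xk : Sp S) (fst : Xk ⟶ X) (snd : Xk ⟶ (yon S).obj r.pt),
      AlgSp.Points.mk r = y ∧ IsAlgSpace Xk ∧ IsPullback fst snd f r.toHom ∧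
        Topology.IsEmbedding (AlgSp.Points.map fst) ∧ (IsDecent X → IsDecent Xk) := by
  obtain ⟨r, hr, hm, hq⟩ := hYd y
  have sq := IsPullback.of_hasPullback f r.toHom
  refine ⟨r, _, _, _, hr, isAlgSpace_of_isPullback sq hY.diag hX (IsAlgSpace.yon_obj r.pt), sq,
    isEmbedding_fibre_of_mono_point hX hY f r hq sq, fun hXd =>
    Groth.AlgSp2.isDecent_of_representable (repWith_of_isPullback sq.flip hq).rep hXd⟩

theorem topologicalKrullDim_eq_zero_of_discrete {α : Type*} [TopologicalSpace α] [DiscreteTopology α]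
    [Nonempty α] : topologicalKrullDim α = 0 := by
  refine le_antisymm (Order.krullDim_nonpos_iff_forall_isMax.2 fun c c' hcc' z hz => ?_) ?_
  · have hs : Set.Subsingleton (c' : Set α) := fun a ha b hb => by
      by_contra hne
      obtain ⟨w, -, hw1, hw2⟩ := c'.isIrreducible.isPreirreducible {a} {b} (isOpen_discrete _)
        (isOpen_discrete _) ⟨a, ha, rfl⟩ ⟨b, hb, rfl⟩
      exact hne (hw1.symm.trans hw2)
    obtain ⟨y, hy⟩ := c.isIrreducible.nonempty
    rwa [hs hz (hcc' hy)]
  · obtain ⟨x⟩ := ‹Nonempty α›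
    have : Nonempty (IrreducibleCloseds α) :=
      ⟨⟨closure {x}, isIrreducible_singleton.closure, isClosed_closure⟩⟩
    exact Order.krullDim_nonneg

end Groth.AlgSpBasic
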