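import Mathlib.FieldTheory.IsAlgClosed.Classification
import Mathlib.RingTheory.AlgebraicIndependent.TranscendenceBasis
import Mathlib.RingTheory.AlgebraicIndependent.Transcendental
import Mathlib.FieldTheory.IsAlgClosed.AlgebraicClosure
import Mathlib.RingTheory.Localization.Integral

/-!
# Conjugating two embeddings of a field in a large algebraically closed field
-/

set_option autoImplicit false
universe u

open Cardinal

namespace Groth.AlgSpBasic.FieldConj

theorem exists_algEquiv_of_basis {k A B ι : Type u} [Field k] [Field A] [Field B] [Algebra k A]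
    [Algebra k B] [IsAlgClosed A] [IsAlgClosed B] {v : ι → A} {w : ι → B}
    (hv : IsTranscendenceBasis k v) (hw : IsTranscendenceBasis k w) : Nonempty (A ≃ₐ[k] B) := by
  letI := IsAlgClosed.isAlgClosure_of_transcendence_basis v hv
  letI := IsAlgClosed.isAlgClosure_of_transcendence_basis w hw
  let e : Algebra.adjoin k (Set.range v) ≃ₐ[k] Algebra.adjoin k (Set.range w) :=
    hv.1.aevalEquiv.symm.trans hw.1.aevalEquiv
  refine ⟨AlgEquiv.ofRingEquiv (f := IsAlgClosure.equivOfEquiv A B e.toRingEquiv) fun c => ?_⟩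
  rw [IsScalarTower.algebraMap_apply k (Algebra.adjoin k (Set.range v)) A,
    IsAlgClosure.equivOfEquiv_algebraMap]
  change algebraMap _ B (e (algebraMap k _ c)) = _
  rw [e.commutes, ← IsScalarTower.algebraMap_apply]

theorem trdeg_big (k K Ω : Type u) [Field k] [Field K] [Field Ω] [Algebra k K] [Algebra K Ω]
    [Algebra k Ω] [IsScalarTower k K Ω] (κ : Cardinal.{u}) (hκ : ℵ₀ ≤ κ) (hK : #K ≤ κ)
    (h : Algebra.trdeg K Ω = κ) : Algebra.trdeg k Ω = κ := by
  rw [← trdeg_add_eq k K, h, add_eq_right hκ]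
  obtain ⟨s, hs⟩ := exists_isTranscendenceBasis k K
  rw [← hs.cardinalMk_eq_trdeg]
  exact (mk_set_le s).trans hK

theorem exists_big (K : Type u) [Field K] :
    ∃ (Ω : Type u) (_ : Field Ω) (_ : Algebra K Ω), IsAlgClosed Ω ∧
      ∃ κ : Cardinal.{u}, ℵ₀ ≤ κ ∧ #K ≤ κ ∧ Algebra.trdeg K Ω = κ := by
  let P := MvPolynomial (K ⊕ ULift.{u} ℕ) K
  let F := FractionRing P
  let Ω := AlgebraicClosure F
  have hκ : ℵ₀ ≤ #(K ⊕ ULift.{u} ℕ) := by
    rw [← Cardinal.infinite_iff]; infer_instance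
  have hK : #K ≤ #(K ⊕ ULift.{u} ℕ) := Cardinal.mk_le_of_injective Sum.inl_injective
  have : Algebra.IsAlgebraic P F := IsLocalization.isAlgebraic F (nonZeroDivisors P)
  have : Algebra.IsAlgebraic P Ω := Algebra.IsAlgebraic.trans P F Ω
  have : FaithfulSMul P Ω := by
    rw [faithfulSMul_iff_algebraMap_injective, IsScalarTower.algebraMap_eq P F Ω]
    exact (algebraMap F Ω).injective.comp (IsFractionRing.injective P F)
  refine ⟨Ω, inferInstance, inferInstance, inferInstance, _, hκ, hK, ?_⟩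
  rw [← trdeg_add_eq K P, trdeg_eq_zero (R := P) (A := Ω), add_zero]
  simp [P]

/-- Two embeddings of `k` into `K` become conjugate in a large algebraically closed extension of
`K`. -/
theorem exists_conjugate {k K : Type u} [Field k] [Field K] (a b : k →+* K) :
    ∃ (Ω : Type u) (_ : Field Ω) (ψ : K →+* Ω) (β : Ω ≃+* Ω), IsAlgClosed Ω ∧
      β.toRingHom.comp (ψ.comp a) = ψ.comp b := by
  obtain ⟨Ω, _, _, _, κ, hκ, hK, hΩ⟩ := exists_big K
  let ψ : K →+* Ω := algebraMap K Ω
  obtain ⟨I, rfl⟩ : ∃ I : Type u, #I = κ := ⟨κ.out, mk_out κ⟩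
  have key : ∀ c : k →+* K, ∃ v : I → Ω,
      letI := (ψ.comp c).toAlgebra
      IsTranscendenceBasis k v := by
    intro c
    letI := c.toAlgebra
    letI := (ψ.comp c).toAlgebra
    haveI : IsScalarTower k K Ω := IsScalarTower.of_algebraMap_eq fun _ => rfl
    obtain ⟨s, hs⟩ := exists_isTranscendenceBasis k Ω
    have hcard := hs.cardinalMk_eq_trdeg.trans (trdeg_big k K Ω _ hκ hK hΩ)
    obtain ⟨e⟩ := Cardinal.eq.1 hcard
    exact ⟨Subtype.val ∘ e.symm, hs.comp_equiv e.symm⟩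
  obtain ⟨v, hv⟩ := key a
  obtain ⟨w, hw⟩ := key b
  refine ⟨Ω, inferInstance, ψ, ?_⟩
  obtain ⟨e⟩ := @exists_algEquiv_of_basis k Ω Ω _ _ _ _ (ψ.comp a).toAlgebra (ψ.comp b).toAlgebra
    inferInstance inferInstance v w hv hw
  exact ⟨@AlgEquiv.toRingEquiv k Ω Ω _ _ _ (ψ.comp a).toAlgebra (ψ.comp b).toAlgebra e,
    inferInstance, RingHom.ext fun x =>
      @AlgEquiv.commutes k Ω Ω _ _ _ (ψ.comp a).toAlgebra (ψ.comp b).toAlgebra e x⟩

end Groth.AlgSpBasic.FieldConj
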