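import Groth.Agent.AlgSpBasic.JacobsonSp
import Groth.Agent.AlgSpBasic.DecentFiniteDense
import Groth.Agent.AlgSpBasic.DimZeroSpace
import Groth.Agent.SpectralTopology.Dim
import Groth.Agent.S9798

/-!
# Isolated points of spaces locally of finite type over a field
-/

set_option autoImplicit false
set_option backward.isDefEq.respectTransparency.types false
universe u

open CategoryTheory CategoryTheory.Limits AlgebraicGeometry Opposite TopologicalSpace AlgSp

namespace Groth.AlgSpBasic

/-- A closed maximal point of a locally Noetherian scheme is isolated. -/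
theorem isOpen_singleton_of_closed_maximal {U : Scheme.{u}} [IsLocallyNoetherian U] {u : U}
    (hc : IsClosed ({u} : Set U)) (hm : ∀ y : U, y ⤳ u → y = u) : IsOpen ({u} : Set U) := by
  obtain ⟨O, hO, huO, -⟩ := exists_isAffineOpen_mem_and_subset (X := U) (x := u) (U := ⊤) trivial
  have : IsAffine (O : Scheme) := hO
  have : AlgebraicGeometry.IsNoetherian (O : Scheme) := ⟨⟩
  have hc' : IsClosed ({⟨u, huO⟩} : Set ↥(O : Scheme)) := by
    convert hc.preimage O.ι.continuous using 1
    ext z
    exact ⟨fun h => congrArg Subtype.val h, fun h => Subtype.ext h⟩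
  let v : ↥(O : Scheme) := ⟨u, huO⟩
  let C : Set ↥(O : Scheme) := ⋃ T ∈ {T ∈ irreducibleComponents ↥(O : Scheme) | v ∉ T}, T
  have hC : IsClosed C := ((NoetherianSpace.finite_irreducibleComponents).subset
    fun T hT => hT.1).isClosed_biUnion fun T hT => isClosed_of_mem_irreducibleComponents T hT.1
  have e : Cᶜ = ({v} : Set ↥(O : Scheme)) := by
    refine Set.eq_singleton_iff_unique_mem.2 ⟨fun h => ?_, fun z hz => ?_⟩
    · obtain ⟨T, hT, hv⟩ := Set.mem_iUnion₂.1 h
      exact hT.2 hv
    · have hT : v ∈ irreducibleComponent z := by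
        by_contra hv
        exact hz (Set.mem_biUnion ⟨irreducibleComponent_mem_irreducibleComponents z, hv⟩
          mem_irreducibleComponent)
      obtain ⟨η, hη⟩ := QuasiSober.sober isIrreducible_irreducibleComponent
        (isClosed_irreducibleComponent (x := z))
      have hηv : η = v := Subtype.ext (hm η.1 ((hη.specializes hT).map continuous_subtype_val))
      have hz' : η ⤳ z := hη.specializes mem_irreducibleComponent
      rw [hηv] at hz'
      exact hz'.mem_closed hc' rfl
  have h := O.ι.isOpenEmbedding.isOpenMap _ (e ▸ hC.isOpen_compl)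
  rwa [Set.image_singleton] at h

/-- All étale charts are locally Noetherian Jacobson schemes. -/
def ChartsNJ {S : Scheme.{u}} (X : Sp S) : Prop :=
  ∀ ⦃W : Over S⦄ ⦃c : (yon S).obj W ⟶ X⦄, RepWith @Etale c →
    IsLocallyNoetherian W.left ∧ JacobsonSpace ↥W.left

section Charts

variable {S : Scheme.{u}} {X : Sp S}

theorem etaleLocally_jacobson_of_charts (hX : IsAlgSpace X) (hN : ChartsNJ X) :
    EtaleLocally (fun U => JacobsonSpace ↥U) X := by
  obtain ⟨U, a, ha, has⟩ := hX.atlas
  exact ⟨U, a, ha, has, (hN ha).2⟩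

/-- The equivalent conditions for an isolated point. -/
theorem point_conditions_of_charts (hX : IsAlgSpace X) (hN : ChartsNJ X)
    (x : AlgSp.Points X) :
    (IsOpen ({x} : Set (AlgSp.Points X)) ↔
      (IsClosed ({x} : Set (AlgSp.Points X)) ∧ ∀ x', x' ⤳ x → x' = x)) ∧
    (IsOpen ({x} : Set (AlgSp.Points X)) ↔
      HasAt (fun U u => FlatMor.localDim ↥U u = 0) X x) := by
  obtain ⟨U, a, ha, has⟩ := hX.atlas
  obtain ⟨hUN, hUJ⟩ := hN ha
  obtain ⟨u, rfl⟩ := surjective_ofPt_of_repWith has x
  let F : Set ↥U.left := AlgSp.Points.ofPt a ⁻¹' {AlgSp.Points.ofPt a u}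
  have hdim : ∀ v ∈ F, ∀ w ∈ F, ringKrullDim ↥(U.left.presheaf.stalk v) =
      ringKrullDim ↥(U.left.presheaf.stalk w) := fun v hv w hw =>
    inv_eq_of_ofPt_eq etaleInvariant_ringKrullDim hX ha ha
      ((show AlgSp.Points.ofPt a v = _ from hv).trans (Eq.symm hw))
  have hloc : HasAt (fun U u => FlatMor.localDim ↥U u = 0) X (AlgSp.Points.ofPt a u) ↔
      IsOpen ({u} : Set ↥U.left) := by
    rw [← Groth.Agent.S9798.result]
    exact ⟨fun h => (hasAt_iff_forall etaleInvariant_localDim hX _ _).1 h U a u ha rfl,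
      fun h => ⟨U, a, u, ha, rfl, h⟩⟩
  have h3 : IsOpen ({u} : Set ↥U.left) → IsOpen ({AlgSp.Points.ofPt a u} : Set (AlgSp.Points X)) ∧
      IsClosed ({AlgSp.Points.ofPt a u} : Set (AlgSp.Points X)) := fun h => by
    refine ⟨Set.image_singleton (f := AlgSp.Points.ofPt a) ▸ (isOpenMap_ofPt_of_etale ha) _ h,
      (isQuotientMap_ofPt ha has).isClosed_preimage.1 ?_⟩
    have hiso : ∀ v ∈ F, IsOpen ({v} : Set ↥U.left) := fun v hv => by
      rw [← Groth.Agent.S9798.result]
      exact (hasAt_iff_forall etaleInvariant_localDim hX _ _).1 (hloc.2 h) U a v ha hv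
    refine isClosed_of_locally_finite
      (fun v hv => isClosed_singleton_of_isLocallyClosed_singleton (hiso v hv).isLocallyClosed)
      fun O hO => ?_
    have : IsAffine (O : Scheme) := hO
    have : AlgebraicGeometry.IsNoetherian (O : Scheme) := ⟨⟩
    have hc : IsCompact (O.ι ⁻¹' F) := NoetherianSpace.isCompact _
    have : DiscreteTopology ↥(O.ι ⁻¹' F) := discreteTopology_iff_isOpen_singleton.2 fun z =>
      isOpen_induced_iff.2 ⟨O.ι ⁻¹' {O.ι z.1}, (hiso _ z.2).preimage O.ι.continuous,
        Set.ext fun w => ⟨fun hw => Subtype.ext (O.ι.injective hw), fun hw => by rw [hw]; rfl⟩⟩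
    exact ((hc.finite (isDiscrete_iff_discreteTopology.2 ‹_›)).image O.ι).subset
      fun v ⟨hv, hvO⟩ => ⟨⟨v, hvO⟩, hv, rfl⟩
  have h4 : IsOpen ({AlgSp.Points.ofPt a u} : Set (AlgSp.Points X)) → IsOpen ({u} : Set ↥U.left) := by
    intro h
    have hF : IsOpen F := h.preimage (AlgSp.Points.continuous_ofPt a)
    obtain ⟨η, hη, h0⟩ := exists_codimZero_specializes u
    have hηF : η ∈ F := hη.mem_open hF rfl
    have hmax : ∀ v ∈ F, ∀ y, y ⤳ v → y = v := fun v hv =>
      ringKrullDim_eq_zero_iff.1 ((hdim v hv η hηF).trans h0)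
    refine isOpen_singleton_of_closed_maximal ?_ (hmax u rfl)
    obtain ⟨c, hc, hcc⟩ := nonempty_inter_closedPoints (Z := closure {u} ∩ F)
      ⟨u, subset_closure rfl, rfl⟩ (isClosed_closure.isLocallyClosed.inter hF.isLocallyClosed)
    rw [hmax c hc.2 u (specializes_iff_mem_closure.2 hc.1)]
    exact hcc
  refine ⟨⟨fun h => ⟨(h3 (h4 h)).2, fun x' hx' => hx'.mem_open h rfl⟩, fun ⟨hc, hm⟩ => ?_⟩,
    ⟨fun h => hloc.2 (h4 h), fun h => (h3 (hloc.1 h)).1⟩⟩
  have hF : IsClosed F := hc.preimage (AlgSp.Points.continuous_ofPt a)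
  have hgen : ∀ v ∈ F, ∀ y, y ⤳ v → y ∈ F := fun v hv y hy =>
    (hm _ ((show AlgSp.Points.ofPt a v = _ from hv) ▸ hy.map (AlgSp.Points.continuous_ofPt a)))
  obtain ⟨η, hη, h0⟩ := exists_codimZero_specializes u
  have hmax : ∀ v ∈ F, ∀ y, y ⤳ v → y = v := fun v hv =>
    ringKrullDim_eq_zero_iff.1 ((hdim v hv η (hgen u rfl η hη)).trans h0)
  refine (h3 (isOpen_singleton_of_closed_maximal ?_ (hmax u rfl))).1
  refine isClosed_of_closure_subset fun z hz => ?_
  have hzF : z ∈ F := (specializes_iff_mem_closure.2 hz).mem_closed hF rfl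
  exact (hmax z hzF u (specializes_iff_mem_closure.2 hz)).symm

/-- In a decent space isolated points are those of local dimension zero. -/
theorem localDim_points_iff_of_charts (hX : IsAlgSpace X) (hN : ChartsNJ X) (hd : IsDecent X)
    (x : AlgSp.Points X) :
    FlatMor.localDim (AlgSp.Points X) x = 0 ↔ IsOpen ({x} : Set (AlgSp.Points X)) := by
  have : T0Space (AlgSp.Points X) := t0Space_of_isDecent hX hd
  constructor
  · intro h
    obtain ⟨O, hxO, hdim⟩ := Groth.SpectralTopology.exists_localDim_eq x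
    have hle : topologicalKrullDim (O : Set (AlgSp.Points X)) ≤ 0 := (hdim.trans h).le
    have heq : ∀ y z : ↥(O : Set (AlgSp.Points X)), y ⤳ z → y = z := fun y z hyz => by
      let c : ↥(O : Set (AlgSp.Points X)) → IrreducibleCloseds ↥(O : Set (AlgSp.Points X)) := fun w =>
        ⟨closure ({w} : Set ↥(O : Set (AlgSp.Points X))), isIrreducible_singleton.closure,
          isClosed_closure⟩
      have hcl : c z ≤ c y := specializes_iff_closure_subset.mp hyz
      have := Order.krullDim_nonpos_iff_forall_isMax.mp hle (c z) hcl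
      exact (hyz.antisymm (specializes_iff_closure_subset.mpr this)).eq
    have hgen : ∀ y, y ⤳ x → y = x := fun y hy => congrArg Subtype.val
      (heq ⟨y, hy.mem_open O.2 hxO⟩ ⟨x, hxO⟩ (Topology.IsInducing.subtypeVal.specializes_iff.1 hy))
    refine (point_conditions_of_charts hX hN x).1.2 ⟨?_, hgen⟩
    have : JacobsonSpace (AlgSp.Points X) :=
      (jacobson_iff hX hd).1 (etaleLocally_jacobson_of_charts hX hN)
    refine isClosed_singleton_of_isLocallyClosed_singleton ⟨O, closure {x}, O.2, isClosed_closure,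
      Set.ext fun z => ⟨fun hz => ?_, fun ⟨hzO, hz⟩ => ?_⟩⟩
    · rw [Set.mem_singleton_iff.1 hz]
      exact ⟨hxO, subset_closure rfl⟩
    · exact congrArg Subtype.val (heq ⟨x, hxO⟩ ⟨z, hzO⟩
        (Topology.IsInducing.subtypeVal.specializes_iff.1 (specializes_iff_mem_closure.2 hz))).symm
  · intro h
    refine le_antisymm ((Groth.SpectralTopology.localDim_le_of_mem
      (U := (⟨{x}, h⟩ : Opens (AlgSp.Points X))) rfl).trans ?_) (Groth.SpectralTopology.localDim_nonneg x)
    refine Order.krullDim_nonpos_iff_forall_isMax.2 fun c c' hcc' => ?_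
    intro z hz
    obtain ⟨w, hw⟩ := c.isIrreducible.nonempty
    rwa [show z = w from Subtype.ext ((z.2 : z.1 = x).trans (w.2 : w.1 = x).symm)]

/-- The equivalent conditions for a discrete space. -/
theorem space_conditions_of_charts (hX : IsAlgSpace X) (hN : ChartsNJ X)
    [Nonempty (AlgSp.Points X)] :
    (DiscreteTopology (AlgSp.Points X) ↔ AlgSp.dim X = 0) ∧
      (DiscreteTopology (AlgSp.Points X) → topologicalKrullDim (AlgSp.Points X) = 0) ∧
      (IsDecent X → topologicalKrullDim (AlgSp.Points X) = 0 → DiscreteTopology (AlgSp.Points X)) ∧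
      (IsDecent X → Finite (AlgSp.Points X) → AlgSp.dim X = 0) := by
  have h1 : DiscreteTopology (AlgSp.Points X) → AlgSp.dim X = 0 := fun hdisc => by
    refine le_antisymm (iSup₂_le fun U a => iSup_le fun ha => ?_) ?_
    · refine Order.krullDim_nonpos_iff_forall_isMax.2 fun c c' hcc' => ?_
      obtain ⟨η, hη⟩ := QuasiSober.sober c'.isIrreducible c'.isClosed
      obtain ⟨z, hz⟩ := c.isIrreducible.nonempty
      have hz' : η = z := by
        have h := (hasAt_iff_forall etaleInvariant_localDim hX _ _).1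
          ((point_conditions_of_charts hX hN _).2.1 (isOpen_discrete _)) U a z ha rfl
        have := (hN ha).1
        exact (hη.specializes (hcc' hz)).mem_open ((Groth.Agent.S9798.result _ _).1 h) rfl
      intro y hy
      have : η ⤳ y := hη.specializes hy
      exact this.mem_closed c.isClosed (hz'.symm ▸ hz)
    · obtain ⟨U, a, ha, has⟩ := hX.atlas
      obtain ⟨x⟩ := ‹Nonempty (AlgSp.Points X)›
      obtain ⟨u, -⟩ := surjective_ofPt_of_repWith has x
      have : Nonempty (IrreducibleCloseds ↥U.left) :=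
        ⟨⟨closure {u}, isIrreducible_singleton.closure, isClosed_closure⟩⟩
      exact (Order.krullDim_nonneg).trans
        (le_iSup₂_of_le U a (le_iSup (fun _ : RepWith @Etale a => topologicalKrullDim ↥U.left) ha))
  have h2 : AlgSp.dim X = 0 → DiscreteTopology (AlgSp.Points X) := fun hdim =>
    discreteTopology_iff_isOpen_singleton.2 fun x => by
      obtain ⟨U, a, ha, has⟩ := hX.atlas
      obtain ⟨u, rfl⟩ := surjective_ofPt_of_repWith has x
      exact (point_conditions_of_charts hX hN _).2.2 ⟨U, a, u, ha, rfl, le_antisymm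
        ((Groth.SpectralTopology.localDim_le_dim u).trans
          (topologicalKrullDim_le_of_dim_le hdim.le ha)) (Groth.SpectralTopology.localDim_nonneg u)⟩
  refine ⟨⟨h1, h2⟩, fun hdisc => ?_, fun hd h => ?_, fun hd hfin => h1 ?_⟩
  · refine le_antisymm (Order.krullDim_nonpos_iff_forall_isMax.2 fun c c' hcc' z hz => ?_) ?_
    · have hs : Set.Subsingleton (c' : Set (AlgSp.Points X)) := fun a ha b hb => by
        by_contra hne
        obtain ⟨w, -, hw1, hw2⟩ := c'.isIrreducible.isPreirreducible {a} {b} (isOpen_discrete _)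
          (isOpen_discrete _) ⟨a, ha, rfl⟩ ⟨b, hb, rfl⟩
        exact hne (hw1.symm.trans hw2)
      obtain ⟨y, hy⟩ := c.isIrreducible.nonempty
      rwa [hs hz (hcc' hy)]
    · obtain ⟨x⟩ := ‹Nonempty (AlgSp.Points X)›
      have : Nonempty (IrreducibleCloseds (AlgSp.Points X)) :=
        ⟨⟨closure {x}, isIrreducible_singleton.closure, isClosed_closure⟩⟩
      exact Order.krullDim_nonneg
  · exact discreteTopology_iff_isOpen_singleton.2 fun x => (localDim_points_iff_of_charts hX hN hd x).1
      (le_antisymm ((Groth.SpectralTopology.localDim_le_dim x).trans h.le)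
        (Groth.SpectralTopology.localDim_nonneg x))
  · have : JacobsonSpace (AlgSp.Points X) := (jacobson_iff hX hd).1 (etaleLocally_jacobson_of_charts hX hN)
    infer_instance

end Charts

variable {k : Type u} [Field k]

theorem lft_chart_of_field {X : Sp (Spec (CommRingCat.of k))}
    {p : X ⟶ (yon (Spec (CommRingCat.of k))).obj (Over.mk (𝟙 _))}
    (hp : LocP @LocallyOfFiniteType p) {W : Over (Spec (CommRingCat.of k))}
    {c : (yon _).obj W ⟶ X} (hc : RepWith @Etale c) : LocallyOfFiniteType W.hom := by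
  obtain ⟨ω, hω⟩ := (yon _).map_surjective (c ≫ p)
  have := hp c (𝟙 _) ω hc (repWith_id _ _) (by rw [Category.comp_id, hω])
  have e : ω.left = W.hom := by rw [← Over.w ω]; exact (Category.comp_id _).symm
  rwa [e] at this

variable {X : Sp (Spec (CommRingCat.of k))}
  {p : X ⟶ (yon (Spec (CommRingCat.of k))).obj (Over.mk (𝟙 _))}

theorem isLocallyNoetherian_chart (hp : LocP @LocallyOfFiniteType p)
    {W : Over (Spec (CommRingCat.of k))} {c : (yon _).obj W ⟶ X} (hc : RepWith @Etale c) :
    IsLocallyNoetherian W.left :=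
  have := lft_chart_of_field hp hc
  LocallyOfFiniteType.isLocallyNoetherian W.hom

theorem etaleLocally_jacobson (hX : IsAlgSpace X) (hp : LocP @LocallyOfFiniteType p) :
    EtaleLocally (fun U => JacobsonSpace ↥U) X := by
  obtain ⟨U, a, ha, has⟩ := hX.atlas
  have := lft_chart_of_field hp ha
  exact ⟨U, a, ha, has, LocallyOfFiniteType.jacobsonSpace U.hom⟩

theorem chartsNJ_of_field (hp : LocP @LocallyOfFiniteType p) : ChartsNJ X := fun W c hc =>
  have := lft_chart_of_field hp hc
  ⟨isLocallyNoetherian_chart hp hc, LocallyOfFiniteType.jacobsonSpace W.hom⟩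

theorem point_conditions (hX : IsAlgSpace X) (hp : LocP @LocallyOfFiniteType p)
    (x : AlgSp.Points X) :
    (IsOpen ({x} : Set (AlgSp.Points X)) ↔
      (IsClosed ({x} : Set (AlgSp.Points X)) ∧ ∀ x', x' ⤳ x → x' = x)) ∧
    (IsOpen ({x} : Set (AlgSp.Points X)) ↔
      HasAt (fun U u => FlatMor.localDim ↥U u = 0) X x) :=
  point_conditions_of_charts hX (chartsNJ_of_field hp) x

theorem localDim_points_iff (hX : IsAlgSpace X) (hp : LocP @LocallyOfFiniteType p) (hd : IsDecent X)
    (x : AlgSp.Points X) :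
    FlatMor.localDim (AlgSp.Points X) x = 0 ↔ IsOpen ({x} : Set (AlgSp.Points X)) :=
  localDim_points_iff_of_charts hX (chartsNJ_of_field hp) hd x

theorem space_conditions (hX : IsAlgSpace X) (hp : LocP @LocallyOfFiniteType p)
    [Nonempty (AlgSp.Points X)] :
    (DiscreteTopology (AlgSp.Points X) ↔ AlgSp.dim X = 0) ∧
      (DiscreteTopology (AlgSp.Points X) → topologicalKrullDim (AlgSp.Points X) = 0) ∧
      (IsDecent X → topologicalKrullDim (AlgSp.Points X) = 0 → DiscreteTopology (AlgSp.Points X)) ∧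
      (IsDecent X → Finite (AlgSp.Points X) → AlgSp.dim X = 0) :=
  space_conditions_of_charts hX (chartsNJ_of_field hp)

end Groth.AlgSpBasic
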