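import Groth.Agent.AlgSpBasic.ConfigSpace
import Groth.Agent.AlgSpBasic.Quotient
import Groth.Agent.AlgSpBasic.FiniteEtaleQuotOrbits
import Groth.Agent.AlgSpBasic.SourceDescent
import Groth.Agent.Pi1Quot.SigmaFinite
import Groth.Agent.FlatMor2.Chevalley.Approx
import Groth.Agent.GitQuot.FiniteAffine

/-!
# Unordered configurations of distinct lifts along an etale chart
-/

set_option autoImplicit false
set_option backward.isDefEq.respectTransparency.types false
universe u

open CategoryTheory CategoryTheory.Limits AlgebraicGeometry Topology TopologicalSpace Opposite AlgSp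

namespace Groth.AlgSpBasic

noncomputable section

variable {S : Scheme.{u}} {X : Sp S} {U : Over S} {a : (yon S).obj U ⟶ X} {n : ℕ}

/-- Two tuples have the same values at every point. -/
def SameSet {T U : Over S} (A B : Fin (n + 1) → (T ⟶ U)) : Prop :=
  ∀ t : ↥T.left, ∀ i, ∃ j,
    T.left.fromSpecResidueField t ≫ (A i).left = T.left.fromSpecResidueField t ≫ (B j).left

theorem SameSet.refl {T U : Over S} (A : Fin (n + 1) → (T ⟶ U)) : SameSet A A :=
  fun _ i => ⟨i, rfl⟩

theorem SameSet.trans {T U : Over S} {A B C : Fin (n + 1) → (T ⟶ U)} (h : SameSet A B)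
    (h' : SameSet B C) : SameSet A C := fun t i => by
  obtain ⟨j, hj⟩ := h t i
  obtain ⟨k, hk⟩ := h' t j
  exact ⟨k, hj.trans hk⟩

theorem SameSet.symm {T U : Over S} {A B : Fin (n + 1) → (T ⟶ U)} (hA : PtsInj A)
    (h : SameSet A B) : SameSet B A := fun t j => by
  choose σ hσ using h t
  have hσi : Function.Injective σ := fun i i' e => hA t (by
    show _ ≫ _ = _ ≫ _
    rw [hσ, hσ, e])
  obtain ⟨i, rfl⟩ := (Finite.injective_iff_surjective.1 hσi) j
  exact ⟨i, (hσ i).symm⟩

/-- An unordered configuration space: the quotient of the space of distinct lifts. -/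
structure UnorderedSpace (D : DistinctSpace a n) where
  V : Over S
  q : D.W ⟶ V
  f : (yon S).obj V ⟶ X
  fac : (yon S).map q ≫ f = D.c
  finite : IsFinite q.left
  etale : Etale q.left
  surjective : Surjective q.left
  sep : V.left.IsSeparated
  f_etale : RepWith @Etale f
  /-- two lifts with the same values at every point have the same image -/
  glue : ∀ {T : Over S} (w w' : T ⟶ D.W), (yon S).map w ≫ D.c = (yon S).map w' ≫ D.c →
    SameSet (fun i => w ≫ D.e i) (fun i => w' ≫ D.e i) → w ≫ q = w' ≫ q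

theorem exists_unorderedSpace (hX : IsAlgSpace X) [IsAffine U.left] (ha : RepWith @Etale a)
    (D : DistinctSpace a n) : Nonempty (UnorderedSpace D) := by
  have := D.sep
  obtain ⟨M, m₁, m₂, sqM⟩ := exists_pullback_of_diag hX.diag D.c D.c
  have hm₁e : Etale m₁.left := repWith_fst_of_isPullback sqM.flip D.etale
  have hm₂e : Etale m₂.left := repWith_fst_of_isPullback sqM D.etale
  have hm₂s : IsSeparated m₂.left :=
    repWith_fst_of_isPullback sqM (repWith_isSeparated_of_isSeparated hX D.c)
  let O : Set ↥M.left := ⋂ i : Fin (n + 1), ⋃ j : Fin (n + 1),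
    {z | M.left.fromSpecResidueField z ≫ (m₁ ≫ D.e i).left =
      M.left.fromSpecResidueField z ≫ (m₂ ≫ D.e j).left}
  have hO : IsClopen O := isClopen_iInter_of_finite fun i => isClopen_iUnion_of_finite fun j =>
    isClopen_agree hX ha (by
      rw [Functor.map_comp, Category.assoc, D.comm, Functor.map_comp, Category.assoc, D.comm]
      exact sqM.w)
  have hmem : ∀ z, z ∈ O ↔ ∀ i, ∃ j, M.left.fromSpecResidueField z ≫ (m₁ ≫ D.e i).left =
      M.left.fromSpecResidueField z ≫ (m₂ ≫ D.e j).left := fun z => by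
    simp only [O, Set.mem_iInter, Set.mem_iUnion]
    rfl
  let Oo : M.left.Opens := ⟨O, hO.isOpen⟩
  let R : Over S := Over.mk (Oo.ι ≫ M.hom)
  let κ : R ⟶ M := Over.homMk Oo.ι rfl
  have : IsOpenImmersion κ.left := inferInstanceAs (IsOpenImmersion Oo.ι)
  let t : R ⟶ D.W := κ ≫ m₁
  let s : R ⟶ D.W := κ ≫ m₂
  have hlands : ∀ {T : Over S} (l : T ⟶ M),
      SameSet (fun i => l ≫ m₁ ≫ D.e i) (fun i => l ≫ m₂ ≫ D.e i) ↔
        Set.range l.left ⊆ Set.range κ.left := by
    intro T l
    constructor
    · rintro h _ ⟨z, rfl⟩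
      refine (Scheme.Opens.range_ι Oo).ge ((hmem _).2 fun i => ?_)
      obtain ⟨j, hj⟩ := h z i
      simp only [Over.comp_left] at hj
      exact ⟨j, (comp_fromSpec_eq_iff l.left z _ _).1 hj⟩
    · intro h z i
      obtain ⟨j, hj⟩ := (hmem _).1 ((Scheme.Opens.range_ι Oo).le (h ⟨z, rfl⟩)) i
      refine ⟨j, ?_⟩
      simp only [Over.comp_left]
      exact (comp_fromSpec_eq_iff l.left z _ _).2 hj
  have hrel : ∀ {T : Over S} (x y : T ⟶ D.W),
      (∃ r : T ⟶ R, r ≫ t = x ∧ r ≫ s = y) ↔ (yon S).map x ≫ D.c = (yon S).map y ≫ D.c ∧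
        SameSet (fun i => x ≫ D.e i) (fun i => y ≫ D.e i) := by
    intro T x y
    constructor
    · rintro ⟨r, rfl, rfl⟩
      refine ⟨by simp only [t, s, Functor.map_comp, Category.assoc, sqM.w], ?_⟩
      have h := (hlands (r ≫ κ)).2 (by
        rintro _ ⟨z, rfl⟩
        exact ⟨r.left z, rfl⟩)
      simpa only [t, s, Category.assoc] using h
    · rintro ⟨hc, hs⟩
      obtain ⟨l, hl⟩ := (yon S).map_surjective (sqM.lift _ _ hc)
      have h₁ : l ≫ m₁ = x := (yon S).map_injective (by rw [Functor.map_comp, hl, sqM.lift_fst])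
      have h₂ : l ≫ m₂ = y := (yon S).map_injective (by rw [Functor.map_comp, hl, sqM.lift_snd])
      have hr := (hlands l).1 (by simpa only [← Category.assoc, h₁, h₂] using hs)
      let r : T ⟶ R := Over.homMk (IsOpenImmersion.lift κ.left l.left hr) (by
        show _ ≫ Oo.ι ≫ M.hom = _
        rw [← Category.assoc, show IsOpenImmersion.lift κ.left l.left hr ≫ Oo.ι = l.left from
          IsOpenImmersion.lift_fac _ _ _, Over.w l])
      have hrκ : r ≫ κ = l := Over.OverMorphism.ext (IsOpenImmersion.lift_fac _ _ _)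
      exact ⟨r, by rw [← h₁, ← hrκ, Category.assoc], by rw [← h₂, ← hrκ, Category.assoc]⟩
  have heqv : IsEqvRel s t := by
    refine ⟨fun T r r' h₁ h₂ => ?_, fun T => ⟨fun x => (hrel x x).2 ⟨rfl, SameSet.refl _⟩,
      fun h => (hrel _ _).2 ⟨((hrel _ _).1 h).1.symm, ((hrel _ _).1 h).2.symm (D.inj.comp _)⟩,
      fun h h' => (hrel _ _).2 ⟨((hrel _ _).1 h).1.trans ((hrel _ _).1 h').1,
        ((hrel _ _).1 h).2.trans ((hrel _ _).1 h').2⟩⟩⟩
    have e : r ≫ κ = r' ≫ κ := by
      apply (yon S).map_injective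
      apply sqM.hom_ext
      · rw [← Functor.map_comp, ← Functor.map_comp]
        simpa only [t, Category.assoc] using congrArg ((yon S).map) h₁
      · rw [← Functor.map_comp, ← Functor.map_comp]
        simpa only [s, Category.assoc] using congrArg ((yon S).map) h₂
    exact Over.OverMorphism.ext ((cancel_mono κ.left).1 (congrArg CommaMorphism.left e))
  have hte : Etale t.left := by show Etale (κ.left ≫ m₁.left); infer_instance
  have hse : Etale s.left := by show Etale (κ.left ≫ m₂.left); infer_instance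
  -- the projections are finite
  have hact : ∀ σ : Equiv.Perm (Fin (n + 1)), ∃ act : D.W ⟶ D.W,
      ∀ i, act ≫ D.e i = D.e (σ i) := fun σ =>
    D.exists_lift (fun i => D.e (σ i)) D.c (fun i => D.comm _)
      (fun z => (D.inj z).comp σ.injective)
  choose act hact using hact
  have hsec : ∀ σ, ∃ r : D.W ⟶ R, r ≫ t = 𝟙 _ ∧ r ≫ s = act σ := fun σ =>
    (hrel _ _).2 ⟨by
      rw [← D.comm 0, ← Category.assoc, ← Category.assoc, ← Functor.map_comp, ← Functor.map_comp,
        hact, Category.id_comp, D.comm, D.comm],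
      fun z i => ⟨σ.symm i, by simp [hact]⟩⟩
  choose sec hsect hsecs using hsec
  let Sg := fun _ : ULift.{u} (Equiv.Perm (Fin (n + 1))) => D.W.left
  let dd : (∐ Sg) ⟶ R.left := Sigma.desc fun σ => (sec σ.down).left
  have hdd : Surjective dd := by
    refine ⟨fun z => ?_⟩
    obtain hz := (hmem (κ.left z)).1 ((Scheme.Opens.range_ι Oo).le ⟨z, rfl⟩)
    let x := R.left.fromSpecResidueField z
    let Z : Over S := Over.mk (x ≫ R.hom)
    let ρ : Z ⟶ R := Over.homMk x rfl
    have hz' : ∀ i, ∃ j, x ≫ (t ≫ D.e i).left = x ≫ (s ≫ D.e j).left := fun i => by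
      obtain ⟨j, hj⟩ := hz i
      refine ⟨j, ?_⟩
      simp only [t, s, Category.assoc, Over.comp_left] at hj ⊢
      exact (comp_fromSpec_eq_iff κ.left z _ _).2 hj
    choose σ hσ using hz'
    have hσb : Function.Bijective σ := by
      have hi : Function.Injective σ := fun i i' e => (D.inj.comp t) z (by
        show x ≫ (t ≫ D.e i).left = x ≫ (t ≫ D.e i').left
        rw [hσ, hσ, e])
      exact ⟨hi, Finite.injective_iff_surjective.1 hi⟩
    let σ' := (Equiv.ofBijective σ hσb).symm
    have hρ : ρ ≫ s = ρ ≫ t ≫ act σ' := by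
      refine D.hom_ext _ _ fun i => ?_
      simp only [Category.assoc, hact]
      refine Over.OverMorphism.ext ?_
      show x ≫ (s ≫ D.e i).left = x ≫ (t ≫ D.e (σ' i)).left
      rw [hσ, show σ (σ' i) = i from (Equiv.ofBijective σ hσb).apply_symm_apply i]
    have hρ' : ρ = ρ ≫ t ≫ sec σ' := by
      refine heqv.injective Z _ _ ?_ ?_
      · simp only [Category.assoc, hsect, Category.comp_id]
      · simp only [Category.assoc, hsecs]; exact hρ
    refine ⟨Sigma.ι Sg ⟨σ'⟩ (t.left z), ?_⟩
    rw [← Scheme.Hom.comp_apply, Sigma.ι_desc]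
    have := congrArg (fun k : Z ⟶ R => k.left (IsLocalRing.closedPoint (R.left.residueField z))) hρ'
    refine (Eq.trans ?_ this.symm).trans (Scheme.fromSpecResidueField_apply _ _)
    show (sec σ').left (t.left z) = (sec σ').left (t.left (x _))
    rw [Scheme.fromSpecResidueField_apply]
  have : IsFinite (dd ≫ s.left) := by
    have e : dd ≫ s.left =
        Sigma.desc fun σ : ULift.{u} (Equiv.Perm (Fin (n + 1))) => (act σ.down).left := by
      refine Sigma.hom_ext _ _ fun σ => ?_
      rw [← Category.assoc, Sigma.ι_desc, Sigma.ι_desc, ← Over.comp_left, hsecs]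
    have hfin : ∀ σ, IsFinite (act σ).left := fun σ => by
      have h₁ : ∀ σ τ, act σ ≫ act τ = act (σ * τ) := fun σ τ => D.hom_ext _ _ fun i => by
        rw [Category.assoc, hact, hact, hact]; rfl
      have h₂ : act 1 = 𝟙 _ := D.hom_ext _ _ fun i => by rw [hact, Category.id_comp]; rfl
      have : IsIso (act σ) := ⟨act σ⁻¹, by rw [h₁, mul_inv_cancel, h₂],
        by rw [h₁, inv_mul_cancel, h₂]⟩
      have : IsIso (act σ).left := inferInstanceAs (IsIso ((Over.forget S).map (act σ)))
      infer_instance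
    have := fun σ : ULift.{u} (Equiv.Perm (Fin (n + 1))) => hfin σ.down
    rw [e]
    exact Groth.Pi1Quot.isFinite_sigmaDesc _
  have : UniversallyClosed s.left := UniversallyClosed.of_comp_surjective dd s.left
  have : IsSeparated s.left := by show IsSeparated (κ.left ≫ m₂.left); infer_instance
  have : LocallyQuasiFinite s.left := Groth.DescentBase.locallyQuasiFinite_of_etale s.left
  have : IsProper s.left := { }
  have hsf : IsFinite s.left := IsFinite.of_isProper_of_locallyQuasiFinite s.left
  -- the quotient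
  have := isLocallySurjective_yonQuotπ s t
  have sqQ := isPullback_yonQuot heqv
  obtain ⟨hF, hπe, hπs⟩ := isAlgSpace_of_kernelPair sqQ
  obtain ⟨V, ⟨eV⟩⟩ := exists_iso_of_finite_etale_orbits hπe hπs sqQ fun x => by
    have : LocallyQuasiFinite (D.e 0).left :=
      have := D.etale_zero; Groth.DescentBase.locallyQuasiFinite_of_etale _
    have := D.etale_zero
    exact Groth.GitQuot.exists_affineOpen_of_finite (D.e 0).left _
      ((s.left.finite_preimage_singleton x).image _)
  obtain ⟨q, hq⟩ := (yon S).map_surjective (yonQuotπ s t ≫ eV.inv)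
  have hqe : RepWith @Etale ((yon S).map q) := by rw [hq]; exact repWith_comp hπe (repWith_isIso _)
  have hqs : RepWith @Surjective ((yon S).map q) := by
    rw [hq]; exact repWith_comp hπs (repWith_isIso _)
  have sqV : IsPullback ((yon S).map t) ((yon S).map s) ((yon S).map q) ((yon S).map q) := by
    rw [hq]
    exact IsPullback.of_iso sqQ (Iso.refl _) (Iso.refl _) (Iso.refl _) eV.symm (by simp) (by simp)
      (by simp) (by simp)
  have : Etale q.left := (repWith_yon_map_iff _ q).1 hqe
  have : Surjective q.left := (repWith_yon_map_iff _ q).1 hqs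
  have : Sheaf.IsLocallySurjective ((yon S).map q) := isLocallySurjective_of_etale _ hqe hqs
  have hqf : IsFinite q.left := by
    have : MorphismProperty.IsLocalAtTarget (@IsFinite.{u}) Scheme.fppfPrecoverage :=
      isLocalAtTarget_fppf _
    exact (repWith_yon_map_iff _ q).1 (repWith_of_isLocallySurjective _ hqe.rep _ _ _ sqV
      ((repWith_yon_map_iff _ s).2 hsf))
  obtain ⟨f₀, hf₀⟩ : ∃ f₀, yonQuotπ s t ≫ f₀ = D.c := by
    have w : (yon S).map t ≫ D.c = (yon S).map s ≫ D.c := by
      simp only [t, s, Functor.map_comp, Category.assoc, sqM.w]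
    exact ⟨(isColimitYonQuot s t).desc (Cofork.ofπ D.c w),
      (isColimitYonQuot s t).fac (Cofork.ofπ D.c w) WalkingParallelPair.one⟩
  have hfac : (yon S).map q ≫ eV.hom ≫ f₀ = D.c := by
    rw [hq, Category.assoc, eV.inv_hom_id_assoc, hf₀]
  refine ⟨⟨V, q, eV.hom ≫ f₀, hfac, hqf, inferInstance, inferInstance,
    Groth.FlatMor2.Chevalley.isSeparated_of_surjective_universallyClosed q.left, ?_, ?_⟩⟩
  · refine repWith_of_representable (representable_of_diag hX.diag _) fun T P g fst snd sq => ?_
    obtain ⟨l, rfl⟩ := (yon S).map_surjective fst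
    obtain ⟨P', p₁, p₂, hP'⟩ : ∃ (P' : Over S) (p₁ : P' ⟶ D.W) (p₂ : P' ⟶ P),
        IsPullback p₁ p₂ q l := ⟨_, _, _, IsPullback.of_hasPullback q l⟩
    have hbig := (hP'.map (yon S)).paste_vert sq
    rw [← Functor.map_comp, hfac] at hbig
    have : Etale (p₂.left ≫ snd.left) := repWith_fst_of_isPullback hbig D.etale
    have : Etale p₂.left := MorphismProperty.of_isPullback (P := @Etale) (isPullback_left hP') ‹_›
    have : Surjective p₂.left :=
      MorphismProperty.of_isPullback (P := @Surjective) (isPullback_left hP') ‹_›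
    exact SourceDescent.etale_of_comp_surjective p₂.left snd.left
  · intro T w w' hc hs
    obtain ⟨r, rfl, rfl⟩ := (hrel w w').2 ⟨hc, hs⟩
    apply (yon S).map_injective
    simp only [Functor.map_comp, Category.assoc, sqV.w]

end

end Groth.AlgSpBasic
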