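import Groth.Agent.Chow.AffineImm
import Mathlib.AlgebraicGeometry.Morphisms.Immersion
import Mathlib.AlgebraicGeometry.Morphisms.FiniteType
import Mathlib.RingTheory.Adjoin.FG

/-!
# Immersions into affine schemes need only finitely many functions
-/

set_option autoImplicit false
set_option backward.isDefEq.respectTransparency.types false
universe u

open CategoryTheory CategoryTheory.Limits AlgebraicGeometry

namespace Groth.AlgSpBasic.FiniteImmersion

theorem preimage_affine_of_immersion {P D : Scheme.{u}} (e : P ⟶ D) [IsImmersion e] {E : D.Opens}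
    (hE : IsAffineOpen E) (hle : E ≤ e.coborderRange) :
    IsAffineOpen (e ⁻¹ᵁ E) ∧ Function.Surjective (e.app E) := by
  obtain ⟨E', rfl⟩ : ∃ E' : e.coborderRange.toScheme.Opens, e.coborderRange.ι ''ᵁ E' = E :=
    ⟨e.coborderRange.ι ⁻¹ᵁ E, by
      rw [Scheme.Hom.image_preimage_eq_opensRange_inf, Scheme.Opens.opensRange_ι]
      exact inf_eq_right.2 hle⟩
  have hE' : IsAffineOpen E' := (e.coborderRange.ι.isAffineOpen_iff_of_isOpenImmersion).1 hE
  have h₁ : IsAffineOpen (e.liftCoborder ⁻¹ᵁ E') := hE'.preimage e.liftCoborder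
  refine ⟨?_, ?_⟩
  · rwa [← e.liftCoborder_preimage]
  · have h := e.liftCoborder.app_surjective E' hE'
    rw [liftCoborder_app] at h
    intro y
    obtain ⟨x, hx⟩ := h ((P.presheaf.map (eqToHom <| e.liftCoborder_preimage E').op) y)
    refine ⟨x, ?_⟩
    exact (ConcreteCategory.bijective_of_isIso
      (P.presheaf.map (eqToHom <| e.liftCoborder_preimage E').op)).1 hx

/-- A compact scheme with an immersion into an affine scheme is covered by finitely many affine
basic opens on which every function is a fraction of functions of the affine scheme. -/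
theorem exists_pieces {P D : Scheme.{u}} [CompactSpace P] [IsAffine D] (e : P ⟶ D) [IsImmersion e] :
    ∃ G : Finset Γ(D, ⊤), (∀ x : P, ∃ g ∈ G, x ∈ P.basicOpen (e.appTop g)) ∧
      ∀ g ∈ G, IsAffineOpen (P.basicOpen (e.appTop g)) ∧
        ∀ y : Γ(P, P.basicOpen (e.appTop g)), ∃ (d : Γ(D, ⊤)) (n : ℕ),
          y * (P.presheaf.map (homOfLE le_top).op (e.appTop g)) ^ n =
            P.presheaf.map (homOfLE le_top).op (e.appTop d) := by
  classical
  have key : ∀ x : P, ∃ g : Γ(D, ⊤), D.basicOpen g ≤ e.coborderRange ∧ e x ∈ D.basicOpen g := fun x =>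
    (isAffineOpen_top D).exists_basicOpen_le (V := e.coborderRange)
      ⟨e x, subset_coborder ⟨x, rfl⟩⟩ trivial
  choose g hle hmem using key
  obtain ⟨t, ht⟩ := CompactSpace.isCompact_univ.elim_finite_subcover
    (fun x => (P.basicOpen (e.appTop (g x)) : Set P)) (fun x => (P.basicOpen _).isOpen)
    (fun x _ => Set.mem_iUnion.2 ⟨x, by
      rw [SetLike.mem_coe, ← Scheme.Hom.preimage_basicOpen_top]; exact hmem x⟩)
  refine ⟨t.image g, fun x => ?_, fun c hc => ?_⟩
  · obtain ⟨y, hy, hxy⟩ := Set.mem_iUnion₂.1 (ht (Set.mem_univ x))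
    exact ⟨g y, Finset.mem_image_of_mem g hy, hxy⟩
  obtain ⟨z, -, rfl⟩ := Finset.mem_image.1 hc
  obtain ⟨haff, hs⟩ := preimage_affine_of_immersion e ((isAffineOpen_top D).basicOpen (g z)) (hle z)
  refine ⟨by rwa [← Scheme.Hom.preimage_basicOpen_top], fun y => ?_⟩
  have h2 : Function.Surjective (e.appLE (D.basicOpen (g z)) (P.basicOpen (e.appTop (g z)))
      (by rw [Scheme.Hom.preimage_basicOpen_top])) := by
    intro y'
    have : IsIso (homOfLE (show P.basicOpen (e.appTop (g z)) ≤ e ⁻¹ᵁ D.basicOpen (g z) by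
        rw [Scheme.Hom.preimage_basicOpen_top])) :=
      ⟨homOfLE (by rw [Scheme.Hom.preimage_basicOpen_top]), Subsingleton.elim _ _, Subsingleton.elim _ _⟩
    obtain ⟨y₁, rfl⟩ := (ConcreteCategory.bijective_of_isIso (P.presheaf.map
      (homOfLE (show P.basicOpen (e.appTop (g z)) ≤ e ⁻¹ᵁ D.basicOpen (g z) by
        rw [Scheme.Hom.preimage_basicOpen_top])).op)).2 y'
    obtain ⟨x, rfl⟩ := hs y₁
    exact ⟨x, rfl⟩
  obtain ⟨w, rfl⟩ := h2 y
  obtain ⟨⟨d, _, n, rfl⟩, hd⟩ := @IsLocalization.surj _ _ (Submonoid.powers (g z)) _ _ _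
    ((isAffineOpen_top D).isLocalization_basicOpen (g z)) w
  refine ⟨d, n, ?_⟩
  have := congrArg (e.appLE (D.basicOpen (g z)) (P.basicOpen (e.appTop (g z)))
    (by rw [Scheme.Hom.preimage_basicOpen_top])).hom hd
  rw [map_mul] at this
  have hcomm : ∀ a : Γ(D, ⊤), (e.appLE (D.basicOpen (g z)) (P.basicOpen (e.appTop (g z)))
      (by rw [Scheme.Hom.preimage_basicOpen_top])).hom (D.presheaf.map (homOfLE le_top).op a) =
      P.presheaf.map (homOfLE le_top).op (e.appTop a) := by
    intro a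
    rw [← CommRingCat.comp_apply, Scheme.Hom.map_appLE, Scheme.Hom.appLE, CommRingCat.comp_apply]
    rfl
  rw [← map_pow, ← map_pow, ← hcomm, ← hcomm]
  exact this

/-- An element generated by two sets is generated by the second and finitely many of the first. -/
theorem exists_finset_closure {R : Type u} [CommRing R] {A B : Set R} {x : R}
    (h : x ∈ Subring.closure (A ∪ B)) : ∃ s : Finset R, ↑s ⊆ A ∧ x ∈ Subring.closure (↑s ∪ B) := by
  classical
  induction h using Subring.closure_induction with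
  | mem x hx =>
    rcases hx with hx | hx
    · exact ⟨{x}, by simpa using hx, Subring.subset_closure (Or.inl (by simp))⟩
    · exact ⟨∅, by simp, Subring.subset_closure (Or.inr hx)⟩
  | zero => exact ⟨∅, by simp, zero_mem _⟩
  | one => exact ⟨∅, by simp, one_mem _⟩
  | neg x _ hx => obtain ⟨s, hs, hx⟩ := hx; exact ⟨s, hs, neg_mem hx⟩
  | add x y _ _ hx hy =>
    obtain ⟨s, hs, hx⟩ := hx; obtain ⟨t, ht, hy⟩ := hy
    exact ⟨s ∪ t, by simp [hs, ht], add_mem
      (Subring.closure_mono (Set.union_subset_union_left _ (by simp)) hx)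
      (Subring.closure_mono (Set.union_subset_union_left _ (by simp)) hy)⟩
  | mul x y _ _ hx hy =>
    obtain ⟨s, hs, hx⟩ := hx; obtain ⟨t, ht, hy⟩ := hy
    exact ⟨s ∪ t, by simp [hs, ht], mul_mem
      (Subring.closure_mono (Set.union_subset_union_left _ (by simp)) hx)
      (Subring.closure_mono (Set.union_subset_union_left _ (by simp)) hy)⟩

/-- Finitely many functions of the first factor suffice to embed a scheme of finite type over the
second. -/
theorem exists_finite_functions {U V P D : Scheme.{u}} [IsAffine V] [IsAffine D] [CompactSpace P]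
    (a : P ⟶ U) (v : P ⟶ V) [LocallyOfFiniteType v] (e : P ⟶ D) [IsImmersion e]
    (hgen : ∀ d, e.appTop d ∈ Subring.closure (Set.range a.appTop ∪ Set.range v.appTop)) :
    ∃ s : Finset Γ(U, ⊤), ∀ {W : Scheme.{u}} [IsAffine W] (r : P ⟶ W),
      Set.range v.appTop ⊆ Set.range r.appTop → (∀ x ∈ s, a.appTop x ∈ Set.range r.appTop) →
        IsImmersion r := by
  classical
  obtain ⟨G, hcov, hG⟩ := exists_pieces e
  have hgens : ∀ g ∈ G, ∃ T : Finset Γ(D, ⊤), ∀ {W : Scheme.{u}} [IsAffine W] (r : P ⟶ W),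
      Set.range v.appTop ⊆ Set.range r.appTop →
      (∀ d ∈ insert g T, e.appTop d ∈ Set.range r.appTop) →
      ∃ R : W.Opens, r ⁻¹ᵁ R = P.basicOpen (e.appTop g) ∧ IsClosedImmersion (r ∣_ R) := by
    intro g hg
    obtain ⟨haff, hfrac⟩ := hG g hg
    choose d n hd using hfrac
    have hft := v.finiteType_appLE (isAffineOpen_top V) haff le_top
    obtain ⟨gen, hgen'⟩ : ∃ gen : Finset Γ(P, P.basicOpen (e.appTop g)),
        Subring.closure (Set.range (v.appLE ⊤ (P.basicOpen (e.appTop g)) le_top) ∪ ↑gen) = ⊤ := by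
      letI : Algebra Γ(V, ⊤) Γ(P, P.basicOpen (e.appTop g)) :=
        (v.appLE ⊤ (P.basicOpen (e.appTop g)) le_top).hom.toAlgebra
      haveI : Algebra.FiniteType Γ(V, ⊤) Γ(P, P.basicOpen (e.appTop g)) := hft
      obtain ⟨gen, h⟩ := Algebra.FiniteType.out (R := Γ(V, ⊤)) (A := Γ(P, P.basicOpen (e.appTop g)))
      refine ⟨gen, ?_⟩
      have h2 := congrArg Subalgebra.toSubring h
      rw [Algebra.adjoin_eq_ring_closure, Algebra.top_toSubring] at h2
      exact h2
    refine ⟨gen.image d, fun {W} _ r hv hT => ?_⟩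
    obtain ⟨c, hc⟩ := hT g (Finset.mem_insert_self _ _)
    have hpre : r ⁻¹ᵁ W.basicOpen c = P.basicOpen (e.appTop g) := by
      rw [Scheme.Hom.preimage_basicOpen_top, hc]
    refine ⟨W.basicOpen c, hpre, ?_⟩
    have haffW := (isAffineOpen_top W).basicOpen c
    have : IsAffine (W.basicOpen c).toScheme := haffW
    have : IsAffine (r ⁻¹ᵁ W.basicOpen c).toScheme := hpre ▸ haff
    let φ := (r.appLE (W.basicOpen c) (P.basicOpen (e.appTop g)) hpre.ge).hom
    have hrest : ∀ y ∈ Set.range r.appTop, P.presheaf.map (homOfLE le_top).op y ∈ φ.range := by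
      rintro _ ⟨w, rfl⟩
      refine ⟨W.presheaf.map (homOfLE le_top).op w, ?_⟩
      show _ = _
      simp only [φ]
      rw [← CommRingCat.comp_apply, Scheme.Hom.map_appLE, Scheme.Hom.appLE, CommRingCat.comp_apply]
      rfl
    obtain ⟨i, hi⟩ : ∃ i ∈ φ.range, i * P.presheaf.map (homOfLE le_top).op (e.appTop g) = 1 := by
      obtain ⟨ci, hci⟩ := IsUnit.exists_left_inv (RingedSpace.isUnit_res_basicOpen _ c :
        IsUnit (W.presheaf.map (homOfLE le_top : W.basicOpen c ⟶ ⊤).op c))
      refine ⟨φ ci, ⟨ci, rfl⟩, ?_⟩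
      have h3 := (map_mul φ ci _).symm.trans ((congrArg φ hci).trans (map_one φ))
      refine Eq.trans (congrArg (φ ci * ·) ?_) h3
      show _ = (W.presheaf.map (homOfLE le_top).op ≫
        r.appLE (W.basicOpen c) (P.basicOpen (e.appTop g)) hpre.ge).hom c
      rw [Scheme.Hom.map_appLE, Scheme.Hom.appLE, CommRingCat.comp_apply]
      exact congrArg (fun z => P.presheaf.map (homOfLE le_top).op z) hc.symm
    have hsurj : Function.Surjective φ := by
      rw [← RingHom.range_eq_top, eq_top_iff, ← hgen', Subring.closure_le]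
      rintro y (⟨b, rfl⟩ | hy)
      · have := hrest _ (hv ⟨b, rfl⟩)
        rw [Scheme.Hom.appLE]
        exact this
      · have h4 := hrest _ (hT (d y) (Finset.mem_insert_of_mem (Finset.mem_image_of_mem d hy)))
        rw [← hd y] at h4
        have h5 := mul_mem h4 (pow_mem hi.1 (n y))
        rwa [mul_assoc, ← mul_pow, mul_comm (P.presheaf.map _ _) i, hi.2, one_pow, mul_one] at h5
    refine IsClosedImmersion.of_surjective_of_isAffine _ ?_
    rw [morphismRestrict_appTop]
    have key : ∀ (E : W.Opens) (F : P.Opens) (h : r ⁻¹ᵁ E = F) (_ : E = W.basicOpen c),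
        Function.Surjective (r.app E ≫ P.presheaf.map (eqToHom h.symm).op).hom := by
      rintro E F rfl rfl
      have h6 : Function.Surjective (r.app (W.basicOpen c) ≫
          P.presheaf.map (homOfLE hpre.ge).op).hom := hsurj
      have : IsIso (homOfLE hpre.ge) := ⟨homOfLE hpre.le, Subsingleton.elim _ _, Subsingleton.elim _ _⟩
      simp only [eqToHom_refl, op_id, P.presheaf.map_id, Category.comp_id]
      intro y
      obtain ⟨x, hx⟩ := h6 (P.presheaf.map (homOfLE hpre.ge).op y)
      exact ⟨x, (ConcreteCategory.bijective_of_isIso (P.presheaf.map (homOfLE hpre.ge).op)).1 hx⟩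
    exact key _ _ (image_morphismRestrict_preimage r _ ⊤).symm (by simp)
  choose T hT using hgens
  let F : Finset Γ(D, ⊤) := G ∪ G.attach.biUnion fun g => T g.1 g.2
  have hsupp : ∀ d : Γ(D, ⊤), ∃ s : Finset Γ(U, ⊤),
      e.appTop d ∈ Subring.closure (a.appTop '' ↑s ∪ Set.range v.appTop) := by
    intro d
    obtain ⟨t, ht, hd⟩ := exists_finset_closure (hgen d)
    obtain ⟨s, -, rfl⟩ := Finset.subset_set_image_iff.1 (Set.image_univ ▸ ht)
    exact ⟨s, by simpa using hd⟩
  choose σ hσ using hsupp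
  refine ⟨F.biUnion σ, fun {W} _ r hv hs => ?_⟩
  have hmem : ∀ d ∈ F, e.appTop d ∈ Set.range r.appTop := by
    intro d hd
    refine (Subring.closure_le (t := r.appTop.hom.range)).2 ?_ (hσ d)
    rintro _ (⟨x, hx, rfl⟩ | hy)
    · exact hs x (Finset.mem_biUnion.2 ⟨d, hd, hx⟩)
    · exact hv hy
  have hR : ∀ g : G, ∃ R : W.Opens, r ⁻¹ᵁ R = P.basicOpen (e.appTop g.1) ∧
      IsClosedImmersion (r ∣_ R) := fun g => hT g.1 g.2 r hv fun d hd => hmem d (by
    rcases Finset.mem_insert.1 hd with rfl | hd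
    · exact Finset.mem_union_left _ g.2
    · exact Finset.mem_union_right _ (Finset.mem_biUnion.2 ⟨g, Finset.mem_attach _ _, hd⟩))
  choose R hR₁ hR₂ using hR
  refine Groth.Chow.isImmersion_of_pieces r R (fun x => ?_) hR₂
  obtain ⟨g, hg, hx⟩ := hcov x
  refine ⟨⟨g, hg⟩, ?_⟩
  rw [← hR₁ ⟨g, hg⟩] at hx
  exact hx

end Groth.AlgSpBasic.FiniteImmersion
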