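import Groth.Agent.AlgSpBasic.FlatMonoSpread
import Groth.Agent.AlgSpBasic.FiltrationSpaces
import Groth.Agent.AlgSpBasic.QuasiAffineDescent
import Groth.Agent.AlgSpBasic.Glue
import Groth.Agent.AlgSp2.FpqcRep
import Groth.Agent.AlgSp2.InfGlue
import Groth.Agent.AlgSp2.FlatMono

/-!
# Flat monomorphisms of algebraic spaces are representable
-/

set_option autoImplicit false
set_option backward.isDefEq.respectTransparency.types false
universe u

open CategoryTheory CategoryTheory.Limits AlgebraicGeometry Topology TopologicalSpace Opposite AlgSp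

namespace Groth.AlgSpBasic

noncomputable section

variable {S : Scheme.{u}}

theorem isPullback_cancel_mono {C : Type*} [Category C] {P A B E E' : C} {f : P ⟶ A} {g : P ⟶ B}
    {a : A ⟶ E} {b : B ⟶ E} (m : E ⟶ E') [Mono m] (sq : IsPullback f g (a ≫ m) (b ≫ m)) :
    IsPullback f g a b := by
  have w : f ≫ a = g ≫ b := by rw [← cancel_mono m, Category.assoc, Category.assoc, sq.w]
  have hc : ∀ s : PullbackCone a b, s.fst ≫ a ≫ m = s.snd ≫ b ≫ m := fun s => by
    rw [reassoc_of% s.condition]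
  exact ⟨⟨w⟩, ⟨PullbackCone.IsLimit.mk _ (fun s => sq.lift s.fst s.snd (hc s))
    (fun s => sq.lift_fst _ _ _) (fun s => sq.lift_snd _ _ _)
    (fun s l h₁ h₂ => sq.hom_ext (by rw [sq.lift_fst]; exact h₁) (by rw [sq.lift_snd]; exact h₂))⟩⟩

theorem isQuasiAffineHom_of_affine {X Y : Scheme.{u}} (f : X ⟶ Y) [IsAffineHom f] :
    MoreMor.IsQuasiAffineHom f := by
  refine ⟨inferInstance, fun V hV => ?_⟩
  have : IsAffine (f ⁻¹ᵁ V).toScheme := hV.preimage f
  infer_instance

theorem injective_ofPt_id (T : Over S) :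
    Function.Injective (AlgSp.Points.ofPt (𝟙 ((yon S).obj T))) := by
  intro x y e
  rw [ofPt_eq_map, ofPt_eq_map, AlgSp.Points.map_id] at e
  exact (AlgSp.Points.schemeHomeo T).injective e

/-- A flat monomorphism to a scheme has, around every point of an affine chart over an affine open
of the target, an open subspace which is a scheme. -/
theorem exists_scheme_nhd_of_flat_mono {X : Sp S} (hX : IsAlgSpace X) {T : Over S}
    (π : X ⟶ (yon S).obj T) [Mono π] {U : Over S} [IsAffine U.left] {a : (yon S).obj U ⟶ X}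
    (ha : RepWith @Etale a) {α : U ⟶ T} (hα : a ≫ π = (yon S).map α) [Flat α.left]
    (L : T.left.Opens) (hL : IsAffineOpen L) (hαL : ∀ v, α.left v ∈ L) (u : ↥U.left) :
    ∃ (V : Over S) (i : (yon S).obj V ⟶ X), RepWith @IsOpenImmersion i ∧
      AlgSp.Points.ofPt a u ∈ Set.range (AlgSp.Points.ofPt i) := by
  have : IsAffine L.toScheme := hL
  have hr : Set.range α.left ⊆ Set.range L.ι := by
    rintro _ ⟨v, rfl⟩; rw [Scheme.Opens.range_ι]; exact hαL v
  let αL : U.left ⟶ L.toScheme := IsOpenImmersion.lift L.ι α.left hr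
  have hαL' : αL ≫ L.ι = α.left := IsOpenImmersion.lift_fac _ _ _
  have : Flat αL := by
    have hsq : IsPullback (𝟙 U.left) αL α.left L.ι := by
      rw [← hαL']
      exact ⟨⟨by simp⟩, ⟨PullbackCone.IsLimit.mk _ (fun s => s.fst) (fun s => Category.comp_id _)
        (fun s => by rw [← cancel_mono L.ι, Category.assoc]; exact s.condition)
        (fun s l h₁ _ => by rw [← Category.comp_id l]; exact h₁)⟩⟩
    exact MorphismProperty.of_isPullback (P := @Flat) hsq ‹Flat α.left›
  -- the kernel pair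
  obtain ⟨R, r₁, r₂, sq⟩ := exists_pullback_of_diag hX.diag a a
  have hr₂ : Etale r₂.left := repWith_fst_of_isPullback sq ha
  have sqT : IsPullback r₁ r₂ α α := isPullback_of_yon (by
    rw [← hα]; exact Groth.AlgSp2.isPullback_comp_mono π sq)
  have sqL : IsPullback r₁.left r₂.left αL αL := isPullback_cancel_mono L.ι (by
    rw [hαL']; exact isPullback_left sqT)
  have : Etale (pullback.snd αL αL) := by
    rw [← sqL.isoPullback_inv_snd]
    infer_instance
  obtain ⟨E, η, G, U₁, j, ψ, w, hE, hU₁, hG, hη, hηr, hj, huG, hjr, hiso⟩ := exists_spread_iso αL u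
  have : IsAffine G.toScheme := hG
  -- objects over the base
  let Gob : Over S := Over.mk (G.ι ≫ L.ι ≫ T.hom)
  let g : Gob ⟶ T := Over.homMk (G.ι ≫ L.ι) (Category.assoc _ _ _)
  have : IsOpenImmersion g.left := inferInstanceAs (IsOpenImmersion (G.ι ≫ L.ι))
  have hgm : Mono g := (Over.forget S).mono_of_mono_map (f := g) (inferInstance : Mono g.left)
  let kG : E ⟶ G.toScheme := IsOpenImmersion.lift G.ι η (by rw [Scheme.Opens.range_ι, hηr])
  have hkG : kG ≫ G.ι = η := IsOpenImmersion.lift_fac _ _ _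
  let Eob : Over S := Over.mk (η ≫ L.ι ≫ T.hom)
  let k : Eob ⟶ Gob := Over.homMk kG (by
    show kG ≫ G.ι ≫ L.ι ≫ T.hom = η ≫ L.ι ≫ T.hom
    rw [reassoc_of% hkG])
  have : IsAffine Eob.left := hE
  have : IsAffine Gob.left := hG
  have : Etale k.left := by
    have : Etale (kG ≫ G.ι) := by rw [hkG]; exact hη
    exact Etale.of_comp kG G.ι
  have : Surjective k.left := ⟨fun x => by
    obtain ⟨e, he⟩ := hηr.ge x.2
    refine ⟨e, G.ι.isOpenEmbedding.injective ?_⟩
    rw [← Scheme.Hom.comp_apply]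
    exact (congrArg (fun f : E ⟶ L.toScheme => f e) hkG).trans he⟩
  let U₁ob : Over S := Over.mk (j ≫ U.hom)
  let jU : U₁ob ⟶ U := Over.homMk j rfl
  have : IsAffine U₁ob.left := hU₁
  have : IsOpenImmersion jU.left := hj
  let ψU : U₁ob ⟶ Eob := Over.homMk ψ (by
    show ψ ≫ η ≫ L.ι ≫ T.hom = j ≫ U.hom
    rw [reassoc_of% w, reassoc_of% hαL', Over.w α])
  let αG : U₁ob ⟶ Gob := ψU ≫ k
  have hαG : αG ≫ g = jU ≫ α := Over.OverMorphism.ext (by
    show (ψ ≫ kG) ≫ G.ι ≫ L.ι = j ≫ α.left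
    rw [Category.assoc, reassoc_of% hkG, reassoc_of% w, hαL'])
  -- the open subspace
  let a₁ : (yon S).obj U₁ob ⟶ X := (yon S).map jU ≫ a
  have ha₁ : RepWith @Etale a₁ :=
    repWith_comp ((repWith_yon_map_iff _ jU).2 (inferInstance : Etale jU.left)) ha
  let O : Set (AlgSp.Points X) := Set.range (AlgSp.Points.ofPt a₁)
  have hO : IsOpen O := (isOpenMap_ofPt_of_etale ha₁).isOpen_range
  let W := openSub X O
  have hW : IsAlgSpace W := isAlgSpace_openSub hX hO
  have := mono_openSubι hO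
  have hinjW : Function.Injective (AlgSp.Points.map (openSubι X O)) :=
    Groth.AlgSp2.map_injective_of_mono _
  obtain ⟨a₁', ha₁'⟩ := (openSub_exists_lift_iff X O a₁).2 fun v => ⟨v, rfl⟩
  have ha₁e : RepWith @Etale a₁' :=
    repWith_of_isPullback (isPullback_id_of_mono a₁' (openSubι X O)) (ha₁'.symm ▸ ha₁)
  have ha₁s : RepWith @Surjective a₁' := repWith_surjective_of_ofPt ha₁e.rep fun x => by
    obtain ⟨v, hv⟩ := (range_map_openSubι (X := X) (W := O)).le ⟨x, rfl⟩
    exact ⟨v, hinjW (by rw [AlgSp.Points.map_ofPt, ha₁', hv])⟩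
  -- the map to the open subscheme of the target
  have key : ∀ (Z : Over S) (z : (yon S).obj Z ⟶ W),
      ∃ l : Z ⟶ Gob, (yon S).map (l ≫ g) = z ≫ openSubι X O ≫ π := fun Z z => by
    obtain ⟨ζ, hζ⟩ := (yon S).map_surjective (z ≫ openSubι X O ≫ π)
    have hr : Set.range ζ.left ⊆ Set.range g.left := by
      rintro _ ⟨s, rfl⟩
      obtain ⟨v, hv⟩ := (openSub_exists_lift_iff X O (z ≫ openSubι X O)).1 ⟨z, rfl⟩ s
      have e := congrArg (AlgSp.Points.map π) hv
      rw [AlgSp.Points.map_ofPt, AlgSp.Points.map_ofPt] at e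
      simp only [a₁, Category.assoc] at e
      rw [← hζ, hα, ← Functor.map_comp, ← hαG, ← Category.comp_id ((yon S).map ζ), ofPt_comp_yon,
        ← Category.comp_id ((yon S).map (αG ≫ g)), ofPt_comp_yon] at e
      exact ⟨αG.left v, injective_ofPt_id T e⟩
    refine ⟨Over.homMk (IsOpenImmersion.lift g.left ζ.left hr) (by
      conv_lhs => rw [← Over.w g, ← Category.assoc, IsOpenImmersion.lift_fac, Over.w ζ]), ?_⟩
    rw [← hζ]
    congr 1
    exact Over.OverMorphism.ext (IsOpenImmersion.lift_fac _ _ _)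
  choose l hl using key
  obtain ⟨h, hh⟩ := AlgSp2.exists_hom_of_natural (fun Z z => (yon S).map (l Z z))
    fun Z Z' c z => by
      rw [← cancel_mono ((yon S).map g), Category.assoc, ← Functor.map_comp, ← Functor.map_comp,
        hl, hl, Category.assoc]
  have hhg : h ≫ (yon S).map g = openSubι X O ≫ π := AlgSp2.hom_ext_yon fun Z z => by
    rw [← Category.assoc, hh, ← Functor.map_comp, hl]
  have : Mono (h ≫ (yon S).map g) := by rw [hhg]; infer_instance
  have hhm : Mono h := mono_of_mono h ((yon S).map g)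
  have hah : a₁' ≫ h = (yon S).map αG := by
    rw [← cancel_mono ((yon S).map g), Category.assoc, hhg, ← Functor.map_comp, hαG,
      Functor.map_comp, ← hα, reassoc_of% ha₁']
    exact Category.assoc _ _ _
  -- the pullback to the etale cover
  obtain ⟨Q, qW, qE, sqQ⟩ : ∃ (Q : Sp S) (qW : Q ⟶ W) (qE : Q ⟶ (yon S).obj Eob),
      IsPullback qW qE h ((yon S).map k) := ⟨_, _, _, IsPullback.of_hasPullback _ _⟩
  have hQ : IsAlgSpace Q :=
    isAlgSpace_of_isPullback sqQ (IsAlgSpace.yon_obj Gob).diag hW (IsAlgSpace.yon_obj Eob)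
  let χ : (yon S).obj U₁ob ⟶ Q := sqQ.lift a₁' ((yon S).map ψU) (by
    rw [hah, ← Functor.map_comp])
  -- the product with the chart
  let R₁ : Over S := Over.mk (pullback.fst (j ≫ αL) (j ≫ αL) ≫ U₁ob.hom)
  let F : Over S := Over.mk (pullback.snd η (j ≫ αL) ≫ U₁ob.hom)
  let f₁ : F ⟶ U₁ob := Over.homMk (pullback.snd η (j ≫ αL)) rfl
  let f₂ : F ⟶ Eob := Over.homMk (pullback.fst η (j ≫ αL)) (by
    show pullback.fst η (j ≫ αL) ≫ η ≫ L.ι ≫ T.hom = pullback.snd η (j ≫ αL) ≫ j ≫ U.hom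
    rw [pullback.condition_assoc, Category.assoc, reassoc_of% hαL', Over.w α])
  let s₁ : R₁ ⟶ U₁ob := Over.homMk (pullback.fst (j ≫ αL) (j ≫ αL)) rfl
  let s₂ : R₁ ⟶ U₁ob := Over.homMk (pullback.snd (j ≫ αL) (j ≫ αL)) (by
    show pullback.snd (j ≫ αL) (j ≫ αL) ≫ j ≫ U.hom =
      pullback.fst (j ≫ αL) (j ≫ αL) ≫ j ≫ U.hom
    have e := pullback.condition (f := j ≫ αL) (g := j ≫ αL) =≫ (L.ι ≫ T.hom)
    simp only [Category.assoc, reassoc_of% hαL', Over.w α] at e
    exact e.symm)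
  have hαG' : αG.left ≫ G.ι = j ≫ αL := by
    show (ψ ≫ kG) ≫ G.ι = _
    rw [Category.assoc, hkG, w]
  have hk' : k.left ≫ G.ι = η := hkG
  have sqF' : IsPullback f₁.left f₂.left αG.left k.left := isPullback_cancel_mono G.ι (by
    rw [hαG', hk']
    exact (IsPullback.of_hasPullback η (j ≫ αL)).flip)
  have sqF : IsPullback f₁ f₂ αG k :=
    IsPullback.of_map (Over.forget S) (Over.OverMorphism.ext sqF'.w) sqF'
  have sqR' : IsPullback s₁.left s₂.left αG.left αG.left := isPullback_cancel_mono G.ι (by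
    rw [hαG']
    exact IsPullback.of_hasPullback (j ≫ αL) (j ≫ αL))
  have sqR : IsPullback s₁ s₂ αG αG :=
    IsPullback.of_map (Over.forget S) (Over.OverMorphism.ext sqR'.w) sqR'
  have sqW : IsPullback ((yon S).map s₁) ((yon S).map s₂) a₁' a₁' := isPullback_cancel_mono h (by
    rw [hah]; exact sqR.map (yon S))
  let θ : R₁ ⟶ F := sqF.lift s₂ (s₁ ≫ ψU) (by
    rw [Category.assoc]; exact sqR.w.symm)
  have : IsIso θ.left := by
    have e : θ.left = pullback.map (j ≫ αL) (j ≫ αL) η (j ≫ αL) ψ (𝟙 U₁) (𝟙 L.toScheme)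
        (by rw [Category.comp_id, w]) (by rw [Category.comp_id, Category.id_comp]) := by
      have e₁ : θ.left ≫ pullback.snd η (j ≫ αL) = pullback.snd (j ≫ αL) (j ≫ αL) :=
        congrArg CommaMorphism.left (sqF.lift_fst _ _ _)
      have e₂ : θ.left ≫ pullback.fst η (j ≫ αL) = pullback.fst (j ≫ αL) (j ≫ αL) ≫ ψ :=
        congrArg CommaMorphism.left (sqF.lift_snd _ _ _)
      apply pullback.hom_ext
      · rw [pullback.lift_fst]; exact e₂
      · rw [pullback.lift_snd, Category.comp_id]; exact e₁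
    rw [e]
    exact hiso
  obtain ⟨b, hb₁, hb₂⟩ : ∃ b : (yon S).obj F ⟶ Q,
      b ≫ qW = (yon S).map f₁ ≫ a₁' ∧ b ≫ qE = (yon S).map f₂ :=
    ⟨_, sqQ.lift_fst _ _ (by
      rw [Category.assoc, hah, ← Functor.map_comp, ← Functor.map_comp, sqF.w]), sqQ.lift_snd _ _ _⟩
  have sqB : IsPullback ((yon S).map f₁) b a₁' qW := by
    refine IsPullback.of_bot (v₂₁ := qE) (h₃₁ := (yon S).map k) (v₂₂ := h) ?_ hb₁.symm sqQ.flip.flip
    rw [hb₂, hah]
    exact sqF.map (yon S)
  have := isLocallySurjective_of_etale a₁' ha₁e ha₁s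
  have := isLocallySurjective_of_isPullback sqB
  have sqθ : IsPullback ((yon S).map s₁) ((yon S).map θ) χ b := by
    refine (IsPullback.of_right (t := sqB) ?_ ?_).flip
    · rw [show (yon S).map θ ≫ (yon S).map f₁ = (yon S).map s₂ by
        rw [← Functor.map_comp, sqF.lift_fst], sqQ.lift_fst]
      exact sqW.flip
    · apply sqQ.hom_ext
      · rw [Category.assoc, Category.assoc, hb₁, sqQ.lift_fst, ← Category.assoc,
          ← Functor.map_comp, sqF.lift_fst]
        exact sqW.w.symm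
      · rw [Category.assoc, Category.assoc, hb₂, sqQ.lift_snd, ← Functor.map_comp,
          ← Functor.map_comp, sqF.lift_snd]
  have : IsIso χ := AlgSp2.isIso_of_repWith (repWith_of_isLocallySurjective χ
    (representable_of_diag hQ.diag χ) b _ _ sqθ
    ((repWith_yon_map_iff _ θ).2 (show IsIso θ.left from ‹_›)))
  -- descent
  have sqD : IsPullback a₁' ((yon S).map ψU) h ((yon S).map k) :=
    IsPullback.of_iso sqQ (asIso χ).symm (Iso.refl _) (Iso.refl _) (Iso.refl _)
      (by simp [χ, sqQ.lift_fst]) (by simp [χ, sqQ.lift_snd]) (by simp) (by simp)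
  have : IsAffineHom ψU.left := isAffineHom_of_isAffine ψU.left
  obtain ⟨V, -, e, -⟩ := exists_iso_of_isQuasiAffineHom sqD (isQuasiAffineHom_of_affine ψU.left)
  refine ⟨V, e.hom ≫ openSubι X O, repWith_comp (repWith_isIso _) (repWith_openSubι hO), ?_⟩
  have huO : AlgSp.Points.ofPt a u ∈ O := by
    obtain ⟨v, hv⟩ := hjr.ge (show u ∈ αL ⁻¹' (G : Set ↥L.toScheme) from huG)
    refine ⟨v, ?_⟩
    rw [ofPt_comp_yon]
    exact congrArg (AlgSp.Points.ofPt a) hv
  obtain ⟨x, hx⟩ := (range_map_openSubι (X := X) (W := O)).ge huO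
  obtain ⟨v, hv⟩ := surjective_ofPt_of_repWith (repWith_isIso (P := @Surjective) e.hom) x
  exact ⟨v, by rw [← AlgSp.Points.map_ofPt, hv, hx]⟩

/-- The source of a flat monomorphism to a scheme is a scheme. -/
theorem exists_iso_yon_of_flat_mono {X : Sp S} (hX : IsAlgSpace X) {T : Over S}
    (π : X ⟶ (yon S).obj T) [Mono π] (hflat : LocP @Flat π) :
    ∃ G : Over S, Nonempty ((yon S).obj G ≅ X) := by
  obtain ⟨U₀, a₀, ha₀, has⟩ := hX.atlas
  obtain ⟨α₀, hα₀⟩ := (yon S).map_surjective (a₀ ≫ π)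
  have hfl : Flat α₀.left := hflat a₀ (𝟙 _) α₀ ha₀ (repWith_id _ T) (by
    rw [Category.comp_id, hα₀])
  have h : ∀ u : ↥U₀.left, ∃ (V : Over S) (i : (yon S).obj V ⟶ X), RepWith @IsOpenImmersion i ∧
      AlgSp.Points.ofPt a₀ u ∈ Set.range (AlgSp.Points.ofPt i) := fun u => by
    obtain ⟨_, ⟨L, hL, rfl⟩, huL, -⟩ :=
      T.left.isBasis_affineOpens.exists_subset_of_mem_open (Set.mem_univ (α₀.left u)) isOpen_univ
    obtain ⟨_, ⟨A, hA, rfl⟩, huA, hAL⟩ :=
      U₀.left.isBasis_affineOpens.exists_subset_of_mem_open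
        (show u ∈ (α₀.left ⁻¹ᵁ L : Set ↥U₀.left) from huL) (α₀.left ⁻¹ᵁ L).isOpen
    let U : Over S := Over.mk (Scheme.Opens.ι A ≫ U₀.hom)
    let jA : U ⟶ U₀ := Over.homMk (Scheme.Opens.ι A) rfl
    have : IsAffine U.left := hA
    have : IsOpenImmersion jA.left := inferInstanceAs (IsOpenImmersion (Scheme.Opens.ι A))
    have ha : RepWith @Etale ((yon S).map jA ≫ a₀) :=
      repWith_comp ((repWith_yon_map_iff _ jA).2 (inferInstance : Etale jA.left)) ha₀
    have : Flat (jA ≫ α₀).left := by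
      show Flat (Scheme.Opens.ι A ≫ α₀.left)
      infer_instance
    obtain ⟨V, i, hi, hu⟩ := exists_scheme_nhd_of_flat_mono hX π ha
      (α := jA ≫ α₀) (by rw [Category.assoc, Functor.map_comp, hα₀]) L hL
      (fun v => hAL v.2) ⟨u, huA⟩
    refine ⟨V, i, hi, ?_⟩
    rwa [ofPt_comp_yon] at hu
  choose V i hi hu using h
  refine exists_iso_yon_of_openImmersions (X := V) (f := i) hi fun Z z t => ?_
  obtain ⟨u, hu'⟩ := surjective_ofPt_of_repWith has (AlgSp.Points.ofPt z t)
  obtain ⟨v, hv⟩ := hu u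
  obtain ⟨W, fst, snd, sq⟩ := exists_pullback_yon (hi u).rep z
  obtain ⟨w, -, hw⟩ := (ofPt_eq_ofPt_iff sq v t).1 (hv.trans hu')
  exact ⟨u, W, _, snd, sq, ⟨w, hw⟩⟩

/-- Flat monomorphisms of algebraic spaces are representable. -/
theorem representable_of_flat_mono {X Y : Sp S} (hX : IsAlgSpace X) (hY : IsAlgSpace Y)
    (f : X ⟶ Y) [Mono f] (hflat : LocP @Flat f) : Representable f := by
  intro T g
  have sq := IsPullback.of_hasPullback f g
  have : Mono (pullback.snd f g) := Groth.AlgSp2.mono_fst_of_isPullback sq.flip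
  have hP := isAlgSpace_of_isPullback sq hY.diag hX (IsAlgSpace.yon_obj T)
  obtain ⟨G, ⟨e⟩⟩ := exists_iso_yon_of_flat_mono hP (pullback.snd f g)
    (locP_of_isPullback hX hY (IsAlgSpace.yon_obj T) sq hflat)
  obtain ⟨p, hp⟩ := (yon S).map_surjective (e.hom ≫ pullback.snd f g)
  refine ⟨G, p, e.hom ≫ pullback.fst f g, ?_⟩
  rw [hp]
  exact IsPullback.of_iso sq e.symm (Iso.refl _) (Iso.refl _) (Iso.refl _)
    (by simp) (by simp) (by simp) (by simp)

end

end Groth.AlgSpBasic
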