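import Mathlib.RingTheory.Etale.Descent
import Mathlib.RingTheory.Etale.Basic
import Mathlib.RingTheory.Smooth.NoetherianDescent
import Mathlib.RingTheory.Localization.BaseChange
import Mathlib.RingTheory.Flat.FaithfullyFlat.Algebra

/-!
# Spreading out rings which are etale over a local ring

For a flat algebra `B` over `A` such that `B ⊗ B` is etale over `B`, the localisation of `B` at a
prime of `A` below a prime of `B` comes from an etale `A`-algebra.
-/

set_option autoImplicit false
set_option synthInstance.maxHeartbeats 100000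
set_option backward.isDefEq.respectTransparency false
universe u

open TensorProduct

namespace Groth.AlgSpBasic

noncomputable section

/-- A map from a finitely presented algebra to a localisation lifts to a basic localisation. -/
theorem exists_away_algHom_lift {R : Type*} {B C S : Type u} [CommRing R] [CommRing B] [CommRing C]
    [CommRing S] [Algebra R B] [Algebra R C] [Algebra B S] [Algebra R S] [IsScalarTower R B S]
    (M : Submonoid B) [IsLocalization M S] [Algebra.FinitePresentation R C] (f : C →ₐ[R] S) :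
    ∃ (m : B) (hm : m ∈ M) (f₀ : C →ₐ[R] Localization.Away m),
      ∀ c, IsLocalization.Away.lift (g := algebraMap B S) m
        (IsLocalization.map_units S (⟨m, hm⟩ : M)) (f₀ c) = f c := by
  classical
  obtain ⟨n, g, hg, hker⟩ := Algebra.FinitePresentation.out (R := R) (A := C)
  choose x hx using fun i : Fin n => IsLocalization.exists_mk'_eq M (f (g (MvPolynomial.X i)))
  choose s hs using hx
  obtain ⟨rels, hrels⟩ := hker
  let m₁ : B := ∏ i, (s i : B)
  have hm₁ : m₁ ∈ M := prod_mem fun i _ => (s i).2
  let π₁ : Localization.Away m₁ →+* S :=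
    IsLocalization.Away.lift (g := algebraMap B S) m₁ (IsLocalization.map_units S (⟨m₁, hm₁⟩ : M))
  have hπ₁ : ∀ b, π₁ (algebraMap B _ b) = algebraMap B S b := IsLocalization.Away.lift_eq _ _
  have hu : ∀ i, IsUnit (algebraMap B (Localization.Away m₁) (s i : B)) := fun i =>
    IsLocalization.Away.isUnit_of_dvd (S := Localization.Away m₁) m₁
      (Finset.dvd_prod_of_mem _ (Finset.mem_univ i))
  let y : Fin n → Localization.Away m₁ := fun i => algebraMap B _ (x i) * ↑(hu i).unit⁻¹
  have hy : ∀ i, π₁ (y i) = f (g (MvPolynomial.X i)) := fun i => by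
    rw [← hs i, IsLocalization.eq_mk'_iff_mul_eq, ← hπ₁, ← map_mul]
    show π₁ (algebraMap B _ (x i) * _ * algebraMap B _ (s i : B)) = _
    rw [mul_assoc, IsUnit.val_inv_mul, mul_one, hπ₁]
  have hπR : ∀ r : R, π₁ (algebraMap R _ r) = algebraMap R S r := fun r => by
    rw [IsScalarTower.algebraMap_apply R B (Localization.Away m₁), hπ₁,
      ← IsScalarTower.algebraMap_apply]
  have hev : ∀ P, π₁ (MvPolynomial.aeval y P) = f (g P) := fun P => by
    refine RingHom.congr_fun
      (f := π₁.comp (MvPolynomial.aeval y).toRingHom) (g := f.toRingHom.comp g.toRingHom) ?_ P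
    refine MvPolynomial.ringHom_ext (fun r => ?_) fun i => ?_
    · show π₁ (MvPolynomial.aeval y (MvPolynomial.C r)) = f (g (MvPolynomial.C r))
      rw [MvPolynomial.aeval_C, hπR, MvPolynomial.C_eq_algebraMap]
      exact (((f.comp g).commutes r)).symm
    · show π₁ (MvPolynomial.aeval y (MvPolynomial.X i)) = f (g (MvPolynomial.X i))
      rw [MvPolynomial.aeval_X, hy]
  have hkill : ∀ r : {r // r ∈ rels}, ∃ t ∈ M, algebraMap B (Localization.Away m₁) t *
      MvPolynomial.aeval y r.1 = 0 := fun r => by
    obtain ⟨⟨b, u⟩, hb⟩ := IsLocalization.surj (Submonoid.powers m₁) (MvPolynomial.aeval y r.1)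
    have hr0 : f (g r.1) = 0 := by
      have : r.1 ∈ RingHom.ker g.toRingHom := hrels ▸ Ideal.subset_span r.2
      rw [show g r.1 = 0 from this, map_zero]
    have hb0 : algebraMap B S b = algebraMap B S 0 := by
      rw [← hπ₁, ← hb, map_mul, hev, hr0, zero_mul, map_zero]
    obtain ⟨t, ht⟩ := IsLocalization.exists_of_eq (M := M) hb0
    refine ⟨t, t.2, ?_⟩
    rw [← (IsLocalization.map_units (Localization.Away m₁) u).mul_left_eq_zero, mul_assoc, hb,
      ← map_mul, ht, mul_zero, map_zero]
  choose t htM ht using hkill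
  let T : B := ∏ r, t r
  have hT : T ∈ M := prod_mem fun r _ => htM r
  let ι : Localization.Away m₁ →+* Localization.Away (m₁ * T) :=
    IsLocalization.Away.awayToAwayRight m₁ T
  have hι : ∀ b, ι (algebraMap B _ b) = algebraMap B (Localization.Away (m₁ * T)) b :=
    IsLocalization.Away.awayToAwayRight_eq m₁ T
  have hιR : ∀ r : R, ι (algebraMap R _ r) = algebraMap R (Localization.Away (m₁ * T)) r := fun r => by
    rw [IsScalarTower.algebraMap_apply R B (Localization.Away m₁), hι,
      ← IsScalarTower.algebraMap_apply]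
  let e : MvPolynomial (Fin n) R →ₐ[R] Localization.Away (m₁ * T) :=
    ({ ι with commutes' := hιR } : Localization.Away m₁ →ₐ[R] _).comp (MvPolynomial.aeval y)
  have he : RingHom.ker g.toRingHom ≤ RingHom.ker e.toRingHom := by
    rw [← hrels, Ideal.span_le]
    intro r hr
    show ι (MvPolynomial.aeval y r) = 0
    have hu' : IsUnit (algebraMap B (Localization.Away (m₁ * T)) (t ⟨r, hr⟩)) :=
      IsLocalization.Away.isUnit_of_dvd (S := Localization.Away (m₁ * T)) (m₁ * T)
        ((Finset.dvd_prod_of_mem _ (Finset.mem_univ _)).trans (dvd_mul_left _ _))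
    rw [← hu'.mul_right_eq_zero, ← hι, ← map_mul, ht ⟨r, hr⟩, map_zero]
  refine ⟨m₁ * T, mul_mem hm₁ hT,
    AlgHom.liftOfSurjective g hg e he, fun c => ?_⟩
  obtain ⟨P, rfl⟩ := hg c
  rw [AlgHom.liftOfSurjective_apply, ← hev P]
  show (IsLocalization.Away.lift (m₁ * T) _) (ι (MvPolynomial.aeval y P)) = _
  rw [← RingHom.comp_apply]
  congr 1
  refine IsLocalization.ringHom_ext (Submonoid.powers m₁) (RingHom.ext fun b => ?_)
  simp only [RingHom.comp_apply, hι, hπ₁, IsLocalization.Away.lift_eq]

variable {A B : Type u} [CommRing A] [CommRing B] [Algebra A B]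

/-- Localised at a prime below a prime of `B`, a flat algebra with etale self tensor product is
etale. -/
theorem etale_atPrime_of_etale_tensor [Module.Flat A B] [Algebra.Etale B (B ⊗[A] B)]
    (p : Ideal A) [p.IsPrime] (q : Ideal B) [q.IsPrime] (hq : q.comap (algebraMap A B) = p) :
    Algebra.Etale (Localization.AtPrime p) (Localization.AtPrime p ⊗[A] B) := by
  let Ap := Localization.AtPrime p
  let P := Ap ⊗[A] B
  letI : Algebra B P := Algebra.TensorProduct.rightAlgebra
  have : IsScalarTower A B P := Algebra.TensorProduct.right_isScalarTower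
  have : IsLocalization (Algebra.algebraMapSubmonoid B p.primeCompl) P :=
    IsLocalization.tensorRight Ap p.primeCompl
  have : Module.FaithfullyFlat Ap P := by
    refine ⟨fun m hm htop => ?_⟩
    rw [IsLocalRing.eq_maximalIdeal hm] at htop
    let K := FractionRing (B ⧸ q)
    let χ : B →+* K := (algebraMap (B ⧸ q) K).comp (Ideal.Quotient.mk q)
    have hM : ∀ z : Algebra.algebraMapSubmonoid B p.primeCompl, IsUnit (χ z) := by
      rintro ⟨_, a, ha, rfl⟩
      refine Ne.isUnit fun h0 => ha ?_
      rw [← hq, SetLike.mem_coe, Ideal.mem_comap]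
      exact Ideal.Quotient.eq_zero_iff_mem.1
        ((map_eq_zero_iff _ (IsFractionRing.injective (B ⧸ q) K)).1 h0)
    let χP : P →+* K := IsLocalization.lift hM
    have hker : Submodule.restrictScalars Ap ((IsLocalRing.maximalIdeal Ap).map (algebraMap Ap P))
        ≤ Submodule.restrictScalars Ap (RingHom.ker χP) := by
      refine Submodule.restrictScalars_mono _ (Ideal.map_le_iff_le_comap.2 fun z hz => ?_)
      obtain ⟨a, w, rfl⟩ := IsLocalization.exists_mk'_eq p.primeCompl z
      have ha : a ∈ p := (IsLocalization.AtPrime.mk'_mem_maximal_iff Ap p a w).1 hz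
      rw [Ideal.mem_comap, RingHom.mem_ker, IsLocalization.mk'_eq_mul_mk'_one, map_mul, map_mul]
      convert zero_mul _
      rw [← IsScalarTower.algebraMap_apply A Ap P, IsScalarTower.algebraMap_apply A B P,
        IsLocalization.lift_eq]
      rw [← hq] at ha
      simp only [χ, RingHom.comp_apply, Ideal.Quotient.eq_zero_iff_mem.2 (Ideal.mem_comap.1 ha), map_zero]
    rw [Ideal.smul_top_eq_map] at htop
    rw [htop, top_le_iff, Submodule.restrictScalars_eq_top_iff] at hker
    exact (RingHom.ker_ne_top χP) hker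
  have : Algebra.Etale P (P ⊗[Ap] P) :=
    Algebra.Etale.of_equiv (A := P ⊗[B] (B ⊗[A] B)) (((Algebra.TensorProduct.cancelBaseChange A B P P B).trans
      (Algebra.TensorProduct.cancelBaseChange A Ap P P B).symm) :
        P ⊗[B] (B ⊗[A] B) ≃ₐ[P] P ⊗[Ap] (Ap ⊗[A] B))
  exact Algebra.Etale.of_etale_tensorProduct_of_faithfullyFlat P

/-- An etale algebra agreeing with a flat algebra with etale self tensor product over a point, as
seen by maps to fields. -/
theorem exists_etale_spread_point [Module.Flat A B] [Algebra.Etale B (B ⊗[A] B)]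
    (q : Ideal B) [q.IsPrime] :
    ∃ (C : Type u) (_ : CommRing C) (_ : Algebra A C) (f : A)
      (φ : C →ₐ[A] Localization.Away (algebraMap A B f)),
      Algebra.Etale A C ∧ algebraMap A B f ∉ q ∧
      (∀ (P' : Ideal C), P'.IsPrime → P'.comap (algebraMap A C) ≤ q.comap (algebraMap A B) →
        ∃ Q : Ideal (Localization.Away (algebraMap A B f)), Q.IsPrime ∧ Q.comap φ.toRingHom = P') ∧
      ∀ (K : Type u) [Field K] (χ₁ χ₂ : Localization.Away (algebraMap A B f) →+* K),
        (∀ a, χ₁ (algebraMap A _ a) = χ₂ (algebraMap A _ a)) → (∀ c, χ₁ (φ c) = χ₂ (φ c)) →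
        (∀ a, a ∉ q.comap (algebraMap A B) → χ₁ (algebraMap A _ a) ≠ 0) → χ₁ = χ₂ := by
  let p := q.comap (algebraMap A B)
  let Ap := Localization.AtPrime p
  let P := Ap ⊗[A] B
  letI : Algebra B P := Algebra.TensorProduct.rightAlgebra
  have : IsScalarTower A B P := Algebra.TensorProduct.right_isScalarTower
  have : IsLocalization (Algebra.algebraMapSubmonoid B p.primeCompl) P :=
    IsLocalization.tensorRight Ap p.primeCompl
  have : Algebra.Etale Ap P := etale_atPrime_of_etale_tensor p q rfl
  obtain ⟨A₀, B₀, _, _, hfg, hB₀, ⟨e⟩⟩ :=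
    Algebra.Etale.exists_subalgebra_fg (R := ℤ) (A := Ap) (B := P)
  have : Algebra.FiniteType ℤ A₀ := (Subalgebra.fg_iff_finiteType A₀).mp hfg
  have : Algebra.FinitePresentation ℤ A₀ :=
    Algebra.FinitePresentation.of_finiteType.mp inferInstance
  obtain ⟨g, hg, ρ, hρ⟩ := exists_away_algHom_lift p.primeCompl A₀.val
  let Ag := Localization.Away g
  let π : Ag →+* Ap := IsLocalization.Away.lift (g := algebraMap A Ap) g
    (IsLocalization.map_units Ap (⟨g, hg⟩ : p.primeCompl))
  have hπA : ∀ a, π (algebraMap A Ag a) = algebraMap A Ap a := IsLocalization.Away.lift_eq _ _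
  letI : Algebra A₀ Ag := ρ.toRingHom.toAlgebra
  let C := Ag ⊗[A₀] B₀
  have : Algebra.Etale A Ag := Algebra.Etale.of_isLocalizationAway g
  have : SMulCommClass A₀ A Ag := ⟨fun x a z => by simp only [Algebra.smul_def, mul_left_comm]⟩
  have : SMulCommClass A A₀ Ag := SMulCommClass.symm _ _ _
  have : IsScalarTower A Ag C := TensorProduct.isScalarTower_left
  have hC : Algebra.Etale A C := Algebra.Etale.comp A Ag C
  -- the map to the localisation
  let ψ : Ap ⊗[A₀] B₀ →+* P := e.symm.toRingHom
  let Φ : C →+* P := (ψ.comp (Algebra.TensorProduct.lift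
    ({ toRingHom := (algebraMap Ap (Ap ⊗[A₀] B₀)).comp π
       commutes' := fun a => by
        show algebraMap Ap (Ap ⊗[A₀] B₀) (π (ρ a)) = _
        rw [hρ]
        exact (IsScalarTower.algebraMap_apply A₀ Ap (Ap ⊗[A₀] B₀) a).symm } :
      Ag →ₐ[A₀] Ap ⊗[A₀] B₀)
    (Algebra.TensorProduct.includeRight : B₀ →ₐ[A₀] Ap ⊗[A₀] B₀)
    fun _ _ => Commute.all _ _).toRingHom)
  have hΦ : ∀ z b, Φ (z ⊗ₜ b) = algebraMap Ap P (π z) * e.symm ((1 : Ap) ⊗ₜ b) := fun z b => by
    simp only [Φ, ψ, RingHom.comp_apply, AlgHom.toRingHom_eq_coe, RingHom.coe_coe,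
      Algebra.TensorProduct.lift_tmul]
    show e.symm (algebraMap Ap _ (π z) * _) = _
    rw [map_mul, AlgEquiv.commutes]
    rfl
  let ΦA : C →ₐ[A] P :=
    { Φ with
      commutes' := fun a => by
        show Φ (algebraMap Ag C (algebraMap A Ag a)) = _
        rw [Algebra.TensorProduct.algebraMap_apply, Algebra.algebraMap_self, RingHom.id_apply, hΦ,
          hπA, show (1 : Ap) ⊗ₜ[A₀] (1 : B₀) = 1 from rfl, map_one, mul_one,
          ← IsScalarTower.algebraMap_apply] }
  have : Algebra.FinitePresentation A C := inferInstance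
  obtain ⟨m, ⟨f, hf, rfl⟩, φ, hφ⟩ :=
    exists_away_algHom_lift (Algebra.algebraMapSubmonoid B p.primeCompl) ΦA
  refine ⟨C, inferInstance, inferInstance, f, φ, hC, hf, fun P' hP' hle => ?_,
    fun K _ χ₁ χ₂ hA hc hne => ?_⟩
  · obtain ⟨K, hK, χ, hχ⟩ : ∃ (K : Type u) (_ : Field K) (χ : C →+* K),
        ∀ c, χ c = 0 ↔ c ∈ P' :=
      ⟨FractionRing (C ⧸ P'), inferInstance,
        (algebraMap (C ⧸ P') _).comp (Ideal.Quotient.mk P'), fun c => by
        rw [RingHom.comp_apply, map_eq_zero_iff _ (IsFractionRing.injective (C ⧸ P') _),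
          Ideal.Quotient.eq_zero_iff_mem]⟩
    have hM : ∀ z : p.primeCompl, IsUnit ((χ.comp (algebraMap A C)) z) := fun z =>
      Ne.isUnit fun h0 => z.2 (hle ((hχ _).1 h0))
    let χp : Ap →+* K := IsLocalization.lift hM
    have hcomp : χp.comp π = χ.comp (algebraMap Ag C) := by
      refine IsLocalization.ringHom_ext (Submonoid.powers g) (RingHom.ext fun a => ?_)
      simp only [RingHom.comp_apply, hπA, χp, IsLocalization.lift_eq]
      rfl
    letI : Algebra A₀ K := (χ.comp (algebraMap A₀ C)).toAlgebra
    have hA₀ : ∀ a : A₀, χp (algebraMap A₀ Ap a) = algebraMap A₀ K a := fun a => by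
      rw [show algebraMap A₀ Ap a = π (ρ a) from (hρ a).symm]
      exact RingHom.congr_fun hcomp (ρ a)
    let χ₀ : Ap ⊗[A₀] B₀ →ₐ[A₀] K := Algebra.TensorProduct.lift
      ({ χp with commutes' := hA₀ } : Ap →ₐ[A₀] K)
      ({ toRingHom := χ.comp (Algebra.TensorProduct.includeRight : B₀ →ₐ[A₀] C).toRingHom
         commutes' := fun a => by
          show χ ((Algebra.TensorProduct.includeRight : B₀ →ₐ[A₀] C) (algebraMap A₀ B₀ a)) = _
          rw [AlgHom.commutes]
          rfl } : B₀ →ₐ[A₀] K)
      fun _ _ => Commute.all _ _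
    let χP : P →+* K := χ₀.toRingHom.comp e.toRingHom
    have hχP : ∀ c, χP (Φ c) = χ c := fun c => by
      induction c using TensorProduct.induction_on with
      | zero => simp
      | add x y hx hy => simp only [map_add, hx, hy]
      | tmul z b =>
        rw [hΦ]
        show χ₀ (e (algebraMap Ap P (π z) * e.symm ((1 : Ap) ⊗ₜ b))) = _
        rw [map_mul, AlgEquiv.commutes, AlgEquiv.apply_symm_apply,
          Algebra.TensorProduct.algebraMap_apply, Algebra.algebraMap_self, RingHom.id_apply,
          Algebra.TensorProduct.tmul_mul_tmul, mul_one, one_mul]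
        erw [Algebra.TensorProduct.lift_tmul]
        show χp (π z) * χ ((1 : Ag) ⊗ₜ b) = χ (z ⊗ₜ b)
        rw [show χp (π z) = χ (z ⊗ₜ (1 : B₀)) from RingHom.congr_fun hcomp z, ← map_mul,
          Algebra.TensorProduct.tmul_mul_tmul, mul_one, one_mul]
    refine ⟨RingHom.ker (χP.comp (IsLocalization.Away.lift (g := algebraMap B P) (algebraMap A B f)
        (IsLocalization.map_units P
          (⟨_, f, hf, rfl⟩ : Algebra.algebraMapSubmonoid B p.primeCompl)))),
      RingHom.ker_isPrime _, ?_⟩
    ext c
    simp only [Ideal.mem_comap, RingHom.mem_ker, RingHom.comp_apply]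
    show χP (_ : P) = 0 ↔ _
    erw [hφ c]
    exact (hχP c).symm ▸ hχ c
  · -- extend both maps to the localisation
    have hu : ∀ χ : Localization.Away (algebraMap A B f) →+* K,
        (∀ a, a ∉ p → χ (algebraMap A _ a) ≠ 0) →
        ∀ z : Algebra.algebraMapSubmonoid B p.primeCompl,
          IsUnit ((χ.comp (algebraMap B _)) z) := by
      rintro χ h ⟨_, a, ha, rfl⟩
      refine Ne.isUnit ?_
      rw [RingHom.comp_apply, ← IsScalarTower.algebraMap_apply]
      exact h a ha
    have hne₂ : ∀ a, a ∉ p → χ₂ (algebraMap A _ a) ≠ 0 := fun a ha => hA a ▸ hne a ha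
    let e₁ : P →+* K := IsLocalization.lift (hu χ₁ hne)
    let e₂ : P →+* K := IsLocalization.lift (hu χ₂ hne₂)
    let π' : Localization.Away (algebraMap A B f) →+* P :=
      IsLocalization.Away.lift (g := algebraMap B P) (algebraMap A B f)
        (IsLocalization.map_units P (⟨_, f, hf, rfl⟩ : Algebra.algebraMapSubmonoid B p.primeCompl))
    have h₁ : e₁.comp π' = χ₁ :=
      IsLocalization.ringHom_ext (Submonoid.powers (algebraMap A B f)) (RingHom.ext fun b => by
        simp only [RingHom.comp_apply, π', IsLocalization.Away.lift_eq, e₁, IsLocalization.lift_eq])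
    have h₂ : e₂.comp π' = χ₂ :=
      IsLocalization.ringHom_ext (Submonoid.powers (algebraMap A B f)) (RingHom.ext fun b => by
        simp only [RingHom.comp_apply, π', IsLocalization.Away.lift_eq, e₂, IsLocalization.lift_eq])
    have hAp : e₁.comp (algebraMap Ap P) = e₂.comp (algebraMap Ap P) := by
      refine IsLocalization.ringHom_ext p.primeCompl (RingHom.ext fun a => ?_)
      show e₁ (algebraMap Ap P (algebraMap A Ap a)) = e₂ (algebraMap Ap P (algebraMap A Ap a))
      rw [← IsScalarTower.algebraMap_apply A Ap P, IsScalarTower.algebraMap_apply A B P]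
      erw [IsLocalization.lift_eq, IsLocalization.lift_eq]
      simp only [RingHom.comp_apply]
      rw [← IsScalarTower.algebraMap_apply A B (Localization.Away (algebraMap A B f))]
      exact hA a
    have hΦeq : ∀ c, e₁ (Φ c) = e₂ (Φ c) := fun c => by
      rw [show Φ c = π' (φ c) from (hφ c).symm, ← RingHom.comp_apply, h₁, ← RingHom.comp_apply, h₂]
      exact hc c
    have heq : e₁ = e₂ := by
      refine RingHom.ext fun w => ?_
      obtain ⟨v, rfl⟩ := e.symm.surjective w
      induction v using TensorProduct.induction_on with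
      | zero => simp
      | add x y hx hy => simp only [map_add, hx, hy]
      | tmul a b =>
        have : e.symm (a ⊗ₜ b) = algebraMap Ap P a * Φ ((1 : Ag) ⊗ₜ b) := by
          rw [hΦ, map_one, map_one, one_mul, ← AlgEquiv.commutes e.symm, ← map_mul,
            Algebra.TensorProduct.algebraMap_apply, Algebra.algebraMap_self, RingHom.id_apply,
            Algebra.TensorProduct.tmul_mul_tmul, mul_one, one_mul]
        rw [this, map_mul, map_mul, hΦeq, ← RingHom.comp_apply, hAp, RingHom.comp_apply]
    rw [← h₁, ← h₂, heq]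

end

end Groth.AlgSpBasic
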