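import Groth.Agent.AlgSpBasic.FlatMonoRing
import Groth.Agent.AlgSpBasic.Topology
import Mathlib.AlgebraicGeometry.Morphisms.Etale
import Mathlib.AlgebraicGeometry.Morphisms.Flat
import Mathlib.AlgebraicGeometry.Morphisms.FlatMono
import Mathlib.AlgebraicGeometry.AffineScheme

/-!
# Spreading out flat morphisms which are etale over themselves

For a flat morphism of affine schemes `U ⟶ T` with `U ×_T U ⟶ U` etale and a point `t` in its
image, an etale scheme `E` over an open neighbourhood of `t` and a morphism `ψ : U ⟶ E` over it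
are constructed such that `U ×_T U ⟶ E ×_T U` is an isomorphism over the neighbourhood.
-/

set_option autoImplicit false
set_option backward.isDefEq.respectTransparency.types false
universe u

open CategoryTheory CategoryTheory.Limits AlgebraicGeometry TopologicalSpace

namespace Groth.AlgSpBasic

noncomputable section

/-- A closed subset of an affine scheme over an affine scheme which misses all points over
generalisations of a point misses everything over a basic open neighbourhood of the point. -/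
theorem exists_nhd_avoiding {Q T : Scheme.{u}} [IsAffine Q] [IsAffine T] (h : Q ⟶ T) {C : Set ↥Q}
    (hC : IsClosed C) (t : ↥T) (hne : ∀ z ∈ C, ¬ h z ⤳ t) :
    ∃ G : T.Opens, IsAffineOpen G ∧ t ∈ G ∧ ∀ z ∈ C, h z ∉ G := by
  by_contra hcon
  push Not at hcon
  let h' : Spec Γ(Q, ⊤) ⟶ Spec Γ(T, ⊤) := Spec.map h.appTop
  let eQ := Q.isoSpec
  let eT := T.isoSpec
  have hnat : ∀ z, eT.hom (h z) = h' (eQ.hom z) := fun z => by
    rw [← Scheme.Hom.comp_apply, ← Scheme.Hom.comp_apply, Scheme.isoSpec_hom_naturality]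
  let C' : Set (PrimeSpectrum Γ(Q, ⊤)) := eQ.inv ⁻¹' C
  obtain ⟨I, hI⟩ := (PrimeSpectrum.isClosed_iff_zeroLocus_ideal _).1
    (hC.preimage eQ.inv.continuous : IsClosed C')
  let p : Ideal Γ(T, ⊤) := (eT.hom t).asIdeal
  let φ : Γ(T, ⊤) →+* Γ(Q, ⊤) := h.appTop.hom
  have hdis : Disjoint (I : Set Γ(Q, ⊤)) ((Submonoid.map φ p.primeCompl : Submonoid _) : Set _) := by
    rw [Set.disjoint_left]
    rintro _ hs ⟨a, ha, rfl⟩
    obtain ⟨z, hz, hza⟩ := hcon (T.basicOpen a) ((isAffineOpen_top T).basicOpen a) (by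
      have e : T.toSpecΓ ⁻¹ᵁ PrimeSpectrum.basicOpen a = T.basicOpen a :=
        Scheme.toSpecΓ_preimage_basicOpen T a
      rw [← e]
      exact ha)
    have h1 : (eQ.hom z : PrimeSpectrum Γ(Q, ⊤)) ∈ C' := by
      show eQ.inv (eQ.hom z) ∈ C
      rw [← Scheme.Hom.comp_apply, Iso.hom_inv_id]
      exact hz
    have h2 : φ a ∈ (eQ.hom z).asIdeal := hI.le h1 hs
    have e : T.toSpecΓ ⁻¹ᵁ PrimeSpectrum.basicOpen a = T.basicOpen a :=
      Scheme.toSpecΓ_preimage_basicOpen T a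
    rw [← e] at hza
    exact hza (show a ∈ (eT.hom (h z)).asIdeal by rw [hnat]; exact h2)
  obtain ⟨P, hP, hIP, hdP⟩ := Ideal.exists_le_prime_disjoint _ _ hdis
  let z : ↥Q := eQ.inv (⟨P, hP⟩ : PrimeSpectrum Γ(Q, ⊤))
  have hz : z ∈ C := by
    exact hI.ge hIP
  refine hne z hz ((eT.hom.isOpenEmbedding.isInducing.specializes_iff).1 ?_)
  rw [hnat, show eQ.hom z = (⟨P, hP⟩ : PrimeSpectrum Γ(Q, ⊤)) by
    rw [← Scheme.Hom.comp_apply, Iso.inv_hom_id]; rfl]
  refine (PrimeSpectrum.le_iff_specializes _ _).1 fun a ha => by_contra fun hap => ?_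
  exact Set.disjoint_left.1 hdP ha ⟨a, hap, rfl⟩

/-- The affine step of spreading out. -/
theorem exists_spread_Spec {A B : CommRingCat.{u}} (φ : A ⟶ B) [Flat (Spec.map φ)]
    (h : Etale (pullback.snd (Spec.map φ) (Spec.map φ))) (u : ↥(Spec B)) :
    ∃ (E : Scheme.{u}) (η : E ⟶ Spec A) (G₀ : (Spec A).Opens) (U₀ : Scheme.{u})
      (j : U₀ ⟶ Spec B) (ψ : U₀ ⟶ E),
      IsAffine E ∧ IsAffine U₀ ∧ Etale η ∧ IsOpenImmersion j ∧ Spec.map φ u ∈ G₀ ∧
      Set.range j = Spec.map φ ⁻¹' G₀ ∧ ψ ≫ η = j ≫ Spec.map φ ∧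
      (∀ e : ↥E, η e ⤳ Spec.map φ u → e ∈ Set.range ψ) ∧
      ∀ (K : Type u) [Field K] (x y : Spec (CommRingCat.of K) ⟶ U₀),
        x ≫ ψ = y ≫ ψ → (∀ z, (x ≫ ψ ≫ η) z ⤳ Spec.map φ u) → x = y := by
  algebraize [φ.hom]
  have : Module.Flat A B := (HasRingHomProperty.Spec_iff (P := @Flat)).1 ‹Flat (Spec.map φ)›
  have : Algebra.Etale B (TensorProduct A B B) := by
    have h' : Etale (pullback.fst (Spec.map φ) (Spec.map φ)) := by
      rw [← pullbackSymmetry_hom_comp_snd]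
      infer_instance
    have h'' : Etale (Spec.map (CommRingCat.ofHom
        (Algebra.TensorProduct.includeLeftRingHom : (B : Type u) →+* TensorProduct A B B))) := by
      rw [← pullbackSpecIso_inv_fst]
      exact (MorphismProperty.cancel_left_of_respectsIso @Etale _ _).2 h'
    exact RingHom.etale_algebraMap.1 ((HasRingHomProperty.Spec_iff (P := @Etale)).1 h'')
  obtain ⟨C, _, _, f, φ₀, hC, hf, hsurj, hinj⟩ :=
    exists_etale_spread_point (A := A) (B := B) u.asIdeal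
  let Bf := Localization.Away (algebraMap A B f)
  let η : Spec (CommRingCat.of C) ⟶ Spec A := Spec.map (CommRingCat.ofHom (algebraMap A C))
  let j : Spec (CommRingCat.of Bf) ⟶ Spec B := Spec.map (CommRingCat.ofHom (algebraMap B Bf))
  let ψ : Spec (CommRingCat.of Bf) ⟶ Spec (CommRingCat.of C) :=
    Spec.map (CommRingCat.ofHom φ₀.toRingHom)
  have hA : ψ ≫ η = j ≫ Spec.map φ := by
    simp only [ψ, η, j]
    rw [← Spec.map_comp, ← Spec.map_comp]
    congr 1
    ext a
    exact (φ₀.commutes a).trans (IsScalarTower.algebraMap_apply A B Bf a)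
  have hj : IsOpenImmersion j := IsOpenImmersion.of_isLocalization (algebraMap A B f)
  refine ⟨_, η, PrimeSpectrum.basicOpen f, _, j, ψ, inferInstance, inferInstance,
    (HasRingHomProperty.Spec_iff (P := @Etale)).2 (RingHom.etale_algebraMap.2 hC), hj, hf, ?_, hA,
    fun e he => ?_, fun K _ x y e hspec => ?_⟩
  · exact PrimeSpectrum.localization_away_comap_range Bf (algebraMap A B f)
  · obtain ⟨Q, hQ, hQc⟩ := hsurj e.asIdeal e.isPrime
      ((PrimeSpectrum.le_iff_specializes (η e) (Spec.map φ u)).2 he)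
    exact ⟨⟨Q, hQ⟩, PrimeSpectrum.ext hQc⟩
  · obtain ⟨χ₁, rfl⟩ := Spec.map_surjective x
    obtain ⟨χ₂, rfl⟩ := Spec.map_surjective y
    have he : CommRingCat.ofHom φ₀.toRingHom ≫ χ₁ = CommRingCat.ofHom φ₀.toRingHom ≫ χ₂ :=
      Spec.map_injective (by rw [Spec.map_comp, Spec.map_comp]; exact e)
    have hχc : ∀ c, χ₁.hom (φ₀ c) = χ₂.hom (φ₀ c) := fun c => ConcreteCategory.congr_hom he c
    congr 1
    refine CommRingCat.hom_ext (hinj K χ₁.hom χ₂.hom (fun a => ?_) hχc fun a ha h0 => ha ?_)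
    · rw [show algebraMap A Bf a = φ₀ (algebraMap A C a) from (φ₀.commutes a).symm]
      exact hχc _
    · have hs := (PrimeSpectrum.le_iff_specializes _ _).2 (hspec (IsLocalRing.closedPoint K))
      refine hs ?_
      show χ₁.hom (φ₀ (algebraMap A C a)) ∈ IsLocalRing.maximalIdeal K
      rw [φ₀.commutes, h0]
      exact Ideal.zero_mem _

/-- Spreading out a flat morphism of affine schemes which is etale over itself. -/
theorem exists_spread_iso {T U : Scheme.{u}} [IsAffine T] [IsAffine U] (α : U ⟶ T) [Flat α]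
    [Etale (pullback.snd α α)] (u : ↥U) :
    ∃ (E : Scheme.{u}) (η : E ⟶ T) (G : T.Opens) (U₁ : Scheme.{u}) (j : U₁ ⟶ U) (ψ : U₁ ⟶ E)
      (w : ψ ≫ η = j ≫ α),
      IsAffine E ∧ IsAffine U₁ ∧ IsAffineOpen G ∧ Etale η ∧ Set.range η = G ∧ IsOpenImmersion j ∧
      α u ∈ G ∧ Set.range j = α ⁻¹' G ∧
      IsIso (pullback.map (j ≫ α) (j ≫ α) η (j ≫ α) ψ (𝟙 U₁) (𝟙 T)
        (by rw [Category.comp_id, w]) (by rw [Category.comp_id, Category.id_comp])) := by
  -- transport to spectra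
  let φ : Γ(T, ⊤) ⟶ Γ(U, ⊤) := α.appTop
  have hnat : U.isoSpec.hom ≫ Spec.map φ = α ≫ T.isoSpec.hom :=
    Scheme.isoSpec_hom_naturality α
  have : Flat (Spec.map φ) := by
    rw [← MorphismProperty.cancel_left_of_respectsIso @Flat U.isoSpec.hom, hnat]
    infer_instance
  have hEt : Etale (pullback.snd (Spec.map φ) (Spec.map φ)) := by
    let e := pullback.map α α (Spec.map φ) (Spec.map φ) U.isoSpec.hom U.isoSpec.hom T.isoSpec.hom
      hnat.symm hnat.symm
    rw [← MorphismProperty.cancel_left_of_respectsIso @Etale e,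
      show e ≫ pullback.snd _ _ = pullback.snd α α ≫ U.isoSpec.hom from pullback.lift_snd _ _ _]
    infer_instance
  obtain ⟨E₀, η', G₀', U₀, j', ψ₀, hE₀, hU₀, hη', hj', hG₀, hrj', w', hsurj', hinj'⟩ :=
    exists_spread_Spec φ hEt (U.isoSpec.hom u)
  let η₀ : E₀ ⟶ T := η' ≫ T.isoSpec.inv
  let j₀ : U₀ ⟶ U := j' ≫ U.isoSpec.inv
  have hjj : j₀ ≫ U.isoSpec.hom = j' := by simp [j₀]
  have w₀ : ψ₀ ≫ η₀ = j₀ ≫ α := by
    rw [← cancel_mono T.isoSpec.hom]
    simp only [η₀, Category.assoc, Iso.inv_hom_id, Category.comp_id]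
    rw [← hnat, reassoc_of% hjj, w']
  have hspec : ∀ {t : ↥T}, t ⤳ α u ↔ T.isoSpec.hom t ⤳ Spec.map φ (U.isoSpec.hom u) := fun {t} => by
    rw [← Scheme.Hom.comp_apply U.isoSpec.hom, hnat, Scheme.Hom.comp_apply,
      T.isoSpec.hom.isOpenEmbedding.isInducing.specializes_iff]
  have hsurj : ∀ e : ↥E₀, η₀ e ⤳ α u → e ∈ Set.range ψ₀ := fun e he => hsurj' e (by
    have h := hspec.1 he
    rwa [← Scheme.Hom.comp_apply η₀, show η₀ ≫ T.isoSpec.hom = η' by simp [η₀]] at h)
  have hinj : ∀ (K : Type u) [Field K] (x y : Spec (CommRingCat.of K) ⟶ U₀),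
      x ≫ ψ₀ = y ≫ ψ₀ → (∀ z, (x ≫ ψ₀ ≫ η₀) z ⤳ α u) → x = y := fun K _ x y e hz =>
    hinj' K x y e fun z => by
      have h := hspec.1 (hz z)
      rwa [← Scheme.Hom.comp_apply _ T.isoSpec.hom,
        show (x ≫ ψ₀ ≫ η₀) ≫ T.isoSpec.hom = x ≫ ψ₀ ≫ η' by simp [η₀]] at h
  let α₀ : U₀ ⟶ T := j₀ ≫ α
  have : Etale η₀ := inferInstanceAs (Etale (η' ≫ T.isoSpec.inv))
  have : IsOpenImmersion j₀ := inferInstanceAs (IsOpenImmersion (j' ≫ U.isoSpec.inv))
  -- the kernel pair on the open part is etale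
  have hR₀ : Etale (pullback.snd α₀ α₀) := by
    have h1 : Etale (pullback.snd α α₀) := by
      rw [← (IsPullback.of_hasPullback (pullback.snd α α) j₀).paste_horiz
          (IsPullback.of_hasPullback α α) |>.isoPullback_inv_snd,
        MorphismProperty.cancel_left_of_respectsIso @Etale]
      exact MorphismProperty.pullback_snd _ _ ‹_›
    rw [show pullback.snd α₀ α₀ = pullback.map α₀ α₀ α α₀ j₀ (𝟙 U₀) (𝟙 T)
      (by rw [Category.comp_id]) (by rw [Category.comp_id, Category.id_comp]) ≫ pullback.snd α α₀ from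
        ((pullback.lift_snd _ _ _).trans (Category.comp_id _)).symm]
    infer_instance
  let Q := pullback η₀ α₀
  let R := pullback α₀ α₀
  let Θ : R ⟶ Q := pullback.map α₀ α₀ η₀ α₀ ψ₀ (𝟙 U₀) (𝟙 T)
    (by rw [Category.comp_id, w₀]) (by rw [Category.comp_id, Category.id_comp])
  have : Etale Θ := by
    have : Etale (Θ ≫ pullback.snd η₀ α₀) := by
      rw [show Θ ≫ pullback.snd η₀ α₀ = pullback.snd α₀ α₀ ≫ 𝟙 _ from pullback.lift_snd _ _ _,
        Category.comp_id]
      exact hR₀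
    exact Etale.of_comp Θ (pullback.snd η₀ α₀)
  -- the locus where `Θ` is not surjective
  obtain ⟨G₁, hG₁, hG₁t, hQ⟩ := exists_nhd_avoiding (pullback.snd η₀ α₀ ≫ α₀)
    Θ.isOpenMap.isOpen_range.isClosed_compl (α u) (fun z hz hs => hz (by
      have hsq : IsPullback Θ (pullback.fst α₀ α₀) (pullback.fst η₀ α₀) ψ₀ := by
        have hQ : IsPullback (pullback.snd η₀ α₀) (pullback.fst η₀ α₀) α₀ η₀ :=
          (IsPullback.of_hasPullback η₀ α₀).flip
        refine IsPullback.of_right ?_ (pullback.lift_fst _ _ _) hQ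
        rw [show Θ ≫ pullback.snd η₀ α₀ = pullback.snd α₀ α₀ by
          simp only [Θ, pullback.lift_snd, Category.comp_id], w₀]
        exact (IsPullback.of_hasPullback α₀ α₀).flip
      obtain ⟨e, he⟩ := hsurj (pullback.fst η₀ α₀ z) (by
        rw [← Scheme.Hom.comp_apply, pullback.condition]
        exact hs)
      obtain ⟨r, hr, -⟩ := Scheme.exists_preimage_of_isPullback hsq z e he.symm
      exact ⟨r, hr⟩))
  -- the locus where `ψ₀` is not injective
  let Z := pullback ψ₀ ψ₀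
  let ι : Z ⟶ R := pullback.map ψ₀ ψ₀ α₀ α₀ (𝟙 _) (𝟙 _) η₀ (by rw [Category.id_comp, w₀])
    (by rw [Category.id_comp, w₀])
  let Δ : U₀ ⟶ R := pullback.lift (𝟙 _) (𝟙 _) rfl
  have hΔ : Δ ≫ pullback.snd α₀ α₀ = 𝟙 _ := pullback.lift_snd _ _ _
  have : IsOpenImmersion Δ := by
    have : IsIso (Δ ≫ pullback.snd α₀ α₀) := by rw [hΔ]; infer_instance
    have : IsClosedImmersion Δ := IsClosedImmersion.of_comp Δ (pullback.snd α₀ α₀)
    have : Etale (Δ ≫ pullback.snd α₀ α₀) := inferInstance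
    have : Etale Δ := Etale.of_comp Δ (pullback.snd α₀ α₀)
    exact IsOpenImmersion.of_flat_of_mono Δ
  obtain ⟨G₂, hG₂, hG₂t, hZ⟩ := exists_nhd_avoiding (pullback.fst ψ₀ ψ₀ ≫ α₀)
    (Δ.isOpenEmbedding.isOpen_range.preimage ι.continuous).isClosed_compl (α u) (fun z hz hs =>
      hz (by
        let x := Z.fromSpecResidueField z
        have e := hinj (Z.residueField z) (x ≫ pullback.fst ψ₀ ψ₀) (x ≫ pullback.snd ψ₀ ψ₀)
          (by rw [Category.assoc, Category.assoc, pullback.condition]) fun w => by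
            rw [Category.assoc, w₀, Scheme.Hom.comp_apply, Scheme.fromSpecResidueField_apply]
            exact hs
        have : x ≫ ι = (x ≫ pullback.fst ψ₀ ψ₀) ≫ Δ := by
          apply pullback.hom_ext
          · simp only [ι, Δ, Category.assoc, pullback.lift_fst, Category.comp_id]
          · simp only [ι, Δ, Category.assoc, pullback.lift_snd, Category.comp_id]
            exact e.symm
        refine ⟨(x ≫ pullback.fst ψ₀ ψ₀) (IsLocalRing.closedPoint _), ?_⟩
        rw [← Scheme.Hom.comp_apply, ← this, Scheme.Hom.comp_apply,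
          Scheme.fromSpecResidueField_apply]))
  -- the neighbourhood
  let O₁ : T.Opens := G₁ ⊓ G₂ ⊓ (T.isoSpec.hom ⁻¹ᵁ G₀') ⊓ ⟨Set.range η₀, η₀.isOpenMap.isOpen_range⟩
  have hO₁ : α u ∈ O₁ := by
    refine ⟨⟨⟨hG₁t, hG₂t⟩, ?_⟩, ?_⟩
    · show T.isoSpec.hom (α u) ∈ G₀'
      rw [← Scheme.Hom.comp_apply, ← hnat]
      exact hG₀
    · obtain ⟨v, hv⟩ := hrj'.ge (show Spec.map φ (U.isoSpec.hom u) ∈ G₀' from hG₀)
      have hju : j₀ v = u := by
        rw [Scheme.Hom.comp_apply, hv, ← Scheme.Hom.comp_apply, Iso.hom_inv_id]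
        rfl
      exact ⟨ψ₀ v, by rw [← Scheme.Hom.comp_apply, w₀, Scheme.Hom.comp_apply, hju]⟩
  obtain ⟨_, ⟨G, hG, rfl⟩, hGt, hGle⟩ :=
    T.isBasis_affineOpens.exists_subset_of_mem_open hO₁ O₁.isOpen
  have hGle' : G ≤ O₁ := hGle
  let E := (η₀ ⁻¹ᵁ G)
  let V := (α₀ ⁻¹ᵁ G)
  have hψV : Set.range (V.ι ≫ ψ₀) ⊆ Set.range E.ι := by
    rintro _ ⟨v, rfl⟩
    rw [Scheme.Opens.range_ι]
    show η₀ (ψ₀ (V.ι v)) ∈ G
    rw [← Scheme.Hom.comp_apply ψ₀, w₀]
    exact v.2
  let ψ : V.toScheme ⟶ E.toScheme := IsOpenImmersion.lift E.ι (V.ι ≫ ψ₀) hψV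
  have hψι : ψ ≫ E.ι = V.ι ≫ ψ₀ := IsOpenImmersion.lift_fac _ _ _
  have hw : ψ ≫ E.ι ≫ η₀ = (V.ι ≫ j₀) ≫ α := by
    rw [reassoc_of% hψι, w₀, Category.assoc]
    simp [j₀]
  refine ⟨E.toScheme, E.ι ≫ η₀, G, V.toScheme, V.ι ≫ j₀, ψ, hw, hG.preimage η₀, hG.preimage α₀,
    hG, inferInstance, ?_, inferInstance, hGt, ?_, ?_⟩
  · ext x
    constructor
    · rintro ⟨e, rfl⟩
      exact e.2
    · intro hx
      obtain ⟨e, rfl⟩ := (hGle' hx).2
      exact ⟨⟨e, hx⟩, rfl⟩
  · ext x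
    constructor
    · rintro ⟨v, rfl⟩
      exact v.2
    · intro hx
      obtain ⟨v, hv⟩ := hrj'.ge (show Spec.map φ (U.isoSpec.hom x) ∈ G₀' by
        rw [← Scheme.Hom.comp_apply, hnat]
        exact (hGle' hx).1.2)
      have hjx : j₀ v = x := by
        rw [Scheme.Hom.comp_apply, hv, ← Scheme.Hom.comp_apply, Iso.hom_inv_id]
        rfl
      refine ⟨⟨v, ?_⟩, hjx⟩
      show α (j₀ v) ∈ G
      rw [hjx]
      exact hx
  · let Θ' := pullback.map ((V.ι ≫ j₀) ≫ α) ((V.ι ≫ j₀) ≫ α) (E.ι ≫ η₀) ((V.ι ≫ j₀) ≫ α) ψ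
      (𝟙 _) (𝟙 T) (by rw [Category.comp_id, hw]) (by rw [Category.comp_id, Category.id_comp])
    let mR : pullback ((V.ι ≫ j₀) ≫ α) ((V.ι ≫ j₀) ≫ α) ⟶ R := pullback.map _ _ _ _ V.ι V.ι (𝟙 T)
      (by simp [α₀]) (by simp [α₀])
    let mQ : pullback (E.ι ≫ η₀) ((V.ι ≫ j₀) ≫ α) ⟶ Q := pullback.map _ _ _ _ E.ι V.ι (𝟙 T)
      (by simp) (by simp [α₀])
    have hcomm : Θ' ≫ mQ = mR ≫ Θ := by
      apply pullback.hom_ext <;>
        simp only [Θ', Θ, mR, mQ, Category.assoc, pullback.lift_fst, pullback.lift_snd,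
          pullback.lift_fst_assoc, pullback.lift_snd_assoc, hψι, Category.id_comp, Category.comp_id]
    have : Etale Θ' := by
      have : Etale (Θ' ≫ mQ) := by rw [hcomm]; infer_instance
      exact Etale.of_comp Θ' mQ
    -- injectivity
    have hψm : Mono ψ := ⟨fun {W} x y e => by
      have e₀ : (x ≫ V.ι) ≫ ψ₀ = (y ≫ V.ι) ≫ ψ₀ := by
        rw [Category.assoc, Category.assoc, ← hψι, reassoc_of% e]
      let l : W ⟶ Z := pullback.lift _ _ e₀
      have hr : Set.range (l ≫ ι) ⊆ Set.range Δ := by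
        rintro _ ⟨z, rfl⟩
        by_contra hne
        refine hZ (l z) hne ?_
        rw [← Scheme.Hom.comp_apply, show l ≫ pullback.fst ψ₀ ψ₀ ≫ α₀ = x ≫ V.ι ≫ α₀ by
          rw [← Category.assoc, pullback.lift_fst, Category.assoc]]
        exact (hGle' (x z).2).1.1.2
      have hl := IsOpenImmersion.lift_fac Δ (l ≫ ι) hr
      have h₁ := hl =≫ pullback.fst α₀ α₀
      have h₂ := hl =≫ pullback.snd α₀ α₀
      simp only [Δ, ι, l, Category.assoc, pullback.lift_fst, pullback.lift_snd, Category.comp_id,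
        pullback.lift_fst_assoc, pullback.lift_snd_assoc] at h₁ h₂
      rw [← cancel_mono V.ι]
      exact h₁.symm.trans h₂⟩
    have : Mono Θ' := ⟨fun {W} x y e => by
      apply pullback.hom_ext
      · rw [← cancel_mono ψ]
        have := e =≫ pullback.fst _ _
        simpa only [Θ', Category.assoc, pullback.lift_fst] using this
      · have := e =≫ pullback.snd _ _
        simpa only [Θ', Category.assoc, pullback.lift_snd, Category.comp_id] using this⟩
    have : IsOpenImmersion Θ' := IsOpenImmersion.of_flat_of_mono _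
    -- surjectivity
    have : Surjective Θ' := ⟨fun z => by
      have hz : mQ z ∈ Set.range Θ := by
        by_contra hne
        refine hQ (mQ z) hne ?_
        rw [← Scheme.Hom.comp_apply,
          show mQ ≫ pullback.snd η₀ α₀ ≫ α₀ = pullback.snd _ _ ≫ V.ι ≫ α₀ by
            simp only [mQ, pullback.lift_snd_assoc, Category.assoc]]
        exact (hGle' (pullback.snd (E.ι ≫ η₀) ((V.ι ≫ j₀) ≫ α) z).2).1.1.1
      obtain ⟨r, hr⟩ := hz
      have hr' : r ∈ Set.range mR := by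
        rw [Scheme.Pullback.range_map]
        refine ⟨?_, ?_⟩
        · show pullback.fst α₀ α₀ r ∈ Set.range V.ι
          rw [Scheme.Opens.range_ι]
          show α₀ (pullback.fst α₀ α₀ r) ∈ G
          have e : pullback.fst α₀ α₀ ≫ α₀ = Θ ≫ pullback.fst η₀ α₀ ≫ η₀ := by
            simp only [Θ, pullback.lift_fst_assoc, Category.assoc, w₀]
            rfl
          rw [← Scheme.Hom.comp_apply, e, Scheme.Hom.comp_apply Θ, hr, ← Scheme.Hom.comp_apply,
            show mQ ≫ pullback.fst η₀ α₀ ≫ η₀ = pullback.fst _ _ ≫ E.ι ≫ η₀ by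
              simp only [mQ, pullback.lift_fst_assoc, Category.assoc]]
          exact (pullback.fst (E.ι ≫ η₀) ((V.ι ≫ j₀) ≫ α) z).2
        · show pullback.snd α₀ α₀ r ∈ Set.range V.ι
          have e : pullback.snd α₀ α₀ = Θ ≫ pullback.snd η₀ α₀ := by
            simp only [Θ, pullback.lift_snd, Category.comp_id]
          rw [e, Scheme.Hom.comp_apply Θ, hr, ← Scheme.Hom.comp_apply,
            show mQ ≫ pullback.snd η₀ α₀ = pullback.snd _ _ ≫ V.ι by
              simp only [mQ, pullback.lift_snd]]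
          exact ⟨_, rfl⟩
      obtain ⟨r', rfl⟩ := hr'
      refine ⟨r', mQ.isOpenEmbedding.injective ?_⟩
      rw [← Scheme.Hom.comp_apply, hcomm, Scheme.Hom.comp_apply]
      exact hr⟩
    exact (isIso_iff_isOpenImmersion_and_surjective _).2 ⟨‹_›, ‹_›⟩

end

end Groth.AlgSpBasic
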