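import Groth.Agent.AlgSp2.FpqcCoverBasic
import Groth.Agent.AlgSp2.AffineCriteria
import Groth.Agent.AlgSpBasic.Immersion
import Groth.Agent.AlgSpBasic.QComp
import Groth.Agent.HTopHyper.BlowUpProper
import Groth.Agent.FlatMorOne.MultiSep
import Mathlib.AlgebraicGeometry.Morphisms.Flat

/-!
# An fpqc covering refining an open subspace and a morphism flat along the closed complement
-/

set_option autoImplicit false
set_option backward.isDefEq.respectTransparency.types false
universe u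

open CategoryTheory CategoryTheory.Limits AlgebraicGeometry Opposite AlgSp

namespace Groth.AlgSpBasic.FormalGlueCover

noncomputable section

/-- Localising at `1 + J` makes a map flat as soon as it is flat at the primes containing `J`. -/
theorem exists_flat_localization_aux {R B : Type u} [CommRing R] [CommRing B] (φ : R →+* B)
    (J : Ideal B)
    (H : ∀ (q : Ideal B) [q.IsPrime], J ≤ q →
      (Localization.localRingHom (q.comap φ) q φ rfl).Flat) :
    ∃ (C : Type u) (_ : CommRing C) (ψ : B →+* C), (ψ.comp φ).Flat ∧ ψ.Flat ∧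
      ∀ (q : Ideal B) [q.IsPrime], J ≤ q → ∃ P : PrimeSpectrum C, P.asIdeal.comap ψ = q := by
  classical
  let M : Submonoid B := MonoidHom.mker (Ideal.Quotient.mk J).toMonoidHom
  have hdisj : ∀ q : Ideal B, q ≠ ⊤ → J ≤ q → Disjoint (M : Set B) (q : Set B) := by
    intro q hq hJ
    rw [Set.disjoint_left]
    intro m hm hmq
    have h1 : m - 1 ∈ J := by
      rw [← Ideal.Quotient.eq]
      exact hm.trans (map_one _).symm
    exact hq ((Ideal.eq_top_iff_one q).2 (by simpa using sub_mem hmq (hJ h1)))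
  let C := Localization M
  let ψ : B →+* C := algebraMap B C
  have hψ : ψ.Flat := RingHom.flat_algebraMap_iff.2 (IsLocalization.flat C M)
  have hmax : ∀ P : Ideal C, P.IsMaximal → J ≤ P.comap ψ := by
    intro P hP
    have hp : (P.comap ψ).IsPrime := Ideal.IsPrime.comap _
    have hd : Disjoint (M : Set B) (P.comap ψ : Set B) :=
      ((IsLocalization.isPrime_iff_isPrime_disjoint M C P).1 hP.isPrime).2
    have hne : P.comap ψ ⊔ J ≠ ⊤ := by
      intro htop
      obtain ⟨a, ha, b, hb, hab⟩ :=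
        Submodule.mem_sup.1 ((htop ▸ Submodule.mem_top : (1 : B) ∈ P.comap ψ ⊔ J))
      refine Set.disjoint_left.1 hd (show a ∈ (M : Set B) from ?_) ha
      have : Ideal.Quotient.mk J a = 1 := by
        rw [← map_one (Ideal.Quotient.mk J), Ideal.Quotient.eq, ← hab]
        simpa using neg_mem hb
      exact this
    obtain ⟨m, hm, hle⟩ := Ideal.exists_le_maximal _ hne
    have hdm := hdisj m hm.ne_top (le_sup_right.trans hle)
    have hprime := IsLocalization.isPrime_of_isPrime_disjoint M C m hm.isPrime hdm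
    have hcm := IsLocalization.under_map_of_isPrime_disjoint M C hm.isPrime hdm
    have hPm : P ≤ m.map ψ := by
      rw [← IsLocalization.map_under M C P]
      exact Ideal.map_mono (le_sup_left.trans hle)
    rw [hP.eq_of_le hprime.ne_top hPm]
    exact (le_sup_right.trans hle).trans hcm.ge
  refine ⟨C, inferInstance, ψ, ?_, hψ, fun q hq hJ => ?_⟩
  · algebraize [ψ.comp φ]
    refine Module.flat_of_isLocalized_maximal C C (fun P => Localization.AtPrime P)
      (fun P => Algebra.linearMap C _) fun P hP => ?_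
    rw [← RingHom.flat_algebraMap_iff]
    have e : algebraMap R (Localization.AtPrime P) =
        (Localization.localRingHom (P.comap ψ) P ψ rfl).comp
          ((Localization.localRingHom ((P.comap ψ).comap φ) (P.comap ψ) φ rfl).comp
            (algebraMap R (Localization.AtPrime ((P.comap ψ).comap φ)))) := by
      ext r
      simp only [RingHom.comp_apply, Localization.localRingHom_to_map]
      rw [IsScalarTower.algebraMap_apply R C (Localization.AtPrime P)]
      rfl
    rw [e]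
    exact ((RingHom.flat_algebraMap_iff.2
      (IsLocalization.flat _ ((P.comap ψ).comap φ).primeCompl)).comp (H _ (hmax P hP))).comp
        (hψ.localRingHom P _ rfl)
  · have hd := hdisj q hq.ne_top hJ
    exact ⟨⟨q.map ψ, IsLocalization.isPrime_of_isPrime_disjoint M C q hq hd⟩,
      IsLocalization.under_map_of_isPrime_disjoint M C hq hd⟩

/-- A morphism of affine schemes, flat along the preimage of a closed set, becomes flat on an affine
scheme mapping to its source that still contains that preimage. -/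
theorem exists_flat_affine {V A : Scheme.{u}} [IsAffine V] [IsAffine A] (h : V ⟶ A) {K : Set ↥A}
    (hK : IsClosed K) (hflat : ∀ v, h v ∈ K → (h.stalkMap v).hom.Flat) :
    ∃ (W : Scheme.{u}) (ρ : W ⟶ V), IsAffine W ∧ Flat (ρ ≫ h) ∧ Flat ρ ∧
      ∀ v, h v ∈ K → v ∈ Set.range ρ := by
  wlog hA : ∃ R, A = Spec R generalizing A
  · let e := A.isoSpec.hom
    have hK' : IsClosed (A.isoSpec.inv ⁻¹' K) := hK.preimage A.isoSpec.inv.continuous
    have hinv : ∀ v, A.isoSpec.inv ((h ≫ e) v) = h v := fun v => by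
      simp only [Scheme.Hom.comp_apply, e]
      rw [← Scheme.Hom.comp_apply, Iso.hom_inv_id]
      rfl
    obtain ⟨W, ρ, hW, hf, hρ, hs⟩ := this (h ≫ e) hK' (fun v hv => by
      rw [Scheme.Hom.stalkMap_comp]
      erw [CommRingCat.hom_comp]
      exact RingHom.Flat.comp (Flat.stalkMap e (h v)) (hflat v (by
        rw [Set.mem_preimage, hinv] at hv; exact hv))) ⟨_, rfl⟩
    refine ⟨W, ρ, hW, ?_, hρ, fun v hv => hs v (by rw [Set.mem_preimage, hinv]; exact hv)⟩
    have : ρ ≫ h = (ρ ≫ h ≫ e) ≫ A.isoSpec.inv := by simp [e]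
    rw [this]
    exact MorphismProperty.comp_mem _ _ _ hf inferInstance
  obtain ⟨R, rfl⟩ := hA
  wlog hV : ∃ B, V = Spec B generalizing V
  · let e := V.isoSpec.inv
    obtain ⟨W, ρ, hW, hf, hρ, hs⟩ := this (e ≫ h) (fun v hv => by
      rw [Scheme.Hom.stalkMap_comp]
      erw [CommRingCat.hom_comp]
      exact RingHom.Flat.comp (hflat (e v) hv) (Flat.stalkMap e v)) ⟨_, rfl⟩
    refine ⟨W, ρ ≫ e, hW, by rw [Category.assoc]; exact hf, inferInstance, fun v hv => ?_⟩
    have hev : e (V.isoSpec.hom v) = v := by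
      simp only [e]
      rw [← Scheme.Hom.comp_apply, Iso.hom_inv_id]
      rfl
    obtain ⟨w, hw⟩ := hs (V.isoSpec.hom v) (by rw [Scheme.Hom.comp_apply, hev]; exact hv)
    exact ⟨w, by rw [Scheme.Hom.comp_apply, hw, hev]⟩
  obtain ⟨B, rfl⟩ := hV
  obtain ⟨φ, rfl⟩ := Spec.map_surjective h
  let T : Set (PrimeSpectrum B) := (Spec.map φ) ⁻¹' K
  have hT : IsClosed T := hK.preimage (Spec.map φ).continuous
  have hzl : PrimeSpectrum.zeroLocus (PrimeSpectrum.vanishingIdeal T : Set B) = T := by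
    rw [PrimeSpectrum.zeroLocus_vanishingIdeal_eq_closure, hT.closure_eq]
  obtain ⟨C, _, ψ, hfl, hψ, hsurj⟩ := exists_flat_localization_aux φ.hom
    (PrimeSpectrum.vanishingIdeal T) (fun q _ hq => by
      have hv : (⟨q, ‹_›⟩ : PrimeSpectrum B) ∈ T := by
        rw [← hzl]; exact hq
      exact (RingHom.Flat.respectsIso.arrow_mk_iso_iff
        (Scheme.arrowStalkMapSpecIso φ ⟨q, ‹_›⟩)).1 (hflat _ hv))
  refine ⟨Spec (CommRingCat.of C), Spec.map (CommRingCat.ofHom ψ), inferInstance, ?_,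
    (HasRingHomProperty.Spec_iff (P := @Flat)).2 hψ, fun v hv => ?_⟩
  · rw [← Spec.map_comp, HasRingHomProperty.Spec_iff (P := @Flat)]
    exact hfl
  · obtain ⟨P, hP⟩ := hsurj v.asIdeal (fun b hb =>
      (PrimeSpectrum.mem_vanishingIdeal _ _).1 hb v hv)
    exact ⟨P, PrimeSpectrum.ext hP⟩

variable {S : Scheme.{u}}

theorem exists_chart_cover {X Y Z FZ U : AlgSp.Space S} (f : Y ⟶ X)
    (hqc : AlgSp.IsQuasiCompactMor f.hom) (i : Z ⟶ X)
    (hi : AlgSp.RepWith @IsClosedImmersion i.hom) (hifp : AlgSp.LocP @LocallyOfFinitePresentation i.hom)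
    (iY : FZ ⟶ Y) (fZ : FZ ⟶ Z) (hFZ : IsPullback iY.hom fZ.hom f.hom i.hom) [IsIso fZ]
    (hflat : ∀ y ∈ Set.range (AlgSp.Points.map iY.hom), AlgSp.IsFlatAtMor f.hom y) (j : U ⟶ X)
    (hj : AlgSp.RepWith @IsOpenImmersion j.hom)
    (hU : Set.range (AlgSp.Points.map j.hom) = (Set.range (AlgSp.Points.map i.hom))ᶜ)
    {T : Over S} [IsAffine T.left] (b : (yon S).obj T ⟶ X.obj) (hb : RepWith @Etale b) :
    ∃ (n : Type u) (_ : Finite n) (W : n → Over S) (c : ∀ k, W k ⟶ T),
      (∀ k, IsAffine (W k).left) ∧ (∀ k, Flat (c k).left) ∧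
      (∀ t : ↥T.left, ∃ k, t ∈ Set.range (c k).left) ∧
      ∀ k, (∃ l, l ≫ j.hom = (yon S).map (c k) ≫ b) ∨
        (∃ l : (yon S).obj (W k) ⟶ pullback f.hom b,
          l ≫ pullback.snd f.hom b = (yon S).map (c k) ∧ RepWith @Flat l) := by
  have : Mono j.hom := mono_of_repWith (fun _ _ g (_ : IsOpenImmersion g) => inferInstance) hj
  obtain ⟨K, sK, fK, sqK⟩ := hi.rep b
  have : IsClosedImmersion sK.left := hi.property _ fK sK sqK
  have : LocallyOfFinitePresentation sK.left :=
    (repWith_of_locP X.property hi.rep hifp).property _ fK sK sqK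
  have hKr : ∀ t, t ∈ Set.range sK.left ↔
      Points.ofPt b t ∈ Set.range (Points.map i.hom) := by
    intro t
    constructor
    · rintro ⟨v, rfl⟩
      exact ⟨Points.ofPt fK v, (map_eq_ofPt_iff sqK _ _).2 ⟨v, rfl, rfl⟩⟩
    · rintro ⟨z, hz⟩
      obtain ⟨v, -, hv⟩ := (map_eq_ofPt_iff sqK z t).1 hz
      exact ⟨v, hv⟩
  have hKc : IsClosed (Set.range sK.left) := sK.left.isClosedEmbedding.isClosed_range
  have hcomp : IsCompact (Set.range sK.left)ᶜ := by
    have := Groth.FlatMorOne.isCompact_compl_support sK.left.ker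
      (Groth.HTopHyper.fg_ker_of_closedImmersion sK.left)
    rwa [Scheme.Hom.support_ker, hKc.closure_eq] at this
  obtain ⟨s, hs, es⟩ := (isCompact_iff_finite_and_eq_biUnion_affineOpens
    (U := (⟨(Set.range sK.left)ᶜ, hKc.isOpen_compl⟩ : T.left.Opens))).1 hcomp
  have sq := IsPullback.of_hasPullback f.hom b
  have hPa : IsAlgSpace (pullback f.hom b) :=
    isAlgSpace_of_isPullback sq X.property.diag Y.property (IsAlgSpace.yon_obj T)
  have hPqc : IsQuasiCompactSp (pullback f.hom b) :=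
    hqc (IsAlgSpace.yon_obj T)
      ((isQuasiCompactSp_yon_iff T).2 inferInstance) b _ _ sq
  obtain ⟨V, q, hV, hq, hqs⟩ := exists_affine_chart hPa hPqc
  obtain ⟨h, hh⟩ := (yon S).map_surjective (q ≫ pullback.snd f.hom b)
  have hchart : RepWith @Etale (q ≫ pullback.fst f.hom b) :=
    repWith_comp hq (repWith_of_isPullback sq.flip hb)
  have hcomm : (q ≫ pullback.fst f.hom b) ≫ f.hom = (yon S).map h ≫ b := by
    rw [Category.assoc, pullback.condition, ← Category.assoc, hh]
  obtain ⟨W₀, ρ, hW₀, hρflat, hρ, hρsurj⟩ := exists_flat_affine h.left hKc (fun v hv => by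
    obtain ⟨z, hz⟩ := (hKr _).1 hv
    have e : Points.map f.hom (Points.ofPt (q ≫ pullback.fst f.hom b) v) =
        Points.map i.hom z := by
      rw [Points.map_ofPt, hcomm, ofPt_comp_yon, hz]
    obtain ⟨w, hw, -⟩ := exists_point_of_isPullback hFZ _ z e
    exact hflat _ ⟨w, hw⟩ _ b h v hchart hb hcomm rfl)
  have := hW₀
  let c₀ : Over.mk (ρ ≫ V.hom) ⟶ T :=
    Over.homMk (ρ ≫ h.left) (by simp [Over.w h])
  refine ⟨Option s, by have := hs.to_subtype; infer_instance,
    fun k => k.elim (Over.mk (ρ ≫ V.hom)) (fun D => Over.mk (D.1.1.ι ≫ T.hom)),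
    fun k => k.rec c₀ (fun D => Over.homMk D.1.1.ι rfl), ?_, ?_, ?_, ?_⟩
  · rintro (_ | D)
    · exact hW₀
    · exact D.1.2
  · rintro (_ | D)
    · exact hρflat
    · exact inferInstanceAs (Flat D.1.1.ι)
  · intro t
    by_cases ht : t ∈ Set.range sK.left
    · obtain ⟨z, hz⟩ := (hKr t).1 ht
      have : IsIso fZ.hom := (ObjectProperty.ι (IsAlgSpace (S := S))).map_isIso fZ
      let w := Points.map (inv fZ.hom) z
      have hw : Points.map f.hom (Points.map iY.hom w) = Points.ofPt b t := by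
        rw [← Points.map_comp, hFZ.w, Points.map_comp]
        have : Points.map fZ.hom w = z := by
          rw [← Points.map_comp, IsIso.inv_hom_id, Points.map_id]
        rw [this, hz]
      rw [ofPt_eq_map] at hw
      obtain ⟨r, -, hr⟩ := exists_point_of_isPullback sq _ _ hw
      obtain ⟨v, rfl⟩ := surjective_ofPt_of_repWith hqs r
      have hv : h.left v = t := by
        rw [Points.map_ofPt, ← hh, ofPt_eq_map] at hr
        exact (Points.schemeHomeo T).injective ((Points.map_yon_map_apply h v).symm.trans hr)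
      obtain ⟨w', hw'⟩ := hρsurj v (by rw [hv]; exact ht)
      exact ⟨none, w', by
        change (ρ ≫ h.left) w' = t
        rw [Scheme.Hom.comp_apply, hw', hv]⟩
    · have ht' : t ∈ (⟨(Set.range sK.left)ᶜ, hKc.isOpen_compl⟩ : T.left.Opens) := ht
      rw [es] at ht'
      simp only [TopologicalSpace.Opens.mem_iSup] at ht'
      obtain ⟨D, hD, htD⟩ := ht'
      exact ⟨some ⟨D, hD⟩, ⟨t, htD⟩, rfl⟩
  · rintro (_ | D)
    · right
      refine ⟨(yon S).map (Over.homMk ρ rfl : Over.mk (ρ ≫ V.hom) ⟶ V) ≫ q, ?_,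
        repWith_comp ((repWith_yon_map_iff _ _).2 hρ)
          (repWith_mono (fun _ _ g (_ : Etale g) => inferInstanceAs (Flat g)) hq)⟩
      rw [Category.assoc, ← hh, ← Functor.map_comp]
      rfl
    · left
      refine exists_lift_of_range_openImmersion (IsAlgSpace.yon_obj _) hj _ ?_
      rintro _ ⟨x, rfl⟩
      obtain ⟨d, rfl⟩ := (Points.schemeHomeo _).surjective x
      rw [hU]
      intro hc
      have hd : D.1.1.ι d ∈ (Set.range sK.left)ᶜ :=
        es.ge ((le_biSup (fun i : T.left.affineOpens => i.1) D.2) d.2)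
      refine hd ((hKr _).2 ?_)
      rw [show Points.ofPt b (D.1.1.ι d) =
        Points.map ((yon S).map (Over.homMk D.1.1.ι rfl : Over.mk (D.1.1.ι ≫ T.hom) ⟶ T) ≫ b)
          (Points.ofScheme _ d) from
        (ofPt_comp_yon (Over.homMk D.1.1.ι rfl : Over.mk (D.1.1.ι ≫ T.hom) ⟶ T) b d).symm.trans
          (ofPt_eq_map _ _)]
      exact hc

theorem isFpqcCover_finite_affine {T : Over S} [IsAffine T.left] {n : Type u} [Finite n]
    (W : n → Over S) (c : ∀ k, W k ⟶ T) (hW : ∀ k, IsAffine (W k).left)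
    (hc : ∀ k, Flat (c k).left) (hs : ∀ t : ↥T.left, ∃ k, t ∈ Set.range (c k).left) :
    IsFpqcCover (fun k => (yon S).obj (W k)) (fun k => (yon S).map (c k)) := by
  refine ⟨fun k => locP_of_repWith ((repWith_yon_map_iff _ _).2 (hc k)), fun Z' hZ' φ => ?_⟩
  obtain ⟨φ, rfl⟩ := (yon S).map_surjective φ
  have := Fintype.ofFinite n
  let e := Fintype.equivFin n
  choose P p₁ p₂ hP using fun k : Fin (Fintype.card n) =>
    exists_pullback_of_diag (IsAlgSpace.yon_obj T).diag
      ((yon S).map φ) ((yon S).map (c (e.symm k)))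
  have hsch := fun k => isPullback_left (isPullback_of_yon (hP k))
  refine ⟨_, P, p₁, fun k => ?_, fun k => ?_, fun z => ?_, fun k => ⟨e.symm k,
    (yon S).map (p₂ k), ((hP k).w).symm⟩⟩
  · have := hW (e.symm k)
    exact IsAffine.of_isIso (hsch k).isoPullback.hom
  · exact MorphismProperty.of_isPullback (P := @Flat) (hsch k).flip (hc _)
  · obtain ⟨k, w, hw⟩ := hs (φ.left z)
    obtain ⟨k', rfl⟩ := e.symm.surjective k
    obtain ⟨x, hx, -⟩ := Scheme.exists_preimage_of_isPullback (hsch k') z w hw.symm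
    exact ⟨k', x, hx⟩

/-- The fpqc covering. -/
theorem exists_cover {X Y Z FZ U : AlgSp.Space S} (f : Y ⟶ X)
    (hqc : AlgSp.IsQuasiCompactMor f.hom) (i : Z ⟶ X)
    (hi : AlgSp.RepWith @IsClosedImmersion i.hom) (hifp : AlgSp.LocP @LocallyOfFinitePresentation i.hom)
    (iY : FZ ⟶ Y) (fZ : FZ ⟶ Z) (hFZ : IsPullback iY.hom fZ.hom f.hom i.hom) [IsIso fZ]
    (hflat : ∀ y ∈ Set.range (AlgSp.Points.map iY.hom), AlgSp.IsFlatAtMor f.hom y) (j : U ⟶ X)
    (hj : AlgSp.RepWith @IsOpenImmersion j.hom)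
    (hU : Set.range (AlgSp.Points.map j.hom) = (Set.range (AlgSp.Points.map i.hom))ᶜ) :
    ∃ (ι : Type u) (W : ι → AlgSp.Space S) (w : ∀ k, W k ⟶ X),
      AlgSp.IsFpqcCover (fun k => (W k).obj) (fun k => (w k).hom) ∧
        ∀ k, (∃ l : W k ⟶ U, l ≫ j = w k) ∨ (∃ l : W k ⟶ Y, l ≫ f = w k) := by
  have : Mono j.hom := mono_of_repWith (fun _ _ g (_ : IsOpenImmersion g) => inferInstance) hj
  obtain ⟨X₀, p, hpe, hps⟩ := X.property.atlas
  let T : X₀.left.affineOpens → Over S := fun a => Over.mk (a.1.ι ≫ X₀.hom)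
  have hTa : ∀ a, IsAffine (T a).left := fun a => a.2
  let b : ∀ a, (yon S).obj (T a) ⟶ X.obj := fun a => (yon S).map (Over.homMk a.1.ι rfl) ≫ p
  have hb : ∀ a, RepWith @Etale (b a) := fun a =>
    repWith_comp ((repWith_yon_map_iff _ _).2 (inferInstanceAs (Etale a.1.ι))) hpe
  have hbs : ∀ x : Points X.obj, ∃ a, x ∈ Set.range (Points.map (b a)) := by
    intro x
    obtain ⟨t, rfl⟩ := surjective_ofPt_of_repWith hps x
    obtain ⟨W, hW, ht, -⟩ := X₀.left.isBasis_affineOpens.exists_subset_of_mem_open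
      (Set.mem_univ t) isOpen_univ
    obtain ⟨W, hW', rfl⟩ := hW
    refine ⟨⟨W, hW'⟩, Points.ofScheme _ (⟨t, ht⟩ : ↥(W : X₀.left.Opens)), ?_⟩
    exact ((ofPt_eq_map _ _).symm.trans (ofPt_comp_yon _ p _))
  have key := fun a => haveI := hTa a; exists_chart_cover f hqc i hi hifp iY fZ hFZ hflat j hj hU (b a) (hb a)
  choose n hn W c hWaff hflatc hsurj hlift using key
  have hinner : ∀ a, IsFpqcCover (fun k => (yon S).obj (W a k)) (fun k => (yon S).map (c a k)) :=
    fun a => haveI := hTa a; haveI := hn a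
      isFpqcCover_finite_affine (W a) (c a) (hWaff a) (hflatc a) (hsurj a)
  let Wr : (Σ a, n a) → AlgSp.Space S :=
    fun r => ⟨(yon S).obj (W r.1 r.2), IsAlgSpace.yon_obj _⟩
  let wr : ∀ r, Wr r ⟶ X := fun r => ObjectProperty.homMk ((yon S).map (c r.1 r.2) ≫ b r.1)
  have hcov := Groth.AlgSp2.isFpqcCover_sigma (Xij := fun a k => (yon S).obj (W a k)) (gij := fun a k => (yon S).map (c a k))
      X.property (fun a => IsAlgSpace.yon_obj (T a)) (fun a k => IsAlgSpace.yon_obj (W a k))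
      (Groth.AlgSp2.isFpqcCover_of_etale X.property b hb hbs) hinner
  have hfac : ∀ r, (∃ l : Wr r ⟶ U, l ≫ j = wr r) ∨ (∃ l : Wr r ⟶ Y, l ≫ f = wr r) := by
    rintro ⟨a, k⟩
    exact (hlift a k).imp (fun ⟨l, hl⟩ => ⟨ObjectProperty.homMk l, ObjectProperty.hom_ext _ hl⟩)
      (fun ⟨l, hl, _⟩ => ⟨ObjectProperty.homMk (l ≫ pullback.fst f.hom (b a)), ObjectProperty.hom_ext _ (by
        show (l ≫ pullback.fst f.hom (b a)) ≫ f.hom = (yon S).map (c a k) ≫ b a
        rw [Category.assoc, pullback.condition, ← Category.assoc, hl])⟩)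
  exact ⟨_, Wr, wr, hcov, hfac⟩

/-- The fpqc covering, with the charts it is built from. -/
theorem exists_cover' {X Y Z FZ U : AlgSp.Space S} (f : Y ⟶ X)
    (hqc : AlgSp.IsQuasiCompactMor f.hom) (i : Z ⟶ X)
    (hi : AlgSp.RepWith @IsClosedImmersion i.hom) (hifp : AlgSp.LocP @LocallyOfFinitePresentation i.hom)
    (iY : FZ ⟶ Y) (fZ : FZ ⟶ Z) (hFZ : IsPullback iY.hom fZ.hom f.hom i.hom) [IsIso fZ]
    (hflat : ∀ y ∈ Set.range (AlgSp.Points.map iY.hom), AlgSp.IsFlatAtMor f.hom y) (j : U ⟶ X)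
    (hj : AlgSp.RepWith @IsOpenImmersion j.hom)
    (hU : Set.range (AlgSp.Points.map j.hom) = (Set.range (AlgSp.Points.map i.hom))ᶜ) :
    ∃ (ι : Type u) (T W : ι → Over S) (b : ∀ r, (yon S).obj (T r) ⟶ X.obj) (c : ∀ r, W r ⟶ T r),
      (∀ r, RepWith @Etale (b r)) ∧ (∀ r, IsAffine (T r).left) ∧ (∀ r, IsAffine (W r).left) ∧
      (∀ r, Flat (c r).left) ∧
      IsFpqcCover (fun r => (yon S).obj (W r)) (fun r => (yon S).map (c r) ≫ b r) ∧
      ∀ r, (∃ l, l ≫ j.hom = (yon S).map (c r) ≫ b r) ∨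
        (∃ l : (yon S).obj (W r) ⟶ pullback f.hom (b r),
          l ≫ pullback.snd f.hom (b r) = (yon S).map (c r) ∧ RepWith @Flat l) := by
  obtain ⟨X₀, p, hpe, hps⟩ := X.property.atlas
  let T : X₀.left.affineOpens → Over S := fun a => Over.mk (a.1.ι ≫ X₀.hom)
  have hTa : ∀ a, IsAffine (T a).left := fun a => a.2
  let b : ∀ a, (yon S).obj (T a) ⟶ X.obj := fun a => (yon S).map (Over.homMk a.1.ι rfl) ≫ p
  have hb : ∀ a, RepWith @Etale (b a) := fun a =>
    repWith_comp ((repWith_yon_map_iff _ _).2 (inferInstanceAs (Etale a.1.ι))) hpe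
  have hbs : ∀ x : Points X.obj, ∃ a, x ∈ Set.range (Points.map (b a)) := by
    intro x
    obtain ⟨t, rfl⟩ := surjective_ofPt_of_repWith hps x
    obtain ⟨W, hW, ht, -⟩ := X₀.left.isBasis_affineOpens.exists_subset_of_mem_open
      (Set.mem_univ t) isOpen_univ
    obtain ⟨W, hW', rfl⟩ := hW
    refine ⟨⟨W, hW'⟩, Points.ofScheme _ (⟨t, ht⟩ : ↥(W : X₀.left.Opens)), ?_⟩
    exact ((ofPt_eq_map _ _).symm.trans (ofPt_comp_yon _ p _))
  have key := fun a => haveI := hTa a
    exists_chart_cover f hqc i hi hifp iY fZ hFZ hflat j hj hU (b a) (hb a)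
  choose n hn W c hWaff hflatc hsurj hlift using key
  exact ⟨_, fun r : (Σ a, n a) => T r.1, fun r => W r.1 r.2, fun r => b r.1, fun r => c r.1 r.2,
    fun r => hb r.1, fun r => hTa r.1, fun r => hWaff r.1 r.2, fun r => hflatc r.1 r.2,
    Groth.AlgSp2.isFpqcCover_sigma (Xij := fun a k => (yon S).obj (W a k))
      (gij := fun a k => (yon S).map (c a k))
      X.property (fun a => IsAlgSpace.yon_obj (T a)) (fun a k => IsAlgSpace.yon_obj (W a k))
      (Groth.AlgSp2.isFpqcCover_of_etale X.property b hb hbs)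
      (fun a => haveI := hTa a; haveI := hn a
        isFpqcCover_finite_affine (W a) (c a) (hWaff a) (hflatc a) (hsurj a)),
    fun r => hlift r.1 r.2⟩

end

end Groth.AlgSpBasic.FormalGlueCover
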