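import Groth.Agent.AlgSpBasic.FpqcHom
import Groth.Agent.AlgSpBasic.AlgSpace
import Groth.Agent.AlgSp2.FpqcCoverBasic

/-!
# Colimits of algebraic spaces are fpqc local
-/

set_option autoImplicit false
set_option backward.isDefEq.respectTransparency.types false
universe w v u

open CategoryTheory CategoryTheory.Limits AlgebraicGeometry Opposite AlgSp

namespace Groth.AlgSpBasic

noncomputable section

variable {S : Scheme.{u}} {B : Space S} {I : Type v} [Category.{w} I] {D : I ⥤ Over B} (c : Cocone D)
  {U : Over B} (u : U ⟶ c.pt)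

/-- The fibre product of a member of a diagram with a space over the vertex. -/
def pbSpace (i : I) : Space S :=
  ⟨pullback u.left.hom (c.ι.app i).left.hom, isAlgSpace_pullback _ _ _ _ _⟩

/-- Its projection to `U`. -/
def pbFst (i : I) : pbSpace c u i ⟶ U.left :=
  ObjectProperty.homMk (pullback.fst u.left.hom (c.ι.app i).left.hom)

/-- Its projection to the member. -/
def pbSnd (i : I) : pbSpace c u i ⟶ (D.obj i).left :=
  ObjectProperty.homMk (pullback.snd u.left.hom (c.ι.app i).left.hom)

theorem pb_cond (i : I) : pbFst c u i ≫ u.left = pbSnd c u i ≫ (c.ι.app i).left :=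
  ObjectProperty.hom_ext _ pullback.condition

/-- The map between fibre products induced by a transition map. -/
def pbMap {i j : I} (φ : i ⟶ j) : pbSpace c u i ⟶ pbSpace c u j :=
  ObjectProperty.homMk (pullback.lift
    (pullback.fst u.left.hom (c.ι.app i).left.hom)
    (pullback.snd u.left.hom (c.ι.app i).left.hom ≫ (D.map φ).left.hom) (by
      refine pullback.condition.trans ?_
      rw [Category.assoc]
      exact congrArg (pullback.snd _ _ ≫ ·)
        (congrArg (fun k : D.obj i ⟶ c.pt => k.left.hom) (c.w φ)).symm))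

theorem pbMap_fst {i j : I} (φ : i ⟶ j) : pbMap c u φ ≫ pbFst c u j = pbFst c u i :=
  ObjectProperty.hom_ext _ (pullback.lift_fst _ _ _)

theorem pbMap_snd {i j : I} (φ : i ⟶ j) : pbMap c u φ ≫ pbSnd c u j = pbSnd c u i ≫ (D.map φ).left :=
  ObjectProperty.hom_ext _ (pullback.lift_snd _ _ _)

theorem pb_hom_ext {T : Space S} {j : I} {f g : T ⟶ pbSpace c u j}
    (h₁ : f ≫ pbFst c u j = g ≫ pbFst c u j) (h₂ : f ≫ pbSnd c u j = g ≫ pbSnd c u j) : f = g :=
  ObjectProperty.hom_ext _ (pullback.hom_ext (congrArg (·.hom) h₁) (congrArg (·.hom) h₂))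

/-- The base change of a diagram along a map to the vertex of a cocone. -/
def pbDiagram : I ⥤ Over B where
  obj i := Over.mk (pbFst c u i ≫ U.hom)
  map {i j} φ := Over.homMk (pbMap c u φ) (by
    show pbMap c u φ ≫ pbFst c u j ≫ U.hom = pbFst c u i ≫ U.hom
    rw [← Category.assoc, pbMap_fst])
  map_id i := Over.OverMorphism.ext (pb_hom_ext c u
    ((pbMap_fst c u _).trans (Category.id_comp _).symm)
    ((pbMap_snd c u _).trans (by rw [D.map_id]; exact (Category.comp_id _).trans (Category.id_comp _).symm)))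
  map_comp {i j k} φ ψ := Over.OverMorphism.ext (pb_hom_ext c u
    (by
      show pbMap c u (φ ≫ ψ) ≫ _ = (pbMap c u φ ≫ pbMap c u ψ) ≫ _
      rw [Category.assoc, pbMap_fst, pbMap_fst, pbMap_fst])
    (by
      show pbMap c u (φ ≫ ψ) ≫ _ = (pbMap c u φ ≫ pbMap c u ψ) ≫ _
      rw [Category.assoc, pbMap_snd, pbMap_snd, ← Category.assoc, pbMap_snd, Category.assoc, D.map_comp]
      rfl))

/-- The projection to the diagram. -/
def pbProj : pbDiagram c u ⟶ D where
  app i := Over.homMk (pbSnd c u i) (by
    show pbSnd c u i ≫ (D.obj i).hom = pbFst c u i ≫ U.hom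
    rw [← Over.w u, ← Category.assoc (pbFst c u i), pb_cond, Category.assoc]
    exact congrArg (pbSnd c u i ≫ ·) (Over.w (c.ι.app i)).symm)
  naturality i j φ := Over.OverMorphism.ext (ObjectProperty.hom_ext _ (pullback.lift_snd _ _ _))

/-- The projection to `U`. -/
def pbLeg : pbDiagram c u ⟶ (Functor.const I).obj U where
  app i := Over.homMk (pbFst c u i) rfl
  naturality i j φ := Over.OverMorphism.ext (ObjectProperty.hom_ext _
    ((pullback.lift_fst _ _ _).trans (Category.comp_id _).symm))

theorem pbLeg_comp (i : I) : (pbLeg c u).app i ≫ u = (pbProj c u).app i ≫ c.ι.app i :=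
  Over.OverMorphism.ext (pb_cond c u i)

theorem isPullback_pbLeg (i : I) : IsPullback ((pbLeg c u).app i).left.hom ((pbProj c u).app i).left.hom
    u.left.hom (c.ι.app i).left.hom :=
  IsPullback.of_hasPullback _ _

variable {κ : Type u} (Ua : κ → Over B) (ua : ∀ a, Ua a ⟶ c.pt)

theorem isColimit_of_isFpqcCover
    (hcov : IsFpqcCover (fun a => (Ua a).left.obj) (fun a => (ua a).left.hom))
    (h₁ : ∀ (a : κ) (Da : I ⥤ Over B) (α : Da ⟶ D) (ι : Da ⟶ (Functor.const I).obj (Ua a)),
      (∀ i, IsPullback (ι.app i).left.hom (α.app i).left.hom (ua a).left.hom (c.ι.app i).left.hom) →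
        Nonempty (IsColimit (Cocone.mk (Ua a) ι)))
    (h₂ : ∀ (a b : κ) (Uab : Over B) (pa : Uab ⟶ Ua a) (pb : Uab ⟶ Ua b),
      IsPullback pa.left.hom pb.left.hom (ua a).left.hom (ua b).left.hom →
      ∀ (Dab : I ⥤ Over B) (α : Dab ⟶ D) (ι : Dab ⟶ (Functor.const I).obj Uab),
        (∀ i, IsPullback (ι.app i).left.hom (α.app i).left.hom (pa ≫ ua a).left.hom (c.ι.app i).left.hom) →
          Nonempty (IsColimit (Cocone.mk Uab ι))) :
    Nonempty (IsColimit c) := by
  have hc₁ := fun a => (h₁ a _ _ _ (isPullback_pbLeg c (ua a))).some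
  have key : ∀ s : Cocone D, ∃ b : c.pt ⟶ s.pt, ∀ i, c.ι.app i ≫ b = s.ι.app i := by
    intro s
    let sa : ∀ a, Cocone (pbDiagram c (ua a)) := fun a =>
      Cocone.mk s.pt (pbProj c (ua a) ≫ s.ι)
    let f := fun a => (hc₁ a).desc (sa a)
    have hf : ∀ a i, (pbLeg c (ua a)).app i ≫ f a = (pbProj c (ua a)).app i ≫ s.ι.app i :=
      fun a i => (hc₁ a).fac (sa a) i
    have hcompat : ∀ (a b : κ) (W : Over S) (l : (yon S).obj W ⟶ (Ua a).left.obj)
        (l' : (yon S).obj W ⟶ (Ua b).left.obj),
        l ≫ (ua a).left.hom = l' ≫ (ua b).left.hom → l ≫ (f a).left.hom = l' ≫ (f b).left.hom := by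
      intro a b W l l' e
      let P : Space S := ⟨pullback (ua a).left.hom (ua b).left.hom, isAlgSpace_pullback _ _ _ _ _⟩
      let p₁ : P ⟶ (Ua a).left := ObjectProperty.homMk (pullback.fst _ _)
      let p₂ : P ⟶ (Ua b).left := ObjectProperty.homMk (pullback.snd _ _)
      have hp : p₁ ≫ (ua a).left = p₂ ≫ (ua b).left := ObjectProperty.hom_ext _ pullback.condition
      let Uab : Over B := Over.mk (p₁ ≫ (Ua a).hom)
      let pa : Uab ⟶ Ua a := Over.homMk p₁ rfl
      let pb : Uab ⟶ Ua b := Over.homMk p₂ (by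
        show p₂ ≫ (Ua b).hom = p₁ ≫ (Ua a).hom
        rw [← Over.w (ua b), ← Category.assoc, ← hp, Category.assoc, Over.w])
      have hp' : pa ≫ ua a = pb ≫ ua b := Over.OverMorphism.ext hp
      have hcab := (h₂ a b Uab pa pb (IsPullback.of_hasPullback _ _) _ _ _
        (isPullback_pbLeg c (pa ≫ ua a))).some
      have hfab : pa ≫ f a = pb ≫ f b := by
        refine hcab.hom_ext fun i => ?_
        have mk : ∀ (x : κ) (px : Uab ⟶ Ua x) (hx : px ≫ ua x = pa ≫ ua a),
            (pbLeg c (pa ≫ ua a)).app i ≫ px ≫ f x = (pbProj c (pa ≫ ua a)).app i ≫ s.ι.app i := by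
          intro x px hx
          let t : (pbDiagram c (pa ≫ ua a)).obj i ⟶ (pbDiagram c (ua x)).obj i :=
            Over.homMk (ObjectProperty.homMk (pullback.lift
              (pullback.fst (pa ≫ ua a).left.hom (c.ι.app i).left.hom ≫ px.left.hom)
              (pullback.snd (pa ≫ ua a).left.hom (c.ι.app i).left.hom)
              (by
                rw [Category.assoc, show px.left.hom ≫ (ua x).left.hom = (pa ≫ ua a).left.hom from
                  congrArg (fun k : Uab ⟶ c.pt => k.left.hom) hx]
                exact pullback.condition))) (by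
              refine ObjectProperty.hom_ext _ ?_
              show pullback.lift _ _ _ ≫ pullback.fst _ _ ≫ (Ua x).hom.hom =
                pullback.fst _ _ ≫ Uab.hom.hom
              refine (pullback.lift_fst_assoc _ _ _ _).trans ((Category.assoc _ _ _).trans ?_)
              exact congrArg (pullback.fst _ _ ≫ ·) (congrArg (·.hom) (Over.w px)))
          have e₁ : t ≫ (pbLeg c (ua x)).app i = (pbLeg c (pa ≫ ua a)).app i ≫ px :=
            Over.OverMorphism.ext (ObjectProperty.hom_ext _ (pullback.lift_fst _ _ _))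
          have e₂ : t ≫ (pbProj c (ua x)).app i = (pbProj c (pa ≫ ua a)).app i :=
            Over.OverMorphism.ext (ObjectProperty.hom_ext _ (pullback.lift_snd _ _ _))
          rw [← reassoc_of% e₁, hf, reassoc_of% e₂]
        exact (mk a pa rfl).trans (mk b pb hp'.symm).symm
      have := congrArg (pullback.lift l l' e ≫ ·) (congrArg (fun k : Uab ⟶ s.pt => k.left.hom) hfab)
      exact ((pullback.lift_fst_assoc _ _ _ _).symm.trans this).trans (pullback.lift_snd_assoc _ _ _ _)
    obtain ⟨b₀, hb₀⟩ := exists_desc_of_isFpqcCover _ s.pt.left.property hcov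
      (fun a => (f a).left.hom) hcompat
    let b : c.pt ⟶ s.pt := Over.homMk (ObjectProperty.homMk b₀) (by
      refine ObjectProperty.hom_ext _ (hom_ext_of_isFpqcCover _ B.property hcov fun a => ?_)
      show (ua a).left.hom ≫ b₀ ≫ s.pt.hom.hom = (ua a).left.hom ≫ c.pt.hom.hom
      rw [reassoc_of% (hb₀ a)]
      exact (congrArg (·.hom) (Over.w (f a))).trans (congrArg (·.hom) (Over.w (ua a))).symm)
    refine ⟨b, fun i => Over.OverMorphism.ext (ObjectProperty.hom_ext _ ?_)⟩
    refine hom_ext_of_isFpqcCover _ s.pt.left.property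
      (Groth.AlgSp2.isFpqcCover_baseChange (Xi' := fun a => pullback (ua a).left.hom (c.ι.app i).left.hom)
        (q := fun a => pullback.snd _ _) (p := fun a => pullback.fst _ _)
        c.pt.left.property (D.obj i).left.property (fun a => (Ua a).left.property)
        (fun a => (IsPullback.of_hasPullback _ _).flip) hcov) fun a => ?_
    show pullback.snd _ _ ≫ (c.ι.app i).left.hom ≫ b₀ = _
    rw [← pullback.condition_assoc, hb₀]
    exact congrArg (fun k : (pbDiagram c (ua a)).obj i ⟶ s.pt => k.left.hom) (hf a i)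
  choose b hb using key
  refine ⟨{ desc := b, fac := fun s i => hb s i, uniq := fun s m hm => ?_ }⟩
  refine Over.OverMorphism.ext (ObjectProperty.hom_ext _
    (hom_ext_of_isFpqcCover _ s.pt.left.property hcov fun a => ?_))
  have : ua a ≫ m = ua a ≫ b s := (hc₁ a).hom_ext fun i => by
    show (pbLeg c (ua a)).app i ≫ ua a ≫ m = (pbLeg c (ua a)).app i ≫ ua a ≫ b s
    rw [← Category.assoc, ← Category.assoc, pbLeg_comp, Category.assoc, Category.assoc, hm, hb]
  exact congrArg (fun k : Ua a ⟶ s.pt => k.left.hom) this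

end

end Groth.AlgSpBasic
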