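import Groth.Agent.AlgSpBasic.FpqcSheaf
import Groth.Prelude.Def_AlgSpCov

/-!
# Morphisms into algebraic spaces satisfy descent for fpqc coverings of spaces
-/

set_option autoImplicit false
set_option backward.isDefEq.respectTransparency.types false
universe u

open CategoryTheory CategoryTheory.Limits AlgebraicGeometry Opposite AlgSp

namespace Groth.AlgSpBasic

noncomputable section

variable {S : Scheme.{u}} {ι : Type u} {T : Sp S} {Y : ι → Sp S} (g : ∀ i, Y i ⟶ T)

/-- The test maps over which a point of `T` lifts to some `Y i`. -/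
def liftSieve {Z : Over S} (h : (yon S).obj Z ⟶ T) : Sieve Z where
  arrows W c := ∃ (i : ι) (l : (yon S).obj W ⟶ Y i), l ≫ g i = (yon S).map c ≫ h
  downward_closed := by
    rintro W W' c ⟨i, l, hl⟩ d
    exact ⟨i, (yon S).map d ≫ l, by rw [Category.assoc, hl, Functor.map_comp, Category.assoc]⟩

/-- For an fpqc covering, the lifting sieve covers. -/
theorem liftSieve_mem (hg : IsFpqcCover Y g) {Z : Over S} (h : (yon S).obj Z ⟶ T) :
    liftSieve g h ∈ (Scheme.fpqcTopology.over S) Z := by
  have haff : ∀ (Z : Over S), IsAffine Z.left → ∀ h : (yon S).obj Z ⟶ T,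
      liftSieve g h ∈ (Scheme.fpqcTopology.over S) Z := by
    intro Z hZ h
    obtain ⟨m, W, c, hW, hc, hs, hl⟩ := hg.2 Z hZ h
    let 𝒰 : Scheme.Cover.{u} (Scheme.precoverage @Flat) Z.left :=
      Scheme.Cover.mkOfCovers (ULift.{u} (Fin m)) (fun j => (W j.down).left) (fun j => (c j.down).left)
        (fun z => by
          obtain ⟨j, w, hw⟩ := hs z
          exact ⟨⟨j⟩, w, hw⟩)
        (fun j => hc j.down)
    haveI : ∀ j, IsAffine (𝒰.X j) := fun j => hW j.down
    haveI : ∀ j, QuasiCompact (𝒰.f j) := fun j => (quasiCompact_iff_compactSpace _).2 inferInstance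
    haveI : Finite 𝒰.I₀ := inferInstanceAs (Finite (ULift (Fin m)))
    haveI : QuasiCompactCover 𝒰.1 := QuasiCompactCover.of_finite
    rw [GrothendieckTopology.mem_over_iff]
    refine GrothendieckTopology.superset_covering _ ?_
      (show Sieve.ofArrows 𝒰.X 𝒰.f ∈ Scheme.fpqcTopology Z.left from 𝒰.mem_propQCTopology)
    rw [Sieve.ofArrows, Sieve.generate_le_iff]
    rintro _ _ ⟨j⟩
    rw [Sieve.overEquiv_iff]
    have : (Over.homMk (𝒰.f j) rfl : Over.mk (𝒰.f j ≫ Z.hom) ⟶ Z) =
        (Over.homMk (𝟙 _) ((Category.id_comp _).trans (Over.w (c j.down)).symm) :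
          Over.mk (𝒰.f j ≫ Z.hom) ⟶ W j.down) ≫ c j.down :=
      Over.OverMorphism.ext (Category.id_comp _).symm
    rw [this]
    exact Sieve.downward_closed _ (hl j.down) _
  let Zc : Z.left.affineCover.I₀ → Over S := fun k => Over.mk (Z.left.affineCover.f k ≫ Z.hom)
  let z : ∀ k, Zc k ⟶ Z := fun k => Over.homMk (Z.left.affineCover.f k) rfl
  refine GrothendieckTopology.transitive _ (S := Sieve.ofArrows Zc z) ?_ _ ?_
  · rw [GrothendieckTopology.mem_over_iff]
    refine GrothendieckTopology.superset_covering _ ?_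
      (Scheme.zariskiTopology_le_fpqcTopology _ (Precoverage.generate_mem_toGrothendieck Z.left.affineCover.mem₀))
    rw [Sieve.generate_le_iff]
    rintro _ _ ⟨k⟩
    rw [Sieve.overEquiv_iff]
    exact Sieve.le_generate _ _ _ ⟨k⟩
  · rintro V _ ⟨_, a, _, ⟨k⟩, rfl⟩
    rw [Sieve.pullback_comp]
    refine GrothendieckTopology.pullback_stable _ a ?_
    refine GrothendieckTopology.superset_covering _ ?_
      (haff (Zc k) (inferInstanceAs (IsAffine (Z.left.affineCover.X k))) ((yon S).map (z k) ≫ h))
    rintro W d ⟨i, l, hl⟩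
    exact ⟨i, l, by rw [hl, Functor.map_comp, Category.assoc]⟩

variable {B : Sp S}

/-- Sections of `B` are determined on the lifting sieve. -/
theorem eq_of_liftSieve (hB : IsAlgSpace B) (hg : IsFpqcCover Y g) {Z : Over S} (h : (yon S).obj Z ⟶ T)
    {a b : (yon S).obj Z ⟶ B}
    (hab : ∀ (W : Over S) (c : W ⟶ Z), liftSieve g h c → (yon S).map c ≫ a = (yon S).map c ≫ b) : a = b := by
  refine yEquiv.injective ((isSheaf_fpqc hB _ (liftSieve_mem g hg h)).isSeparatedFor.ext fun W c hc => ?_)
  exact ((J S).uliftYonedaEquiv_naturality a c).trans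
    ((congrArg _ (hab W c hc)).trans ((J S).uliftYonedaEquiv_naturality b c).symm)

/-- Morphisms to an algebraic space agreeing on an fpqc covering are equal. -/
theorem hom_ext_of_isFpqcCover (hB : IsAlgSpace B) (hg : IsFpqcCover Y g) {a b : T ⟶ B}
    (h : ∀ i, g i ≫ a = g i ≫ b) : a = b := by
  have key : ∀ (Z : Over S) (x : (yon S).obj Z ⟶ T), x ≫ a = x ≫ b := fun Z x => by
    refine eq_of_liftSieve g hB hg x fun W c hc => ?_
    obtain ⟨i, l, hl⟩ := hc
    rw [← Category.assoc, ← hl, Category.assoc, h, ← Category.assoc, hl, Category.assoc]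
  ext Z x
  have := congrArg yEquiv (key Z.unop (yEquiv.symm x))
  simp only [yEquiv, GrothendieckTopology.uliftYonedaEquiv_comp, Equiv.apply_symm_apply] at this
  exact this

/-- Morphisms to an algebraic space glue along an fpqc covering. -/
theorem exists_desc_of_isFpqcCover (hB : IsAlgSpace B) (hg : IsFpqcCover Y g) (bi : ∀ i, Y i ⟶ B)
    (hbi : ∀ i j (W : Over S) (l : (yon S).obj W ⟶ Y i) (l' : (yon S).obj W ⟶ Y j),
      l ≫ g i = l' ≫ g j → l ≫ bi i = l' ≫ bi j) :
    ∃ b : T ⟶ B, ∀ i, g i ≫ b = bi i := by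
  have H : ∀ (Z : Over S) (h : (yon S).obj Z ⟶ T), ∃ y : (yon S).obj Z ⟶ B,
      ∀ (W : Over S) (c : W ⟶ Z) (i : ι) (l : (yon S).obj W ⟶ Y i),
        l ≫ g i = (yon S).map c ≫ h → (yon S).map c ≫ y = l ≫ bi i := by
    intro Z h
    let x : Presieve.FamilyOfElements B.obj (liftSieve g h).arrows := fun W c hc =>
      yEquiv (hc.choose_spec.choose ≫ bi hc.choose)
    have hx : x.Compatible := fun W₁ W₂ W g₁ g₂ c₁ c₂ h₁ h₂ e => by
      refine ((J S).uliftYonedaEquiv_naturality _ g₁).trans
        (Eq.trans (congrArg _ ?_) ((J S).uliftYonedaEquiv_naturality _ g₂).symm)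
      rw [← Category.assoc, ← Category.assoc]
      refine hbi _ _ _ _ _ ?_
      rw [Category.assoc, Category.assoc, h₁.choose_spec.choose_spec, h₂.choose_spec.choose_spec,
        ← Category.assoc, ← Category.assoc, ← Functor.map_comp, ← Functor.map_comp, e]
    obtain ⟨t, ht, -⟩ := isSheaf_fpqc hB _ (liftSieve_mem g hg h) x hx
    refine ⟨yEquiv.symm t, fun W c i l hl => yEquiv.injective ?_⟩
    refine ((J S).uliftYonedaEquiv_naturality _ c).symm.trans ?_
    rw [Equiv.apply_symm_apply]
    refine (ht c ⟨i, l, hl⟩).trans (congrArg yEquiv (hbi _ _ _ _ _ ?_))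
    exact (Exists.choose_spec (⟨i, l, hl⟩ : liftSieve g h c)).choose_spec.trans hl.symm
  choose y hy using H
  have hnat : ∀ {Z Z' : Over S} (d : Z' ⟶ Z) (h : (yon S).obj Z ⟶ T),
      (yon S).map d ≫ y Z h = y Z' ((yon S).map d ≫ h) := fun {Z Z'} d h => by
    refine eq_of_liftSieve g hB hg ((yon S).map d ≫ h) fun W c hc => ?_
    obtain ⟨i, l, hl⟩ := hc
    rw [hy Z' _ W c i l hl, ← Category.assoc, ← Functor.map_comp,
      hy Z h W (c ≫ d) i l (by rw [hl, Functor.map_comp, Category.assoc])]
  let b : T ⟶ B := ⟨{ app := fun Z => ↾fun t => yEquiv (y Z.unop (yEquiv.symm t))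
                      naturality := fun Z Z' d => by
                        refine ConcreteCategory.hom_ext _ _ fun t => ?_
                        show yEquiv (y Z'.unop (yEquiv.symm (T.obj.map d t))) =
                          B.obj.map d (yEquiv (y Z.unop (yEquiv.symm t)))
                        refine Eq.trans ?_ ((J S).uliftYonedaEquiv_naturality (y Z.unop (yEquiv.symm t)) d.unop).symm
                        rw [show yEquiv.symm (T.obj.map d t) = (yon S).map d.unop ≫ yEquiv.symm t from
                          yEquiv.injective (by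
                            rw [Equiv.apply_symm_apply]
                            refine Eq.trans ?_ ((J S).uliftYonedaEquiv_naturality (yEquiv.symm t) d.unop)
                            rw [Equiv.apply_symm_apply]; rfl), hnat] }⟩
  refine ⟨b, fun i => ?_⟩
  ext Z t
  let l := yEquiv.symm t
  have h1 := hy Z.unop (l ≫ g i) Z.unop (𝟙 _) i l (by simp)
  rw [(yon S).map_id, Category.id_comp] at h1
  show yEquiv (y Z.unop (yEquiv.symm ((g i).hom.app Z t))) = (bi i).hom.app Z t
  have e : yEquiv.symm ((g i).hom.app Z t) = l ≫ g i := yEquiv.injective (by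
    simp only [l, yEquiv, GrothendieckTopology.uliftYonedaEquiv_comp, Equiv.apply_symm_apply])
  rw [e, h1]
  simp only [l, yEquiv, GrothendieckTopology.uliftYonedaEquiv_comp, Equiv.apply_symm_apply]

end

end Groth.AlgSpBasic
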