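import Groth.Agent.AlgSpBasic.Glue
import Groth.Agent.AlgSpBasic.RepWith
import Groth.Agent.AlgSpBasic.Diag
import Groth.Agent.Pi1Desc.IndQuasiAffine
import Groth.Agent.MiscGeom.OverTotal
import Groth.Agent.AlgSp2.LocPFpqc
import Mathlib.AlgebraicGeometry.Morphisms.LocalFlatDescent
import Mathlib.AlgebraicGeometry.Sites.Fpqc

/-!
# Algebraic spaces are fpqc sheaves
-/

set_option autoImplicit false
set_option backward.isDefEq.respectTransparency.types false
universe u

open CategoryTheory CategoryTheory.Limits AlgebraicGeometry Opposite AlgSp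

namespace Groth.AlgSpBasic

noncomputable section

variable {S : Scheme.{u}} {X : Sp S}

open Groth.Pi1Desc in
/-- Sections of a sheaf with representable diagonal are determined on an fpqc cover. -/
theorem eq_of_isCover (hX : Representable (Limits.diag X)) {T' T : Over S} (p : T' ⟶ T) [IsCover p.left]
    {a b : (yon S).obj T ⟶ X} (h : (yon S).map p ≫ a = (yon S).map p ≫ b) : a = b := by
  obtain ⟨E, e, fst, sq⟩ := hX (prod.lift a b)
  have hl : ((yon S).map p ≫ a) ≫ Limits.diag X = (yon S).map p ≫ prod.lift a b := by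
    refine prod.hom_ext ?_ ?_
    · simp only [Category.assoc, prod.lift_fst, Category.comp_id]
    · simp only [Category.assoc, prod.lift_snd, Category.comp_id]; exact h
  haveI : Mono ((yon S).map e) :=
    MorphismProperty.of_isPullback (P := MorphismProperty.monomorphisms (Sp S)) sq
      (inferInstanceAs (Mono (Limits.diag X)))
  haveI : Mono e := (yon S).mono_of_mono_map ‹_›
  haveI : Mono e.left := inferInstanceAs (Mono ((Over.forget S).map e))
  obtain ⟨l, hl₂⟩ : ∃ l : T' ⟶ E, l ≫ e = p := by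
    obtain ⟨l, hl'⟩ := (yon S).map_surjective (sq.lift _ _ hl)
    exact ⟨l, (yon S).map_injective (by rw [Functor.map_comp, hl']; exact sq.lift_snd _ _ hl)⟩
  have hl₂' : l.left ≫ e.left = p.left := congrArg CommaMorphism.left hl₂
  haveI : EffectiveEpi p.left := IsCover.effectiveEpi p.left
  let s := EffectiveEpi.desc p.left l.left fun {Z} g g' hg => by
    rw [← cancel_mono e.left]
    simpa only [Category.assoc, hl₂'] using hg
  have hs : s ≫ e.left = 𝟙 _ := by
    rw [← cancel_epi p.left, EffectiveEpi.fac_assoc, hl₂', Category.comp_id]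
  let s' : T ⟶ E := Over.homMk s (by
    show s ≫ E.hom = T.hom
    rw [← Over.w e, ← Category.assoc, hs, Category.id_comp])
  have hs' : (yon S).map s' ≫ (yon S).map e = 𝟙 _ := by
    rw [← Functor.map_comp, ← CategoryTheory.Functor.map_id]
    exact congrArg _ (Over.OverMorphism.ext hs)
  have key : prod.lift a b = ((yon S).map s' ≫ fst) ≫ Limits.diag X := by
    rw [Category.assoc, sq.w, ← Category.assoc, hs', Category.id_comp]
  have h1 := congrArg (· ≫ prod.fst) key
  have h2 := congrArg (· ≫ prod.snd) key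
  simp only [prod.lift_fst, prod.lift_snd, Category.assoc, Category.comp_id] at h1 h2
  exact h1.trans h2.symm

/-- The fppf sheaf property of `X` for families. -/
theorem isSheafFor_fppf {ι : Type u} {Q : ι → Over S} {Z : Over S} (π : ∀ i, Q i ⟶ Z)
    (h : Presieve.ofArrows (fun i => (Q i).left) (fun i => (π i).left) ∈ Scheme.fppfPrecoverage Z.left) :
    Presieve.IsSheafFor X.obj (Presieve.ofArrows Q π) := by
  have hs : Presieve.IsSheaf (J S) X.obj := (isSheaf_iff_isSheaf_of_type _ _).1 X.property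
  refine (Presieve.isSheafFor_iff_generate _).2 (hs _ ?_)
  rw [J_eq, GrothendieckTopology.mem_over_iff]
  refine GrothendieckTopology.superset_covering _ ?_ (Precoverage.generate_mem_toGrothendieck h)
  rw [Sieve.generate_le_iff]
  rintro _ _ ⟨i⟩
  rw [Sieve.overEquiv_iff]
  exact ⟨Q i, Over.homMk (𝟙 _) (by simp), π i, ⟨i⟩, by ext; simp⟩

theorem exists_glue_of_fppf {ι : Type u} {Q : ι → Over S} {Z : Over S} (π : ∀ i, Q i ⟶ Z)
    (h : Presieve.ofArrows (fun i => (Q i).left) (fun i => (π i).left) ∈ Scheme.fppfPrecoverage Z.left)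
    (a : ∀ i, (yon S).obj (Q i) ⟶ X)
    (ha : ∀ i j (T : Over S) (p : T ⟶ Q i) (q : T ⟶ Q j), p ≫ π i = q ≫ π j →
      (yon S).map p ≫ a i = (yon S).map q ≫ a j) :
    ∃ g : (yon S).obj Z ⟶ X, ∀ i, (yon S).map (π i) ≫ g = a i := by
  obtain ⟨t, ht, -⟩ := (Presieve.isSheafFor_arrows_iff _ _).1 (isSheafFor_fppf π h) (fun i => yEquiv (a i))
    fun i j T p q e => by
      refine ((J S).uliftYonedaEquiv_naturality (a i) p).trans ?_
      refine Eq.trans ?_ ((J S).uliftYonedaEquiv_naturality (a j) q).symm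
      exact congrArg _ (ha i j T p q e)
  refine ⟨yEquiv.symm t, fun i => yEquiv.injective ?_⟩
  refine ((J S).uliftYonedaEquiv_naturality _ _).symm.trans ?_
  rw [Equiv.apply_symm_apply]
  exact ht i

theorem eq_of_fppf {ι : Type u} {Q : ι → Over S} {Z : Over S} (π : ∀ i, Q i ⟶ Z)
    (h : Presieve.ofArrows (fun i => (Q i).left) (fun i => (π i).left) ∈ Scheme.fppfPrecoverage Z.left)
    {a b : (yon S).obj Z ⟶ X} (he : ∀ i, (yon S).map (π i) ≫ a = (yon S).map (π i) ≫ b) : a = b := by
  refine yEquiv.injective ((isSheafFor_fppf π h).isSeparatedFor.ext ?_)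
  rintro V _ ⟨i⟩
  exact ((J S).uliftYonedaEquiv_naturality a (π i)).trans
    ((congrArg _ (he i)).trans ((J S).uliftYonedaEquiv_naturality b (π i)).symm)

theorem ofArrows_mem_fppf_of_etale {ι : Type u} {B : Scheme.{u}} {A : ι → Scheme.{u}} (π : ∀ i, A i ⟶ B)
    [∀ i, Etale (π i)] (h : ∀ b : B, ∃ i, b ∈ Set.range (π i)) :
    Presieve.ofArrows A π ∈ Scheme.fppfPrecoverage B := by
  rw [Scheme.fppfPrecoverage, Scheme.ofArrows_mem_precoverage_iff]
  exact ⟨h, fun i => ⟨inferInstance, inferInstance⟩⟩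

open Groth.Pi1Desc in
/-- A section over a flat affine cover descends along a separated chart. -/
theorem exists_chart_desc (hX : Representable (Limits.diag X)) {Z' Z : Over S} (p : Z' ⟶ Z)
    [IsAffine Z'.left] [IsAffine Z.left] [Flat p.left] [Surjective p.left] (x' : (yon S).obj Z' ⟶ X)
    (hx : ∀ (T : Over S) (g g' : T ⟶ Z'), g ≫ p = g' ≫ p → (yon S).map g ≫ x' = (yon S).map g' ≫ x')
    {A : Over S} (a : (yon S).obj A ⟶ X) (ha : RepWith @Etale a) [IsSeparated A.hom] :
    ∃ (Q : Over S) (π : Q ⟶ Z) (s : (yon S).obj Q ⟶ X), Etale π.left ∧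
      (∀ (T : Over S) (g : T ⟶ Q) (g' : T ⟶ Z'), g ≫ π = g' ≫ p → (yon S).map g ≫ s = (yon S).map g' ≫ x') ∧
      ∀ (W : Over S) (w : W ⟶ A) (e : W ⟶ Z'), IsPullback ((yon S).map w) ((yon S).map e) a x' →
        ∀ t : ↥W.left, p.left (e.left t) ∈ Set.range π.left := by
  obtain ⟨W, w, e, sq⟩ := exists_pullback_yon ha.rep x'
  haveI : Etale e.left := repWith_fst_of_isPullback sq ha
  have hext : ∀ {T : Scheme.{u}} {g g' : T ⟶ W.left}, g ≫ w.left = g' ≫ w.left → g ≫ e.left = g' ≫ e.left →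
      g = g' := by
    intro T g g' h₁ h₂
    have hW : g' ≫ W.hom = g ≫ W.hom := by
      rw [← Over.w e, reassoc_of% h₂]
    let G : Over.mk (g ≫ W.hom) ⟶ W := Over.homMk g rfl
    let G' : Over.mk (g ≫ W.hom) ⟶ W := Over.homMk g' hW
    have : G = G' := (yon S).map_injective (sq.hom_ext
      (by rw [← Functor.map_comp, ← Functor.map_comp]; exact congrArg _ (Over.OverMorphism.ext h₁))
      (by rw [← Functor.map_comp, ← Functor.map_comp]; exact congrArg _ (Over.OverMorphism.ext h₂)))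
    exact congrArg CommaMorphism.left this
  let m : W.left ⟶ pullback A.hom Z'.hom := pullback.lift w.left e.left ((Over.w w).trans (Over.w e).symm)
  have hm₁ : m ≫ pullback.fst A.hom Z'.hom = w.left := pullback.lift_fst _ _ _
  have hm₂ : m ≫ pullback.snd A.hom Z'.hom = e.left := pullback.lift_snd _ _ _
  haveI : Mono m := ⟨fun g g' h => hext
    (by rw [← hm₁, ← Category.assoc, h, Category.assoc])
    (by rw [← hm₂, ← Category.assoc, h, Category.assoc])⟩
  haveI : IsSeparated e.left := by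
    rw [show e.left = m ≫ pullback.snd A.hom Z'.hom from (pullback.lift_snd _ _ _).symm]
    infer_instance
  -- the action
  have hlift : ∀ (T : Scheme.{u}) (v : T ⟶ W.left) (x : T ⟶ Z'.left), v ≫ e.left ≫ p.left = x ≫ p.left →
      ∃ l : T ⟶ W.left, l ≫ w.left = v ≫ w.left ∧ l ≫ e.left = x := by
    intro T v x hvx
    have hS : v ≫ W.hom = x ≫ Z'.hom := by
      rw [← Over.w e, ← Over.w p]
      simp only [Category.assoc, reassoc_of% hvx]
    let v' : Over.mk (x ≫ Z'.hom) ⟶ W := Over.homMk v hS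
    let x₁ : Over.mk (x ≫ Z'.hom) ⟶ Z' := Over.homMk x rfl
    have hc : (yon S).map (v' ≫ w) ≫ a = (yon S).map x₁ ≫ x' := by
      rw [Functor.map_comp, Category.assoc, sq.w, ← Category.assoc, ← Functor.map_comp]
      refine hx _ _ _ (Over.OverMorphism.ext ?_)
      simpa [v', x₁] using hvx
    obtain ⟨l, hl⟩ := (yon S).map_surjective (sq.lift _ _ hc)
    have h₁ : l ≫ w = v' ≫ w :=
      (yon S).map_injective (by rw [Functor.map_comp, hl]; exact sq.lift_fst _ _ hc)
    have h₂ : l ≫ e = x₁ :=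
      (yon S).map_injective (by rw [Functor.map_comp, hl]; exact sq.lift_snd _ _ hc)
    exact ⟨l.left, congrArg CommaMorphism.left h₁, congrArg CommaMorphism.left h₂⟩
  choose l hl₁ hl₂ using hlift
  let D : Act e.left p.left :=
    { act := fun {T} v x h => l T v x h
      act_hom := fun v x h => hl₂ _ v x h
      act_self := fun v x h hv => hext (hl₁ _ v x h) ((hl₂ _ v x h).trans hv.symm)
      act_act := fun v x y h h' h'' => hext
        ((hl₁ _ _ y h'').trans ((hl₁ _ v x h).trans (hl₁ _ v y h').symm))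
        ((hl₂ _ _ y h'').trans (hl₂ _ v y h').symm)
      act_comp := fun g v x h h' => hext
        ((hl₁ _ _ _ h').trans (by rw [Category.assoc, Category.assoc, hl₁ _ v x h]))
        ((hl₂ _ _ _ h').trans (by rw [Category.assoc, hl₂ _ v x h])) }
  haveI : LocallyQuasiFinite e.left := Groth.AlgSp2.locallyQuasiFinite_of_formallyUnramified e.left
  obtain ⟨Q₀, π₀, q₀, hpb, hcompat⟩ := D.eff_of_isIndQuasiAffineHom_of_isAffine
    (Groth.FlatMor2.isIndQuasiAffineHom_of_separated_locallyQuasiFinite (f := e.left))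
  haveI : IsCover q₀ := IsCover.of_isPullback hpb.flip
  haveI : EffectiveEpi q₀ := IsCover.effectiveEpi q₀
  haveI : Etale π₀ := MorphismProperty.of_isPullback_of_descendsAlong
    (P := @Etale) (Q := @Surjective ⊓ @Flat ⊓ @QuasiCompact) hpb.flip
    ⟨⟨inferInstance, inferInstance⟩, (quasiCompact_iff_compactSpace _).2 inferInstance⟩ inferInstance
  let c := EffectiveEpi.desc q₀ w.left fun {T} g g' hg => by
    have h0 : g ≫ e.left ≫ p.left = (g' ≫ e.left) ≫ p.left := by
      rw [← hpb.w, reassoc_of% hg, Category.assoc, hpb.w]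
    have : l T g (g' ≫ e.left) h0 = g' :=
      hpb.hom_ext ((hcompat T g (g' ≫ e.left) h0).trans hg) (hl₂ _ _ _ h0)
    exact (hl₁ _ _ _ h0).symm.trans (by rw [this])
  let Q : Over S := Over.mk (π₀ ≫ Z.hom)
  let π : Q ⟶ Z := Over.homMk π₀ rfl
  let cc : Q ⟶ A := Over.homMk c (by
    show c ≫ A.hom = π₀ ≫ Z.hom
    rw [← cancel_epi q₀, EffectiveEpi.fac_assoc, Over.w, reassoc_of% hpb.w, Over.w, Over.w])
  refine ⟨Q, π, (yon S).map cc ≫ a, ‹Etale π₀›, fun T g g' h => ?_, fun W' w' e' sq' t => ?_⟩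
  · have h' : g.left ≫ π₀ = g'.left ≫ p.left := congrArg CommaMorphism.left h
    let k₀ : T.left ⟶ W.left := hpb.lift g.left g'.left h'
    have hk₁ : k₀ ≫ q₀ = g.left := hpb.lift_fst _ _ _
    have hk₂ : k₀ ≫ e.left = g'.left := hpb.lift_snd _ _ _
    let k : T ⟶ W := Over.homMk k₀ (by rw [← Over.w e, reassoc_of% hk₂, Over.w])
    have hk : g ≫ cc = k ≫ w := Over.OverMorphism.ext (by
      show g.left ≫ c = k₀ ≫ w.left
      rw [← hk₁, Category.assoc, EffectiveEpi.fac])
    rw [← Category.assoc, ← Functor.map_comp, hk, Functor.map_comp, Category.assoc, sq.w, ← Category.assoc,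
      ← Functor.map_comp, show k ≫ e = g' from Over.OverMorphism.ext hk₂]
  · obtain ⟨k, hk⟩ := (yon S).map_surjective (sq.lift _ _ sq'.w)
    have hk' : k ≫ e = e' := (yon S).map_injective (by rw [Functor.map_comp, hk]; exact sq.lift_snd _ _ sq'.w)
    refine ⟨q₀ (k.left t), ?_⟩
    show π₀ (q₀ (k.left t)) = _
    rw [← hk', ← Scheme.Hom.comp_apply, hpb.w, Over.comp_left, Scheme.Hom.comp_apply, Scheme.Hom.comp_apply]

/-- Separated affine charts of an algebraic space, covering it. -/
theorem exists_separated_charts (hX : IsAlgSpace X) :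
    ∃ (ι : Type u) (A : ι → Over S) (a : ∀ i, (yon S).obj (A i) ⟶ X),
      (∀ i, IsSeparated (A i).hom) ∧ (∀ i, RepWith @Etale (a i)) ∧
      ∀ (Z : Over S) (x : (yon S).obj Z ⟶ X) (z : ↥Z.left), ∃ (i : ι) (W : Over S) (w : W ⟶ A i)
        (e : W ⟶ Z) (t : ↥W.left), IsPullback ((yon S).map w) ((yon S).map e) (a i) x ∧ e.left t = z := by
  obtain ⟨U, a, ha, has⟩ := hX.atlas
  have H : ∀ u : ↥U.left, ∃ V : U.left.Opens, u ∈ V ∧ IsAffineOpen V ∧
      ∃ W : S.Opens, IsAffineOpen W ∧ V ≤ U.hom ⁻¹ᵁ W := fun u => by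
    obtain ⟨W, hW, huW, -⟩ := exists_isAffineOpen_mem_and_subset (x := U.hom u) (U := ⊤) trivial
    obtain ⟨V, hV, huV, hVW⟩ :=
      exists_isAffineOpen_mem_and_subset (x := u) (U := U.hom ⁻¹ᵁ W) huW
    exact ⟨V, huV, hV, W, hW, hVW⟩
  choose V huV hV W hW hVW using H
  let k : ∀ u, Over.mk ((V u).ι ≫ U.hom) ⟶ U := fun u => Over.homMk (V u).ι rfl
  have hk : ∀ u, RepWith @Etale ((yon S).map (k u) ≫ a) := fun u =>
    repWith_comp ((repWith_yon_map_iff _ _).2 (inferInstanceAs (Etale (V u).ι))) ha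
  refine ⟨↥U.left, fun u => Over.mk ((V u).ι ≫ U.hom), fun u => (yon S).map (k u) ≫ a, fun u => ?_, hk,
    fun Z x z => ?_⟩
  · haveI : IsAffine (V u).toScheme := hV u
    haveI : IsAffine (W u).toScheme := hW u
    show IsSeparated ((V u).ι ≫ U.hom)
    rw [← Scheme.Hom.resLE_comp_ι U.hom (hVW u)]
    infer_instance
  obtain ⟨W₀, w₀, e₀, sq₀⟩ := exists_pullback_yon ha.rep x
  haveI : Surjective e₀.left := repWith_fst_of_isPullback sq₀ has
  obtain ⟨t₀, ht₀⟩ := e₀.left.surjective z
  let u := w₀.left t₀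
  obtain ⟨W₁, w₁, e₁, sq₁⟩ := exists_pullback_yon (hk u).rep x
  let T : Over S := Over.mk ((w₀.left ⁻¹ᵁ V u).ι ≫ W₀.hom)
  let jT : T ⟶ W₀ := Over.homMk (w₀.left ⁻¹ᵁ V u).ι rfl
  let wT : T ⟶ Over.mk ((V u).ι ≫ U.hom) := Over.homMk (w₀.left ∣_ V u) (by
    show (w₀.left ∣_ V u) ≫ (V u).ι ≫ U.hom = (w₀.left ⁻¹ᵁ V u).ι ≫ W₀.hom
    rw [morphismRestrict_ι_assoc, Over.w])
  have hwT : wT ≫ k u = jT ≫ w₀ := Over.OverMorphism.ext (morphismRestrict_ι _ _)
  have hc : (yon S).map wT ≫ (yon S).map (k u) ≫ a = (yon S).map (jT ≫ e₀) ≫ x := by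
    rw [← Category.assoc, ← Functor.map_comp, hwT, Functor.map_comp, Category.assoc, sq₀.w,
      Functor.map_comp, Category.assoc]
  obtain ⟨l, hl⟩ := (yon S).map_surjective (sq₁.lift _ _ hc)
  have hl' : l ≫ e₁ = jT ≫ e₀ :=
    (yon S).map_injective (by rw [Functor.map_comp, hl]; exact sq₁.lift_snd _ _ hc)
  refine ⟨u, W₁, w₁, e₁, l.left (⟨t₀, huV u⟩ : (w₀.left ⁻¹ᵁ V u).toScheme), sq₁, ?_⟩
  rw [← Scheme.Hom.comp_apply, ← Over.comp_left, hl', Over.comp_left, Scheme.Hom.comp_apply]
  exact ht₀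

open Groth.Pi1Desc in
/-- Descent of sections along a faithfully flat morphism of affine schemes. -/
theorem exists_desc_of_affine (hX : IsAlgSpace X) {Z' Z : Over S} (p : Z' ⟶ Z)
    [IsAffine Z'.left] [IsAffine Z.left] [Flat p.left] [Surjective p.left] (x' : (yon S).obj Z' ⟶ X)
    (hx : ∀ (T : Over S) (g g' : T ⟶ Z'), g ≫ p = g' ≫ p → (yon S).map g ≫ x' = (yon S).map g' ≫ x') :
    ∃ x : (yon S).obj Z ⟶ X, (yon S).map p ≫ x = x' := by
  obtain ⟨ι, A, a, hsep, ha, hcov⟩ := exists_separated_charts hX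
  have H := fun i => exists_chart_desc hX.diag p x' hx (a i) (ha i)
  choose Q π s hπ hs hrange using H
  haveI := hπ
  haveI : IsCover p.left := by
    haveI : QuasiCompact p.left := (quasiCompact_iff_compactSpace _).2 inferInstance
    infer_instance
  have hmem : Presieve.ofArrows (fun i => (Q i).left) (fun i => (π i).left) ∈ Scheme.fppfPrecoverage Z.left := by
    refine ofArrows_mem_fppf_of_etale _ fun z => ?_
    obtain ⟨z', rfl⟩ := p.left.surjective z
    obtain ⟨i, W, w, e, t, sq, rfl⟩ := hcov Z' x' z'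
    exact ⟨i, hrange i W w e sq t⟩
  obtain ⟨x, hxQ⟩ := exists_glue_of_fppf π hmem s fun i j T g g' hg => by
    let P := pullback (g ≫ π i).left p.left
    let P' : Over S := Over.mk (pullback.fst (g ≫ π i).left p.left ≫ T.hom)
    let p₁ : P' ⟶ T := Over.homMk (pullback.fst _ _) rfl
    let p₂ : P' ⟶ Z' := Over.homMk (pullback.snd (g ≫ π i).left p.left) (by
      show pullback.snd _ _ ≫ Z'.hom = pullback.fst _ _ ≫ T.hom
      rw [← Over.w p, ← Category.assoc, ← pullback.condition, Category.assoc, Over.w])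
    have hp : p₁ ≫ g ≫ π i = p₂ ≫ p := Over.OverMorphism.ext pullback.condition
    haveI : IsCover p₁.left := IsCover.of_isPullback (IsPullback.of_hasPullback _ p.left).flip
    refine eq_of_isCover hX.diag p₁ ?_
    rw [← Category.assoc, ← Category.assoc, ← Functor.map_comp, ← Functor.map_comp,
      hs i _ (p₁ ≫ g) p₂ (by rw [Category.assoc]; exact hp),
      hs j _ (p₁ ≫ g') p₂ (by rw [Category.assoc, ← hg]; exact hp)]
  refine ⟨x, ?_⟩
  let P : ι → Over S := fun i => Over.mk (pullback.snd (π i).left p.left ≫ Z'.hom)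
  let e : ∀ i, P i ⟶ Z' := fun i => Over.homMk (pullback.snd _ _) rfl
  let q : ∀ i, P i ⟶ Q i := fun i => Over.homMk (pullback.fst (π i).left p.left) (by
    show pullback.fst _ _ ≫ (Q i).hom = pullback.snd _ _ ≫ Z'.hom
    rw [← Over.w (π i), reassoc_of% pullback.condition (f := (π i).left) (g := p.left), Over.w])
  haveI : ∀ i, Etale (e i).left := fun i => MorphismProperty.pullback_snd _ _ (hπ i)
  refine eq_of_fppf e (ofArrows_mem_fppf_of_etale _ fun z' => ?_) fun i => ?_
  · obtain ⟨i, W, w, e', t, sq, rfl⟩ := hcov Z' x' z'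
    obtain ⟨y, hy⟩ := hrange i W w e' sq t
    obtain ⟨z, -, hz⟩ := Scheme.Pullback.exists_preimage_pullback y (e'.left t) hy
    exact ⟨i, z, hz⟩
  · have hq : q i ≫ π i = e i ≫ p := Over.OverMorphism.ext pullback.condition
    rw [← Category.assoc, ← Functor.map_comp, ← hq, Functor.map_comp, Category.assoc, hxQ i]
    exact hs i _ _ _ hq

open Groth.MiscGeom in
/-- An algebraic space is a sheaf for the fpqc topology. -/
theorem isSheaf_fpqc (hX : IsAlgSpace X) : Presieve.IsSheaf (Scheme.fpqcTopology.over S) X.obj := by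
  refine OverTotal.isSheaf_over_of_total (J := Scheme.fpqcTopology.{u}) _ ?_
  rw [Scheme.fpqcTopology_eq_propQCTopology, isSheaf_type_propQCTopology_iff]
  have hle : Scheme.zariskiTopology.{u}.over S ≤ J S := fun U R hR =>
    Precoverage.toGrothendieck_mono Scheme.zariskiPrecoverage_le_fppfPrecoverage _ hR
  refine ⟨OverTotal.isSheaf_total (J := Scheme.zariskiTopology.{u}) _
    (Presieve.isSheaf_of_le _ hle ((isSheaf_iff_isSheaf_of_type _ _).1 X.property)), fun {R R'} f hf hs => ?_⟩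
  rw [Presieve.isSheafFor_singleton]
  intro x hx
  haveI := hf; haveI := hs
  haveI : Groth.Pi1Desc.IsCover (Spec.map f) := inferInstance
  haveI : EffectiveEpi (Spec.map f) := Groth.Pi1Desc.IsCover.effectiveEpi _
  let a : Spec R ⟶ S := EffectiveEpi.desc (Spec.map f) x.1 fun g g' hg => congrArg Sigma.fst (hx g g' hg)
  have ha : Spec.map f ≫ a = x.1 := EffectiveEpi.fac _ _ _
  let Z : Over S := Over.mk a
  let Z' : Over S := Over.mk x.1
  let p : Z' ⟶ Z := Over.homMk (Spec.map f) ha
  haveI : IsAffine Z.left := inferInstanceAs (IsAffine (Spec R))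
  haveI : IsAffine Z'.left := inferInstanceAs (IsAffine (Spec R'))
  haveI : Flat p.left := hf
  haveI : Surjective p.left := hs
  haveI : Groth.Pi1Desc.IsCover p.left := ‹Groth.Pi1Desc.IsCover (Spec.map f)›
  have hcomp : ∀ (T : Over S) (g g' : T ⟶ Z'), g ≫ p = g' ≫ p →
      (yon S).map g ≫ yEquiv.symm x.2 = (yon S).map g' ≫ yEquiv.symm x.2 := by
    intro T g g' hg
    have h2 := OverTotal.snd_of_eq X.obj (hx g.left g'.left (congrArg CommaMorphism.left hg))
    have h3 := congrArg (X.obj.map (Over.homMk (𝟙 _) ((Category.id_comp _).trans (Over.w g')) :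
      T ⟶ Over.mk (g'.left ≫ x.1)).op) h2
    refine yEquiv.injective (((J S).uliftYonedaEquiv_naturality _ g).symm.trans (Eq.trans ?_
      ((J S).uliftYonedaEquiv_naturality _ g')))
    rw [Equiv.apply_symm_apply]
    refine Eq.trans ?_ (h3.trans ?_)
    · refine Eq.trans ?_ (((congrArg _ (OverTotal.map_map X.obj _ _ _)).trans (OverTotal.map_map X.obj _ _ _)).symm)
      refine OverTotal.map_eq X.obj ?_ _
      simp
    · refine (OverTotal.map_map X.obj _ _ _).trans (OverTotal.map_eq X.obj ?_ _)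
      simp
  obtain ⟨y, hy⟩ := exists_desc_of_affine hX p (yEquiv.symm x.2) hcomp
  have hy' : X.obj.map p.op (yEquiv y) = x.2 := by
    refine ((J S).uliftYonedaEquiv_naturality y p).trans ?_
    rw [hy, Equiv.apply_symm_apply]
  refine ⟨⟨a, yEquiv y⟩, ?_, fun q hq => ?_⟩
  · refine OverTotal.total_ext X.obj ha.symm ?_
    refine (OverTotal.map_map X.obj _ _ _).trans (Eq.trans (OverTotal.map_eq X.obj ?_ _) hy')
    simp [p]
  · have hfst : q.1 = a := (cancel_epi (Spec.map f)).1 ((congrArg Sigma.fst hq).trans ha.symm)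
    refine OverTotal.total_ext X.obj hfst.symm ?_
    refine yEquiv.symm.injective ?_
    rw [Equiv.symm_apply_apply]
    refine eq_of_isCover hX.diag p (hy.symm ▸ yEquiv.injective ?_)
    rw [Equiv.apply_symm_apply]
    refine ((J S).uliftYonedaEquiv_naturality _ p).symm.trans ?_
    rw [Equiv.apply_symm_apply]
    refine (OverTotal.map_map X.obj _ _ _).trans ?_
    refine Eq.trans ?_ (OverTotal.snd_of_eq X.obj hq)
    refine Eq.symm ((OverTotal.map_map X.obj _ _ _).trans (OverTotal.map_eq X.obj ?_ _))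
    simp [p]
    exact (Category.comp_id _).symm

end

end Groth.AlgSpBasic
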