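import Groth.Agent.AlgSpBasic.GlueHomAffine

/-!
# Morphisms of glueing data come from unique morphisms when the target is separated
-/

set_option autoImplicit false
set_option backward.isDefEq.respectTransparency.types false
universe u

open CategoryTheory CategoryTheory.Limits AlgebraicGeometry Opposite AlgSp
open scoped TensorProduct

namespace Groth.AlgSpBasic.GlueHom

noncomputable section

variable {S : Scheme.{u}}

@[reassoc]
theorem comp_lift {P X' Y' Z' : Sp S} {fst : P ⟶ X'} {snd : P ⟶ Y'} {f' : X' ⟶ Z'} {g' : Y' ⟶ Z'}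
    (sq : IsPullback fst snd f' g') {W W' : Sp S} (φ : W' ⟶ W) (x : W ⟶ X') (y : W ⟶ Y')
    (h : x ≫ f' = y ≫ g') :
    φ ≫ sq.lift x y h = sq.lift (φ ≫ x) (φ ≫ y) (by rw [Category.assoc, h, Category.assoc]) := by
  refine sq.hom_ext ?_ ?_
  · rw [Category.assoc, sq.lift_fst, sq.lift_fst]
  · rw [Category.assoc, sq.lift_snd, sq.lift_snd]

theorem hom_ext_yon {F G : Sp S} {a b : F ⟶ G}
    (h : ∀ (Z : Over S) (x : (yon S).obj Z ⟶ F), x ≫ a = x ≫ b) : a = b := by
  ext Z x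
  have := congrArg yEquiv (h Z.unop (yEquiv.symm x))
  simp only [yEquiv, GrothendieckTopology.uliftYonedaEquiv_comp, Equiv.apply_symm_apply] at this
  exact this

variable {X Y Z FZ U X₁ X₂ A₁Y : AlgSp.Space S} {A : Type u} [CommRing A]

/-- Restricting a flat piece mapping to `Y` to a chart. -/
theorem exists_restrict (f : Y ⟶ X) (s : Spec (CommRingCat.of A) ⟶ S) {T Wp : Over S} [IsAffine T.left]
    [IsAffine Wp.left] (b : (yon S).obj T ⟶ X.obj) (c : Wp ⟶ T) [Flat c.left]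
    (l : (yon S).obj Wp ⟶ pullback f.hom b) (hl : l ≫ pullback.snd f.hom b = (yon S).map c)
    (hlf : RepWith @Flat l) (τ : Over.mk s ⟶ T) (e : (yon S).obj (Over.mk s) ⟶ X.obj)
    (he : (yon S).map τ ≫ b = e) :
    ∃ (P : Type u) (_ : CommRing P) (_ : Algebra A P) (_ : Module.Flat A P) (g : sch s P ⟶ Wp)
      (y : (yon S).obj (sch s P) ⟶ pullback f.hom e),
      y ≫ pullback.snd f.hom e = (yon S).map (str s P) ∧ RepWith @Flat y ∧
      y ≫ pullback.fst f.hom e = (yon S).map g ≫ l ≫ pullback.fst f.hom b ∧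
      ∀ (Z : Over S) (w : Z ⟶ Wp) (z₀ : Z ⟶ Over.mk s), w ≫ c = z₀ ≫ τ →
        ∃ a : Z ⟶ sch s P, a ≫ g = w ∧ a ≫ str s P = z₀ := by
  let PW : Over S := Over.mk (pullback.fst c.left τ.left ≫ Wp.hom)
  let gW : PW ⟶ Wp := Over.homMk (pullback.fst c.left τ.left) rfl
  let πW : PW ⟶ Over.mk s := Over.homMk (pullback.snd c.left τ.left) (by
    show pullback.snd c.left τ.left ≫ s = pullback.fst c.left τ.left ≫ Wp.hom
    rw [← Over.w c, pullback.condition_assoc]
    exact congrArg (_ ≫ ·) (Over.w τ).symm)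
  have sqW : IsPullback gW πW c τ :=
    IsPullback.of_map (Over.forget S) (Over.OverMorphism.ext pullback.condition)
      (IsPullback.of_hasPullback c.left τ.left)
  haveI : IsAffine (Over.mk s).left := inferInstanceAs (IsAffine (Spec _))
  haveI : IsAffine PW.left := inferInstanceAs (IsAffine (pullback c.left τ.left))
  obtain ⟨P, _, _, ε, hε⟩ := exists_sch s PW πW
  have : Flat πW.left := MorphismProperty.of_isPullback (P := @Flat) (isPullback_left sqW) inferInstance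
  have hfl : Flat (ε.hom ≫ πW).left := by rw [Over.comp_left]; infer_instance
  rw [hε, str_left] at hfl
  have hflP : Module.Flat A P :=
    RingHom.flat_algebraMap_iff.1 ((HasRingHomProperty.Spec_iff (P := @Flat)).1 hfl)
  let ρm : pullback f.hom e ⟶ pullback f.hom b :=
    pullback.lift (pullback.fst f.hom e) (pullback.snd f.hom e ≫ (yon S).map τ)
      (by rw [Category.assoc, he, pullback.condition])
  have hρ₁ : ρm ≫ pullback.fst f.hom b = pullback.fst f.hom e := pullback.lift_fst _ _ _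
  have hρ₂ : ρm ≫ pullback.snd f.hom b = pullback.snd f.hom e ≫ (yon S).map τ := pullback.lift_snd _ _ _
  have sqR : IsPullback ρm (pullback.snd f.hom e) (pullback.snd f.hom b) ((yon S).map τ) := by
    refine IsPullback.of_right ?_ hρ₂ (IsPullback.of_hasPullback f.hom b)
    rw [hρ₁, he]
    exact IsPullback.of_hasPullback f.hom e
  let a : (yon S).obj PW ⟶ pullback f.hom e :=
    pullback.lift ((yon S).map gW ≫ l ≫ pullback.fst f.hom b) ((yon S).map πW) (by
      rw [Category.assoc, Category.assoc, pullback.condition, ← Category.assoc l, hl, ← Category.assoc,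
        ← Functor.map_comp, sqW.w, Functor.map_comp, Category.assoc, he])
  have ha₁ : a ≫ pullback.fst f.hom e = (yon S).map gW ≫ l ≫ pullback.fst f.hom b := pullback.lift_fst _ _ _
  have ha₂ : a ≫ pullback.snd f.hom e = (yon S).map πW := pullback.lift_snd _ _ _
  have sqa : IsPullback ((yon S).map gW) a l ρm := by
    refine IsPullback.of_bot ?_ ?_ sqR
    · rw [ha₂, hl]
      exact sqW.map (yon S)
    · refine pullback.hom_ext ?_ ?_
      · rw [Category.assoc, Category.assoc, hρ₁, ha₁]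
      · rw [Category.assoc, Category.assoc, hl, hρ₂, ← Category.assoc, ha₂, ← Functor.map_comp, sqW.w,
          Functor.map_comp]
  refine ⟨P, inferInstance, inferInstance, hflP, ε.hom ≫ gW, (yon S).map ε.hom ≫ a, ?_, ?_, ?_,
    fun Z w z₀ h => ⟨sqW.lift w z₀ h ≫ ε.inv, ?_, ?_⟩⟩
  · rw [Category.assoc, ha₂, ← Functor.map_comp, hε]
  · exact repWith_comp ((repWith_yon_map_iff _ _).2 (inferInstanceAs (Flat ε.hom.left)))
      (repWith_of_isPullback sqa hlf)
  · rw [Category.assoc, ha₁, ← Category.assoc, ← Functor.map_comp]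
  · rw [Category.assoc, ε.inv_hom_id_assoc, sqW.lift_fst]
  · rw [← hε, Category.assoc, ε.inv_hom_id_assoc, sqW.lift_snd]

variable (f : Y ⟶ X) (i : Z ⟶ X) (hi : RepWith @IsClosedImmersion i.hom)
  (hifp : LocP @LocallyOfFinitePresentation i.hom) (iY : FZ ⟶ Y) (fZ : FZ ⟶ Z)
  (hFZ : IsPullback iY.hom fZ.hom f.hom i.hom) (j : U ⟶ X) (hj : RepWith @IsOpenImmersion j.hom)
  (hU : Set.range (Points.map j.hom) = (Set.range (Points.map i.hom))ᶜ)
  (p₁ : X₁ ⟶ X) (p₂ : X₂ ⟶ X) (hp₂ : IsSeparatedMor p₂.hom)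
  (a₁Y : A₁Y ⟶ X₁) (r₁Y : A₁Y ⟶ Y) (h₁Y : IsPullback a₁Y.hom r₁Y.hom p₁.hom f.hom)
  (g : A₁Y.obj ⟶ X₂.obj) (hg : g ≫ p₂.hom = a₁Y.hom ≫ p₁.hom)
  (hagree : ∀ {W : Sp S} (x : W ⟶ X₁.obj) (y y' : W ⟶ Y.obj) (hy : x ≫ p₁.hom = y ≫ f.hom)
    (hy' : x ≫ p₁.hom = y' ≫ f.hom), (∃ u : W ⟶ U.obj, u ≫ j.hom = x ≫ p₁.hom) →
    h₁Y.lift x y hy ≫ g = h₁Y.lift x y' hy' ≫ g)

include hi hifp hFZ hj hU hp₂ hg hagree in
/-- The comparison over affine schemes. -/
theorem eq_local [IsIso fZ] (s : Spec (CommRingCat.of A) ⟶ S) (e : (yon S).obj (Over.mk s) ⟶ X.obj)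
    {P Q D : Type u} [CommRing P] [Algebra A P] [CommRing Q] [Algebra A Q] [CommRing D] [Algebra A D]
    [Module.Flat A P] [Module.Flat A Q] (yP : (yon S).obj (sch s P) ⟶ pullback f.hom e)
    (hPs : yP ≫ pullback.snd f.hom e = (yon S).map (str s P)) (hPf : RepWith @Flat yP)
    (yQ : (yon S).obj (sch s Q) ⟶ pullback f.hom e)
    (hQs : yQ ≫ pullback.snd f.hom e = (yon S).map (str s Q))
    (xD : (yon S).obj (sch s D) ⟶ X₁.obj) (hxD : xD ≫ p₁.hom = (yon S).map (str s D) ≫ e)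
    {W : Over S} (a : W ⟶ sch s P) (b : W ⟶ sch s Q) (d : W ⟶ sch s D)
    (ha : a ≫ str s P = d ≫ str s D) (hb : b ≫ str s Q = d ≫ str s D)
    {x : (yon S).obj W ⟶ X₁.obj} {y y' : (yon S).obj W ⟶ Y.obj} (hy : x ≫ p₁.hom = y ≫ f.hom)
    (hy' : x ≫ p₁.hom = y' ≫ f.hom) (ex : x = (yon S).map d ≫ xD)
    (ey : y = (yon S).map a ≫ yP ≫ pullback.fst f.hom e)
    (ey' : y' = (yon S).map b ≫ yQ ≫ pullback.fst f.hom e) :
    h₁Y.lift x y hy ≫ g = h₁Y.lift x y' hy' ≫ g := by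
  let inP : P →ₐ[A] (P ⊗[A] Q) ⊗[A] D :=
    (Algebra.TensorProduct.includeLeft : P ⊗[A] Q →ₐ[A] (P ⊗[A] Q) ⊗[A] D).comp Algebra.TensorProduct.includeLeft
  let inQ : Q →ₐ[A] (P ⊗[A] Q) ⊗[A] D :=
    (Algebra.TensorProduct.includeLeft : P ⊗[A] Q →ₐ[A] (P ⊗[A] Q) ⊗[A] D).comp Algebra.TensorProduct.includeRight
  let inD : D →ₐ[A] (P ⊗[A] Q) ⊗[A] D := Algebra.TensorProduct.includeRight
  let xG : (yon S).obj (sch s ((P ⊗[A] Q) ⊗[A] D)) ⟶ X₁.obj := (yon S).map (schMap s inD) ≫ xD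
  let yG : (yon S).obj (sch s ((P ⊗[A] Q) ⊗[A] D)) ⟶ Y.obj :=
    (yon S).map (schMap s inP) ≫ yP ≫ pullback.fst f.hom e
  let yG' : (yon S).obj (sch s ((P ⊗[A] Q) ⊗[A] D)) ⟶ Y.obj :=
    (yon S).map (schMap s inQ) ≫ yQ ≫ pullback.fst f.hom e
  have hx : xG ≫ p₁.hom = (yon S).map (str s ((P ⊗[A] Q) ⊗[A] D)) ≫ e := by
    simp only [xG, Category.assoc, hxD]
    rw [← Category.assoc, ← Functor.map_comp, schMap_str]
  have hG : xG ≫ p₁.hom = yG ≫ f.hom := by
    rw [hx]
    simp only [yG, Category.assoc, pullback.condition]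
    rw [← Category.assoc yP, hPs, ← Category.assoc, ← Functor.map_comp, schMap_str]
  have hG' : xG ≫ p₁.hom = yG' ≫ f.hom := by
    rw [hx]
    simp only [yG', Category.assoc, pullback.condition]
    rw [← Category.assoc yQ, hQs, ← Category.assoc, ← Functor.map_comp, schMap_str]
  have huv : h₁Y.lift xG yG hG ≫ g = h₁Y.lift xG yG' hG' ≫ g := by
    refine eq_of_agree s f i iY fZ j hi hifp hFZ hj hU hp₂ e yP hPs hPf yQ hQs ?_ (fun W w hw => ?_)
      (fun W w hw => ?_)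
    · simp only [Category.assoc, hg]
      simp only [← Category.assoc, h₁Y.lift_fst]
    · rw [comp_lift_assoc, comp_lift_assoc]
      refine hagree _ _ _ _ _ ?_
      obtain ⟨u, hu⟩ := hw
      exact ⟨u, by rw [hu, Category.assoc, hx, Functor.map_comp, Category.assoc]⟩
    · rw [comp_lift_assoc, comp_lift_assoc]
      congr 2
      simp only [yG, yG', ← Category.assoc, ← Functor.map_comp]
      exact congrArg (· ≫ pullback.fst f.hom e) hw
  obtain ⟨g₁, hg₁, hg₁'⟩ := exists_lift_tensor s a b (ha.trans hb.symm)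
  obtain ⟨g₂, hg₂, hg₂'⟩ := exists_lift_tensor s g₁ d (by
    rw [← schMap_str s (Algebra.TensorProduct.includeLeft : P →ₐ[A] P ⊗[A] Q), ← Category.assoc, hg₁, ha])
  have eP : g₂ ≫ schMap s inP = a := by
    rw [← schMap_comp, ← Category.assoc, hg₂, hg₁]
  have eQ : g₂ ≫ schMap s inQ = b := by
    rw [← schMap_comp, ← Category.assoc, hg₂, hg₁']
  have := congrArg ((yon S).map g₂ ≫ ·) huv
  simp only [← Category.assoc, comp_lift] at this
  subst ex ey ey'
  convert this using 3 <;>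
    simp only [xG, yG, yG', ← Category.assoc, ← Functor.map_comp, eP, eQ, hg₂', inD]

include hi hifp hFZ hj hU hp₂ hg hagree in
/-- Two lifts to `Y` through flat pieces give the same map. -/
theorem eq_YY [IsIso fZ] {T T' Wp Wq : Over S} [IsAffine T.left] [IsAffine T'.left] [IsAffine Wp.left]
    [IsAffine Wq.left] (b : (yon S).obj T ⟶ X.obj) (hb : RepWith @Etale b)
    (b' : (yon S).obj T' ⟶ X.obj) (c : Wp ⟶ T) [Flat c.left] (c' : Wq ⟶ T') [Flat c'.left]
    (l : (yon S).obj Wp ⟶ pullback f.hom b) (hl : l ≫ pullback.snd f.hom b = (yon S).map c)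
    (hlf : RepWith @Flat l) (l' : (yon S).obj Wq ⟶ pullback f.hom b')
    (hl' : l' ≫ pullback.snd f.hom b' = (yon S).map c') (hlf' : RepWith @Flat l')
    {K : Over S} (w : K ⟶ Wp) (w' : K ⟶ Wq) {x : (yon S).obj K ⟶ X₁.obj}
    {y y' : (yon S).obj K ⟶ Y.obj} (hy : x ≫ p₁.hom = y ≫ f.hom) (hy' : x ≫ p₁.hom = y' ≫ f.hom)
    (ey : y = (yon S).map w ≫ l ≫ pullback.fst f.hom b)
    (ey' : y' = (yon S).map w' ≫ l' ≫ pullback.fst f.hom b') :
    h₁Y.lift x y hy ≫ g = h₁Y.lift x y' hy' ≫ g := by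
  have hxb : x ≫ p₁.hom = (yon S).map (w ≫ c) ≫ b := by
    rw [hy, ey, Category.assoc, Category.assoc, pullback.condition, ← Category.assoc l, hl,
      Functor.map_comp, Category.assoc]
  have hxb' : x ≫ p₁.hom = (yon S).map (w' ≫ c') ≫ b' := by
    rw [hy', ey', Category.assoc, Category.assoc, pullback.condition, ← Category.assoc l', hl',
      Functor.map_comp, Category.assoc]
  obtain ⟨R, t, t', sqR⟩ := exists_pullback_yon hb.rep b'
  obtain ⟨ρ, hρ⟩ := (yon S).map_surjective (sqR.lift _ _ (hxb.symm.trans hxb'))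
  have hρ₁ : ρ ≫ t = w ≫ c := (yon S).map_injective (by rw [Functor.map_comp, hρ, sqR.lift_fst])
  have hρ₂ : ρ ≫ t' = w' ≫ c' := (yon S).map_injective (by rw [Functor.map_comp, hρ, sqR.lift_snd])
  have H : ∀ z : ↥K.left, ∃ (Q : Over S) (π : Q ⟶ K), Etale π.left ∧ z ∈ Set.range π.left ∧
      (yon S).map π ≫ h₁Y.lift x y hy ≫ g = (yon S).map π ≫ h₁Y.lift x y' hy' ≫ g := by
    intro z
    obtain ⟨_, ⟨O, hO, rfl⟩, hzO, -⟩ := R.left.isBasis_affineOpens.exists_subset_of_mem_open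
      (Set.mem_univ (ρ.left z)) isOpen_univ
    let s : Spec (CommRingCat.of Γ(R.left, O)) ⟶ S := hO.fromSpec ≫ R.hom
    let ιR : Over.mk s ⟶ R := Over.homMk hO.fromSpec rfl
    obtain ⟨e, he⟩ : ∃ e : (yon S).obj (Over.mk s) ⟶ X.obj, (yon S).map (ιR ≫ t) ≫ b = e := ⟨_, rfl⟩
    have he' : (yon S).map (ιR ≫ t') ≫ b' = e := by
      simp only [← he, Functor.map_comp, Category.assoc, sqR.w]
    obtain ⟨P, _, _, _, gP, yP, hPs, hPf, hPfst, hPl⟩ := exists_restrict f s b c l hl hlf (ιR ≫ t) e he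
    obtain ⟨Q, _, _, _, gQ, yQ, hQs, -, hQfst, hQl⟩ := exists_restrict f s b' c' l' hl' hlf' (ιR ≫ t') e he'
    let V : K.left.Opens := ρ.left ⁻¹ᵁ O
    let Ko : Over S := Over.mk (V.ι ≫ K.hom)
    let ιK : Ko ⟶ K := Over.homMk V.ι rfl
    have hrange : Set.range (V.ι ≫ ρ.left) ⊆ Set.range hO.fromSpec := by
      rintro _ ⟨v, rfl⟩
      rw [hO.range_fromSpec]
      exact v.2
    let k₀ : Ko ⟶ Over.mk s := Over.homMk (IsOpenImmersion.lift hO.fromSpec (V.ι ≫ ρ.left) hrange) (by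
      show _ ≫ hO.fromSpec ≫ R.hom = V.ι ≫ K.hom
      rw [IsOpenImmersion.lift_fac_assoc, Category.assoc, Over.w ρ])
    have hk₀ : k₀ ≫ ιR = ιK ≫ ρ := Over.OverMorphism.ext (IsOpenImmersion.lift_fac _ _ _)
    have hXe : IsAlgSpace (pullback p₁.hom e) :=
      isAlgSpace_pullback X₁ ⟨(yon S).obj (Over.mk s), IsAlgSpace.yon_obj _⟩ X p₁.hom e
    obtain ⟨D₁, dd, hde, hds⟩ := hXe.atlas
    have hzX : ((yon S).map ιK ≫ x) ≫ p₁.hom = (yon S).map k₀ ≫ e := by
      rw [← he, Category.assoc, hxb, ← Category.assoc, ← Category.assoc, ← Functor.map_comp, ← Functor.map_comp,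
        ← Category.assoc k₀, hk₀]
      simp only [Category.assoc, hρ₁]
    obtain ⟨zX, hzX₁, hzX₂⟩ : ∃ zX : (yon S).obj Ko ⟶ pullback p₁.hom e,
        zX ≫ pullback.fst p₁.hom e = (yon S).map ιK ≫ x ∧ zX ≫ pullback.snd p₁.hom e = (yon S).map k₀ :=
      ⟨pullback.lift _ _ hzX, pullback.lift_fst _ _ _, pullback.lift_snd _ _ _⟩
    obtain ⟨W', wD, eW, sqW⟩ := exists_pullback_yon hde.rep zX
    haveI : Etale eW.left := repWith_fst_of_isPullback sqW hde
    haveI : Surjective eW.left := repWith_fst_of_isPullback sqW hds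
    obtain ⟨v, hv⟩ := eW.left.surjective (⟨z, hzO⟩ : V.toScheme)
    obtain ⟨_, ⟨OD, hOD, rfl⟩, hvD, -⟩ := D₁.left.isBasis_affineOpens.exists_subset_of_mem_open
      (Set.mem_univ (wD.left v)) isOpen_univ
    let OD' : D₁.left.Opens := OD
    let D₀ : Over S := Over.mk (OD'.ι ≫ D₁.hom)
    let ιD : D₀ ⟶ D₁ := Over.homMk OD'.ι rfl
    haveI : IsAffine D₀.left := hOD
    obtain ⟨δ, hδ⟩ := (yon S).map_surjective ((yon S).map ιD ≫ dd ≫ pullback.snd p₁.hom e)
    obtain ⟨D, _, _, ε, hε⟩ := exists_sch s D₀ δ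
    let xD : (yon S).obj (sch s D) ⟶ X₁.obj := (yon S).map (ε.hom ≫ ιD) ≫ dd ≫ pullback.fst p₁.hom e
    have hxD : xD ≫ p₁.hom = (yon S).map (str s D) ≫ e := by
      show ((yon S).map (ε.hom ≫ ιD) ≫ dd ≫ pullback.fst p₁.hom e) ≫ p₁.hom = _
      rw [Category.assoc, Category.assoc, pullback.condition, Functor.map_comp, Category.assoc, ← hε,
        Functor.map_comp, hδ]
      simp only [Category.assoc]
    let V' : W'.left.Opens := wD.left ⁻¹ᵁ OD'
    let W'' : Over S := Over.mk (V'.ι ≫ W'.hom)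
    let ιW : W'' ⟶ W' := Over.homMk V'.ι rfl
    let wr : W'' ⟶ D₀ := Over.homMk (wD.left ∣_ OD') (by
      show (wD.left ∣_ OD') ≫ OD'.ι ≫ D₁.hom = V'.ι ≫ W'.hom
      rw [morphismRestrict_ι_assoc, Over.w wD])
    have hwr : wr ≫ ιD = ιW ≫ wD := Over.OverMorphism.ext (morphismRestrict_ι _ _)
    let d := wr ≫ ε.inv
    have hd : d ≫ str s D = (ιW ≫ eW) ≫ k₀ := by
      refine (yon S).map_injective ?_
      rw [← hε, show d ≫ ε.hom ≫ δ = wr ≫ δ by simp [d], Functor.map_comp, hδ, ← Category.assoc,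
        ← Functor.map_comp, hwr, Functor.map_comp, Category.assoc, ← Category.assoc ((yon S).map wD), sqW.w,
        Category.assoc, hzX₂, Functor.map_comp, Functor.map_comp, Category.assoc]
    obtain ⟨aP, haP, haP'⟩ := hPl W'' (((ιW ≫ eW) ≫ ιK) ≫ w) ((ιW ≫ eW) ≫ k₀) (by
      simp only [Category.assoc]
      rw [reassoc_of% hk₀, hρ₁])
    obtain ⟨aQ, haQ, haQ'⟩ := hQl W'' (((ιW ≫ eW) ≫ ιK) ≫ w') ((ιW ≫ eW) ≫ k₀) (by
      simp only [Category.assoc]
      rw [reassoc_of% hk₀, hρ₂])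
    refine ⟨W'', (ιW ≫ eW) ≫ ιK, ?_, ⟨(⟨v, hvD⟩ : V'.toScheme), ?_⟩, ?_⟩
    · rw [Over.comp_left, Over.comp_left]
      haveI : Etale ιW.left := inferInstanceAs (Etale V'.ι)
      haveI : Etale ιK.left := inferInstanceAs (Etale V.ι)
      infer_instance
    · show (((ιW ≫ eW) ≫ ιK).left) _ = z
      rw [Over.comp_left, Over.comp_left, Scheme.Hom.comp_apply, Scheme.Hom.comp_apply]
      show V.ι (eW.left v) = z
      rw [hv]
      rfl
    · rw [comp_lift_assoc, comp_lift_assoc]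
      refine eq_local f i hi hifp iY fZ hFZ j hj hU p₁ p₂ hp₂ a₁Y r₁Y h₁Y g hg hagree s e yP hPs hPf yQ hQs
        xD hxD aP aQ d (haP'.trans hd.symm) (haQ'.trans hd.symm) _ _ ?_ ?_ ?_
      · have hxd : (yon S).map d ≫ xD = (yon S).map (ιW ≫ wD) ≫ dd ≫ pullback.fst p₁.hom e := by
          show (yon S).map d ≫ (yon S).map (ε.hom ≫ ιD) ≫ dd ≫ pullback.fst p₁.hom e = _
          rw [← Category.assoc, ← Functor.map_comp, show d ≫ ε.hom ≫ ιD = ιW ≫ wD by
            rw [← hwr]; simp [d]]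
        rw [hxd, Functor.map_comp _ ιW wD, Category.assoc ((yon S).map ιW) ((yon S).map wD), ← Category.assoc ((yon S).map wD) dd, sqW.w]
        simp only [Functor.map_comp, Category.assoc, hzX₁]
      · rw [ey, hPfst]
        simp only [← Category.assoc, ← Functor.map_comp, haP]
      · rw [ey', hQfst]
        simp only [← Category.assoc, ← Functor.map_comp, haQ]
  choose Q π hπ hz heq using H
  haveI := hπ
  exact eq_of_fppf π (ofArrows_mem_fppf_of_etale _ fun z => ⟨z, hz z⟩) heq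

include hi hifp hFZ hj hU in
/-- The pieces covering one affine chart of `Y`. -/
theorem exists_chart_source [IsIso fZ]
    (hflat : ∀ y ∈ Set.range (AlgSp.Points.map iY.hom), AlgSp.IsFlatAtMor f.hom y)
    (s : Spec (CommRingCat.of A) ⟶ S) (e : (yon S).obj (Over.mk s) ⟶ X.obj) (he : RepWith @Etale e)
    {B : Type u} [CommRing B] [Algebra A B] (q : (yon S).obj (sch s B) ⟶ pullback f.hom e)
    (hq : RepWith @Etale q) (hqs : q ≫ pullback.snd f.hom e = (yon S).map (str s B)) :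
    ∃ (n : Type u) (_ : Finite n) (W : n → Over S) (c : ∀ k, W k ⟶ sch s B),
      (∀ k, IsAffine (W k).left) ∧ (∀ k, Flat (c k).left) ∧
      (∀ t : ↥(sch s B).left, ∃ k, t ∈ Set.range (c k).left) ∧
      ∀ k, (∃ u, u ≫ j.hom = (yon S).map (c k ≫ str s B) ≫ e) ∨
        (Flat (c k ≫ str s B).left ∧ RepWith @Flat ((yon S).map (c k) ≫ q)) := by
  obtain ⟨I, hfg, -, hIr⟩ := exists_ideal s i hi hifp e
  obtain ⟨G, hG⟩ := hfg
  have hK : IsClosed (PrimeSpectrum.zeroLocus (I : Set A)) := PrimeSpectrum.isClosed_zeroLocus _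
  have sq := IsPullback.of_hasPullback f.hom e
  have hchart : RepWith @Etale (q ≫ pullback.fst f.hom e) :=
    repWith_comp hq (repWith_of_isPullback sq.flip he)
  have hcomm : (q ≫ pullback.fst f.hom e) ≫ f.hom = (yon S).map (str s B) ≫ e := by
    rw [Category.assoc, pullback.condition, ← Category.assoc, hqs]
  obtain ⟨W₀, ρ, hW₀, hρflat, hρ, hρsurj⟩ := FormalGlueCover.exists_flat_affine
    (V := Spec (CommRingCat.of B)) (A := Spec (CommRingCat.of A))
    (Spec.map (CommRingCat.ofHom (algebraMap A B))) hK (fun v hv => by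
      obtain ⟨z, hz⟩ := (hIr _).2 hv
      have e' : Points.map f.hom (Points.ofPt (q ≫ pullback.fst f.hom e) v) =
          Points.map i.hom z := by
        rw [Points.map_ofPt, hcomm, ofPt_comp_yon, hz]
        rfl
      obtain ⟨w, hw, -⟩ := exists_point_of_isPullback hFZ _ z e'
      exact hflat _ ⟨w, hw⟩ _ e (str s B) v hchart he hcomm rfl)
  let W : Option ↥G → Over S := fun k => k.elim (Over.mk (ρ ≫ (sch s B).hom))
    (fun r => sch s (Localization.Away (algebraMap A B r.1)))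
  let c : ∀ k, W k ⟶ sch s B := fun k => k.rec (Over.homMk ρ rfl)
    (fun r => schMap s (IsScalarTower.toAlgHom A B (Localization.Away (algebraMap A B r.1))))
  refine ⟨Option ↥G, inferInstance, W, c, ?_, ?_, ?_, ?_⟩
  · rintro (_ | r)
    · exact hW₀
    · exact inferInstanceAs (IsAffine (Spec _))
  · rintro (_ | r)
    · exact hρ
    · exact (HasRingHomProperty.Spec_iff (P := @Flat)).2
        (RingHom.flat_algebraMap_iff.2 (IsLocalization.flat (Localization.Away (algebraMap A B r.1))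
          (Submonoid.powers (algebraMap A B r.1))))
  · intro t
    by_cases ht : ∀ r ∈ G, algebraMap A B r ∈ (t : PrimeSpectrum B).asIdeal
    · obtain ⟨w, hw⟩ := hρsurj t (show I ≤ ((t : PrimeSpectrum B).asIdeal.comap (algebraMap A B)) by
        rw [← hG, Submodule.span_le]; exact ht)
      exact ⟨none, w, hw⟩
    · push_neg at ht
      obtain ⟨r, hrG, hr⟩ := ht
      exact ⟨some ⟨r, hrG⟩,
        (PrimeSpectrum.localization_away_comap_range (Localization.Away (algebraMap A B r)) _).ge hr⟩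
  · rintro (_ | r)
    · exact Or.inr ⟨hρflat, repWith_comp ((repWith_yon_map_iff _ _).2 hρ)
        (repWith_mono (fun _ _ g (_ : Etale g) => inferInstanceAs (Flat g)) hq)⟩
    · left
      show ∃ u, u ≫ j.hom = (yon S).map (schMap s _ ≫ str s B) ≫ e
      rw [schMap_str]
      refine exists_lift_of_isUnit s i j hj hU e hIr (r := r.1) (hG ▸ Submodule.subset_span r.2) _ ?_
      rw [IsScalarTower.algebraMap_apply A B (Localization.Away (algebraMap A B r.1))]
      exact IsLocalization.Away.algebraMap_isUnit _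

include hi hifp hFZ hj hU in
/-- An fpqc covering of `Y` by pieces over the complement and pieces flat over charts of `X`. -/
theorem exists_cover_source [IsIso fZ]
    (hflat : ∀ y ∈ Set.range (AlgSp.Points.map iY.hom), AlgSp.IsFlatAtMor f.hom y) :
    ∃ (ι : Type u) (T W : ι → Over S) (wY : ∀ r, (yon S).obj (W r) ⟶ Y.obj)
      (b : ∀ r, (yon S).obj (T r) ⟶ X.obj) (c : ∀ r, W r ⟶ T r),
      (∀ r, RepWith @Etale (b r)) ∧ (∀ r, IsAffine (T r).left) ∧ (∀ r, IsAffine (W r).left) ∧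
      IsFpqcCover (fun r => (yon S).obj (W r)) wY ∧
      ∀ r, (∃ u, u ≫ j.hom = wY r ≫ f.hom) ∨
        (Flat (c r).left ∧ ∃ l : (yon S).obj (W r) ⟶ pullback f.hom (b r),
          l ≫ pullback.snd f.hom (b r) = (yon S).map (c r) ∧ RepWith @Flat l ∧
            l ≫ pullback.fst f.hom (b r) = wY r) := by
  obtain ⟨X₀, p, hpe, hps⟩ := X.property.atlas
  let sA : ∀ a : X₀.left.affineOpens, Spec (CommRingCat.of Γ(X₀.left, a.1)) ⟶ S :=
    fun a => a.2.fromSpec ≫ X₀.hom
  let b : ∀ a, (yon S).obj (Over.mk (sA a)) ⟶ X.obj :=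
    fun a => (yon S).map (Over.homMk a.2.fromSpec rfl) ≫ p
  have hb : ∀ a, RepWith @Etale (b a) := fun a =>
    repWith_comp ((repWith_yon_map_iff _ _).2 (inferInstanceAs (Etale a.2.fromSpec))) hpe
  have hPa : ∀ a, IsAlgSpace (pullback f.hom (b a)) := fun a =>
    isAlgSpace_of_isPullback (IsPullback.of_hasPullback f.hom (b a)) X.property.diag Y.property
      (IsAlgSpace.yon_obj _)
  choose V₀ q₀ hq₀ hqs₀ using fun a => (hPa a).atlas
  let κ : Type u := Σ a : X₀.left.affineOpens, (V₀ a).left.affineOpens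
  let G : ∀ _ : κ, Over S := fun r => Over.mk (r.2.1.ι ≫ (V₀ r.1).hom)
  let ιG : ∀ r : κ, G r ⟶ V₀ r.1 := fun r => Over.homMk r.2.1.ι rfl
  haveI : ∀ r, IsAffine (G r).left := fun r => r.2.2
  choose π hπ using fun r : κ =>
    (yon S).map_surjective ((yon S).map (ιG r) ≫ q₀ r.1 ≫ pullback.snd f.hom (b r.1))
  choose B iB aB ε hε using fun r : κ => exists_sch (sA r.1) (G r) (π r)
  let q : ∀ r : κ, (yon S).obj (sch (sA r.1) (B r)) ⟶ pullback f.hom (b r.1) :=
    fun r => (yon S).map ((ε r).hom ≫ ιG r) ≫ q₀ r.1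
  have hq : ∀ r, RepWith @Etale (q r) := fun r => by
    refine repWith_comp ((repWith_yon_map_iff _ _).2 ?_) (hq₀ r.1)
    haveI : Etale (ιG r).left := inferInstanceAs (Etale r.2.1.ι)
    rw [Over.comp_left]
    infer_instance
  have hqs : ∀ r, q r ≫ pullback.snd f.hom (b r.1) = (yon S).map (str (sA r.1) (B r)) := fun r => by
    show ((yon S).map ((ε r).hom ≫ ιG r) ≫ q₀ r.1) ≫ _ = _
    rw [Functor.map_comp, Category.assoc, Category.assoc, ← hε r, Functor.map_comp (yon S) (ε r).hom (π r), hπ r]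
  choose n hn W c hWaff hcflat hsurj hkind using fun r : κ =>
    exists_chart_source f i hi hifp iY fZ hFZ j hj hU hflat (sA r.1) (b r.1) (hb r.1) (q r) (hq r) (hqs r)
  let qY : ∀ r : κ, (yon S).obj (sch (sA r.1) (B r)) ⟶ Y.obj := fun r => q r ≫ pullback.fst f.hom (b r.1)
  have hqY : ∀ r, RepWith @Etale (qY r) := fun r =>
    repWith_comp (hq r) (repWith_of_isPullback (IsPullback.of_hasPullback f.hom (b r.1)).flip (hb r.1))
  have hqYs : ∀ y : Points Y.obj, ∃ r, y ∈ Set.range (Points.map (qY r)) := by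
    intro y
    obtain ⟨t, ht⟩ := surjective_ofPt_of_repWith hps (Points.map f.hom y)
    obtain ⟨_, ⟨Wa, hWa, rfl⟩, htW, -⟩ := X₀.left.isBasis_affineOpens.exists_subset_of_mem_open
      (Set.mem_univ t) isOpen_univ
    obtain ⟨t', ht'⟩ := (hWa.range_fromSpec).ge htW
    have hy : Points.map f.hom y = Points.map (b ⟨Wa, hWa⟩) (Points.ofScheme _ t') := by
      rw [← ht, ← ofPt_eq_map, ← ht']
      exact (ofPt_comp_yon (Over.homMk hWa.fromSpec rfl : Over.mk (sA ⟨Wa, hWa⟩) ⟶ X₀) p t').symm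
    obtain ⟨z, hz, -⟩ := exists_point_of_isPullback (IsPullback.of_hasPullback f.hom (b ⟨Wa, hWa⟩)) _ _ hy
    obtain ⟨v, rfl⟩ := surjective_ofPt_of_repWith (hqs₀ _) z
    obtain ⟨_, ⟨Va, hVa, rfl⟩, hvV, -⟩ := (V₀ ⟨Wa, hWa⟩).left.isBasis_affineOpens.exists_subset_of_mem_open
      (Set.mem_univ v) isOpen_univ
    let r : κ := ⟨⟨Wa, hWa⟩, ⟨Va, hVa⟩⟩
    let v₀ : ↥(G r).left := (⟨v, hvV⟩ : ↥(Scheme.Opens.toScheme (Va : (V₀ ⟨Wa, hWa⟩).left.Opens)))
    refine ⟨r, Points.ofScheme _ ((ε r).inv.left v₀), ?_⟩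
    rw [← ofPt_eq_map, ← hz, Points.map_ofPt]
    show Points.ofPt (((yon S).map ((ε r).hom ≫ ιG r) ≫ q₀ r.1) ≫ pullback.fst f.hom (b r.1)) _ = _
    rw [Category.assoc, ofPt_comp_yon, ← Scheme.Hom.comp_apply, ← Over.comp_left, Iso.inv_hom_id_assoc]
    rfl
  refine ⟨Σ r : κ, n r, fun k => Over.mk (sA k.1.1), fun k => W k.1 k.2,
    fun k => (yon S).map (c k.1 k.2) ≫ qY k.1, fun k => b k.1.1, fun k => c k.1 k.2 ≫ str (sA k.1.1) (B k.1),
    fun k => hb _, fun k => inferInstanceAs (IsAffine (Spec _)), fun k => hWaff k.1 k.2, ?_, fun k => ?_⟩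
  · exact Groth.AlgSp2.isFpqcCover_sigma (Xij := fun r k => (yon S).obj (W r k))
      (gij := fun r k => (yon S).map (c r k))
      Y.property (fun r => IsAlgSpace.yon_obj _) (fun r k => IsAlgSpace.yon_obj (W r k))
      (Groth.AlgSp2.isFpqcCover_of_etale Y.property qY hqY hqYs)
      (fun r => haveI : IsAffine (sch (sA r.1) (B r)).left := inferInstanceAs (IsAffine (Spec _))
        haveI := hn r
        FormalGlueCover.isFpqcCover_finite_affine (W r) (c r) (hWaff r) (hcflat r) (hsurj r))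
  · refine (hkind k.1 k.2).imp (fun ⟨u, hu⟩ => ⟨u, ?_⟩) fun ⟨hfl, hlf⟩ =>
      ⟨hfl, (yon S).map (c k.1 k.2) ≫ q k.1, ?_, hlf, Category.assoc _ _ _⟩
    · rw [hu]
      simp only [qY, Category.assoc, pullback.condition]
      rw [← Category.assoc (q k.1), hqs, ← Category.assoc, ← Functor.map_comp]
      simp only [b, Functor.map_comp, Category.assoc]
    · rw [Category.assoc, hqs, ← Functor.map_comp]

end

end Groth.AlgSpBasic.GlueHom
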