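import Groth.Agent.AlgSpBasic.GlueTorsion
import Groth.Agent.AlgSpBasic.FormalGlueCover
import Groth.Agent.AlgSpBasic.FpqcHom

/-!
# Comparing two morphisms to a separated space over an affine chart of a glueing datum
-/

set_option autoImplicit false
set_option backward.isDefEq.respectTransparency.types false
universe u

open CategoryTheory CategoryTheory.Limits AlgebraicGeometry Opposite AlgSp
open scoped TensorProduct

namespace Groth.AlgSpBasic.GlueHom

noncomputable section

variable {S : Scheme.{u}} {A : Type u} [CommRing A] (s : Spec (CommRingCat.of A) ⟶ S)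

/-- The scheme over `S` of an algebra over `A`. -/
abbrev sch (P : Type u) [CommRing P] [Algebra A P] : Over S :=
  Over.mk (Spec.map (CommRingCat.ofHom (algebraMap A P)) ≫ s)

/-- The structure map. -/
def str (P : Type u) [CommRing P] [Algebra A P] : sch s P ⟶ Over.mk s :=
  Over.homMk (Spec.map (CommRingCat.ofHom (algebraMap A P))) rfl

/-- The map of schemes of a map of algebras. -/
def schMap {P P' : Type u} [CommRing P] [Algebra A P] [CommRing P'] [Algebra A P'] (φ : P →ₐ[A] P') :
    sch s P' ⟶ sch s P :=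
  Over.homMk (Spec.map (CommRingCat.ofHom φ.toRingHom)) (by
    show Spec.map _ ≫ Spec.map _ ≫ s = Spec.map _ ≫ s
    rw [← Category.assoc, ← Spec.map_comp, ← CommRingCat.ofHom_comp, AlgHom.toRingHom_eq_coe, φ.comp_algebraMap])

variable {P Q P' P'' : Type u} [CommRing P] [Algebra A P] [CommRing Q] [Algebra A Q] [CommRing P']
  [Algebra A P'] [CommRing P''] [Algebra A P'']

theorem str_left : (str s P).left = Spec.map (CommRingCat.ofHom (algebraMap A P)) := rfl

theorem schMap_left (φ : P →ₐ[A] P') : (schMap s φ).left = Spec.map (CommRingCat.ofHom φ.toRingHom) := rfl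

theorem schMap_str (φ : P →ₐ[A] P') : schMap s φ ≫ str s P = str s P' := by
  refine Over.OverMorphism.ext ?_
  rw [Over.comp_left, str_left, str_left, schMap_left, ← Spec.map_comp, ← CommRingCat.ofHom_comp,
    AlgHom.toRingHom_eq_coe, φ.comp_algebraMap]

theorem schMap_comp (φ : P →ₐ[A] P') (ψ : P' →ₐ[A] P'') :
    schMap s ψ ≫ schMap s φ = schMap s (ψ.comp φ) := by
  refine Over.OverMorphism.ext ?_
  rw [Over.comp_left, schMap_left, schMap_left, schMap_left, ← Spec.map_comp, ← CommRingCat.ofHom_comp]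
  rfl

/-- An affine scheme over `Spec A` is the scheme of an algebra. -/
theorem exists_sch (G : Over S) [IsAffine G.left] (π : G ⟶ Over.mk s) :
    ∃ (P : Type u) (_ : CommRing P) (_ : Algebra A P) (ε : sch s P ≅ G), ε.hom ≫ π = str s P := by
  let ψ := Spec.preimage (G.left.isoSpec.inv ≫ π.left)
  have hψ : Spec.map ψ = G.left.isoSpec.inv ≫ π.left := Spec.map_preimage _
  letI : Algebra A Γ(G.left, ⊤) := ψ.hom.toAlgebra
  refine ⟨Γ(G.left, ⊤), inferInstance, ψ.hom.toAlgebra, Over.isoMk G.left.isoSpec.symm ?_,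
    Over.OverMorphism.ext hψ.symm⟩
  show G.left.isoSpec.inv ≫ G.hom = Spec.map ψ ≫ s
  rw [hψ, Category.assoc]
  exact congrArg (_ ≫ ·) (Over.w π).symm

/-- Maps into the scheme of a tensor product. -/
theorem exists_lift_tensor {W : Over S} (a : W ⟶ sch s P) (b : W ⟶ sch s Q)
    (h : a ≫ str s P = b ≫ str s Q) :
    ∃ g : W ⟶ sch s (P ⊗[A] Q), g ≫ schMap s Algebra.TensorProduct.includeLeft = a ∧
      g ≫ schMap s Algebra.TensorProduct.includeRight = b := by
  have hab : a.left ≫ Spec.map (CommRingCat.ofHom (algebraMap A P)) =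
      b.left ≫ Spec.map (CommRingCat.ofHom (algebraMap A Q)) := congrArg CommaMorphism.left h
  let m := pullback.lift a.left b.left hab ≫ (pullbackSpecIso A P Q).hom
  have hm₁ : m ≫ Spec.map (CommRingCat.ofHom (Algebra.TensorProduct.includeLeftRingHom :
      P →+* P ⊗[A] Q)) = a.left := by
    erw [Category.assoc, pullbackSpecIso_hom_fst, pullback.lift_fst]
  have hm₂ : m ≫ Spec.map (CommRingCat.ofHom
      (Algebra.TensorProduct.includeRight : Q →ₐ[A] P ⊗[A] Q).toRingHom) = b.left := by
    erw [Category.assoc, pullbackSpecIso_hom_snd, pullback.lift_snd]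
  refine ⟨Over.homMk m ?_, Over.OverMorphism.ext hm₁, Over.OverMorphism.ext hm₂⟩
  show m ≫ Spec.map _ ≫ s = W.hom
  rw [← Over.w a, ← hm₁]
  show m ≫ Spec.map _ ≫ s = (m ≫ Spec.map _) ≫ Spec.map (CommRingCat.ofHom (algebraMap A P)) ≫ s
  refine Eq.trans ?_ (Category.assoc m _ _).symm
  refine congrArg (m ≫ ·) (Eq.trans ?_ (Category.assoc _ _ s))
  rw [← Spec.map_comp, ← CommRingCat.ofHom_comp]

/-- Two maps into a separated space over a base agree if they agree on a detecting family of rings. -/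
theorem eq_of_separated {X₂ X : Sp S} {p₂ : X₂ ⟶ X} (hp₂ : IsSeparatedMor p₂) {G : Over S}
    {C : CommRingCat.{u}} (ε : G.left ⟶ Spec C) [IsIso ε] {u v : (yon S).obj G ⟶ X₂} (huv : u ≫ p₂ = v ≫ p₂)
    (H : ∀ c : C, (∀ (C' : CommRingCat.{u}) (φ : C ⟶ C') (W : Over S) (w : W ⟶ G)
      (η : W.left ⟶ Spec C') [IsIso η], w.left ≫ ε = η ≫ Spec.map φ →
        (yon S).map w ≫ u = (yon S).map w ≫ v → φ.hom c = 0) → c = 0)
    : u = v := by
  let d := pullback.lift u v huv
  have hd₁ : d ≫ pullback.fst p₂ p₂ = u := pullback.lift_fst _ _ _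
  have hd₂ : d ≫ pullback.snd p₂ p₂ = v := pullback.lift_snd _ _ _
  obtain ⟨K, sK, fK, sq⟩ := hp₂.rep d
  have : IsClosedImmersion sK.left := hp₂.property _ fK sK sq
  have h₁ : fK = (yon S).map sK ≫ u := by
    rw [← hd₁, ← Category.assoc, ← sq.w, Category.assoc, pullback.diagonal_fst, Category.comp_id]
  have h₂ : fK = (yon S).map sK ≫ v := by
    rw [← hd₂, ← Category.assoc, ← sq.w, Category.assoc, pullback.diagonal_snd, Category.comp_id]
  have hKε : IsClosedImmersion (sK.left ≫ ε) := inferInstance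
  obtain ⟨J, e, he⟩ := IsClosedImmersion.Spec_iff.1 hKε
  have hJ : J = ⊥ := by
    refine (Submodule.eq_bot_iff J).2 fun c hc => H c fun C' φ W w η _ hw hwuv => ?_
    have hlift : ((yon S).map w ≫ u) ≫ pullback.diagonal p₂ = (yon S).map w ≫ d := by
      refine pullback.hom_ext ?_ ?_
      · rw [Category.assoc, pullback.diagonal_fst, Category.comp_id, Category.assoc, hd₁]
      · rw [Category.assoc, pullback.diagonal_snd, Category.comp_id, Category.assoc, hd₂, hwuv]
    obtain ⟨k, hk⟩ := (yon S).map_surjective (sq.lift _ _ hlift)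
    have hks : k ≫ sK = w := (yon S).map_injective (by rw [Functor.map_comp, hk, sq.lift_snd])
    let ψ := Spec.preimage (inv η ≫ k.left ≫ e.hom)
    have hψ : φ = CommRingCat.ofHom (Ideal.Quotient.mk J) ≫ ψ := by
      refine Spec.map_injective ?_
      rw [Spec.map_comp, Spec.map_preimage, Category.assoc, Category.assoc, ← he, ← Category.assoc k.left,
        ← Over.comp_left, hks, hw, IsIso.inv_hom_id_assoc]
    rw [hψ]
    show ψ.hom (Ideal.Quotient.mk J c) = 0
    rw [Ideal.Quotient.eq_zero_iff_mem.2 hc, map_zero]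
  have hmk : IsIso (CommRingCat.ofHom (Ideal.Quotient.mk J)) :=
    (ConcreteCategory.isIso_iff_bijective _).2 ⟨(injective_iff_map_eq_zero _).2 fun x hx => by
      have := Ideal.Quotient.eq_zero_iff_mem.1 hx
      rwa [hJ, Ideal.mem_bot] at this, Ideal.Quotient.mk_surjective⟩
  have : IsIso (sK.left ≫ ε) := by rw [he]; infer_instance
  have : IsIso sK.left := IsIso.of_isIso_comp_right sK.left ε
  have : IsIso ((Over.forget S).map sK) := inferInstanceAs (IsIso sK.left)
  have : IsIso sK := isIso_of_reflects_iso sK (Over.forget S)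
  rw [← cancel_epi ((yon S).map sK), ← h₁, ← h₂]

variable {X Y Z FZ U : AlgSp.Space S}

/-- The ideal cutting out the closed subspace in an affine chart. -/
theorem exists_ideal (i : Z ⟶ X) (hi : RepWith @IsClosedImmersion i.hom)
    (hifp : LocP @LocallyOfFinitePresentation i.hom) (e : (yon S).obj (Over.mk s) ⟶ X.obj) :
    ∃ I : Ideal A, I.FG ∧
      (∀ (B : Type u) [CommRing B] [Algebra A B], (∀ r ∈ I, algebraMap A B r = 0) →
        ∃ z, z ≫ i.hom = (yon S).map (str s B) ≫ e) ∧
      ∀ t : PrimeSpectrum A, Points.ofPt e t ∈ Set.range (Points.map i.hom) ↔ I ≤ t.asIdeal := by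
  obtain ⟨K, sK, fK, sqK⟩ := hi.rep e
  have : IsClosedImmersion sK.left := hi.property _ fK sK sqK
  let σ : K.left ⟶ Spec (CommRingCat.of A) := sK.left
  have hσ : IsClosedImmersion σ := this
  have : LocallyOfFinitePresentation σ :=
    (repWith_of_locP X.property hi.rep hifp).property _ fK sK sqK
  obtain ⟨I, ε, hε⟩ := IsClosedImmersion.Spec_iff.1 hσ
  have hfp : LocallyOfFinitePresentation (Spec.map (CommRingCat.ofHom (Ideal.Quotient.mk I))) := by
    have : Spec.map (CommRingCat.ofHom (Ideal.Quotient.mk I)) = ε.inv ≫ σ := by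
      rw [hε, Iso.inv_hom_id_assoc]
    rw [this]
    infer_instance
  have hfp' : (Ideal.Quotient.mk I).FinitePresentation :=
    (HasRingHomProperty.Spec_iff (P := @LocallyOfFinitePresentation)).1 hfp
  refine ⟨I, ?_, fun B _ _ hB => ?_, fun t => ?_⟩
  · have : Algebra.FinitePresentation A (A ⧸ I) :=
      RingHom.finitePresentation_algebraMap.1 hfp'
    have := Algebra.FinitePresentation.ker_fG_of_surjective (Ideal.Quotient.mkₐ A I) Ideal.Quotient.mk_surjective
    rwa [AlgHom.toRingHom_eq_coe, Ideal.Quotient.mkₐ_ker] at this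
  · let q : A ⧸ I →+* B := Ideal.Quotient.lift I (algebraMap A B) hB
    have hq : (Spec.map (CommRingCat.ofHom q) ≫ ε.inv) ≫ σ =
        Spec.map (CommRingCat.ofHom (algebraMap A B)) := by
      rw [hε, Category.assoc, Iso.inv_hom_id_assoc, ← Spec.map_comp, ← CommRingCat.ofHom_comp]
      rfl
    let k : sch s B ⟶ K := Over.homMk (Spec.map (CommRingCat.ofHom q) ≫ ε.inv) (by
      rw [← Over.w sK]
      show (_ ≫ _) ≫ σ ≫ s = _
      rw [← Category.assoc, hq]
      rfl)
    have hk : k ≫ sK = str s B := Over.OverMorphism.ext hq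
    exact ⟨(yon S).map k ≫ fK, by rw [Category.assoc, sqK.w, ← Category.assoc, ← Functor.map_comp, hk]⟩
  · have hr : t ∈ Set.range sK.left ↔ Points.ofPt e t ∈ Set.range (Points.map i.hom) := by
      constructor
      · rintro ⟨v, rfl⟩
        exact ⟨Points.ofPt fK v, (map_eq_ofPt_iff sqK _ _).2 ⟨v, rfl, rfl⟩⟩
      · rintro ⟨z, hz⟩
        obtain ⟨v, -, hv⟩ := (map_eq_ofPt_iff sqK z t).1 hz
        exact ⟨v, hv⟩
    rw [← hr]
    show t ∈ Set.range σ ↔ _
    rw [hε]
    constructor
    · rintro ⟨v, rfl⟩ r hr'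
      show Ideal.Quotient.mk I r ∈ (ε.hom v).asIdeal
      rw [Ideal.Quotient.eq_zero_iff_mem.2 hr']
      exact Submodule.zero_mem _
    · intro hle
      obtain ⟨q, hq⟩ : t ∈ Set.range (PrimeSpectrum.comap (Ideal.Quotient.mk I)) := by
        rw [range_comap_of_surjective _ _ Ideal.Quotient.mk_surjective, Ideal.mk_ker]
        exact hle
      refine ⟨ε.inv q, ?_⟩
      rw [← Scheme.Hom.comp_apply, Iso.inv_hom_id_assoc]
      exact hq

/-- A map to a chart along which the equations of the closed subspace are invertible lands in the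
open complement. -/
theorem exists_lift_of_isUnit (i : Z ⟶ X) (j : U ⟶ X) (hj : RepWith @IsOpenImmersion j.hom)
    (hU : Set.range (Points.map j.hom) = (Set.range (Points.map i.hom))ᶜ)
    (e : (yon S).obj (Over.mk s) ⟶ X.obj) {I : Ideal A}
    (hI : ∀ t : PrimeSpectrum A, Points.ofPt e t ∈ Set.range (Points.map i.hom) ↔ I ≤ t.asIdeal)
    {r : A} (hr : r ∈ I) (B : Type u) [CommRing B] [Algebra A B] (hu : IsUnit (algebraMap A B r)) :
    ∃ l, l ≫ j.hom = (yon S).map (str s B) ≫ e := by
  have : Mono j.hom := mono_of_repWith (fun _ _ g (_ : IsOpenImmersion g) => inferInstance) hj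
  refine exists_lift_of_range_openImmersion (IsAlgSpace.yon_obj _) hj _ ?_
  rintro _ ⟨x, rfl⟩
  obtain ⟨d, rfl⟩ := (Points.schemeHomeo _).surjective x
  rw [hU]
  intro hc
  have h : Points.ofPt e ((str s B).left d) ∈ Set.range (Points.map i.hom) := by
    rw [← ofPt_comp_yon, ofPt_eq_map]
    exact hc
  exact (d : PrimeSpectrum B).2.ne_top (Ideal.eq_top_of_isUnit_mem _ ((hI _).1 h hr) hu)

section Key

variable {D : Type u} [CommRing D] [Algebra A D] (f : Y ⟶ X) (i : Z ⟶ X) (iY : FZ ⟶ Y) (fZ : FZ ⟶ Z)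
  (j : U ⟶ X)

/-- The detecting covering of the comparison scheme of two lifts to `Y` along `V(I)`. -/
theorem exists_detect (hFZ : IsPullback iY.hom fZ.hom f.hom i.hom) [IsIso fZ]
    (e : (yon S).obj (Over.mk s) ⟶ X.obj) {I : Ideal A}
    (hIZ : ∀ (B : Type u) [CommRing B] [Algebra A B], (∀ r ∈ I, algebraMap A B r = 0) →
      ∃ z, z ≫ i.hom = (yon S).map (str s B) ≫ e)
    [Module.Flat A Q] (yP : (yon S).obj (sch s P) ⟶ pullback f.hom e)
    (hPs : yP ≫ pullback.snd f.hom e = (yon S).map (str s P)) (hPf : RepWith @Flat yP)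
    (yQ : (yon S).obj (sch s Q) ⟶ pullback f.hom e)
    (hQs : yQ ≫ pullback.snd f.hom e = (yon S).map (str s Q)) :
    ∃ (ι : Type u) (M' : ι → Type u) (_ : ∀ l, CommRing (M' l)) (_ : ∀ l, Algebra A (M' l))
      (_ : ∀ l, Module.Flat A (M' l)) (φ : ∀ l, P ⊗[A] Q →ₐ[A] M' l),
      Nonempty (GlueTorsion.Cover I φ) ∧
      ∀ l, (yon S).map (schMap s ((φ l).comp Algebra.TensorProduct.includeLeft)) ≫ yP =
        (yon S).map (schMap s ((φ l).comp Algebra.TensorProduct.includeRight)) ≫ yQ := by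
  obtain ⟨O, oP, oQ, sqO⟩ := exists_pullback_yon hPf.rep yQ
  have hoQ : Flat oQ.left := repWith_fst_of_isPullback sqO hPf
  have hA : oP ≫ str s P = oQ ≫ str s Q := (yon S).map_injective (by
    rw [Functor.map_comp, Functor.map_comp, ← hPs, ← hQs, ← Category.assoc, sqO.w, Category.assoc])
  let B : Type u := (P ⊗[A] Q) ⧸ I.map (algebraMap A (P ⊗[A] Q))
  let mk : P ⊗[A] Q →ₐ[A] B := Ideal.Quotient.mkₐ A _
  let gP := schMap s (mk.comp Algebra.TensorProduct.includeLeft)
  let gQ := schMap s (mk.comp Algebra.TensorProduct.includeRight)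
  obtain ⟨z, hz⟩ := hIZ B fun r hr => by
    show mk (algebraMap A (P ⊗[A] Q) r) = 0
    exact Ideal.Quotient.eq_zero_iff_mem.2 (Ideal.mem_map_of_mem _ hr)
  have hP₀ : ((yon S).map gP ≫ yP) ≫ pullback.snd f.hom e = (yon S).map (str s B) := by
    rw [Category.assoc, hPs, ← Functor.map_comp, schMap_str]
  have hQ₀ : ((yon S).map gQ ≫ yQ) ≫ pullback.snd f.hom e = (yon S).map (str s B) := by
    rw [Category.assoc, hQs, ← Functor.map_comp, schMap_str]
  have hyy : (yon S).map gP ≫ yP = (yon S).map gQ ≫ yQ := by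
    refine pullback.hom_ext ?_ (hP₀.trans hQ₀.symm)
    have h₁ : (((yon S).map gP ≫ yP) ≫ pullback.fst f.hom e) ≫ f.hom = z ≫ i.hom := by
      rw [Category.assoc, pullback.condition, ← Category.assoc, hP₀, hz]
    have h₂ : (((yon S).map gQ ≫ yQ) ≫ pullback.fst f.hom e) ≫ f.hom = z ≫ i.hom := by
      rw [Category.assoc, pullback.condition, ← Category.assoc, hQ₀, hz]
    have : IsIso fZ.hom := (ObjectProperty.ι (IsAlgSpace (S := S))).map_isIso fZ
    have hw : hFZ.lift _ z h₁ = hFZ.lift _ z h₂ := by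
      rw [← cancel_mono fZ.hom, hFZ.lift_snd, hFZ.lift_snd]
    rw [← hFZ.lift_fst _ z h₁, hw, hFZ.lift_fst]
  obtain ⟨s₀, hs₀⟩ := (yon S).map_surjective (sqO.lift _ _ hyy)
  have hs₁ : s₀ ≫ oP = gP := (yon S).map_injective (by rw [Functor.map_comp, hs₀, sqO.lift_fst])
  have hs₂ : s₀ ≫ oQ = gQ := (yon S).map_injective (by rw [Functor.map_comp, hs₀, sqO.lift_snd])
  have H : ∀ p : PrimeSpectrum B, ∃ (M' : Type u) (_ : CommRing M') (_ : Algebra A M') (_ : Module.Flat A M')
      (φ : P ⊗[A] Q →ₐ[A] M') (b : B) (κ : M' →ₐ[A] Localization.Away b), b ∉ p.asIdeal ∧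
      (∀ m, κ (φ m) = algebraMap B (Localization.Away b) (mk m)) ∧
      (yon S).map (schMap s (φ.comp Algebra.TensorProduct.includeLeft)) ≫ yP =
        (yon S).map (schMap s (φ.comp Algebra.TensorProduct.includeRight)) ≫ yQ := by
    intro p
    obtain ⟨_, ⟨V, hV, rfl⟩, hpV, -⟩ := O.left.isBasis_affineOpens.exists_subset_of_mem_open
      (Set.mem_univ (s₀.left p)) isOpen_univ
    let M' : Type u := Γ(O.left, V)
    let v : Spec (CommRingCat.of M') ⟶ O.left := hV.fromSpec
    let v₁ : Spec (CommRingCat.of M') ⟶ Spec (CommRingCat.of P) := v ≫ oP.left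
    let v₂ : Spec (CommRingCat.of M') ⟶ Spec (CommRingCat.of Q) := v ≫ oQ.left
    let aP := Spec.preimage v₁
    let aQ := Spec.preimage v₂
    letI : Algebra A M' := (aP.hom.comp (algebraMap A P)).toAlgebra
    have hPQ : Spec.map aP ≫ Spec.map (CommRingCat.ofHom (algebraMap A P)) =
        Spec.map aQ ≫ Spec.map (CommRingCat.ofHom (algebraMap A Q)) := by
      rw [Spec.map_preimage, Spec.map_preimage]
      show (v ≫ oP.left) ≫ (str s P).left = (v ≫ oQ.left) ≫ (str s Q).left
      rw [Category.assoc, Category.assoc, ← Over.comp_left, hA, Over.comp_left]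
    have hPQ' : aP.hom.comp (algebraMap A P) = aQ.hom.comp (algebraMap A Q) :=
      congrArg CommRingCat.Hom.hom (Spec.map_injective (by rw [Spec.map_comp, Spec.map_comp]; exact hPQ) :
        CommRingCat.ofHom (algebraMap A P) ≫ aP = CommRingCat.ofHom (algebraMap A Q) ≫ aQ)
    let αP : P →ₐ[A] M' := { aP.hom with commutes' := fun _ => rfl }
    let αQ : Q →ₐ[A] M' := { aQ.hom with commutes' := fun a => (RingHom.congr_fun hPQ' a).symm }
    have : Flat v₂ := inferInstanceAs (Flat (hV.fromSpec ≫ oQ.left))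
    have hflQ : aQ.hom.Flat := (HasRingHomProperty.Spec_iff (P := @Flat)).1
      (by rw [Spec.map_preimage]; infer_instance)
    have hflA : Module.Flat A M' := by
      rw [← RingHom.flat_algebraMap_iff]
      show (aP.hom.comp (algebraMap A P)).Flat
      rw [hPQ']
      exact (RingHom.flat_algebraMap_iff.2 inferInstance).comp hflQ
    let φ : P ⊗[A] Q →ₐ[A] M' := Algebra.TensorProduct.productMap αP αQ
    let v' : sch s M' ⟶ O := Over.homMk v (by
      rw [← Over.w oP]
      show v ≫ oP.left ≫ Spec.map _ ≫ s = Spec.map _ ≫ s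
      rw [← Category.assoc v, show v ≫ oP.left = Spec.map aP from (Spec.map_preimage v₁).symm,
        ← Category.assoc, ← Spec.map_comp]
      rfl)
    have hv₁ : schMap s αP = v' ≫ oP := Over.OverMorphism.ext (Spec.map_preimage v₁)
    have hv₂ : schMap s αQ = v' ≫ oQ := Over.OverMorphism.ext (Spec.map_preimage v₂)
    have hpo : p ∈ s₀.left ⁻¹ᵁ V := hpV
    let Os : Set (PrimeSpectrum B) := {q | s₀.left q ∈ V}
    have hOs : IsOpen Os := (s₀.left ⁻¹ᵁ V).isOpen
    obtain ⟨_, ⟨b, rfl⟩, hpb, hbV⟩ := PrimeSpectrum.isTopologicalBasis_basic_opens.exists_subset_of_mem_open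
      (show p ∈ Os from hpo) hOs
    let ib : Spec (CommRingCat.of (Localization.Away b)) ⟶ Spec (CommRingCat.of B) :=
      Spec.map (CommRingCat.ofHom (algebraMap B (Localization.Away b)))
    have hrange : Set.range (ib ≫ s₀.left) ⊆ Set.range v := by
      rintro _ ⟨q, rfl⟩
      rw [show Set.range v = V from hV.range_fromSpec]
      refine hbV ?_
      exact (PrimeSpectrum.localization_away_comap_range (Localization.Away b) b).le ⟨q, rfl⟩
    let k := IsOpenImmersion.lift v (ib ≫ s₀.left) hrange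
    have hk : k ≫ v = ib ≫ s₀.left := IsOpenImmersion.lift_fac _ _ _
    let κ₀ := Spec.preimage k
    have hκ₁ : κ₀.hom.comp αP.toRingHom = (algebraMap B (Localization.Away b)).comp
        (mk.comp (Algebra.TensorProduct.includeLeft : P →ₐ[A] P ⊗[A] Q)).toRingHom := by
      refine congrArg CommRingCat.Hom.hom (Spec.map_injective ?_ :
        aP ≫ κ₀ = CommRingCat.ofHom (mk.comp (Algebra.TensorProduct.includeLeft : P →ₐ[A] P ⊗[A] Q)).toRingHom ≫
          CommRingCat.ofHom (algebraMap B (Localization.Away b)))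
      rw [Spec.map_comp, Spec.map_comp, Spec.map_preimage, Spec.map_preimage]
      show k ≫ v ≫ oP.left = ib ≫ gP.left
      rw [← hs₁, ← Category.assoc, hk, Category.assoc]
      rfl
    have hκ₂ : κ₀.hom.comp αQ.toRingHom = (algebraMap B (Localization.Away b)).comp
        (mk.comp (Algebra.TensorProduct.includeRight : Q →ₐ[A] P ⊗[A] Q)).toRingHom := by
      refine congrArg CommRingCat.Hom.hom (Spec.map_injective ?_ :
        aQ ≫ κ₀ = CommRingCat.ofHom (mk.comp (Algebra.TensorProduct.includeRight : Q →ₐ[A] P ⊗[A] Q)).toRingHom ≫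
          CommRingCat.ofHom (algebraMap B (Localization.Away b)))
      rw [Spec.map_comp, Spec.map_comp, Spec.map_preimage, Spec.map_preimage]
      show k ≫ v ≫ oQ.left = ib ≫ gQ.left
      rw [← hs₂, ← Category.assoc, hk, Category.assoc]
      rfl
    have hκA : ∀ a : A, κ₀.hom (algebraMap A M' a) = algebraMap A (Localization.Away b) a := fun a => by
      refine (RingHom.congr_fun hκ₁ (algebraMap A P a)).trans ?_
      show algebraMap B _ ((mk.comp (Algebra.TensorProduct.includeLeft : P →ₐ[A] P ⊗[A] Q)) (algebraMap A P a)) = _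
      rw [AlgHom.commutes, ← IsScalarTower.algebraMap_apply]
    let κ : M' →ₐ[A] Localization.Away b := { κ₀.hom with commutes' := hκA }
    refine ⟨M', inferInstance, (aP.hom.comp (algebraMap A P)).toAlgebra, hflA, φ, b, κ, hpb, fun m => ?_, ?_⟩
    · have e₁ : ∀ x, κ (αP x) = algebraMap B _ (mk (x ⊗ₜ[A] 1)) := RingHom.congr_fun hκ₁
      have e₂ : ∀ y, κ (αQ y) = algebraMap B _ (mk (1 ⊗ₜ[A] y)) := RingHom.congr_fun hκ₂
      induction m using TensorProduct.induction_on with
      | zero => simp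
      | add a b ha hb => simp only [map_add, ha, hb]
      | tmul x y =>
        show κ (Algebra.TensorProduct.productMap αP αQ (x ⊗ₜ y)) = _
        rw [Algebra.TensorProduct.productMap_apply_tmul, map_mul, e₁, e₂, ← map_mul, ← map_mul,
          Algebra.TensorProduct.tmul_mul_tmul, one_mul, mul_one]
    · have l₁ : φ.comp Algebra.TensorProduct.includeLeft = αP := Algebra.TensorProduct.productMap_left αP αQ
      have l₂ : φ.comp Algebra.TensorProduct.includeRight = αQ := Algebra.TensorProduct.productMap_right αP αQ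
      rw [l₁, l₂, hv₁, hv₂, Functor.map_comp, Functor.map_comp, Category.assoc, Category.assoc, sqO.w]
  choose M' i₁ i₂ i₃ φ b κ hb hκ htest using H
  refine ⟨PrimeSpectrum B, M', i₁, i₂, i₃, φ, ⟨{ B' := fun p => Localization.Away (b p)
                                                 flat := fun p => IsLocalization.flat _ (Submonoid.powers (b p))
                                                 κ := κ
                                                 comm := hκ
                                                 surj := fun p => ⟨p, ?_⟩ }⟩, htest⟩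
  rw [PrimeSpectrum.localization_away_comap_range (Localization.Away (b p)) (b p)]
  exact hb p

/-- Two morphisms to a separated space from the comparison scheme agree, if they agree over the
complement and wherever the two lifts to `Y` agree. -/
theorem eq_of_agree (hi : RepWith @IsClosedImmersion i.hom)
    (hifp : LocP @LocallyOfFinitePresentation i.hom)
    (hFZ : IsPullback iY.hom fZ.hom f.hom i.hom) [IsIso fZ]
    (hj : RepWith @IsOpenImmersion j.hom)
    (hU : Set.range (Points.map j.hom) = (Set.range (Points.map i.hom))ᶜ)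
    {X₂ X₀ : Sp S} {p₂ : X₂ ⟶ X₀} (hp₂ : IsSeparatedMor p₂)
    (e : (yon S).obj (Over.mk s) ⟶ X.obj) [Module.Flat A P] [Module.Flat A Q]
    (yP : (yon S).obj (sch s P) ⟶ pullback f.hom e)
    (hPs : yP ≫ pullback.snd f.hom e = (yon S).map (str s P)) (hPf : RepWith @Flat yP)
    (yQ : (yon S).obj (sch s Q) ⟶ pullback f.hom e)
    (hQs : yQ ≫ pullback.snd f.hom e = (yon S).map (str s Q))
    {u v : (yon S).obj (sch s ((P ⊗[A] Q) ⊗[A] D)) ⟶ X₂} (huv : u ≫ p₂ = v ≫ p₂)
    (hoff : ∀ (W : Over S) (w : W ⟶ sch s ((P ⊗[A] Q) ⊗[A] D)),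
      (∃ l, l ≫ j.hom = (yon S).map (w ≫ str s _) ≫ e) → (yon S).map w ≫ u = (yon S).map w ≫ v)
    (hon : ∀ (W : Over S) (w : W ⟶ sch s ((P ⊗[A] Q) ⊗[A] D)),
      (yon S).map (w ≫ schMap s (Algebra.TensorProduct.includeLeft.comp Algebra.TensorProduct.includeLeft)) ≫ yP =
        (yon S).map (w ≫ schMap s (Algebra.TensorProduct.includeLeft.comp Algebra.TensorProduct.includeRight)) ≫ yQ →
      (yon S).map w ≫ u = (yon S).map w ≫ v) : u = v := by
  obtain ⟨I, hfg, hIZ, hIr⟩ := exists_ideal s i hi hifp e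
  obtain ⟨ι, M', _, _, _, φ, ⟨cov⟩, hφ⟩ := exists_detect s f i iY fZ hFZ e hIZ yP hPs hPf yQ hQs
  refine eq_of_separated hp₂ (G := sch s ((P ⊗[A] Q) ⊗[A] D)) (C := CommRingCat.of ((P ⊗[A] Q) ⊗[A] D))
    (𝟙 _) huv fun c hc => ?_
  let N : Ideal A := LinearMap.ker (LinearMap.toSpanSingleton A _ (c : (P ⊗[A] Q) ⊗[A] D))
  have hrad : I ≤ N.radical := by
    intro r hr
    let C' := Localization.Away (algebraMap A ((P ⊗[A] Q) ⊗[A] D) r)
    let ψ : (P ⊗[A] Q) ⊗[A] D →ₐ[A] C' := IsScalarTower.toAlgHom A _ C'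
    have hu : IsUnit (algebraMap A C' r) := by
      rw [IsScalarTower.algebraMap_apply A ((P ⊗[A] Q) ⊗[A] D) C']
      exact IsLocalization.Away.algebraMap_isUnit _
    obtain ⟨l, hl⟩ := exists_lift_of_isUnit s i j hj hU e hIr hr C' hu
    have h0 : algebraMap _ C' c = 0 := hc (CommRingCat.of C') (CommRingCat.ofHom ψ.toRingHom) _ (schMap s ψ) (𝟙 _)
      ((Category.comp_id _).trans (Category.id_comp _).symm)
      (hoff _ _ ⟨l, by rw [schMap_str]; exact hl⟩)
    obtain ⟨⟨_, n, rfl⟩, hn⟩ := (IsLocalization.map_eq_zero_iff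
      (Submonoid.powers (algebraMap A ((P ⊗[A] Q) ⊗[A] D) r)) C' c).1 h0
    refine ⟨n, ?_⟩
    show (r ^ n : A) • (c : (P ⊗[A] Q) ⊗[A] D) = 0
    rw [Algebra.smul_def (r ^ n) (c : (P ⊗[A] Q) ⊗[A] D)]
    rw [map_pow]
    exact hn
  obtain ⟨n, hn⟩ := Ideal.exists_pow_le_of_le_radical_of_fg hrad hfg
  refine GlueTorsion.eq_zero_of_torsion cov hfg n (fun r hr => by
    have := hn hr
    rwa [LinearMap.mem_ker, LinearMap.toSpanSingleton_apply] at this) fun l => ?_
  let ψ : (P ⊗[A] Q) ⊗[A] D →ₐ[A] M' l ⊗[A] D := Algebra.TensorProduct.map (φ l) (AlgHom.id A D)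
  have e₁ : ψ.comp ((Algebra.TensorProduct.includeLeft : P ⊗[A] Q →ₐ[A] (P ⊗[A] Q) ⊗[A] D).comp
      (Algebra.TensorProduct.includeLeft : P →ₐ[A] P ⊗[A] Q)) =
      (Algebra.TensorProduct.includeLeft : M' l →ₐ[A] M' l ⊗[A] D).comp
        ((φ l).comp Algebra.TensorProduct.includeLeft) := AlgHom.ext fun x => by simp [ψ]
  have e₂ : ψ.comp ((Algebra.TensorProduct.includeLeft : P ⊗[A] Q →ₐ[A] (P ⊗[A] Q) ⊗[A] D).comp
      (Algebra.TensorProduct.includeRight : Q →ₐ[A] P ⊗[A] Q)) =
      (Algebra.TensorProduct.includeLeft : M' l →ₐ[A] M' l ⊗[A] D).comp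
        ((φ l).comp Algebra.TensorProduct.includeRight) := AlgHom.ext fun x => by simp [ψ]
  have h0 : ψ c = 0 := hc (CommRingCat.of (M' l ⊗[A] D)) (CommRingCat.ofHom ψ.toRingHom) _ (schMap s ψ) (𝟙 _)
    ((Category.comp_id _).trans (Category.id_comp _).symm)
    (hon _ _ (by
      rw [schMap_comp, schMap_comp, e₁, e₂,
        ← schMap_comp s ((φ l).comp (Algebra.TensorProduct.includeLeft : P →ₐ[A] P ⊗[A] Q))
          (Algebra.TensorProduct.includeLeft : M' l →ₐ[A] M' l ⊗[A] D),
        ← schMap_comp s ((φ l).comp (Algebra.TensorProduct.includeRight : Q →ₐ[A] P ⊗[A] Q))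
          (Algebra.TensorProduct.includeLeft : M' l →ₐ[A] M' l ⊗[A] D),
        Functor.map_comp, Functor.map_comp,
        Category.assoc, Category.assoc, hφ l]))
  have key : ∀ z, (φ l).toLinearMap.rTensor D z = ψ z := by
    intro z
    induction z using TensorProduct.induction_on with
    | zero => simp
    | add a b ha hb => simp only [map_add, ha, hb]
    | tmul m d => simp [ψ]
  rw [key]
  exact h0

end Key

end

end Groth.AlgSpBasic.GlueHom
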