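import Groth.Agent.AlgSpBasic.GlueHomAffine
import Groth.Agent.AlgSpBasic.GlueingPairSp
import Groth.Agent.AlgSpBasic.AffineMor
import Groth.Agent.AlgSpBasic.Sep
import Groth.Agent.S10727
import Groth.Agent.S10724

/-!
# Points of a space with affine diagonal glue along a glueing pair
-/

set_option autoImplicit false
set_option backward.isDefEq.respectTransparency.types false
universe u

open CategoryTheory CategoryTheory.Limits AlgebraicGeometry Opposite AlgSp
open scoped TensorProduct

namespace Groth.AlgSpBasic.GluePair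

open Groth.EtaleAlgebra.Glue GlueHom

noncomputable section

attribute [local instance] Algebra.TensorProduct.rightAlgebra

variable {S : Scheme.{u}} {B : Type u} [CommRing B] (b : Spec (CommRingCat.of B) ⟶ S)
variable {P P' : Type u} [CommRing P] [Algebra B P] [CommRing P'] [Algebra B P']

theorem exists_algHom (h : sch b P' ⟶ sch b P) (hh : h ≫ str b P = str b P') :
    ∃ φ : P →ₐ[B] P', schMap b φ = h := by
  let ψ := Spec.preimage h.left
  have hψ : Spec.map ψ = h.left := Spec.map_preimage _
  have e : CommRingCat.ofHom (algebraMap B P) ≫ ψ = CommRingCat.ofHom (algebraMap B P') :=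
    Spec.map_injective (by rw [Spec.map_comp, hψ]; exact congrArg CommaMorphism.left hh)
  exact ⟨{ ψ.hom with commutes' := fun r => RingHom.congr_fun (congrArg CommRingCat.Hom.hom e) r },
    Over.OverMorphism.ext hψ⟩

theorem schMap_injective {φ φ' : P →ₐ[B] P'} (h : schMap b φ = schMap b φ') : φ = φ' :=
  AlgHom.coe_ringHom_injective
    (congrArg CommRingCat.Hom.hom (Spec.map_injective (congrArg CommaMorphism.left h)))

theorem exists_away_hom {t : B} {D : Type u} [CommRing D] [Algebra B D] (hu : IsUnit (algebraMap B D t)) :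
    Nonempty (Localization.Away t →ₐ[B] D) :=
  ⟨{ IsLocalization.Away.lift (S := Localization.Away t) t hu with
      commutes' := fun r => IsLocalization.Away.lift_eq t hu r }⟩

theorem away_hom_unique {t : B} {D : Type u} [CommRing D] [Algebra B D]
    (β β' : Localization.Away t →ₐ[B] D) : β = β' :=
  @Subsingleton.elim _ (IsLocalization.algHom_subsingleton (Submonoid.powers t)) β β'

theorem isUnit_of_away_hom {t : B} {D : Type u} [CommRing D] [Algebra B D]
    (β : Localization.Away t →ₐ[B] D) : IsUnit (algebraMap B D t) := by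
  rw [← β.commutes]
  exact (IsLocalization.Away.algebraMap_isUnit t).map β

theorem isAffine_prod {U V : Over S} [IsAffine S] [IsAffine U.left] [IsAffine V.left] : IsAffine (U ⨯ V).left :=
  IsAffine.of_isIso (isPullback_prod_left U V).isoPullback.hom

/-- The pullback of an affine chart along a point of a space with affine diagonal. -/
theorem exists_chart_ring [IsAffine S] {Z : Sp S} (hZ : IsAlgSpace Z) (hd : IsAffineMor (Limits.diag Z))
    (z : (yon S).obj (sch b P) ⟶ Z) {A : Over S} [IsAffine A.left] (a : (yon S).obj A ⟶ Z)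
    (ha : RepWith @Etale a) :
    ∃ (C : Type u) (_ : CommRing C) (_ : Algebra B C) (φ : P →ₐ[B] C) (w : sch b C ⟶ A),
      IsPullback ((yon S).map w) ((yon S).map (schMap b φ)) a z ∧ φ.toRingHom.Etale := by
  obtain ⟨W, w, π, sq⟩ := exists_pullback_yon ha.rep z
  haveI : Etale π.left := repWith_fst_of_isPullback sq ha
  haveI : IsAffine (sch b P).left := inferInstanceAs (IsAffine (Spec _))
  haveI : IsAffineHom (prod.lift w π).left := prop_lift_of_repWith_diag (isAffineMor_iff_repWith.1 hd) sq
  haveI : IsAffine (A ⨯ sch b P).left := isAffine_prod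
  haveI : IsAffine W.left := isAffine_of_isAffineHom (prod.lift w π).left
  obtain ⟨C, _, _, ε, hε⟩ := exists_sch b W (π ≫ str b P)
  obtain ⟨φ, hφ⟩ := exists_algHom b (ε.hom ≫ π) (by rw [Category.assoc, hε])
  refine ⟨C, inferInstance, inferInstance, φ, ε.hom ≫ w, ?_, ?_⟩
  · refine sq.of_iso ((yon S).mapIso ε.symm) (Iso.refl _) (Iso.refl _) (Iso.refl _) ?_ ?_ (by simp) (by simp)
    · simp [← Functor.map_comp]
    · simp [hφ, ← Functor.map_comp]
  · have : Etale (schMap b φ).left := by rw [hφ, Over.comp_left]; infer_instance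
    rw [schMap_left] at this
    exact (HasRingHomProperty.Spec_iff (P := @Etale)).1 this

section Univ

variable {b} {Z : Sp S} {A : Over S} {a : (yon S).obj A ⟶ Z} {z : (yon S).obj (sch b P) ⟶ Z}
  {C : Type u} [CommRing C] [Algebra B C] {φ : P →ₐ[B] C} {w : sch b C ⟶ A}

theorem exists_lift_algHom (sq : IsPullback ((yon S).map w) ((yon S).map (schMap b φ)) a z)
    {D : Type u} [CommRing D] [Algebra B D] (β : P →ₐ[B] D) (v : sch b D ⟶ A)
    (h : (yon S).map v ≫ a = (yon S).map (schMap b β) ≫ z) :
    ∃ g : C →ₐ[B] D, g.comp φ = β ∧ schMap b g ≫ w = v := by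
  obtain ⟨k, hk⟩ := (yon S).map_surjective (sq.lift _ _ h)
  have hk₁ : k ≫ w = v := (yon S).map_injective (by rw [Functor.map_comp, hk]; exact sq.lift_fst _ _ h)
  have hk₂ : k ≫ schMap b φ = schMap b β :=
    (yon S).map_injective (by rw [Functor.map_comp, hk]; exact sq.lift_snd _ _ h)
  obtain ⟨g, rfl⟩ := exists_algHom b k (by rw [← schMap_str b φ, ← Category.assoc, hk₂, schMap_str])
  exact ⟨g, schMap_injective b (by rw [← schMap_comp, hk₂]), hk₁⟩

theorem algHom_ext_of_isPullback (sq : IsPullback ((yon S).map w) ((yon S).map (schMap b φ)) a z)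
    {D : Type u} [CommRing D] [Algebra B D] {g g' : C →ₐ[B] D} (h₁ : g.comp φ = g'.comp φ)
    (h₂ : schMap b g ≫ w = schMap b g' ≫ w) : g = g' := by
  refine schMap_injective b ((yon S).map_injective (sq.hom_ext ?_ ?_))
  · rw [← Functor.map_comp, ← Functor.map_comp, h₂]
  · rw [← Functor.map_comp, ← Functor.map_comp, schMap_comp, schMap_comp, h₁]

end Univ

variable {B' : Type u} [CommRing B'] [Algebra B B'] {t : B}

/-- One chart of the glued point. -/
theorem exists_chart_glue [IsAffine S] (h : EtGlue.IsGlueingPair B B' t) {Z : Sp S} {A : Over S}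
    [IsAffine A.left] {a : (yon S).obj A ⟶ Z} {z₁ : (yon S).obj (sch b (Localization.Away t)) ⟶ Z}
    {z₂ : (yon S).obj (sch b B') ⟶ Z}
    (hagree : ∀ (D : Type u) [CommRing D] [Algebra B D] (β₁ : Localization.Away t →ₐ[B] D) (β₂ : B' →ₐ[B] D),
      (yon S).map (schMap b β₁) ≫ z₁ = (yon S).map (schMap b β₂) ≫ z₂)
    {C₁ : Type u} [CommRing C₁] [Algebra B C₁] {φ₁ : Localization.Away t →ₐ[B] C₁} {w₁ : sch b C₁ ⟶ A}
    (sq₁ : IsPullback ((yon S).map w₁) ((yon S).map (schMap b φ₁)) a z₁) (het₁ : φ₁.toRingHom.Etale)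
    {C₂ : Type u} [CommRing C₂] [Algebra B C₂] {φ₂ : B' →ₐ[B] C₂} {w₂ : sch b C₂ ⟶ A}
    (sq₂ : IsPullback ((yon S).map w₂) ((yon S).map (schMap b φ₂)) a z₂) (het₂ : φ₂.toRingHom.Etale) :
    ∃ (C : Type u) (_ : CommRing C) (_ : Algebra B C) (_ : Algebra.Etale B C)
      (zC : (yon S).obj (sch b C) ⟶ Z) (_ : C →ₐ[B] C₁) (_ : C →ₐ[B] C₂),
      (∀ (D : Type u) [CommRing D] [Algebra B D] (γ : C →ₐ[B] D) (β : Localization.Away t →ₐ[B] D),
        (yon S).map (schMap b γ) ≫ zC = (yon S).map (schMap b β) ≫ z₁) ∧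
      ∀ (D : Type u) [CommRing D] [Algebra B D] (γ : C →ₐ[B] D) (β : B' →ₐ[B] D),
        (yon S).map (schMap b γ) ≫ zC = (yon S).map (schMap b β) ≫ z₂ := by
  let : Algebra B' C₂ := φ₂.toRingHom.toAlgebra
  haveI : IsScalarTower B B' C₂ := IsScalarTower.of_algebraMap_eq fun r => (φ₂.commutes r).symm
  let T := B' ⊗[B] C₁
  let inL : B' →ₐ[B] T := Algebra.TensorProduct.includeLeft
  let inR : C₁ →ₐ[B] T := Algebra.TensorProduct.includeRight
  have hu₁ : IsUnit (algebraMap B C₁ t) := isUnit_of_away_hom φ₁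
  have huT : IsUnit (algebraMap B T t) := by rw [← inR.commutes]; exact hu₁.map inR
  obtain ⟨ψ, hψ₁, hψ₂⟩ := exists_lift_algHom sq₂ inL (schMap b inR ≫ w₁) (by
    rw [Functor.map_comp, Category.assoc, sq₁.w, ← Category.assoc, ← Functor.map_comp, schMap_comp]
    exact hagree T _ inL)
  let D' := Localization.Away (algebraMap B C₂ t)
  let loc : C₂ →ₐ[B] D' := IsScalarTower.toAlgHom B C₂ D'
  have huD : IsUnit (algebraMap B D' t) := by
    rw [IsScalarTower.algebraMap_apply B C₂ D']
    exact IsLocalization.Away.algebraMap_isUnit _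
  obtain ⟨α⟩ := exists_away_hom huD
  obtain ⟨χ, -, hχ₂⟩ := exists_lift_algHom sq₁ α (schMap b loc ≫ w₂) (by
    rw [Functor.map_comp, Category.assoc, sq₂.w, ← Category.assoc, ← Functor.map_comp, schMap_comp]
    exact (hagree D' α (loc.comp φ₂)).symm)
  have hψu : IsUnit (ψ.toRingHom (algebraMap B C₂ t)) := by
    show IsUnit (ψ (algebraMap B C₂ t))
    rwa [ψ.commutes]
  let φr : D' →+* T := IsLocalization.Away.lift (algebraMap B C₂ t) hψu
  have hφr : ∀ c, φr (loc c) = ψ c := fun c => IsLocalization.Away.lift_eq _ hψu c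
  have hφB : ∀ r, φr (algebraMap B D' r) = algebraMap B T r := fun r => by
    rw [← loc.commutes, hφr, ψ.commutes]
  let φB : D' →ₐ[B] T := { φr with commutes' := hφB }
  have hφ' : ∀ r, φr (algebraMap B' D' r) = algebraMap B' T r := fun r => by
    rw [IsScalarTower.algebraMap_apply B' C₂ D']
    exact (hφr _).trans (AlgHom.congr_fun hψ₁ r)
  let φ' : D' →ₐ[B'] T := { φr with commutes' := hφ' }
  let inv : T →ₐ[B] D' := Algebra.TensorProduct.productMap (loc.comp φ₂) χ
  have hleft : inv.comp φB = AlgHom.id B D' := by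
    refine AlgHom.coe_ringHom_injective (IsLocalization.ringHom_ext (Submonoid.powers (algebraMap B C₂ t)) ?_)
    have : inv.comp ψ = loc := algHom_ext_of_isPullback sq₂
      (by rw [AlgHom.comp_assoc, hψ₁]; exact Algebra.TensorProduct.productMap_left _ _)
      (by rw [← schMap_comp, Category.assoc, hψ₂, ← Category.assoc, schMap_comp]
          rw [show inv.comp inR = χ from Algebra.TensorProduct.productMap_right _ _, hχ₂])
    refine RingHom.ext fun c => ?_
    show inv (φr (loc c)) = loc c
    rw [hφr]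
    exact AlgHom.congr_fun this c
  have hlocψ : φB.comp loc = ψ := AlgHom.ext hφr
  have hright : φB.comp inv = AlgHom.id B T := by
    refine Algebra.TensorProduct.ext ?_ ?_
    · rw [AlgHom.comp_assoc, show inv.comp Algebra.TensorProduct.includeLeft = loc.comp φ₂ from
        Algebra.TensorProduct.productMap_left _ _, ← AlgHom.comp_assoc, hlocψ, hψ₁]
      rfl
    · show (φB.comp inv).comp inR = inR
      rw [AlgHom.comp_assoc, show inv.comp inR = χ from Algebra.TensorProduct.productMap_right _ _]
      refine algHom_ext_of_isPullback sq₁ (away_hom_unique _ _) ?_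
      rw [← schMap_comp, Category.assoc, hχ₂, ← Category.assoc, schMap_comp, hlocψ, hψ₂]
  let φe : D' ≃ₐ[B'] T := AlgEquiv.ofBijective φ'
    ⟨Function.LeftInverse.injective (g := inv) (AlgHom.congr_fun hleft),
      Function.RightInverse.surjective (g := inv) (AlgHom.congr_fun hright)⟩
  obtain ⟨C, iC, aC, hgl, e₁, e', hcomp⟩ := Groth.Agent.S10727.result B B' t h C₁ hu₁ C₂ φe
  have hself : EtGlue.IsGlueable B B' t B := (isGlueable_iff h).2 (torsInj_self h)
  have hetC : (algebraMap B C).Etale := by
    refine (Groth.Agent.S10724.result B B' t h B C hself hgl (Algebra.ofId B C)).2 ⟨?_, ?_⟩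
    · have e : Localization.awayMap (Algebra.ofId B C).toRingHom (algebraMap B B t) =
          e₁.symm.toAlgHom.toRingHom.comp φ₁.toRingHom := by
        refine IsLocalization.ringHom_ext (Submonoid.powers t) (RingHom.ext fun r => ?_)
        rw [RingHom.comp_apply, Localization.awayMap, IsLocalization.Away.map, IsLocalization.map_eq]
        exact ((IsScalarTower.algebraMap_apply B C (Localization.Away (algebraMap B C t)) r).symm.trans
          ((e₁.symm.toAlgHom.comp φ₁).commutes r).symm)
      rw [e]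
      exact RingHom.Etale.stableUnderComposition _ _ het₁
        (RingHom.Etale.of_bijective (f := e₁.symm.toAlgHom.toRingHom) e₁.symm.bijective)
    · have hr : ((Algebra.TensorProduct.rid B B' B').toAlgHom.toRingHom).Etale :=
        RingHom.Etale.of_bijective (AlgEquiv.bijective _)
      have he : (e'.symm.toAlgHom.toRingHom).Etale := RingHom.Etale.of_bijective e'.symm.bijective
      convert RingHom.Etale.stableUnderComposition _ _ hr
        (RingHom.Etale.stableUnderComposition _ _ het₂ he) using 1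
      refine RingHom.ext fun x => ?_
      induction x using TensorProduct.induction_on with
      | zero => simp
      | add x y hx hy => simp only [map_add, hx, hy]
      | tmul x r =>
        show Algebra.TensorProduct.map (AlgHom.id B B') (Algebra.ofId B C) (x ⊗ₜ[B] r) =
          e'.symm (algebraMap B' C₂ (Algebra.TensorProduct.rid B B' B' (x ⊗ₜ[B] r)))
        rw [AlgEquiv.commutes, Algebra.TensorProduct.rid_tmul]
        simp [Algebra.algebraMap_eq_smul_one, TensorProduct.tmul_smul, TensorProduct.smul_tmul']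
        simp [Algebra.TensorProduct.one_def, TensorProduct.smul_tmul']
  have hC : Algebra.Etale B C := RingHom.etale_algebraMap.1 hetC
  have : Module.Flat B C := inferInstance
  let locC : C →ₐ[B] Localization.Away (algebraMap B C t) := IsScalarTower.toAlgHom B C _
  let q₁ : C →ₐ[B] C₁ := e₁.toAlgHom.comp locC
  let q₂ : C →ₐ[B] C₂ := (e'.toAlgHom.restrictScalars B).comp Algebra.TensorProduct.includeRight
  let v₁ : sch b (Localization.Away (algebraMap B C t)) ⟶ A := schMap b e₁.symm.toAlgHom ≫ w₁
  let v₂ : sch b (B' ⊗[B] C) ⟶ A := schMap b (e'.symm.toAlgHom.restrictScalars B) ≫ w₂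
  let X : Over (Spec (CommRingCat.of B)) := Over.mk (pullback.snd A.hom b)
  haveI : IsAffine X.left := inferInstanceAs (IsAffine (pullback A.hom b))
  let D := Localization.Away (algebraMap C (B' ⊗[B] C) (algebraMap B C t))
  let locD : B' ⊗[B] C →ₐ[B] D := IsScalarTower.toAlgHom B _ _
  let amr : Localization.Away (algebraMap B C t) →+* D :=
    Localization.awayMap (algebraMap C (B' ⊗[B] C)) (algebraMap B C t)
  have hamr : ∀ c, amr (locC c) = locD ((1 : B') ⊗ₜ[B] c) := fun c =>
    IsLocalization.map_eq _ c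
  have ham : ∀ r, amr (algebraMap B _ r) = algebraMap B D r := fun r => by
    rw [← locC.commutes, hamr, show (1 : B') ⊗ₜ[B] algebraMap B C r = algebraMap B (B' ⊗[B] C) r from
      (Algebra.TensorProduct.includeRight : C →ₐ[B] B' ⊗[B] C).commutes r, locD.commutes]
  let am : Localization.Away (algebraMap B C t) →ₐ[B] D := { amr with commutes' := ham }
  have hv₁₂ : schMap b am ≫ v₁ = schMap b locD ≫ v₂ := by
    let g₁ := am.comp e₁.symm.toAlgHom
    let g₂ := locD.comp (e'.symm.toAlgHom.restrictScalars B)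
    let G : T →ₐ[B] D :=
      Algebra.TensorProduct.productMap (locD.comp Algebra.TensorProduct.includeLeft) g₁
    have hq : ∀ c, ψ (q₂ c) = inR (q₁ c) := fun c => (hφr _).symm.trans (hcomp c)
    have hG : G.comp ψ = g₂ := by
      refine AlgHom.ext fun x => ?_
      obtain ⟨y, rfl⟩ := e'.surjective x
      show G (ψ (e' y)) = locD (e'.symm (e' y))
      rw [e'.symm_apply_apply]
      induction y using TensorProduct.induction_on with
      | zero => simp
      | add y z hy hz => simp only [map_add, hy, hz]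
      | tmul x c =>
        have ex : x ⊗ₜ[B] c = algebraMap B' (B' ⊗[B] C) x * ((1 : B') ⊗ₜ[B] c) := by
          simp [Algebra.TensorProduct.tmul_mul_tmul]
        rw [ex, map_mul, map_mul, map_mul, map_mul, AlgEquiv.commutes]
        congr 1
        · rw [show algebraMap B' C₂ x = φ₂ x from rfl, ← AlgHom.comp_apply ψ φ₂, hψ₁]
          exact AlgHom.congr_fun (Algebra.TensorProduct.productMap_left
            (locD.comp Algebra.TensorProduct.includeLeft) g₁) x
        · show G (ψ (q₂ c)) = _
          rw [hq, ← AlgHom.comp_apply G inR,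
            show G.comp inR = g₁ from Algebra.TensorProduct.productMap_right _ _]
          show am (e₁.symm (e₁ (locC c))) = _
          rw [e₁.symm_apply_apply]
          exact hamr c
    show schMap b am ≫ schMap b _ ≫ w₁ = schMap b locD ≫ schMap b _ ≫ w₂
    rw [← Category.assoc, ← Category.assoc, schMap_comp, schMap_comp]
    show schMap b g₁ ≫ w₁ = schMap b g₂ ≫ w₂
    rw [← hG, ← schMap_comp b ψ G, Category.assoc, hψ₂, ← Category.assoc, schMap_comp,
      show G.comp inR = g₁ from Algebra.TensorProduct.productMap_right _ _]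
  let u₁ : Spec (CommRingCat.of (Localization.Away (algebraMap B C t))) ⟶ X.left :=
    pullback.lift v₁.left (str b _).left (Over.w v₁)
  let u₂ : Spec (CommRingCat.of (B' ⊗[B] C)) ⟶ X.left := pullback.lift v₂.left (str b _).left (Over.w v₂)
  obtain ⟨u, hu, hu₁', hu₂'⟩ := Groth.TorsProper.Adic.exists_glue_point C h (X := X) u₁ u₂
    ((pullback.lift_snd _ _ _).trans (by
      rw [str_left, ← Spec.map_comp, ← CommRingCat.ofHom_comp, ← IsScalarTower.algebraMap_eq]))
    ((pullback.lift_snd _ _ _).trans (by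
      rw [str_left, ← Spec.map_comp, ← CommRingCat.ofHom_comp, ← IsScalarTower.algebraMap_eq]))
    (by
      refine pullback.hom_ext ?_ ?_
      · rw [Category.assoc, Category.assoc, pullback.lift_fst, pullback.lift_fst]
        exact congrArg CommaMorphism.left hv₁₂
      · rw [Category.assoc, Category.assoc, pullback.lift_snd, pullback.lift_snd]
        exact congrArg CommaMorphism.left ((schMap_str b am).trans (schMap_str b locD).symm))
  let v : sch b C ⟶ A := Over.homMk (u ≫ pullback.fst A.hom b) (by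
    rw [Category.assoc, pullback.condition, ← Category.assoc, show u ≫ pullback.snd A.hom b = _ from hu]
    rfl)
  have hv₁ : schMap b locC ≫ v = v₁ := Over.OverMorphism.ext (by
    show Spec.map _ ≫ u ≫ pullback.fst A.hom b = v₁.left
    rw [← Category.assoc]
    exact (congrArg (· ≫ pullback.fst A.hom b) hu₁').trans (pullback.lift_fst _ _ _))
  have hv₂ : schMap b (Algebra.TensorProduct.includeRight : C →ₐ[B] B' ⊗[B] C) ≫ v = v₂ :=
    Over.OverMorphism.ext (by
      show Spec.map _ ≫ u ≫ pullback.fst A.hom b = v₂.left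
      rw [← Category.assoc]
      exact (congrArg (· ≫ pullback.fst A.hom b) hu₂').trans (pullback.lift_fst _ _ _))
  refine ⟨C, iC, aC, hC, (yon S).map v ≫ a, q₁, q₂, fun E _ _ γ β => ?_, fun E _ _ γ β => ?_⟩
  · have huE : IsUnit (γ.toRingHom (algebraMap B C t)) := by
      show IsUnit (γ (algebraMap B C t))
      rw [γ.commutes]
      exact isUnit_of_away_hom β
    let Gr : Localization.Away (algebraMap B C t) →+* E :=
      IsLocalization.Away.lift (algebraMap B C t) huE
    have hGr : ∀ r, Gr (algebraMap B _ r) = algebraMap B E r := fun r => by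
      rw [IsScalarTower.algebraMap_apply B C (Localization.Away (algebraMap B C t))]
      exact (IsLocalization.Away.lift_eq _ huE _).trans (γ.commutes r)
    let G : Localization.Away (algebraMap B C t) →ₐ[B] E := { Gr with commutes' := hGr }
    have hG : G.comp locC = γ := AlgHom.ext fun c => IsLocalization.Away.lift_eq _ huE c
    rw [← hG, ← schMap_comp, Functor.map_comp, Category.assoc, ← Category.assoc ((yon S).map (schMap b locC)),
      ← Functor.map_comp (yon S) (schMap b locC), hv₁]
    simp only [v₁, Functor.map_comp, Category.assoc]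
    rw [sq₁.w, ← Category.assoc, ← Category.assoc, ← Functor.map_comp, ← Functor.map_comp, schMap_comp,
      schMap_comp]
    exact congrArg (fun k => (yon S).map (schMap b k) ≫ z₁) (away_hom_unique _ _)
  · let G : B' ⊗[B] C →ₐ[B] E := Algebra.TensorProduct.productMap β γ
    have hG : G.comp Algebra.TensorProduct.includeRight = γ := Algebra.TensorProduct.productMap_right _ _
    rw [← hG, ← schMap_comp, Functor.map_comp, Category.assoc,
      ← Category.assoc ((yon S).map (schMap b (Algebra.TensorProduct.includeRight : C →ₐ[B] B' ⊗[B] C))),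
      ← Functor.map_comp (yon S) (schMap b (Algebra.TensorProduct.includeRight : C →ₐ[B] B' ⊗[B] C)), hv₂]
    simp only [v₂, Functor.map_comp, Category.assoc]
    rw [sq₂.w, ← Category.assoc, ← Category.assoc, ← Functor.map_comp, ← Functor.map_comp, schMap_comp,
      schMap_comp]
    refine congrArg (fun k => (yon S).map (schMap b k) ≫ z₂) (AlgHom.ext fun x => ?_)
    show G (e'.symm (algebraMap B' C₂ x)) = β x
    rw [AlgEquiv.commutes]
    exact AlgHom.congr_fun (Algebra.TensorProduct.productMap_left β γ) x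

theorem exists_prime_over (hq : EtGlue.QuotPowBijective B B' t) (p : PrimeSpectrum B) (hp : t ∈ p.asIdeal) :
    p ∈ Set.range (PrimeSpectrum.comap (algebraMap B B')) := by
  let e : B ⧸ Ideal.span {t ^ 1} ≃+* B' ⧸ Ideal.map (algebraMap B B') (Ideal.span {t ^ 1}) :=
    RingEquiv.ofBijective _ (hq 1 one_pos)
  have hle : Ideal.span {t ^ 1} ≤ p.asIdeal := by
    rw [pow_one, Ideal.span_le, Set.singleton_subset_iff]; exact hp
  let χ : B' →+* B ⧸ p.asIdeal :=
    ((Ideal.Quotient.factor hle).comp e.symm.toRingHom).comp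
      (Ideal.Quotient.mk (Ideal.map (algebraMap B B') (Ideal.span {t ^ 1})))
  haveI : (RingHom.ker χ).IsPrime := RingHom.ker_isPrime χ
  refine ⟨⟨RingHom.ker χ, inferInstance⟩, ?_⟩
  ext r
  rw [PrimeSpectrum.comap_asIdeal, Ideal.mem_comap, RingHom.mem_ker]
  show Ideal.Quotient.factor hle (e.symm (Ideal.Quotient.mk
    (Ideal.map (algebraMap B B') (Ideal.span {t ^ 1})) (algebraMap B B' r))) = 0 ↔ _
  have : e (Ideal.Quotient.mk (Ideal.span {t ^ 1}) r) =
      Ideal.Quotient.mk (Ideal.map (algebraMap B B') (Ideal.span {t ^ 1})) (algebraMap B B' r) :=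
    rfl
  rw [← this, e.symm_apply_apply, Ideal.Quotient.factor_mk, Ideal.Quotient.eq_zero_iff_mem]

/-- Compatible points on the two pieces of a glueing pair glue. -/
theorem exists_point [IsAffine S] (h : EtGlue.IsGlueingPair B B' t) {Z : Sp S} (hZ : IsAlgSpace Z)
    (hd : IsAffineMor (Limits.diag Z)) (z₁ : (yon S).obj (sch b (Localization.Away t)) ⟶ Z)
    (z₂ : (yon S).obj (sch b B') ⟶ Z)
    (hagree : ∀ (D : Type u) [CommRing D] [Algebra B D] (β₁ : Localization.Away t →ₐ[B] D) (β₂ : B' →ₐ[B] D),
      (yon S).map (schMap b β₁) ≫ z₁ = (yon S).map (schMap b β₂) ≫ z₂) :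
    ∃ z : (yon S).obj (Over.mk b) ⟶ Z,
      (yon S).map (str b (Localization.Away t)) ≫ z = z₁ ∧ (yon S).map (str b B') ≫ z = z₂ := by
  obtain ⟨X₀, p₀, hpe, hps⟩ := hZ.atlas
  let A : X₀.left.affineOpens → Over S := fun O => Over.mk (O.1.ι ≫ X₀.hom)
  haveI hA : ∀ O, IsAffine (A O).left := fun O => O.2
  let a : ∀ O, (yon S).obj (A O) ⟶ Z := fun O => (yon S).map (Over.homMk O.1.ι rfl) ≫ p₀
  have ha : ∀ O, RepWith @Etale (a O) := fun O =>
    repWith_comp ((repWith_yon_map_iff _ _).2 (inferInstanceAs (Etale O.1.ι))) hpe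
  choose C₁ i₁ j₁ φ₁ w₁ sq₁ het₁ using fun O => exists_chart_ring b hZ hd z₁ (a O) (ha O)
  choose C₂ i₂ j₂ φ₂ w₂ sq₂ het₂ using fun O => exists_chart_ring b hZ hd z₂ (a O) (ha O)
  choose C iC aC hC zC q₁ q₂ hzC₁ hzC₂ using fun O =>
    exists_chart_glue b h hagree (sq₁ O) (het₁ O) (sq₂ O) (het₂ O)
  have hcov : ∀ {P : Type u} [CommRing P] [Algebra B P] (z : (yon S).obj (sch b P) ⟶ Z)
      {K : X₀.left.affineOpens → Type u} [∀ O, CommRing (K O)] [∀ O, Algebra B (K O)] (φ : ∀ O, P →ₐ[B] K O)
      (w : ∀ O, sch b (K O) ⟶ A O), (∀ O, IsPullback ((yon S).map (w O)) ((yon S).map (schMap b (φ O))) (a O) z) →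
      ∀ x : ↥(sch b P).left, ∃ O, x ∈ Set.range (schMap b (φ O)).left := by
    intro P _ _ z K _ _ φ w sq x
    obtain ⟨v, hv⟩ := surjective_ofPt_of_repWith hps (Points.ofPt z x)
    obtain ⟨_, ⟨V, hV, rfl⟩, hvV, -⟩ := X₀.left.isBasis_affineOpens.exists_subset_of_mem_open
      (Set.mem_univ v) isOpen_univ
    let v' : ↥(A ⟨V, hV⟩).left := (⟨v, hvV⟩ : ↥(Scheme.Opens.toScheme (V : X₀.left.Opens)))
    have hv' : Points.ofPt (a ⟨V, hV⟩) v' = Points.ofPt z x := by
      rw [← hv]; exact ofPt_comp_yon _ p₀ v'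
    obtain ⟨y, -, hy⟩ := (ofPt_eq_ofPt_iff (sq ⟨V, hV⟩) v' x).1 hv'
    exact ⟨_, y, hy⟩
  have hsurj : ∀ x : ↥(Over.mk b).left, ∃ O, x ∈ Set.range (str b (C O)).left := by
    intro x
    by_cases hx : t ∈ (x : PrimeSpectrum B).asIdeal
    · obtain ⟨y, hy⟩ := exists_prime_over h.1 x hx
      obtain ⟨O, v, hv⟩ := hcov z₂ φ₂ w₂ sq₂ (y : ↥(sch b B').left)
      refine ⟨O, (schMap b (q₂ O)).left v, ?_⟩
      rw [← Scheme.Hom.comp_apply, ← Over.comp_left, schMap_str, ← schMap_str b (φ₂ O), Over.comp_left,
        Scheme.Hom.comp_apply, hv]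
      exact hy
    · obtain ⟨y, hy⟩ := (PrimeSpectrum.localization_away_comap_range (Localization.Away t) t).ge hx
      obtain ⟨O, v, hv⟩ := hcov z₁ φ₁ w₁ sq₁ (y : ↥(sch b (Localization.Away t)).left)
      refine ⟨O, (schMap b (q₁ O)).left v, ?_⟩
      rw [← Scheme.Hom.comp_apply, ← Over.comp_left, schMap_str, ← schMap_str b (φ₁ O), Over.comp_left,
        Scheme.Hom.comp_apply, hv]
      exact hy
  haveI : ∀ O, Etale (str b (C O)).left := fun O =>
    (HasRingHomProperty.Spec_iff (P := @Etale)).2 (RingHom.etale_algebraMap.2 (hC O))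
  obtain ⟨z, hz⟩ := exists_glue_of_fppf (X := Z) (fun O => str b (C O))
    (ofArrows_mem_fppf_of_etale _ hsurj) zC (fun O O' T r r' hrr' => by
      obtain ⟨g, hg₁, hg₂⟩ := exists_lift_tensor b r r' hrr'
      rw [← hg₁, ← hg₂, Functor.map_comp, Functor.map_comp, Category.assoc, Category.assoc]
      refine congrArg ((yon S).map g ≫ ·) ?_
      haveI := hC O; haveI := hC O'
      haveI : Module.Flat B (C O ⊗[B] C O') := inferInstance
      refine eq_of_eq_on_glueingPair (Groth.TorsProper.Adic.isGlueingPair_C (C O ⊗[B] C O') h) hZ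
        fun V χ hχ => ?_
      rcases hχ with ⟨k, hk⟩ | ⟨k, hk⟩
      · let L := Localization.Away (algebraMap B (C O ⊗[B] C O') t)
        let lo : C O ⊗[B] C O' →ₐ[B] L := IsScalarTower.toAlgHom B _ L
        have hu : IsUnit (algebraMap B L t) := by
          rw [IsScalarTower.algebraMap_apply B (C O ⊗[B] C O') L]
          exact IsLocalization.Away.algebraMap_isUnit _
        obtain ⟨β⟩ := exists_away_hom hu
        let k' : V ⟶ sch b L := Over.homMk k (by
          rw [← Over.w χ, hk, Category.assoc]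
          refine congrArg (k ≫ ·) ?_
          exact (Over.w (schMap b lo)).symm)
        have hk' : χ = k' ≫ schMap b lo := Over.OverMorphism.ext hk
        rw [hk']
        simp only [← Category.assoc, ← Functor.map_comp]
        simp only [Category.assoc, schMap_comp]
        rw [Functor.map_comp, Functor.map_comp, Category.assoc, Category.assoc, hzC₁ O _ _ β, hzC₁ O' _ _ β]
      · let L := B' ⊗[B] (C O ⊗[B] C O')
        let lo : C O ⊗[B] C O' →ₐ[B] L := Algebra.TensorProduct.includeRight
        let β : B' →ₐ[B] L := Algebra.TensorProduct.includeLeft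
        let k' : V ⟶ sch b L := Over.homMk k (by
          rw [← Over.w χ, hk, Category.assoc]
          refine congrArg (k ≫ ·) ?_
          exact (Over.w (schMap b lo)).symm)
        have hk' : χ = k' ≫ schMap b lo := Over.OverMorphism.ext hk
        rw [hk']
        simp only [← Category.assoc, ← Functor.map_comp]
        simp only [Category.assoc, schMap_comp]
        rw [Functor.map_comp, Functor.map_comp, Category.assoc, Category.assoc, hzC₂ O _ _ β, hzC₂ O' _ _ β])
  refine ⟨z, ?_, ?_⟩
  · haveI : ∀ O, Etale (schMap b (φ₁ O)).left := fun O =>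
      (HasRingHomProperty.Spec_iff (P := @Etale)).2 (het₁ O)
    refine eq_of_fppf (X := Z) (fun O => schMap b (φ₁ O))
      (ofArrows_mem_fppf_of_etale _ (hcov z₁ φ₁ w₁ sq₁)) fun O => ?_
    rw [← Category.assoc, ← Functor.map_comp, schMap_str, ← schMap_str b (q₁ O), Functor.map_comp,
      Category.assoc, hz O]
    exact hzC₁ O _ (q₁ O) (φ₁ O)
  · haveI : ∀ O, Etale (schMap b (φ₂ O)).left := fun O =>
      (HasRingHomProperty.Spec_iff (P := @Etale)).2 (het₂ O)
    refine eq_of_fppf (X := Z) (fun O => schMap b (φ₂ O))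
      (ofArrows_mem_fppf_of_etale _ (hcov z₂ φ₂ w₂ sq₂)) fun O => ?_
    rw [← Category.assoc, ← Functor.map_comp, schMap_str, ← schMap_str b (q₂ O), Functor.map_comp,
      Category.assoc, hz O]
    exact hzC₂ O _ (q₂ O) (φ₂ O)

end

end Groth.AlgSpBasic.GluePair
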