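import Mathlib.RingTheory.Flat.FaithfullyFlat.Algebra
import Mathlib.RingTheory.Flat.Basic
import Mathlib.LinearAlgebra.TensorProduct.Pi
import Mathlib.LinearAlgebra.TensorProduct.RightExactness
import Mathlib.Algebra.Module.Torsion.Basic

/-!
# Power torsion in tensor products of flat modules
-/

set_option autoImplicit false
universe u

open TensorProduct

namespace Groth.AlgSpBasic.GlueTorsion

/-- An element of a module killed in every member of a flat covering family is zero. -/
theorem eq_zero_of_cover {B : Type u} [CommRing B] {ι : Type u} (B' : ι → Type u)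
    [∀ l, CommRing (B' l)] [∀ l, Algebra B (B' l)] [∀ l, Module.Flat B (B' l)]
    (hs : ∀ p : PrimeSpectrum B, ∃ l, p ∈ Set.range (PrimeSpectrum.comap (algebraMap B (B' l))))
    {X : Type u} [AddCommGroup X] [Module B X] {x : X}
    (hx : ∀ l, (1 : B' l) ⊗ₜ[B] x = 0) : x = 0 := by
  by_contra hne
  let I : Ideal B := LinearMap.ker (LinearMap.toSpanSingleton B X x)
  have hI : I ≠ ⊤ := fun h => hne (by
    have : (1 : B) ∈ I := h ▸ Submodule.mem_top
    simpa [I] using this)
  obtain ⟨p, hp, hle⟩ := Ideal.exists_le_maximal I hI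
  obtain ⟨l, q, hq⟩ := hs ⟨p, hp.isPrime⟩
  let μ : B ⧸ I →ₗ[B] X := Submodule.liftQ I (LinearMap.toSpanSingleton B X x) le_rfl
  have hμ : Function.Injective μ :=
    LinearMap.ker_eq_bot.1 (Submodule.ker_liftQ_eq_bot' _ _ rfl)
  have h1 : (1 : B' l) ⊗ₜ[B] (Submodule.Quotient.mk (1 : B) : B ⧸ I) = 0 := by
    apply Module.Flat.lTensor_preserves_injective_linearMap (M := B' l) μ hμ
    rw [LinearMap.lTensor_tmul, show μ (Submodule.Quotient.mk 1) = x from
      (show LinearMap.toSpanSingleton B X x 1 = x by simp), map_zero, hx l]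
  have h2 : (1 : B' l) ∈ (I.map (algebraMap B (B' l))) := by
    have e : (Submodule.Quotient.mk (1 : B) : B ⧸ I) = 1 := rfl
    rw [e, ← Algebra.TensorProduct.one_def] at h1
    have := congrArg (Algebra.TensorProduct.quotIdealMapEquivTensorQuot (B' l) I).symm h1
    rw [map_one, map_zero] at this
    rw [← Ideal.Quotient.eq_zero_iff_mem, map_one]
    exact this
  refine q.2.ne_top ((Ideal.eq_top_iff_one _).2 (Ideal.map_le_iff_le_comap.2 ?_ h2))
  exact hle.trans (le_of_eq (congrArg PrimeSpectrum.asIdeal hq).symm)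

variable {A : Type u} [CommRing A] (I : Ideal A) {M : Type u} [CommRing M] [Algebra A M]
  {ι : Type u} {M' : ι → Type u} [∀ l, CommRing (M' l)] [∀ l, Algebra A (M' l)]
  (φ : ∀ l, M →ₐ[A] M' l)

/-- A covering of `M ⧸ I M` through the `M' l`. -/
structure Cover where
  /-- The pieces. -/
  B' : ι → Type u
  [ring : ∀ l, CommRing (B' l)]
  [algA : ∀ l, Algebra A (B' l)]
  [alg : ∀ l, Algebra (M ⧸ I.map (algebraMap A M)) (B' l)]
  [tower : ∀ l, IsScalarTower A (M ⧸ I.map (algebraMap A M)) (B' l)]
  [flat : ∀ l, Module.Flat (M ⧸ I.map (algebraMap A M)) (B' l)]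
  /-- The factorisation through `M' l`. -/
  κ : ∀ l, M' l →ₐ[A] B' l
  comm : ∀ l m, κ l (φ l m) = algebraMap (M ⧸ I.map (algebraMap A M)) (B' l) (Ideal.Quotient.mk _ m)
  surj : ∀ p : PrimeSpectrum (M ⧸ I.map (algebraMap A M)),
    ∃ l, p ∈ Set.range (PrimeSpectrum.comap (algebraMap (M ⧸ I.map (algebraMap A M)) (B' l)))

attribute [instance] Cover.ring Cover.algA Cover.alg Cover.tower Cover.flat

variable {I φ}

/-- The base case: modules killed by `I`. -/
theorem eq_zero_of_killed (c : Cover I φ) {N : Type u} [AddCommGroup N] [Module A N]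
    (hN : ∀ r ∈ I, ∀ x : N, r • x = 0) {z : M ⊗[A] N}
    (hz : ∀ l, (φ l).toLinearMap.rTensor N z = 0) : z = 0 := by
  let π : M →ₗ[A] M ⧸ I.map (algebraMap A M) :=
    (Ideal.Quotient.mkₐ A (I.map (algebraMap A M))).toLinearMap
  have hπs : Function.Surjective π := Ideal.Quotient.mk_surjective
  have hker : π.rTensor N z = 0 → z = 0 := by
    intro h
    obtain ⟨w, rfl⟩ := (rTensor_exact (Q := N) (f := (LinearMap.ker π).subtype) (g := π)
      (LinearMap.exact_subtype_ker_map π) hπs z).1 h
    clear h hz
    induction w using TensorProduct.induction_on with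
    | zero => rw [map_zero]
    | add a b ha hb => rw [map_add, ha, hb, add_zero]
    | tmul m n =>
      obtain ⟨m, hm⟩ := m
      have hm' : m ∈ I.map (algebraMap A M) := Ideal.Quotient.eq_zero_iff_mem.1 hm
      rw [LinearMap.rTensor_tmul]
      show m ⊗ₜ[A] n = 0
      clear hm
      refine Submodule.span_induction (p := fun x _ => x ⊗ₜ[A] n = 0) ?_ ?_ ?_ ?_ hm' 
      · rintro _ ⟨r, hr, rfl⟩
        rw [Algebra.algebraMap_eq_smul_one, TensorProduct.smul_tmul, hN r hr, TensorProduct.tmul_zero]
      · exact TensorProduct.zero_tmul _ _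
      · intro x y _ _ hx hy; rw [TensorProduct.add_tmul, hx, hy, add_zero]
      · intro a x _ hx
        have := congrArg ((Algebra.lmul A M a).rTensor N) hx
        rwa [LinearMap.rTensor_tmul, map_zero] at this
  refine hker (eq_zero_of_cover c.B' c.surj fun l => ?_)
  let e := TensorProduct.AlgebraTensorModule.cancelBaseChange A (M ⧸ I.map (algebraMap A M))
    (c.B' l) (c.B' l) N
  refine e.injective ?_
  rw [map_zero]
  have key : ∀ z : M ⊗[A] N, e ((1 : c.B' l) ⊗ₜ π.rTensor N z) =
      (c.κ l).toLinearMap.rTensor N ((φ l).toLinearMap.rTensor N z) := by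
    intro z
    induction z using TensorProduct.induction_on with
    | zero => simp
    | add a b ha hb => simp only [map_add, TensorProduct.tmul_add, ha, hb]
    | tmul m n =>
      simp only [LinearMap.rTensor_tmul, e, TensorProduct.AlgebraTensorModule.cancelBaseChange_tmul,
        AlgHom.toLinearMap_apply, c.comm]
      rw [Algebra.smul_def, mul_one]
      rfl
  rw [key, hz, map_zero]

variable [∀ l, Module.Flat A (M' l)] [Module.Flat A M]

omit [Module.Flat A M] in
/-- Modules killed by a power of `I`. -/
theorem eq_zero_of_killed_pow (c : Cover I φ) (n : ℕ) {N : Type u} [AddCommGroup N] [Module A N]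
    (hN : ∀ r ∈ I ^ n, ∀ x : N, r • x = 0) {z : M ⊗[A] N}
    (hz : ∀ l, (φ l).toLinearMap.rTensor N z = 0) : z = 0 := by
  induction n generalizing N with
  | zero =>
    have h0 : ∀ x : N, x = 0 := fun x => by simpa using hN 1 (by simp) x
    induction z using TensorProduct.induction_on with
    | zero => rfl
    | tmul m x => rw [h0 x, TensorProduct.tmul_zero]
    | add a b _ _ => exact eq_zero_of_killed c (fun r _ x => by rw [h0 x, smul_zero]) hz
  | succ n ih =>
    let N₁ : Submodule A N := I • ⊤
    have hq : N₁.mkQ.lTensor M z = 0 := by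
      refine eq_zero_of_killed c (fun r hr x => ?_) fun l => ?_
      · obtain ⟨x, rfl⟩ := N₁.mkQ_surjective x
        rw [← map_smul, Submodule.mkQ_apply, Submodule.Quotient.mk_eq_zero]
        exact Submodule.smul_mem_smul hr trivial
      · rw [← LinearMap.comp_apply, LinearMap.rTensor_comp_lTensor, ← LinearMap.lTensor_comp_rTensor,
          LinearMap.comp_apply, hz l, map_zero]
    obtain ⟨w, rfl⟩ := (lTensor_exact M (f := N₁.subtype) (g := N₁.mkQ)
      (LinearMap.exact_subtype_mkQ N₁) N₁.mkQ_surjective z).1 hq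
    have hw : w = 0 := ih (N := N₁) (fun r hr x => Subtype.ext (by
      show r • (x : N) = 0
      refine Submodule.smul_induction_on (p := fun y => r • y = 0) x.2 (fun a ha y _ => ?_)
        fun a b ha hb => ?_
      · rw [← mul_smul]
        exact hN _ (by rw [pow_succ]; exact Ideal.mul_mem_mul hr ha) y
      · rw [smul_add, ha, hb, add_zero])) fun l => by
        refine Module.Flat.lTensor_preserves_injective_linearMap (M := M' l) N₁.subtype
          N₁.subtype_injective ?_
        rw [← LinearMap.comp_apply, LinearMap.lTensor_comp_rTensor, ← LinearMap.rTensor_comp_lTensor,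
          LinearMap.comp_apply, hz l, map_zero]
    rw [hw, map_zero]

/-- Elements of `M ⊗ D` killed by a power of `I` are detected in the `M' l ⊗ D`. -/
theorem eq_zero_of_torsion (c : Cover I φ) (hI : I.FG) {D : Type u} [AddCommGroup D] [Module A D]
    {z : M ⊗[A] D} (n : ℕ) (hn : ∀ r ∈ I ^ n, r • z = 0)
    (hz : ∀ l, (φ l).toLinearMap.rTensor D z = 0) : z = 0 := by
  classical
  obtain ⟨G, hG⟩ := hI.pow (n := n)
  let μ : D →ₗ[A] (↥G → D) := LinearMap.pi fun g => LinearMap.lsmul A D (g : A)
  have hμz : μ.lTensor M z = 0 := by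
    refine (TensorProduct.piRight A A M fun _ : ↥G => D).injective ?_
    rw [map_zero]
    have key : ∀ z : M ⊗[A] D,
        TensorProduct.piRight A A M (fun _ : ↥G => D) (μ.lTensor M z) = fun g : ↥G => (g : A) • z := by
      intro z
      induction z using TensorProduct.induction_on with
      | zero => funext g; simp
      | add a b ha hb => funext g; simp [map_add, ha, hb]
      | tmul m x => funext g; simp [μ, TensorProduct.piRight_apply]
    rw [key]
    funext g
    exact hn _ (by rw [← hG]; exact Submodule.subset_span g.2)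
  obtain ⟨w, rfl⟩ := (Module.Flat.lTensor_exact M (LinearMap.exact_subtype_ker_map μ) z).1 hμz
  have hw : w = 0 := eq_zero_of_killed_pow c n (fun r hr x => by
    rw [← hG] at hr
    refine Submodule.span_induction (p := fun r _ => r • x = 0) ?_ ?_ ?_ ?_ hr
    · intro g hg
      exact Subtype.ext (congrFun (LinearMap.mem_ker.1 x.2) ⟨g, hg⟩)
    · exact zero_smul _ _
    · intro a b _ _ ha hb; rw [add_smul, ha, hb, add_zero]
    · intro a b _ hb; rw [smul_eq_mul, mul_smul, hb, smul_zero]) fun l => by
      refine Module.Flat.lTensor_preserves_injective_linearMap (M := M' l) (LinearMap.ker μ).subtype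
        (Submodule.subtype_injective _) ?_
      rw [← LinearMap.comp_apply, LinearMap.lTensor_comp_rTensor, ← LinearMap.rTensor_comp_lTensor,
        LinearMap.comp_apply, hz l, map_zero]
  rw [hw, map_zero]

end Groth.AlgSpBasic.GlueTorsion
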