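import Groth.Agent.AlgSpBasic.GlueingPairSp
import Groth.Agent.AlgSpBasic.GlueHomAffine
import Groth.Agent.S10727
import Groth.Agent.S10721
import Groth.Agent.S10723

/-!
# Affine schemes glued along a glueing pair
-/

set_option autoImplicit false
set_option backward.isDefEq.respectTransparency.types false
universe u

open CategoryTheory CategoryTheory.Limits AlgebraicGeometry Opposite AlgSp
open scoped TensorProduct

namespace Groth.AlgSpBasic.GluedAffine

open Groth.EtaleAlgebra.Glue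

noncomputable section

attribute [local instance] Algebra.TensorProduct.rightAlgebra

/-- `e` exhibits `E₁` as the product of `E` and `U` over the base. -/
def Piece {S : Scheme.{u}} {E E₁ U : Over S} (e : E₁ ⟶ E) (u : E₁ ⟶ U) : Prop :=
  ∀ (T : Over S) (a : T ⟶ E) (c : T ⟶ U), ∃! k : T ⟶ E₁, k ≫ e = a ∧ k ≫ u = c

namespace Piece

variable {S : Scheme.{u}} {E E₁ U : Over S} {e : E₁ ⟶ E} {u : E₁ ⟶ U}

theorem exists_lift (h : Piece e u) {T : Over S} (a : T ⟶ E) (c : T ⟶ U) :
    ∃ k : T ⟶ E₁, k ≫ e = a ∧ k ≫ u = c :=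
  (h T a c).exists

theorem hom_ext (h : Piece e u) {T : Over S} {k k' : T ⟶ E₁} (h₁ : k ≫ e = k' ≫ e) (h₂ : k ≫ u = k' ≫ u) :
    k = k' :=
  (h T (k' ≫ e) (k' ≫ u)).unique ⟨h₁, h₂⟩ ⟨rfl, rfl⟩

theorem comp_iso (h : Piece e u) {E' : Over S} (ε : E ≅ E') : Piece (e ≫ ε.hom) u := fun T a c => by
  obtain ⟨k, ⟨hk, hk'⟩, hu⟩ := h T (a ≫ ε.inv) c
  refine ⟨k, ⟨by rw [← Category.assoc, hk, Category.assoc, ε.inv_hom_id, Category.comp_id], hk'⟩, fun l hl => hu l ⟨?_, hl.2⟩⟩
  rw [← hl.1]; simp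

theorem of_isPullback {e' : E₁.left ⟶ E.left} {u' : E₁.left ⟶ U.left} (sq : IsPullback e' u' E.hom U.hom)
    (he : e.left = e') (hu : u.left = u') : Piece e u := fun T a c => by
  subst he hu
  have hw : a.left ≫ E.hom = c.left ≫ U.hom := (Over.w a).trans (Over.w c).symm
  refine ⟨Over.homMk (sq.lift a.left c.left hw) ?_, ⟨Over.OverMorphism.ext (sq.lift_fst _ _ hw),
    Over.OverMorphism.ext (sq.lift_snd _ _ hw)⟩, fun l hl => Over.OverMorphism.ext (sq.hom_ext ?_ ?_)⟩
  · rw [← Over.w e]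
    show sq.lift a.left c.left hw ≫ e.left ≫ E.hom = T.hom
    rw [sq.lift_fst_assoc]
    exact Over.w a
  · show l.left ≫ e.left = sq.lift a.left c.left hw ≫ e.left
    rw [sq.lift_fst, ← Over.comp_left, hl.1]
  · show l.left ≫ u.left = sq.lift a.left c.left hw ≫ u.left
    rw [sq.lift_snd, ← Over.comp_left, hl.2]

theorem isIso_of_piece (h : Piece e u) {E₁' : Over S} {e' : E₁' ⟶ E} {u' : E₁' ⟶ U} (h' : Piece e' u') :
    ∃ ε : E₁ ≅ E₁', ε.hom ≫ e' = e ∧ ε.hom ≫ u' = u := by
  obtain ⟨k, hk, hk'⟩ := h'.exists_lift e u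
  obtain ⟨l, hl, hl'⟩ := h.exists_lift e' u'
  exact ⟨⟨k, l, h.hom_ext (by rw [Category.assoc, hl, hk, Category.id_comp])
    (by rw [Category.assoc, hl', hk', Category.id_comp]), h'.hom_ext
    (by rw [Category.assoc, hk, hl, Category.id_comp]) (by rw [Category.assoc, hk', hl', Category.id_comp])⟩, hk, hk'⟩

end Piece

variable {R R' : Type u} [CommRing R] [CommRing R'] [Algebra R R'] {f : R}

theorem hom_ext_away {T : Over (Spec (CommRingCat.of R))} (c c' : T ⟶ algObj R (Localization.Away f)) : c = c' := by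
  have : Mono (algObj R (Localization.Away f)).hom :=
    (inferInstanceAs (Mono (Spec.map (CommRingCat.ofHom (algebraMap R (Localization.Away f))))))
  exact Over.OverMorphism.ext ((cancel_mono (algObj R (Localization.Away f)).hom).1 ((Over.w c).trans (Over.w c').symm))

/-- The map of algebra objects of an algebra map. -/
def algMap {A A' : Type u} [CommRing A] [Algebra R A] [CommRing A'] [Algebra R A'] (φ : A →ₐ[R] A') :
    algObj R A' ⟶ algObj R A :=
  Over.homMk (Spec.map (CommRingCat.ofHom φ.toRingHom)) (by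
    show Spec.map _ ≫ Spec.map _ = Spec.map _
    rw [← Spec.map_comp, ← CommRingCat.ofHom_comp, AlgHom.toRingHom_eq_coe, φ.comp_algebraMap])

theorem algMap_comp {A A' A'' : Type u} [CommRing A] [Algebra R A] [CommRing A'] [Algebra R A'] [CommRing A'']
    [Algebra R A''] (φ : A →ₐ[R] A') (ψ : A' →ₐ[R] A'') : algMap ψ ≫ algMap φ = algMap (ψ.comp φ) := by
  refine Over.OverMorphism.ext ?_
  show Spec.map _ ≫ Spec.map _ = Spec.map _
  rw [← Spec.map_comp, ← CommRingCat.ofHom_comp]
  rfl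

theorem algMap_surjective {A A' : Type u} [CommRing A] [Algebra R A] [CommRing A'] [Algebra R A']
    (h : algObj R A' ⟶ algObj R A) : ∃ φ : A →ₐ[R] A', algMap φ = h := by
  let ψ := Spec.preimage h.left
  have hψ : Spec.map ψ = h.left := Spec.map_preimage _
  have e : CommRingCat.ofHom (algebraMap R A) ≫ ψ = CommRingCat.ofHom (algebraMap R A') :=
    Spec.map_injective (by rw [Spec.map_comp, hψ]; exact Over.w h)
  exact ⟨{ ψ.hom with commutes' := fun r => RingHom.congr_fun (congrArg CommRingCat.Hom.hom e) r },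
    Over.OverMorphism.ext hψ⟩

theorem algMap_injective {A A' : Type u} [CommRing A] [Algebra R A] [CommRing A'] [Algebra R A']
    {φ φ' : A →ₐ[R] A'} (h : algMap φ = algMap φ') : φ = φ' :=
  AlgHom.coe_ringHom_injective
    (congrArg CommRingCat.Hom.hom (Spec.map_injective (congrArg CommaMorphism.left h)))

section Loc

variable (f) (A : Type u) [CommRing A] [Algebra R A]

/-- The localisation piece. -/
def locMap : algObj R (Localization.Away (algebraMap R A f)) ⟶ algObj R A :=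
  algMap (IsScalarTower.toAlgHom R A _)

/-- The projection of the localisation piece. -/
def locProj : algObj R (Localization.Away (algebraMap R A f)) ⟶ algObj R (Localization.Away f) :=
  Over.homMk (Spec.map (CommRingCat.ofHom (Localization.awayMap (algebraMap R A) f))) (by
    show _ ≫ Spec.map _ = Spec.map _
    rw [Groth.TorsProper.Adic.specMap_awayMap, ← Spec.map_comp, ← CommRingCat.ofHom_comp,
      ← IsScalarTower.algebraMap_eq])

theorem piece_loc : Piece (locMap f A) (locProj f A) :=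
  Piece.of_isPullback (Groth.TorsProper.Adic.isPullback_away (A := R) (t := f) A) rfl rfl

variable (R')

/-- The base change piece. -/
def tensMap : algObj R (R' ⊗[R] A) ⟶ algObj R A :=
  algMap (Algebra.TensorProduct.includeRight : A →ₐ[R] R' ⊗[R] A)

/-- The projection of the base change piece. -/
def tensProj : algObj R (R' ⊗[R] A) ⟶ algObj R R' :=
  algMap (Algebra.TensorProduct.includeLeft (R := R) (S := R) (A := R') (B := A))

theorem piece_tens : Piece (tensMap (R := R) R' A) (tensProj (R := R) R' A) :=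
  Piece.of_isPullback (Groth.TorsProper.Adic.isPullback_tensor (A := R) (A' := R') A) rfl rfl

end Loc

/-- `E` is affine, glueable, and `E₁`, `E₂` are its two pieces. -/
structure Glued (R' : Type u) [CommRing R'] [Algebra R R'] (f : R) {E E₁ E₂ : Over (Spec (CommRingCat.of R))}
    (e₁ : E₁ ⟶ E) (u₁ : E₁ ⟶ algObj R (Localization.Away f))
    (e₂ : E₂ ⟶ E) (u₂ : E₂ ⟶ algObj R R') : Prop where
  affine : IsAffine E.left
  piece₁ : Piece e₁ u₁
  piece₂ : Piece e₂ u₂
  glueable : ∀ (A : Type u) [CommRing A] [Algebra R A], (algObj R A ≅ E) → TorsInj R R' f A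

variable {E E₁ E₂ G : Over (Spec (CommRingCat.of R))} {e₁ : E₁ ⟶ E}
  {u₁ : E₁ ⟶ algObj R (Localization.Away f)} {e₂ : E₂ ⟶ E} {u₂ : E₂ ⟶ algObj R R'}

/-- Maps out of a glued affine scheme are determined on the pieces. -/
theorem Glued.hom_ext (h : EtGlue.IsGlueingPair R R' f) (hE : Glued R' f e₁ u₁ e₂ u₂) [IsAffine G.left]
    {a b : E ⟶ G} (h₁ : e₁ ≫ a = e₁ ≫ b) (h₂ : e₂ ≫ a = e₂ ≫ b) : a = b := by
  haveI := hE.affine
  obtain ⟨A, _, _, ⟨ε⟩⟩ := exists_algObj_iso E
  obtain ⟨D, _, _, ⟨δ⟩⟩ := exists_algObj_iso G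
  rw [← cancel_epi ε.hom, ← cancel_mono δ.inv]
  obtain ⟨α, hα⟩ := algMap_surjective ((ε.hom ≫ a) ≫ δ.inv)
  obtain ⟨β, hβ⟩ := algMap_surjective ((ε.hom ≫ b) ≫ δ.inv)
  rw [← hα, ← hβ]
  obtain ⟨k₁, hk₁, -⟩ := hE.piece₁.exists_lift (locMap f A ≫ ε.hom) (locProj f A)
  obtain ⟨k₂, hk₂, -⟩ := hE.piece₂.exists_lift (tensMap R' A ≫ ε.hom) (tensProj R' A)
  have hl : (IsScalarTower.toAlgHom R A (Localization.Away (algebraMap R A f))).comp α =
      (IsScalarTower.toAlgHom R A _).comp β := algMap_injective (by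
    rw [← algMap_comp, ← algMap_comp, hα, hβ]
    show locMap f A ≫ _ = locMap f A ≫ _
    simp only [← Category.assoc, ← hk₁]
    simp only [Category.assoc, reassoc_of% h₁])
  have ht : (Algebra.TensorProduct.includeRight : A →ₐ[R] R' ⊗[R] A).comp α =
      (Algebra.TensorProduct.includeRight : A →ₐ[R] R' ⊗[R] A).comp β := algMap_injective (by
    rw [← algMap_comp, ← algMap_comp, hα, hβ]
    show tensMap R' A ≫ _ = tensMap R' A ≫ _
    simp only [← Category.assoc, ← hk₂]
    simp only [Category.assoc, reassoc_of% h₂])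
  have hA := isGlueingPair_algebra A h (hE.glueable A ε)
  exact congrArg algMap (AlgHom.ext fun d => hA.2.1
    (Prod.ext (AlgHom.congr_fun ht d) (AlgHom.congr_fun hl d)))

/-- Compatible maps on the pieces glue. -/
theorem Glued.exists_hom (h : EtGlue.IsGlueingPair R R' f) (hE : Glued R' f e₁ u₁ e₂ u₂) [IsAffine G.left]
    (g₁ : E₁ ⟶ G) (g₂ : E₂ ⟶ G)
    (hg : ∀ (T : Over (Spec (CommRingCat.of R))) (a : T ⟶ E₁) (b : T ⟶ E₂), a ≫ e₁ = b ≫ e₂ → a ≫ g₁ = b ≫ g₂) :
    ∃ g : E ⟶ G, e₁ ≫ g = g₁ ∧ e₂ ≫ g = g₂ := by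
  haveI := hE.affine
  obtain ⟨A, _, _, ⟨ε⟩⟩ := exists_algObj_iso E
  obtain ⟨D, _, _, ⟨δ⟩⟩ := exists_algObj_iso G
  obtain ⟨η₁, hη₁, -⟩ := ((piece_loc f A).comp_iso ε).isIso_of_piece hE.piece₁
  obtain ⟨η₂, hη₂, -⟩ := ((piece_tens R' A).comp_iso ε).isIso_of_piece hE.piece₂
  obtain ⟨α, hα⟩ := algMap_surjective ((η₁.hom ≫ g₁) ≫ δ.inv)
  obtain ⟨β, hβ⟩ := algMap_surjective ((η₂.hom ≫ g₂) ≫ δ.inv)
  let L := Localization.Away (algebraMap A (R' ⊗[R] A) (algebraMap R A f))
  let lo : R' ⊗[R] A →ₐ[R] L := IsScalarTower.toAlgHom R _ _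
  let amr : Localization.Away (algebraMap R A f) →+* L :=
    Localization.awayMap (algebraMap A (R' ⊗[R] A)) (algebraMap R A f)
  have ham : ∀ r, amr (algebraMap R _ r) = algebraMap R L r := fun r => by
    rw [IsScalarTower.algebraMap_apply R A (Localization.Away (algebraMap R A f))]
    exact (IsLocalization.map_eq _ _).trans (by
      rw [show algebraMap A (R' ⊗[R] A) (algebraMap R A r) = algebraMap R (R' ⊗[R] A) r from
        (Algebra.TensorProduct.includeRight : A →ₐ[R] R' ⊗[R] A).commutes r]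
      exact lo.commutes r)
  let am : Localization.Away (algebraMap R A f) →ₐ[R] L := { amr with commutes' := ham }
  have hcomm : am.comp (IsScalarTower.toAlgHom R A _) =
      lo.comp (Algebra.TensorProduct.includeRight : A →ₐ[R] R' ⊗[R] A) :=
    AlgHom.ext fun a => by
      show amr (algebraMap A _ a) = algebraMap (R' ⊗[R] A) L (algebraMap A (R' ⊗[R] A) a)
      exact IsLocalization.map_eq _ a
  have hαβ : am.comp α = lo.comp β := algMap_injective (by
    rw [← algMap_comp, ← algMap_comp, hα, hβ]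
    simp only [← Category.assoc]
    refine congrArg (· ≫ δ.inv) ?_
    refine hg _ _ _ ?_
    rw [Category.assoc, Category.assoc, hη₁, hη₂]
    show algMap am ≫ algMap _ ≫ ε.hom = algMap lo ≫ algMap _ ≫ ε.hom
    rw [← Category.assoc, ← Category.assoc, algMap_comp, algMap_comp, hcomm])
  have hA := isGlueingPair_algebra A h (hE.glueable A ε)
  choose r hr₂ hr₁ using fun x : D => hA.2.2.1 (β x) (α x) (AlgHom.congr_fun hαβ x).symm
  have hinj : ∀ a b : A, algebraMap A (R' ⊗[R] A) a = algebraMap A (R' ⊗[R] A) b →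
      algebraMap A (Localization.Away (algebraMap R A f)) a = algebraMap A _ b → a = b :=
    fun a b e1 e2 => hA.2.1 (Prod.ext e1 e2)
  let ρ : D →ₐ[R] A :=
    { toFun := r
      map_one' := hinj _ _ (by simp [hr₂]) (by simp [hr₁])
      map_zero' := hinj _ _ (by simp [hr₂]) (by simp [hr₁])
      map_mul' := fun a b => hinj _ _ (by simp [hr₂]) (by simp [hr₁])
      map_add' := fun a b => hinj _ _ (by simp [hr₂]) (by simp [hr₁])
      commutes' := fun c => hinj _ _
        ((hr₂ _).trans ((β.commutes c).trans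
          ((Algebra.TensorProduct.includeRight : A →ₐ[R] R' ⊗[R] A).commutes c).symm))
        ((hr₁ _).trans ((α.commutes c).trans (IsScalarTower.algebraMap_apply R A _ c))) }
  have e₁' : (IsScalarTower.toAlgHom R A (Localization.Away (algebraMap R A f))).comp ρ = α := AlgHom.ext hr₁
  have e₂' : (Algebra.TensorProduct.includeRight : A →ₐ[R] R' ⊗[R] A).comp ρ = β := AlgHom.ext hr₂
  refine ⟨ε.inv ≫ algMap ρ ≫ δ.hom, ?_, ?_⟩
  · rw [← cancel_epi η₁.hom, reassoc_of% hη₁, ε.hom_inv_id_assoc, ← Category.assoc]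
    show (algMap _ ≫ algMap ρ) ≫ δ.hom = _
    rw [algMap_comp, e₁', hα, Category.assoc, δ.inv_hom_id, Category.comp_id]
  · rw [← cancel_epi η₂.hom, reassoc_of% hη₂, ε.hom_inv_id_assoc, ← Category.assoc]
    show (algMap _ ≫ algMap ρ) ≫ δ.hom = _
    rw [algMap_comp, e₂', hβ, Category.assoc, δ.inv_hom_id, Category.comp_id]

/-- Glueing affine schemes. -/
theorem exists_glued (h : EtGlue.IsGlueingPair R R' f) {E₁₂ : Over (Spec (CommRingCat.of R))}
    [IsAffine E₁.left] [IsAffine E₂.left] [IsAffine E₁₂.left]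
    (u₁ : E₁ ⟶ algObj R (Localization.Away f)) (u₂ : E₂ ⟶ algObj R R') {l : E₁₂ ⟶ E₁} {r : E₁₂ ⟶ E₂}
    (hl : Piece l (r ≫ u₂)) (hr : Piece r (l ≫ u₁)) :
    ∃ (E : Over (Spec (CommRingCat.of R))) (e₁ : E₁ ⟶ E) (e₂ : E₂ ⟶ E),
      Glued R' f e₁ u₁ e₂ u₂ ∧ l ≫ e₁ = r ≫ e₂ := by
  obtain ⟨A₁, i₁, j₁, ⟨ε₁⟩⟩ := exists_algObj_iso E₁
  obtain ⟨A₂, i₂, j₂, ⟨ε₂⟩⟩ := exists_algObj_iso E₂
  obtain ⟨μ, hμ⟩ := algMap_surjective (ε₁.hom ≫ u₁)
  have hu : IsUnit (algebraMap R A₁ f) := by
    rw [← μ.commutes]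
    exact (IsLocalization.Away.algebraMap_isUnit f).map μ
  obtain ⟨ν, hν⟩ := algMap_surjective (ε₂.hom ≫ u₂)
  letI : Algebra R' A₂ := ν.toRingHom.toAlgebra
  haveI : IsScalarTower R R' A₂ := IsScalarTower.of_algebraMap_eq fun x => (ν.commutes x).symm
  obtain ⟨θ₁, hθ₁, hθ₁'⟩ := ((piece_tens R' A₁).comp_iso ε₁).isIso_of_piece hl
  obtain ⟨θ₂, hθ₂, -⟩ := ((piece_loc f A₂).comp_iso ε₂).isIso_of_piece hr
  obtain ⟨ψ, hψ⟩ := algMap_surjective (θ₁.hom ≫ θ₂.inv)
  obtain ⟨ψ', hψ'⟩ := algMap_surjective (θ₂.hom ≫ θ₁.inv)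
  have hid : ∀ {B : Type u} [CommRing B] [Algebra R B], algMap (AlgHom.id R B) = 𝟙 (algObj R B) := by
    intro B _ _
    exact Over.OverMorphism.ext (Spec.map_id _)
  have hψψ' : ψ.comp ψ' = AlgHom.id R _ := algMap_injective (by rw [← algMap_comp, hψ, hψ', hid]; simp)
  have hψ'ψ : ψ'.comp ψ = AlgHom.id R _ := algMap_injective (by rw [← algMap_comp, hψ, hψ', hid]; simp)
  have hlin : ∀ x : R', ψ (algebraMap R' (Localization.Away (algebraMap R A₂ f)) x) =
      algebraMap R' (R' ⊗[R] A₁) x := by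
    have : (ψ.comp (IsScalarTower.toAlgHom R A₂ _)).comp ν =
        (Algebra.TensorProduct.includeLeft (R := R) (S := R) (A := R') (B := A₁)) := algMap_injective (by
      rw [← algMap_comp, ← algMap_comp, hψ, hν]
      show (θ₁.hom ≫ θ₂.inv) ≫ locMap f A₂ ≫ ε₂.hom ≫ u₂ = tensProj R' A₁
      rw [← hθ₁', Category.assoc]
      refine congrArg (θ₁.hom ≫ ·) ?_
      rw [← Category.assoc (locMap f A₂), ← hθ₂]
      simp)
    intro x
    refine Eq.trans ?_ (AlgHom.congr_fun this x)
    rw [IsScalarTower.algebraMap_apply R' A₂ (Localization.Away (algebraMap R A₂ f))]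
    rfl
  let ψl : Localization.Away (algebraMap R A₂ f) →ₐ[R'] R' ⊗[R] A₁ := { ψ.toRingHom with commutes' := hlin }
  let φ : Localization.Away (algebraMap R A₂ f) ≃ₐ[R'] R' ⊗[R] A₁ := AlgEquiv.ofBijective ψl
    ⟨Function.LeftInverse.injective (g := ψ') (AlgHom.congr_fun hψ'ψ),
      Function.RightInverse.surjective (g := ψ') (AlgHom.congr_fun hψψ')⟩
  obtain ⟨A, iA, jA, hgl, η₁, η₂, hcomp⟩ := Groth.Agent.S10727.result R R' f h A₁ hu A₂ φ
  let q₁ : A →ₐ[R] A₁ := η₁.toAlgHom.comp (IsScalarTower.toAlgHom R A _)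
  let q₂ : A →ₐ[R] A₂ := (η₂.toAlgHom.restrictScalars R).comp Algebra.TensorProduct.includeRight
  refine ⟨algObj R A, ε₁.inv ≫ algMap q₁, ε₂.inv ≫ algMap q₂,
    ⟨inferInstanceAs (IsAffine (Spec _)), ?_, ?_, fun B _ _ e => ?_⟩, ?_⟩
  · -- transport the localisation piece
    intro T a c
    obtain ⟨k, ⟨hk, -⟩, huk⟩ := piece_loc f A T a c
    refine ⟨k ≫ algMap η₁.symm.toAlgHom ≫ ε₁.hom, ⟨?_, hom_ext_away _ _⟩, fun m hm => ?_⟩
    · simp only [q₁, ← algMap_comp, Category.assoc, ε₁.hom_inv_id_assoc]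
      rw [← Category.assoc (algMap η₁.symm.toAlgHom), algMap_comp,
        show η₁.symm.toAlgHom.comp η₁.toAlgHom = AlgHom.id R _ from AlgHom.ext η₁.symm_apply_apply, hid,
        Category.id_comp]
      exact hk
    · have := huk (m ≫ ε₁.inv ≫ algMap η₁.toAlgHom) ⟨by
        rw [← hm.1]
        simp only [q₁, ← algMap_comp, Category.assoc]
        rfl, hom_ext_away _ _⟩
      rw [← this]
      simp only [Category.assoc]
      rw [← Category.assoc (algMap η₁.toAlgHom), algMap_comp,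
        show η₁.toAlgHom.comp η₁.symm.toAlgHom = AlgHom.id R _ from AlgHom.ext η₁.apply_symm_apply, hid,
        Category.id_comp, ε₁.inv_hom_id, Category.comp_id]
  · -- transport the base change piece
    intro T a c
    obtain ⟨k, ⟨hk, hk'⟩, huk⟩ := piece_tens R' A T a c
    have hproj : algMap (η₂.symm.toAlgHom.restrictScalars R) ≫ algMap ν = tensProj R' A := by
      rw [algMap_comp]
      exact congrArg algMap (AlgHom.ext fun x => η₂.symm.commutes x)
    have hproj' : algMap (η₂.toAlgHom.restrictScalars R) ≫ tensProj R' A = algMap ν := by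
      rw [tensProj, algMap_comp]
      exact congrArg algMap (AlgHom.ext fun x => η₂.commutes x)
    refine ⟨k ≫ algMap (η₂.symm.toAlgHom.restrictScalars R) ≫ ε₂.hom, ⟨?_, ?_⟩, fun m hm => ?_⟩
    · simp only [q₂, ← algMap_comp, Category.assoc, ε₂.hom_inv_id_assoc]
      rw [← Category.assoc (algMap (η₂.symm.toAlgHom.restrictScalars R)), algMap_comp,
        show (η₂.symm.toAlgHom.restrictScalars R).comp (η₂.toAlgHom.restrictScalars R) = AlgHom.id R _ from
          AlgHom.ext η₂.symm_apply_apply, hid, Category.id_comp]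
      exact hk
    · simp only [Category.assoc, ← hν]
      rw [hproj]
      exact hk'
    · have := huk (m ≫ ε₂.inv ≫ algMap (η₂.toAlgHom.restrictScalars R)) ⟨by
        rw [← hm.1]
        simp only [q₂, ← algMap_comp, Category.assoc]
        rfl, by
        rw [← hm.2]
        simp only [Category.assoc, hproj', hν, ε₂.inv_hom_id_assoc]⟩
      rw [← this]
      simp only [Category.assoc]
      rw [← Category.assoc (algMap (η₂.toAlgHom.restrictScalars R)), algMap_comp,
        show (η₂.toAlgHom.restrictScalars R).comp (η₂.symm.toAlgHom.restrictScalars R) = AlgHom.id R _ from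
          AlgHom.ext η₂.apply_symm_apply, hid, Category.id_comp, ε₂.inv_hom_id, Category.comp_id]
  · -- glueability
    obtain ⟨φe, hφe⟩ := algMap_surjective e.hom
    obtain ⟨ψe, hψe⟩ := algMap_surjective e.inv
    refine (torsInj_of_glueable hgl).of_injective ψe.toLinearMap ?_
    have : φe.comp ψe = AlgHom.id R B := algMap_injective (by rw [← algMap_comp, hφe, hψe, hid, e.hom_inv_id])
    exact Function.LeftInverse.injective (g := φe) (AlgHom.congr_fun this)
  · rw [← cancel_epi θ₁.hom]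
    have e1 : θ₁.hom ≫ l ≫ ε₁.inv = tensMap R' A₁ := by rw [reassoc_of% hθ₁, ε₁.hom_inv_id, Category.comp_id]
    have e2 : θ₁.hom ≫ r ≫ ε₂.inv = algMap ψ ≫ locMap f A₂ := by
      rw [hψ, Category.assoc]
      refine congrArg (θ₁.hom ≫ ·) ?_
      rw [Iso.eq_inv_comp, reassoc_of% hθ₂, ε₂.hom_inv_id, Category.comp_id]
    rw [show θ₁.hom ≫ l ≫ ε₁.inv ≫ algMap q₁ = (θ₁.hom ≫ l ≫ ε₁.inv) ≫ algMap q₁ by simp,
      show θ₁.hom ≫ r ≫ ε₂.inv ≫ algMap q₂ = (θ₁.hom ≫ r ≫ ε₂.inv) ≫ algMap q₂ by simp, e1, e2]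
    simp only [tensMap, locMap, algMap_comp]
    exact congrArg algMap (AlgHom.ext fun a => (hcomp a).symm)

theorem surjective_of_pieces (h : EtGlue.IsGlueingPair R R' f) {A B : Type u} [CommRing A] [Algebra R A]
    [CommRing B] [Algebra R B] (φ : A →ₐ[R] B)
    (h₁ : Function.Surjective (Localization.awayMap φ.toRingHom (algebraMap R A f)))
    (h₂ : Function.Surjective (Algebra.TensorProduct.map (AlgHom.id R R') φ).toRingHom) :
    Function.Surjective φ := by
  let : Algebra A B := φ.toRingHom.toAlgebra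
  have : IsScalarTower R A B := IsScalarTower.of_algebraMap_eq (fun r => (φ.commutes r).symm)
  have hφ : φ = IsScalarTower.toAlgHom R A B := AlgHom.ext fun _ => rfl
  have h1 := away_iff A B (P := fun {S T} [CommRing S] [CommRing T] (g : S →+* T) => Function.Surjective g) RingHom.surjective_respectsIso (algebraMap R A f)
  have h2 := map_iff (R := R) (R' := R') A B (P := fun {S T} [CommRing S] [CommRing T] (g : S →+* T) => Function.Surjective g) RingHom.surjective_respectsIso
  rw [hφ, h2] at h₂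
  rw [hφ] at h₁ ⊢
  exact (surjective_iff (quotPow_algebra A h.1) B).2 ⟨h₂, h1.1 h₁⟩

section Pieces

variable {F E₁ E₂ F₁ F₂ : Over (Spec (CommRingCat.of R))} {e₁ : E₁ ⟶ E} {u₁ : E₁ ⟶ algObj R (Localization.Away f)}
  {e₂ : E₂ ⟶ E} {u₂ : E₂ ⟶ algObj R R'} {g₁ : F₁ ⟶ F} {v₁ : F₁ ⟶ algObj R (Localization.Away f)}
  {g₂ : F₂ ⟶ F} {v₂ : F₂ ⟶ algObj R R'}

/-- Properties of the pieces of a map of affine schemes, on coordinate rings. -/
theorem exists_ring_pieces {A B : Type u} [CommRing A] [Algebra R A] [CommRing B] [Algebra R B]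
    (P : MorphismProperty Scheme.{u}) [P.RespectsIso] (εB : algObj R B ≅ E) (εA : algObj R A ≅ F) (φ : E ⟶ F)
    (α : A →ₐ[R] B) (hα : algMap α = εB.hom ≫ φ ≫ εA.inv)
    (pE₁ : Piece e₁ u₁) (pE₂ : Piece e₂ u₂) (pF₁ : Piece g₁ v₁) (pF₂ : Piece g₂ v₂)
    (k₁ : E₁ ⟶ F₁) (hk₁ : k₁ ≫ g₁ = e₁ ≫ φ) (k₂ : E₂ ⟶ F₂) (hk₂ : k₂ ≫ g₂ = e₂ ≫ φ)
    (hk₂' : k₂ ≫ v₂ = u₂) (h₁ : P k₁.left) (h₂ : P k₂.left) :
    P (Spec.map (CommRingCat.ofHom (Localization.awayMap α.toRingHom (algebraMap R A f)))) ∧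
      P (Spec.map (CommRingCat.ofHom (Algebra.TensorProduct.map (AlgHom.id R R') α).toRingHom)) := by
  obtain ⟨ηB₁, hB₁, -⟩ := ((piece_loc f B).comp_iso εB).isIso_of_piece pE₁
  obtain ⟨ηA₁, hA₁, -⟩ := ((piece_loc f A).comp_iso εA).isIso_of_piece pF₁
  obtain ⟨ηB₂, hB₂, hB₂'⟩ := ((piece_tens R' B).comp_iso εB).isIso_of_piece pE₂
  obtain ⟨ηA₂, hA₂, hA₂'⟩ := ((piece_tens R' A).comp_iso εA).isIso_of_piece pF₂
  have hαφ : εB.hom ≫ φ = algMap α ≫ εA.hom := by
    rw [hα]; simp
  constructor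
  · have hf : α.toRingHom (algebraMap R A f) = algebraMap R B f := α.commutes f
    haveI : IsLocalization.Away (α.toRingHom (algebraMap R A f)) (Localization.Away (algebraMap R B f)) := by
      rw [hf]; infer_instance
    haveI hloc : IsLocalization (Submonoid.powers (algebraMap R B f))
        (Localization.Away (α.toRingHom (algebraMap R A f))) := by
      rw [← hf]; infer_instance
    let amr : Localization.Away (algebraMap R A f) →+* Localization.Away (algebraMap R B f) :=
      IsLocalization.Away.map _ _ α.toRingHom (algebraMap R A f)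
    have hamr : ∀ x, amr (algebraMap A _ x) = algebraMap B _ (α x) := fun x => by
      simp only [amr, IsLocalization.Away.map, IsLocalization.map_eq]
      rfl
    have ham : ∀ r, amr (algebraMap R _ r) = algebraMap R _ r := fun r => by
      rw [IsScalarTower.algebraMap_apply R A (Localization.Away (algebraMap R A f)), hamr, α.commutes,
        ← IsScalarTower.algebraMap_apply]
    let am : Localization.Away (algebraMap R A f) →ₐ[R] Localization.Away (algebraMap R B f) :=
      { amr with commutes' := ham }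
    have hk : ηB₁.hom ≫ k₁ ≫ ηA₁.inv = algMap am := by
      refine (piece_loc f A).hom_ext ?_ (hom_ext_away _ _)
      have hsq : algMap am ≫ locMap f A = locMap f B ≫ algMap α := by
        simp only [locMap, algMap_comp]
        exact congrArg algMap (AlgHom.ext hamr)
      rw [hsq, ← cancel_mono εA.hom]
      simp only [Category.assoc, ← hαφ]
      have : ηA₁.inv ≫ locMap f A ≫ εA.hom = g₁ := by rw [← hA₁, ηA₁.inv_hom_id_assoc]
      rw [this, hk₁, ← Category.assoc, hB₁, Category.assoc]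
    have hP : P (algMap am).left := by
      rw [← hk, Over.comp_left, Over.comp_left, P.cancel_left_of_respectsIso, P.cancel_right_of_respectsIso]
      exact h₁
    have e : Localization.awayMap α.toRingHom (algebraMap R A f) =
        ((IsLocalization.algEquiv (Submonoid.powers (algebraMap R B f)) (Localization.Away (algebraMap R B f))
          (Localization.Away (α.toRingHom (algebraMap R A f)))).toRingEquiv.toRingHom).comp amr := by
      refine IsLocalization.ringHom_ext (Submonoid.powers (algebraMap R A f)) (RingHom.ext fun x => ?_)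
      simp only [RingHom.comp_apply, Localization.awayMap, IsLocalization.Away.map, IsLocalization.map_eq, hamr]
      exact (IsLocalization.algEquiv (Submonoid.powers (algebraMap R B f)) _ _).commutes (α x) |>.symm
    let ι : Localization.Away (algebraMap R B f) ≃+* Localization.Away (α.toRingHom (algebraMap R A f)) :=
      (IsLocalization.algEquiv (Submonoid.powers (algebraMap R B f)) _ _).toRingEquiv
    rw [e, CommRingCat.ofHom_comp, Spec.map_comp]
    haveI : IsIso (CommRingCat.ofHom ι.toRingHom) :=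
      inferInstanceAs (IsIso (RingEquiv.toCommRingCatIso ι).hom)
    exact (P.cancel_left_of_respectsIso _ _).2 hP
  · have hk : ηB₂.hom ≫ k₂ ≫ ηA₂.inv = algMap (Algebra.TensorProduct.map (AlgHom.id R R') α) := by
      refine (piece_tens R' A).hom_ext ?_ ?_
      · have hsq : algMap (Algebra.TensorProduct.map (AlgHom.id R R') α) ≫ tensMap R' A =
            tensMap R' B ≫ algMap α := by
          simp only [tensMap, algMap_comp]
          exact congrArg algMap (AlgHom.ext fun x => by simp)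
        rw [hsq, ← cancel_mono εA.hom]
        simp only [Category.assoc, ← hαφ]
        have : ηA₂.inv ≫ tensMap R' A ≫ εA.hom = g₂ := by rw [← hA₂, ηA₂.inv_hom_id_assoc]
        rw [this, hk₂, ← Category.assoc, hB₂, Category.assoc]
      · have hsq : algMap (Algebra.TensorProduct.map (AlgHom.id R R') α) ≫ tensProj R' A = tensProj R' B := by
          simp only [tensProj, algMap_comp]
          exact congrArg algMap (AlgHom.ext fun x => by simp)
        rw [hsq, Category.assoc, Category.assoc, ← hB₂']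
        have : ηA₂.inv ≫ tensProj R' A = v₂ := by rw [← hA₂', ηA₂.inv_hom_id_assoc]
        rw [this, hk₂']
    have hP : P (algMap (Algebra.TensorProduct.map (AlgHom.id R R') α)).left := by
      rw [← hk, Over.comp_left, Over.comp_left, P.cancel_left_of_respectsIso, P.cancel_right_of_respectsIso]
      exact h₂
    exact hP

/-- Closed immersions can be tested on the pieces. -/
theorem isClosedImmersion_of_pieces (h : EtGlue.IsGlueingPair R R' f) [IsAffine E.left] [IsAffine F.left] (φ : E ⟶ F)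
    (pE₁ : Piece e₁ u₁) (pE₂ : Piece e₂ u₂) (pF₁ : Piece g₁ v₁) (pF₂ : Piece g₂ v₂)
    (k₁ : E₁ ⟶ F₁) (hk₁ : k₁ ≫ g₁ = e₁ ≫ φ) (k₂ : E₂ ⟶ F₂) (hk₂ : k₂ ≫ g₂ = e₂ ≫ φ)
    (hk₂' : k₂ ≫ v₂ = u₂) [IsClosedImmersion k₁.left] [IsClosedImmersion k₂.left] :
    IsClosedImmersion φ.left := by
  obtain ⟨B, _, _, ⟨εB⟩⟩ := exists_algObj_iso E
  obtain ⟨A, _, _, ⟨εA⟩⟩ := exists_algObj_iso F
  obtain ⟨α, hα⟩ := algMap_surjective (εB.hom ≫ φ ≫ εA.inv)
  obtain ⟨h₁, h₂⟩ := exists_ring_pieces (P := @IsClosedImmersion) (εB := εB) εA φ α hα pE₁ pE₂ pF₁ pF₂ k₁ hk₁ k₂ hk₂ hk₂'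
    inferInstance inferInstance
  have hs : ∀ {A B : Type u} [CommRing A] [CommRing B] (g : A →+* B),
      IsClosedImmersion (Spec.map (CommRingCat.ofHom g)) → Function.Surjective g := fun g hg => by
    have := (IsClosedImmersion.isAffine_surjective_of_isAffine (Spec.map (CommRingCat.ofHom g))).2
    exact ((MorphismProperty.surjective CommRingCat).arrow_mk_iso_iff
      (arrowIsoΓSpecOfIsAffine (CommRingCat.ofHom g))).mpr this
  have hsurj := surjective_of_pieces h α (hs _ h₁) (hs _ h₂)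
  have : IsClosedImmersion (algMap α).left := IsClosedImmersion.spec_of_surjective _ hsurj
  have e : φ.left = εB.inv.left ≫ (algMap α).left ≫ εA.hom.left := by
    rw [← Over.comp_left, ← Over.comp_left, hα]; simp
  rw [e]
  infer_instance

/-- Flatness with finite presentation can be tested on the pieces. -/
theorem flat_lfp_of_pieces (h : EtGlue.IsGlueingPair R R' f) (φ : E ⟶ F) (hE : Glued R' f e₁ u₁ e₂ u₂)
    (hF : Glued R' f g₁ v₁ g₂ v₂) (k₁ : E₁ ⟶ F₁) (hk₁ : k₁ ≫ g₁ = e₁ ≫ φ) (k₂ : E₂ ⟶ F₂) (hk₂ : k₂ ≫ g₂ = e₂ ≫ φ)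
    (hk₂' : k₂ ≫ v₂ = u₂) [Flat k₁.left] [LocallyOfFinitePresentation k₁.left] [Flat k₂.left]
    [LocallyOfFinitePresentation k₂.left] : Flat φ.left ∧ LocallyOfFinitePresentation φ.left := by
  haveI := hE.affine
  haveI := hF.affine
  obtain ⟨B, _, _, ⟨εB⟩⟩ := exists_algObj_iso E
  obtain ⟨A, _, _, ⟨εA⟩⟩ := exists_algObj_iso F
  obtain ⟨α, hα⟩ := algMap_surjective (εB.hom ≫ φ ≫ εA.inv)
  obtain ⟨h₁, h₂⟩ := exists_ring_pieces (P := @Flat ⊓ @LocallyOfFinitePresentation) (εB := εB) εA φ α hα hE.piece₁ hE.piece₂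
    hF.piece₁ hF.piece₂ k₁ hk₁ k₂ hk₂ hk₂' ⟨inferInstance, inferInstance⟩ ⟨inferInstance, inferInstance⟩
  obtain ⟨hfl, hfp⟩ := (Groth.Agent.S10723.result R R' f h A B ((isGlueable_iff h).2 (hF.glueable A εA))
    ((isGlueable_iff h).2 (hE.glueable B εB)) α).2
      ⟨⟨(HasRingHomProperty.Spec_iff (P := @Flat)).1 h₁.1,
        (HasRingHomProperty.Spec_iff (P := @LocallyOfFinitePresentation)).1 h₁.2⟩,
        (HasRingHomProperty.Spec_iff (P := @Flat)).1 h₂.1,
        (HasRingHomProperty.Spec_iff (P := @LocallyOfFinitePresentation)).1 h₂.2⟩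
  have : Flat (algMap α).left := (HasRingHomProperty.Spec_iff (P := @Flat)).2 hfl
  have : LocallyOfFinitePresentation (algMap α).left :=
    (HasRingHomProperty.Spec_iff (P := @LocallyOfFinitePresentation)).2 hfp
  have e : φ.left = εB.inv.left ≫ (algMap α).left ≫ εA.hom.left := by
    rw [← Over.comp_left, ← Over.comp_left, hα]; simp
  rw [e]
  exact ⟨inferInstance, inferInstance⟩

end Pieces

end

end Groth.AlgSpBasic.GluedAffine
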