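import Groth.Agent.PropsBasic.Jouanolou
import Groth.Agent.GrpschAbsch.AffineSpaceExtra

/-!
# Jouanolou torsors: base change, smoothness and comparison
-/

set_option autoImplicit false
set_option backward.isDefEq.respectTransparency.types false
universe u

open CategoryTheory CategoryTheory.Limits AlgebraicGeometry TopologicalSpace

namespace Groth.AlgSpBasic.JTorsor

noncomputable section

variable {X T : Scheme.{u}} {n : Type} [Fintype n]

/-- `p : T ⟶ X` represents the tuples `(a, t)` with `∑ aᵢ hᵢ = 1`. -/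
structure IsTorsor (h : n → Γ(X, ⊤)) (p : T ⟶ X) (α : n → Γ(T, ⊤)) (τ : Γ(T, ⊤)) : Prop where
  rel : ∑ i, α i * p.appTop (h i) = 1
  exist : ∀ (Y : Scheme.{u}) (g : Y ⟶ X) (a : n → Γ(Y, ⊤)) (t : Γ(Y, ⊤)),
    ∑ i, a i * g.appTop (h i) = 1 → ∃ k : Y ⟶ T, k ≫ p = g ∧ (∀ i, k.appTop (α i) = a i) ∧ k.appTop τ = t
  uniq : ∀ (Y : Scheme.{u}) (k₁ k₂ : Y ⟶ T), k₁ ≫ p = k₂ ≫ p →
    (∀ i, k₁.appTop (α i) = k₂.appTop (α i)) → k₁.appTop τ = k₂.appTop τ → k₁ = k₂

theorem appTop_comp {A B C : Scheme.{u}} (f : A ⟶ B) (g : B ⟶ C) (r : Γ(C, ⊤)) :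
    (f ≫ g).appTop r = f.appTop (g.appTop r) := by
  rw [Scheme.Hom.comp_appTop, CommRingCat.comp_apply]

theorem exists_isTorsor [X.IsQuasiAffine] (h : n → Γ(X, ⊤)) (hf : ∀ x : X, ∃ i, x ∈ X.basicOpen (h i))
    (haff : ∀ i, IsAffineOpen (X.basicOpen (h i))) :
    ∃ (T : Scheme.{u}) (_ : IsAffine T) (p : T ⟶ X) (α : n → Γ(T, ⊤)) (τ : Γ(T, ⊤)), IsTorsor h p α τ := by
  let e := (Fintype.equivFin n).symm
  obtain ⟨T, hT, p, α, τ, hrel, hex, huniq⟩ := Groth.PropsBasic.Jouanolou.exists_torsor (h ∘ e)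
    (fun x => by obtain ⟨i, hi⟩ := hf x; exact ⟨e.symm i, by simpa using hi⟩) (fun i => haff _)
  refine ⟨T, hT, p, α ∘ e.symm, τ, ⟨?_, fun Y g a t ha => ?_, fun Y k₁ k₂ hk ha ht => ?_⟩⟩
  · rw [← e.sum_comp]
    simpa [Function.comp_def] using hrel
  · obtain ⟨k, hk, hka, hkt⟩ := hex Y g (a ∘ e) t (by
      rw [← e.sum_comp] at ha
      simpa [Function.comp_def] using ha)
    exact ⟨k, hk, fun i => by simpa using hka (e.symm i), hkt⟩
  · exact huniq Y k₁ k₂ hk (fun i => by simpa using ha (e i)) ht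

namespace IsTorsor

variable {h : n → Γ(X, ⊤)} {p : T ⟶ X} {α : n → Γ(T, ⊤)} {τ : Γ(T, ⊤)}

theorem of_isPullback (hT : IsTorsor h p α τ) {X' T' : Scheme.{u}} {g : X' ⟶ X} {p' : T' ⟶ X'}
    {g' : T' ⟶ T} (sq : IsPullback g' p' p g) :
    IsTorsor (fun i => g.appTop (h i)) p' (fun i => g'.appTop (α i)) (g'.appTop τ) := by
  refine ⟨?_, fun Y k a t ha => ?_, fun Y k₁ k₂ hk ha ht => ?_⟩
  · have := congrArg g'.appTop hT.rel
    simp only [map_sum, map_mul, map_one] at this
    rw [← this]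
    refine Finset.sum_congr rfl fun i _ => ?_
    rw [← appTop_comp, ← appTop_comp, sq.w]
  · obtain ⟨l, hl, hla, hlt⟩ := hT.exist Y (k ≫ g) a t (by simpa only [appTop_comp] using ha)
    refine ⟨sq.lift l k hl, sq.lift_snd _ _ hl, fun i => ?_, ?_⟩
    · rw [← appTop_comp, sq.lift_fst]; exact hla i
    · rw [← appTop_comp, sq.lift_fst]; exact hlt
  · refine sq.hom_ext (hT.uniq Y _ _ ?_ (fun i => ?_) ?_) hk
    · rw [Category.assoc, Category.assoc, sq.w, reassoc_of% hk]
    · rw [appTop_comp, appTop_comp]; exact ha i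
    · rw [appTop_comp, appTop_comp]; exact ht

theorem reindex (hT : IsTorsor h p α τ) {m : Type} [Fintype m] (e : m ≃ n) :
    IsTorsor (h ∘ e) p (α ∘ e) τ := by
  refine ⟨?_, fun Y g a t ha => ?_, fun Y k₁ k₂ hk ha ht => ?_⟩
  · rw [← hT.rel, ← e.sum_comp (fun i => α i * p.appTop (h i))]
    rfl
  · obtain ⟨k, hk, hka, hkt⟩ := hT.exist Y g (a ∘ e.symm) t (by
      rw [← ha, ← e.sum_comp]
      simp [Function.comp_def])
    exact ⟨k, hk, fun i => by simpa using hka (e i), hkt⟩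
  · exact hT.uniq Y k₁ k₂ hk (fun i => by simpa using ha (e.symm i)) ht

theorem exists_iso (hT : IsTorsor h p α τ) {T' : Scheme.{u}} {p' : T' ⟶ X} {α' : n → Γ(T', ⊤)}
    {τ' : Γ(T', ⊤)} (hT' : IsTorsor h p' α' τ') : ∃ e : T ≅ T', e.hom ≫ p' = p := by
  obtain ⟨k, hk, hka, hkt⟩ := hT'.exist T p α τ hT.rel
  obtain ⟨l, hl, hla, hlt⟩ := hT.exist T' p' α' τ' hT'.rel
  refine ⟨⟨k, l, hT.uniq _ _ _ ?_ (fun i => ?_) ?_, hT'.uniq _ _ _ ?_ (fun i => ?_) ?_⟩, hk⟩
  · rw [Category.assoc, hl, hk, Category.id_comp]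
  · rw [appTop_comp, hla, hka, Scheme.Hom.id_appTop, CommRingCat.id_apply]
  · rw [appTop_comp, hlt, hkt, Scheme.Hom.id_appTop, CommRingCat.id_apply]
  · rw [Category.assoc, hk, hl, Category.id_comp]
  · rw [appTop_comp, hka, hla, Scheme.Hom.id_appTop, CommRingCat.id_apply]
  · rw [appTop_comp, hkt, hlt, Scheme.Hom.id_appTop, CommRingCat.id_apply]

end IsTorsor

theorem exists_unimodular [IsAffine X] (f : n → Γ(X, ⊤)) (hf : ∀ x : X, ∃ i, x ∈ X.basicOpen (f i)) :
    ∃ b : n → Γ(X, ⊤), ∑ i, b i * f i = 1 := by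
  rw [← Ideal.mem_span_range_iff_exists_fun, ← Ideal.eq_top_iff_one,
    ← (isAffineOpen_top X).self_le_iSup_basicOpen_iff]
  intro x _
  obtain ⟨i, hi⟩ := hf x
  rw [TopologicalSpace.Opens.mem_iSup]
  exact ⟨⟨_, i, rfl⟩, hi⟩

theorem exists_unimodular_comp {Y : Scheme.{u}} [IsAffine Y] (g : Y ⟶ X) (f : n → Γ(X, ⊤))
    (hf : ∀ x : X, ∃ i, x ∈ X.basicOpen (f i)) : ∃ b : n → Γ(Y, ⊤), ∑ i, b i * g.appTop (f i) = 1 :=
  exists_unimodular _ fun y => by
    obtain ⟨i, hi⟩ := hf (g y)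
    refine ⟨i, ?_⟩
    rw [← Scheme.preimage_basicOpen_top]
    exact hi

/-- Over an affine scheme on which the `hᵢ` generate, a torsor is an affine space. -/
theorem exists_affineSpace_iso {h : n → Γ(X, ⊤)} {p : T ⟶ X} {α : n → Γ(T, ⊤)} {τ : Γ(T, ⊤)}
    (hT : IsTorsor h p α τ) (b : n → Γ(X, ⊤)) (hb : ∑ i, b i * h i = 1) :
    ∃ e : T ≅ 𝔸(ULift.{u} n; X), e.hom ≫ (𝔸(ULift.{u} n; X) ↘ X) = p := by
  let A := 𝔸(ULift.{u} n; X)
  let q : A ⟶ X := A ↘ X
  let x : n → Γ(A, ⊤) := fun i => AffineSpace.coord X (ULift.up i)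
  let t : Γ(A, ⊤) := ∑ i, x i * q.appTop (h i)
  let a : n → Γ(A, ⊤) := fun i => x i - q.appTop (b i) * (t - 1)
  have ha : ∑ i, a i * q.appTop (h i) = 1 := by
    simp only [a, sub_mul, Finset.sum_sub_distrib]
    have e : ∑ i, q.appTop (b i) * (t - 1) * q.appTop (h i) = t - 1 := by
      calc _ = (t - 1) * q.appTop (∑ i, b i * h i) := by
            rw [map_sum, Finset.mul_sum]
            exact Finset.sum_congr rfl fun i _ => by rw [map_mul]; ring
        _ = _ := by rw [hb, map_one, mul_one]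
    rw [e]
    exact sub_sub_cancel t 1
  obtain ⟨k, hk, hka, hkt⟩ := hT.exist A q a t ha
  let fwd : T ⟶ A := AffineSpace.homOfVector p fun i => α i.down + p.appTop (b i.down) * (τ - 1)
  have hfq : fwd ≫ q = p := AffineSpace.homOfVector_over _ _
  have hfx : ∀ i, fwd.appTop (x i) = α i + p.appTop (b i) * (τ - 1) := fun i =>
    AffineSpace.homOfVector_appTop_coord _ _ _
  have hfc : ∀ r, fwd.appTop (q.appTop r) = p.appTop r := fun r => by rw [← appTop_comp, hfq]
  have hft : fwd.appTop t = τ := by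
    simp only [t, map_sum, map_mul, hfx, hfc, add_mul, Finset.sum_add_distrib]
    have e2 : ∑ i, p.appTop (b i) * (τ - 1) * p.appTop (h i) = τ - 1 := by
      calc _ = (τ - 1) * p.appTop (∑ i, b i * h i) := by
            rw [map_sum, Finset.mul_sum]
            exact Finset.sum_congr rfl fun i _ => by rw [map_mul]; ring
        _ = _ := by rw [hb, map_one, mul_one]
    rw [hT.rel, e2]
    exact add_sub_cancel _ _
  refine ⟨⟨fwd, k, hT.uniq _ _ _ ?_ (fun i => ?_) ?_, AffineSpace.hom_ext ?_ fun i => ?_⟩, hfq⟩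
  · rw [Category.assoc, hk, hfq, Category.id_comp]
  · rw [appTop_comp, hka, Scheme.Hom.id_appTop, CommRingCat.id_apply]
    simp only [a, map_sub, map_mul, hfx, hfc, map_one, hft]
    exact add_sub_cancel_right _ _
  · rw [appTop_comp, hkt, hft, Scheme.Hom.id_appTop, CommRingCat.id_apply]
  · rw [Category.assoc, hfq, hk, Category.id_comp]
  · obtain ⟨i⟩ := i
    rw [appTop_comp, Scheme.Hom.id_appTop, CommRingCat.id_apply,
      show AffineSpace.coord X (ULift.up i) = x i from rfl, hfx]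
    simp only [map_add, map_mul, map_sub, map_one, hka, hkt, ← appTop_comp, hk]
    exact sub_add_cancel _ _

/-- A torsor is smooth and surjective. -/
theorem smooth_surjective {h : n → Γ(X, ⊤)} {p : T ⟶ X} {α : n → Γ(T, ⊤)} {τ : Γ(T, ⊤)}
    (hT : IsTorsor h p α τ) (hf : ∀ x : X, ∃ i, x ∈ X.basicOpen (h i)) : Smooth p ∧ Surjective p := by
  have key : ∀ j, Smooth (pullback.fst (X.affineCover.f j) p) ∧ Surjective (pullback.fst (X.affineCover.f j) p) := by
    intro j
    obtain ⟨b, hb⟩ := exists_unimodular_comp (X.affineCover.f j) h hf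
    obtain ⟨e, he⟩ := exists_affineSpace_iso
      (hT.of_isPullback (IsPullback.of_hasPullback (X.affineCover.f j) p).flip) b hb
    have := Groth.GrpschAbsch.smooth_affineSpace (ULift.{u} n) (X.affineCover.X j)
    rw [← he]
    exact ⟨inferInstance, inferInstance⟩
  constructor
  · rw [IsZariskiLocalAtTarget.iff_of_openCover (P := @Smooth) X.affineCover]
    intro j
    have := (key j).1
    show Smooth (pullback.snd p (X.affineCover.f j))
    rw [← pullbackSymmetry_hom_comp_fst]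
    infer_instance
  · rw [IsZariskiLocalAtTarget.iff_of_openCover (P := @Surjective) X.affineCover]
    intro j
    have := (key j).2
    show Surjective (pullback.snd p (X.affineCover.f j))
    rw [← pullbackSymmetry_hom_comp_fst]
    infer_instance

/-- The torsor of `h` padded by zeros is the fibre product of the torsors of `h` and of `g`, if the
torsor of `h` is affine and `g` generates. -/
theorem exists_iso_pullback {m : Type} [Fintype m] {h : n → Γ(X, ⊤)} {g : m → Γ(X, ⊤)}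
    (hg : ∀ x : X, ∃ i, x ∈ X.basicOpen (g i))
    {Th : Scheme.{u}} [IsAffine Th] {ph : Th ⟶ X} {αh : n → Γ(Th, ⊤)} {τh : Γ(Th, ⊤)}
    (hh : IsTorsor h ph αh τh)
    {Tg : Scheme.{u}} {pg : Tg ⟶ X} {αg : m → Γ(Tg, ⊤)} {τg : Γ(Tg, ⊤)} (hgT : IsTorsor g pg αg τg)
    {p : T ⟶ X} {α : n ⊕ m → Γ(T, ⊤)} {τ : Γ(T, ⊤)}
    (hT : IsTorsor (Sum.elim h fun _ => 0) p α τ) :
    ∃ e : T ≅ pullback ph pg, e.hom ≫ pullback.fst ph pg ≫ ph = p := by
  obtain ⟨y₀, hy₀⟩ := exists_unimodular_comp ph g hg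
  have hrel : ∑ i, α (Sum.inl i) * p.appTop (h i) = 1 := by
    rw [← hT.rel, Fintype.sum_sum_type]
    simp
  obtain ⟨u, hu, hua, hut⟩ := hh.exist T p (fun i => α (Sum.inl i)) τ hrel
  have huc : ∀ r, u.appTop (ph.appTop r) = p.appTop r := fun r => by rw [← appTop_comp, hu]
  let z : Γ(T, ⊤) := ∑ i, α (Sum.inr i) * p.appTop (g i) - 1
  have hsum : ∑ i, (α (Sum.inr i) - z * u.appTop (y₀ i)) * p.appTop (g i) = 1 := by
    simp only [sub_mul, Finset.sum_sub_distrib]
    have e2 : ∑ i, z * u.appTop (y₀ i) * p.appTop (g i) = z := by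
      calc _ = z * u.appTop (∑ i, y₀ i * ph.appTop (g i)) := by
            rw [map_sum, Finset.mul_sum]
            exact Finset.sum_congr rfl fun i _ => by rw [map_mul, huc]; ring
        _ = _ := by rw [hy₀, map_one, mul_one]
    rw [e2]
    exact sub_sub_cancel _ 1
  obtain ⟨w, hw, hwa, hwt⟩ := hgT.exist T p _ z hsum
  let fwd : T ⟶ pullback ph pg := pullback.lift u w (hu.trans hw.symm)
  have hf₁ : fwd ≫ pullback.fst ph pg = u := pullback.lift_fst _ _ _
  have hf₂ : fwd ≫ pullback.snd ph pg = w := pullback.lift_snd _ _ _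
  let q := pullback.fst ph pg ≫ ph
  have hq' : pullback.snd ph pg ≫ pg = q := pullback.condition.symm
  let a : n ⊕ m → Γ(pullback ph pg, ⊤) := Sum.elim (fun i => (pullback.fst ph pg).appTop (αh i))
    (fun i => (pullback.snd ph pg).appTop (αg i) +
      (pullback.snd ph pg).appTop τg * (pullback.fst ph pg).appTop (y₀ i))
  have ha : ∑ i, a i * q.appTop (Sum.elim h (fun _ => 0) i) = 1 := by
    rw [Fintype.sum_sum_type]
    simp only [a, Sum.elim_inl, Sum.elim_inr, map_zero, mul_zero, Finset.sum_const_zero, add_zero, q, appTop_comp]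
    simp only [← map_mul, ← map_sum, hh.rel, map_one]
  obtain ⟨k, hk, hka, hkt⟩ := hT.exist _ q a ((pullback.fst ph pg).appTop τh) ha
  have hku : k ≫ u = pullback.fst ph pg := by
    refine hh.uniq _ _ _ ?_ (fun i => ?_) ?_
    · rw [Category.assoc, hu, hk]
    · rw [appTop_comp, hua, hka]; rfl
    · rw [appTop_comp, hut, hkt]
  have hkz : k.appTop z = (pullback.snd ph pg).appTop τg := by
    simp only [z, map_sub, map_sum, map_mul, hka, map_one, a, Sum.elim_inr, ← appTop_comp, hk, add_mul,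
      Finset.sum_add_distrib]
    have e1 : ∑ i, (pullback.snd ph pg).appTop (αg i) * q.appTop (g i) = 1 := by
      rw [← hq']
      simp only [appTop_comp, ← map_mul, ← map_sum, hgT.rel, map_one]
    have e2 : ∑ i, (pullback.snd ph pg).appTop τg * (pullback.fst ph pg).appTop (y₀ i) * q.appTop (g i) =
        (pullback.snd ph pg).appTop τg := by
      calc _ = (pullback.snd ph pg).appTop τg *
            (pullback.fst ph pg).appTop (∑ i, y₀ i * ph.appTop (g i)) := by
            rw [map_sum, Finset.mul_sum]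
            exact Finset.sum_congr rfl fun i _ => by rw [map_mul, appTop_comp]; ring
        _ = _ := by rw [hy₀, map_one, mul_one]
    rw [e1, e2]
    exact add_sub_cancel_left _ _
  refine ⟨⟨fwd, k, hT.uniq _ _ _ ?_ (fun i => ?_) ?_, pullback.hom_ext ?_ ?_⟩, ?_⟩
  · rw [Category.assoc, hk, Category.id_comp]
    show fwd ≫ pullback.fst ph pg ≫ ph = p
    rw [reassoc_of% hf₁, hu]
  · rw [appTop_comp, hka, Scheme.Hom.id_appTop, CommRingCat.id_apply]
    rcases i with i | i
    · simp only [a, Sum.elim_inl, ← appTop_comp, hf₁, hua]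
    · simp only [a, Sum.elim_inr, map_add, map_mul, ← appTop_comp, hf₁, hf₂, hwa, hwt]
      exact sub_add_cancel _ _
  · rw [appTop_comp, hkt, Scheme.Hom.id_appTop, CommRingCat.id_apply, ← appTop_comp, hf₁, hut]
  · rw [Category.assoc, hf₁, hku, Category.id_comp]
  · rw [Category.assoc, hf₂, Category.id_comp]
    refine hgT.uniq _ _ _ ?_ (fun i => ?_) ?_
    · rw [Category.assoc, hw, hk, hq']
    · rw [appTop_comp, hwa, map_sub, map_mul, hka, hkz, ← appTop_comp, hku]
      simp only [a, Sum.elim_inr]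
      exact add_sub_cancel_right _ _
    · rw [appTop_comp, hwt, hkz]
  · show fwd ≫ pullback.fst ph pg ≫ ph = p
    rw [reassoc_of% hf₁, hu]

end

end Groth.AlgSpBasic.JTorsor
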