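import Groth.Agent.AlgSpBasic.GluedAffine
import Groth.Agent.AlgSpBasic.JouanolouTorsor
import Groth.Agent.AlgSpBasic.GlueHom
import Groth.Agent.AlgSpBasic.Quotient
import Groth.Agent.AlgSpBasic.Presentation
import Groth.Agent.AlgSpBasic.AffineDescent
import Groth.Agent.S10103

/-!
# Quotients of glued affine covers

Covers of the two halves of a glueing datum are glued to an affine scheme with a flat equivalence
relation; the quotient is the glued algebraic space.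
-/

set_option autoImplicit false
set_option backward.isDefEq.respectTransparency.types false
set_option linter.style.haveILetI false
universe u

open CategoryTheory CategoryTheory.Limits AlgebraicGeometry Opposite AlgSp TopologicalSpace
open scoped TensorProduct

namespace Groth.AlgSpBasic.GluedQuot

open Groth.EtaleAlgebra.Glue GluedAffine

noncomputable section

variable {S : Scheme.{u}}

/-- A finite family of functions with affine non-vanishing loci covering a quasi-affine scheme. -/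
theorem exists_family (X : Scheme.{u}) [X.IsQuasiAffine] :
    ∃ (r : ℕ) (h : Fin r → Γ(X, ⊤)), (∀ x : X, ∃ i, x ∈ X.basicOpen (h i)) ∧
      ∀ i, IsAffineOpen (X.basicOpen (h i)) := by
  have H : ∀ x : X, ∃ r : Γ(X, ⊤), IsAffineOpen (X.basicOpen r) ∧ x ∈ X.basicOpen r := fun x => by
    obtain ⟨_, ⟨r, hr, rfl⟩, hx, -⟩ :=
      Opens.isBasis_iff_nbhd.mp (Scheme.IsQuasiAffine.isBasis_basicOpen X) (show x ∈ (⊤ : X.Opens) from trivial)
    exact ⟨r, hr, hx⟩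
  choose g hg hmem using H
  obtain ⟨t, ht⟩ := isCompact_univ.elim_finite_subcover (fun x => (X.basicOpen (g x) : Set X))
    (fun x => (X.basicOpen (g x)).2) (fun x _ => Set.mem_iUnion.2 ⟨x, hmem x⟩)
  refine ⟨t.card, fun i => g (t.equivFin.symm i), fun x => ?_, fun i => hg _⟩
  obtain ⟨y, hy, hxy⟩ := Set.mem_iUnion₂.1 (ht (Set.mem_univ x))
  exact ⟨t.equivFin ⟨y, hy⟩, by simpa using hxy⟩

/-- Pullbacks of schemes over `S`, with the pullback square of schemes. -/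
theorem exists_pullback_over {A B C : Over S} (f : A ⟶ C) (g : B ⟶ C) :
    ∃ (W : Over S) (a : W ⟶ A) (b : W ⟶ B), IsPullback a b f g ∧ IsPullback a.left b.left f.left g.left := by
  let W : Over S := Over.mk (pullback.fst f.left g.left ≫ A.hom)
  let a : W ⟶ A := Over.homMk (pullback.fst f.left g.left)
  let b : W ⟶ B := Over.homMk (pullback.snd f.left g.left) (by
    show pullback.snd f.left g.left ≫ B.hom = pullback.fst f.left g.left ≫ A.hom
    rw [← Over.w g, ← Over.w f, pullback.condition_assoc])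
  exact ⟨W, a, b, IsPullback.of_map (Over.forget S) (Over.OverMorphism.ext pullback.condition)
    (IsPullback.of_hasPullback f.left g.left), IsPullback.of_hasPullback f.left g.left⟩

theorem hom_ext_terminal {F : Sp S} (p q : F ⟶ (yon S).obj (Over.mk (𝟙 S))) : p = q := by
  refine GlueHom.hom_ext_yon fun T x => ?_
  obtain ⟨k₁, hk₁⟩ := (yon _).map_surjective (x ≫ p)
  obtain ⟨k₂, hk₂⟩ := (yon _).map_surjective (x ≫ q)
  rw [← hk₁, ← hk₂]
  refine congrArg _ (Over.OverMorphism.ext ?_)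
  exact (Category.comp_id _).symm.trans ((Over.w k₁).trans ((Over.w k₂).symm.trans (Category.comp_id _)))

theorem hom_ext_over_terminal {T : Over S} (p q : T ⟶ Over.mk (𝟙 S)) : p = q :=
  Over.mkIdTerminal.hom_ext p q

/-- A piece is a fibre product over the base. -/
theorem isPullback_of_piece {E E₁ U : Over S} {e : E₁ ⟶ E} {u : E₁ ⟶ U} (h : Piece e u)
    (cE : E ⟶ Over.mk (𝟙 S)) (cU : U ⟶ Over.mk (𝟙 S)) : IsPullback e u cE cU := by
  refine IsPullback.of_isLimit' ⟨hom_ext_over_terminal _ _⟩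
    (PullbackCone.IsLimit.mk _ (fun s => (h.exists_lift s.fst s.snd).choose)
      (fun s => (h.exists_lift s.fst s.snd).choose_spec.1)
      (fun s => (h.exists_lift s.fst s.snd).choose_spec.2) fun s m h₁ h₂ => ?_)
  exact h.hom_ext (h₁.trans (h.exists_lift s.fst s.snd).choose_spec.1.symm)
    (h₂.trans (h.exists_lift s.fst s.snd).choose_spec.2.symm)

/-- A fibre product over the base is a piece. -/
theorem piece_of_isPullback {E E₁ U : Over S} {e : E₁ ⟶ E} {u : E₁ ⟶ U}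
    {cE : E ⟶ Over.mk (𝟙 S)} {cU : U ⟶ Over.mk (𝟙 S)} (h : IsPullback e u cE cU) : Piece e u :=
  fun _ a c => ⟨h.lift a c (hom_ext_over_terminal _ _), ⟨h.lift_fst _ _ _, h.lift_snd _ _ _⟩,
    fun k hk => h.hom_ext (by rw [h.lift_fst]; exact hk.1) (by rw [h.lift_snd]; exact hk.2)⟩

/-- Base change of a piece along a map to its base. -/
theorem piece_of_pullback {E E₁ U A B : Over S} {e : E₁ ⟶ E} {u : E₁ ⟶ U} (h : Piece e u) {π : A ⟶ E}
    {l : B ⟶ A} {π' : B ⟶ E₁} (sq : IsPullback l π' π e) : Piece l (π' ≫ u) := by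
  intro T a c
  obtain ⟨k, hk, hk'⟩ := h.exists_lift (a ≫ π) c
  refine ⟨sq.lift a k hk.symm, ⟨sq.lift_fst _ _ _, by rw [sq.lift_snd_assoc, hk']⟩, fun m hm => ?_⟩
  refine sq.hom_ext (by rw [sq.lift_fst]; exact hm.1) ?_
  rw [sq.lift_snd]
  exact h.hom_ext (by rw [Category.assoc, ← sq.w, reassoc_of% hm.1, hk])
    (by rw [Category.assoc, hk']; exact hm.2)

/-- Affine smooth covers of `V` and `Y'` with isomorphic restrictions to `V'`. -/
theorem exists_middle {V V' Y' : Over S} (pV : V' ⟶ V) (pY : V' ⟶ Y') [IsAffineHom pV.left]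
    [IsAffineHom pY.left] [V.left.IsQuasiAffine] [V'.left.IsQuasiAffine] [Y'.left.IsQuasiAffine] :
    ∃ (P₁ P₂ P₁₂ : Over S) (π₁ : P₁ ⟶ V) (π₂ : P₂ ⟶ Y') (π₁₂ : P₁₂ ⟶ V') (l : P₁₂ ⟶ P₁) (r : P₁₂ ⟶ P₂),
      IsAffine P₁.left ∧ IsAffine P₂.left ∧ IsAffine P₁₂.left ∧ Smooth π₁.left ∧ Surjective π₁.left ∧
      Smooth π₂.left ∧ Surjective π₂.left ∧ IsPullback l π₁₂ π₁ pV ∧ IsPullback r π₁₂ π₂ pY := by
  obtain ⟨m, h, hcov, haff⟩ := exists_family V.left
  obtain ⟨n, g, gcov, gaff⟩ := exists_family Y'.left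
  let h₁ : Fin m ⊕ Fin n → Γ(V.left, ⊤) := Sum.elim h fun _ => 0
  let g₁ : Fin m ⊕ Fin n → Γ(Y'.left, ⊤) := Sum.elim (fun _ => 0) g
  have hcov₁ : ∀ x : V.left, ∃ i, x ∈ V.left.basicOpen (h₁ i) := fun x =>
    let ⟨i, hi⟩ := hcov x; ⟨.inl i, hi⟩
  have gcov₁ : ∀ x : Y'.left, ∃ i, x ∈ Y'.left.basicOpen (g₁ i) := fun x =>
    let ⟨i, hi⟩ := gcov x; ⟨.inr i, hi⟩
  have haff₁ : ∀ i, IsAffineOpen (V.left.basicOpen (h₁ i)) := by
    rintro (i | i)
    · exact haff i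
    · simp only [h₁, Sum.elim_inr, Scheme.basicOpen_zero]; exact isAffineOpen_bot _
  have gaff₁ : ∀ i, IsAffineOpen (Y'.left.basicOpen (g₁ i)) := by
    rintro (i | i)
    · simp only [g₁, Sum.elim_inl, Scheme.basicOpen_zero]; exact isAffineOpen_bot _
    · exact gaff i
  obtain ⟨T₁, _, p₁, α₁, τ₁, hT₁⟩ := JTorsor.exists_isTorsor h₁ hcov₁ haff₁
  obtain ⟨T₂, _, p₂, α₂, τ₂, hT₂⟩ := JTorsor.exists_isTorsor g₁ gcov₁ gaff₁
  let h' : Fin m → Γ(V'.left, ⊤) := fun i => pV.left.appTop (h i)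
  let g' : Fin n → Γ(V'.left, ⊤) := fun i => pY.left.appTop (g i)
  have hpre : ∀ {A B : Scheme.{u}} (φ : A ⟶ B) (a : Γ(B, ⊤)),
      A.basicOpen (φ.appTop a) = φ ⁻¹ᵁ B.basicOpen a := fun φ a => (Scheme.preimage_basicOpen φ a).symm
  obtain ⟨Th, _, ph, αh, τh, hTh⟩ := JTorsor.exists_isTorsor h'
    (fun x => by obtain ⟨i, hi⟩ := hcov (pV.left x); exact ⟨i, by rw [hpre]; exact hi⟩)
    (fun i => by rw [hpre]; exact (haff i).preimage pV.left)
  obtain ⟨Tg, _, pg, αg, τg, hTg⟩ := JTorsor.exists_isTorsor g'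
    (fun x => by obtain ⟨i, hi⟩ := gcov (pY.left x); exact ⟨i, by rw [hpre]; exact hi⟩)
    (fun i => by rw [hpre]; exact (gaff i).preimage pY.left)
  have sq₁ : IsPullback (pullback.fst p₁ pV.left) (pullback.snd p₁ pV.left) p₁ pV.left :=
    IsPullback.of_hasPullback _ _
  have sq₂ : IsPullback (pullback.fst p₂ pY.left) (pullback.snd p₂ pY.left) p₂ pY.left :=
    IsPullback.of_hasPullback _ _
  have hA := hT₁.of_isPullback sq₁
  have hB := (hT₂.of_isPullback sq₂).reindex (Equiv.sumComm (Fin n) (Fin m))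
  have eA : (fun i => pV.left.appTop (h₁ i)) = Sum.elim h' fun _ => 0 := by
    funext i; rcases i with i | i <;> simp [h₁, h']
  have eB : (fun i => pY.left.appTop (g₁ i)) ∘ Equiv.sumComm (Fin n) (Fin m) = Sum.elim g' fun _ => 0 := by
    funext i; rcases i with i | i <;> simp [g₁, g']
  rw [eA] at hA
  rw [eB] at hB
  obtain ⟨eh, heh⟩ := JTorsor.exists_iso_pullback
    (fun x => by obtain ⟨i, hi⟩ := gcov (pY.left x); exact ⟨i, by rw [hpre]; exact hi⟩) hTh hTg hA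
  obtain ⟨eg, heg⟩ := JTorsor.exists_iso_pullback
    (fun x => by obtain ⟨i, hi⟩ := hcov (pV.left x); exact ⟨i, by rw [hpre]; exact hi⟩) hTg hTh hB
  let e : pullback p₁ pV.left ≅ pullback p₂ pY.left :=
    eh ≪≫ pullbackSymmetry ph pg ≪≫ eg.symm
  have he : e.hom ≫ pullback.snd p₂ pY.left = pullback.snd p₁ pV.left := by
    simp only [e, Iso.trans_hom, Iso.symm_hom, Category.assoc]
    rw [← heg, eg.inv_hom_id_assoc, pullbackSymmetry_hom_comp_fst_assoc, ← pullback.condition, heh]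
  let P₁ : Over S := Over.mk (p₁ ≫ V.hom)
  let P₂ : Over S := Over.mk (p₂ ≫ Y'.hom)
  let P₁₂ : Over S := Over.mk (pullback.snd p₁ pV.left ≫ V'.hom)
  let π₁ : P₁ ⟶ V := Over.homMk p₁
  let π₂ : P₂ ⟶ Y' := Over.homMk p₂
  let π₁₂ : P₁₂ ⟶ V' := Over.homMk (pullback.snd p₁ pV.left)
  let l : P₁₂ ⟶ P₁ := Over.homMk (pullback.fst p₁ pV.left) (by
    show pullback.fst p₁ pV.left ≫ p₁ ≫ V.hom = pullback.snd p₁ pV.left ≫ V'.hom
    rw [pullback.condition_assoc, Over.w pV])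
  let r : P₁₂ ⟶ P₂ := Over.homMk (e.hom ≫ pullback.fst p₂ pY.left) (by
    show (e.hom ≫ pullback.fst p₂ pY.left) ≫ p₂ ≫ Y'.hom = pullback.snd p₁ pV.left ≫ V'.hom
    rw [Category.assoc, pullback.condition_assoc, reassoc_of% he, Over.w pY])
  haveI : IsAffine P₁.left := ‹IsAffine T₁›
  haveI : IsAffine T₁ := ‹IsAffine T₁›
  have h12 : IsAffine (pullback p₁ pV.left) := inferInstance
  obtain ⟨hs₁, hj₁⟩ := JTorsor.smooth_surjective hT₁ hcov₁
  obtain ⟨hs₂, hj₂⟩ := JTorsor.smooth_surjective hT₂ gcov₁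
  have sq₂' : IsPullback (e.hom ≫ pullback.fst p₂ pY.left) (pullback.snd p₁ pV.left) p₂ pY.left :=
    sq₂.of_iso e.symm (Iso.refl _) (Iso.refl _) (Iso.refl _) (by simp) (by simp [← he]) (by simp) (by simp)
  exact ⟨P₁, P₂, P₁₂, π₁, π₂, π₁₂, l, r, ‹IsAffine T₁›, ‹IsAffine T₂›, h12, hs₁, hj₁, hs₂, hj₂,
    IsPullback.of_map (Over.forget S) (Over.OverMorphism.ext sq₁.w) sq₁,
    IsPullback.of_map (Over.forget S) (Over.OverMorphism.ext sq₂'.w) sq₂'⟩

theorem isLocallySurjective_yon_map {A B : Over S} (p : A ⟶ B) [Flat p.left]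
    [LocallyOfFinitePresentation p.left] [Surjective p.left] :
    Sheaf.IsLocallySurjective ((yon S).map p) :=
  isLocallySurjective_of_repWith _ ((repWith_yon_map_iff _ p).2 inferInstance)
    ((repWith_yon_map_iff _ p).2 inferInstance) ((repWith_yon_map_iff _ p).2 inferInstance)

/-- The part of a quotient over `U`: if `P₁ ⟶ V` is a cover, `P₁` is the part of `P` over `U` and
`P₁ ×_V P₁` is the part of the relation over `U`, then `V` is the part of the quotient over `U`. -/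
theorem exists_part {P Rq U V P₁ P₁₁ : Over S} {s t : Rq ⟶ P} {F : Sp S} {π : (yon S).obj P ⟶ F}
    [Sheaf.IsLocallySurjective π] (sq : IsPullback ((yon S).map t) ((yon S).map s) π π)
    (u : V ⟶ U)
    {π₁ : P₁ ⟶ V} [Flat π₁.left] [LocallyOfFinitePresentation π₁.left] [Surjective π₁.left]
    {e₁ : P₁ ⟶ P} (he₁ : Piece e₁ (π₁ ≫ u)) {a₁ b₁ : P₁₁ ⟶ P₁} (sq₁ : IsPullback a₁ b₁ π₁ π₁)
    {ε₁ : P₁₁ ⟶ Rq} (hε : Piece ε₁ (a₁ ≫ π₁ ≫ u)) (ht : ε₁ ≫ t = a₁ ≫ e₁) (hs : ε₁ ≫ s = b₁ ≫ e₁)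
    (πF : F ⟶ (yon S).obj (Over.mk (𝟙 S))) (tU : U ⟶ Over.mk (𝟙 S)) :
    ∃ a : (yon S).obj V ⟶ F, (yon S).map π₁ ≫ a = (yon S).map e₁ ≫ π ∧
      IsPullback a ((yon S).map u) πF ((yon S).map tU) := by
  have := isLocallySurjective_yon_map π₁
  obtain ⟨hc⟩ := isColimit_of_isLocallySurjective (IsPullback.map (yon S) sq₁)
  obtain ⟨a, ha⟩ := Cofork.IsColimit.desc' hc ((yon S).map e₁ ≫ π) (by
    rw [← Category.assoc, ← Category.assoc, ← Functor.map_comp, ← Functor.map_comp, ← ht, ← hs,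
      Functor.map_comp, Functor.map_comp, Category.assoc, Category.assoc, sq.w])
  change (yon S).map π₁ ≫ a = _ at ha
  refine ⟨a, ha, ?_⟩
  let φ : (yon S).obj V ⟶ pullback πF ((yon S).map tU) :=
    pullback.lift a ((yon S).map u) (hom_ext_terminal _ _)
  have hf : φ ≫ pullback.fst _ _ = a := pullback.lift_fst _ _ _
  have hg : φ ≫ pullback.snd _ _ = (yon S).map u := pullback.lift_snd _ _ _
  haveI : Epi φ := by
    have hout : IsPullback ((yon S).map e₁) ((yon S).map π₁ ≫ φ ≫ pullback.snd _ _) (π ≫ πF)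
        ((yon S).map tU) := by
      rw [hg, ← Functor.map_comp]
      have := IsPullback.map (yon S) (isPullback_of_piece he₁ (Over.mkIdTerminal.from P) tU)
      rwa [hom_ext_terminal (π ≫ πF) ((yon S).map (Over.mkIdTerminal.from P))]
    have htop : IsPullback ((yon S).map e₁) ((yon S).map π₁ ≫ φ) π (pullback.fst πF ((yon S).map tU)) := by
      refine IsPullback.of_bot ?_ ?_ (IsPullback.of_hasPullback _ _)
      · simpa only [Category.assoc] using hout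
      · rw [Category.assoc, hf, ha]
    haveI : Sheaf.IsLocallySurjective ((yon S).map π₁ ≫ φ) := isLocallySurjective_of_isPullback htop
    exact epi_of_epi ((yon S).map π₁) φ
  haveI : Mono φ := by
    constructor
    intro Z g g' hgg
    refine GlueHom.hom_ext_yon fun T z => ?_
    obtain ⟨x, hx⟩ := (yon S).map_surjective (z ≫ g)
    obtain ⟨y, hy⟩ := (yon S).map_surjective (z ≫ g')
    rw [← hx, ← hy]
    refine congrArg _ ?_
    have hxy : (yon S).map x ≫ φ = (yon S).map y ≫ φ := by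
      rw [hx, hy, Category.assoc, Category.assoc, hgg]
    have hxa : (yon S).map x ≫ a = (yon S).map y ≫ a := by
      rw [← hf, reassoc_of% hxy]
    have hxu : x ≫ u = y ≫ u := (yon S).map_injective (by
      rw [Functor.map_comp, Functor.map_comp, ← hg, reassoc_of% hxy])
    obtain ⟨T₁, c₁, x₁, sqx, sqxl⟩ := exists_pullback_over x π₁
    obtain ⟨T₂, c₂, y₂, sqy, sqyl⟩ := exists_pullback_over (c₁ ≫ y) π₁
    haveI : Flat c₁.left := MorphismProperty.of_isPullback sqxl.flip ‹Flat π₁.left›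
    haveI : LocallyOfFinitePresentation c₁.left :=
      MorphismProperty.of_isPullback sqxl.flip ‹LocallyOfFinitePresentation π₁.left›
    haveI : Surjective c₁.left := MorphismProperty.of_isPullback sqxl.flip ‹Surjective π₁.left›
    haveI : Flat c₂.left := MorphismProperty.of_isPullback sqyl.flip ‹Flat π₁.left›
    haveI : LocallyOfFinitePresentation c₂.left :=
      MorphismProperty.of_isPullback sqyl.flip ‹LocallyOfFinitePresentation π₁.left›
    haveI : Surjective c₂.left := MorphismProperty.of_isPullback sqyl.flip ‹Surjective π₁.left›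
    have := isLocallySurjective_yon_map c₁
    have := isLocallySurjective_yon_map c₂
    refine (yon S).map_injective ((cancel_epi ((yon S).map c₁)).1 ((cancel_epi ((yon S).map c₂)).1 ?_))
    simp only [← Functor.map_comp]
    refine congrArg _ ?_
    have hxx : c₂ ≫ c₁ ≫ x = (c₂ ≫ x₁) ≫ π₁ := by rw [Category.assoc, sqx.w]
    rw [hxx, sqy.w]
    have hw : (yon S).map ((c₂ ≫ x₁) ≫ e₁) ≫ π = (yon S).map (y₂ ≫ e₁) ≫ π := by
      rw [Functor.map_comp, Functor.map_comp _ y₂, Category.assoc, Category.assoc, ← ha, ← Category.assoc,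
        ← Category.assoc, ← Functor.map_comp, ← Functor.map_comp, ← hxx, ← sqy.w]
      simp only [Functor.map_comp, Category.assoc, hxa]
    obtain ⟨r, hr⟩ := (yon S).map_surjective (sq.lift _ _ hw)
    have hrt : r ≫ t = (c₂ ≫ x₁) ≫ e₁ := (yon S).map_injective (by rw [Functor.map_comp, hr, sq.lift_fst])
    have hrs : r ≫ s = y₂ ≫ e₁ := (yon S).map_injective (by rw [Functor.map_comp, hr, sq.lift_snd])
    obtain ⟨k, hk, hk'⟩ := hε.exists_lift r ((c₂ ≫ x₁) ≫ π₁ ≫ u)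
    have hka : k ≫ a₁ = c₂ ≫ x₁ := he₁.hom_ext (by rw [Category.assoc, ← ht, reassoc_of% hk, hrt])
      (by rw [Category.assoc]; exact hk')
    have hkb : k ≫ b₁ = y₂ := he₁.hom_ext (by rw [Category.assoc, ← hs, reassoc_of% hk, hrs]) (by
      rw [Category.assoc, ← reassoc_of% sq₁.w, hk', ← Category.assoc (c₂ ≫ x₁), ← hxx,
        ← Category.assoc y₂, ← sqy.w]
      simp only [Category.assoc, hxu])
    rw [← hka, ← hkb, Category.assoc, Category.assoc, sq₁.w]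
  haveI := isIso_of_mono_of_epi φ
  exact IsPullback.of_iso_pullback ⟨hom_ext_terminal _ _⟩ (asIso φ) hf hg

theorem isClosedImmersion_lift {P V W : Over S} [V.left.IsSeparated] {π : P ⟶ V} {a b : W ⟶ P}
    (sq : IsPullback a.left b.left π.left π.left) : IsClosedImmersion (prod.lift a b).left := by
  haveI : IsSeparated V.hom := inferInstance
  have hP : π.left ≫ V.hom = P.hom := Over.w π
  have h' : IsPullback (prod.fst : P ⨯ P ⟶ P).left (prod.snd : P ⨯ P ⟶ P).left (π.left ≫ V.hom)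
      (π.left ≫ V.hom) := by
    simp only [hP]; exact Groth.AlgSpBasic.isPullback_prod_left P P
  have e₀ : (prod.lift a b).left ≫ h'.isoPullback.hom =
      sq.isoPullback.hom ≫ pullback.mapDesc π.left π.left V.hom := by
    apply pullback.hom_ext
    · rw [Category.assoc, IsPullback.isoPullback_hom_fst, Groth.AlgSpBasic.lift_left_fst]
      erw [Category.assoc, pullback.lift_fst, Category.comp_id, IsPullback.isoPullback_hom_fst]
    · rw [Category.assoc, IsPullback.isoPullback_hom_snd, Groth.AlgSpBasic.lift_left_snd]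
      erw [Category.assoc, pullback.lift_snd, Category.comp_id, IsPullback.isoPullback_hom_snd]
  have e : (prod.lift a b).left =
      (sq.isoPullback.hom ≫ pullback.mapDesc π.left π.left V.hom) ≫ h'.isoPullback.inv := by
    rw [← e₀, Category.assoc, Iso.hom_inv_id, Category.comp_id]
  rw [e]
  infer_instance

/-- The self fibre product of an affine smooth cover of a separated scheme. -/
theorem exists_double {P V : Over S} [IsAffine P.left] [V.left.IsSeparated] (π : P ⟶ V) [Smooth π.left] :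
    ∃ (W : Over S) (a b : W ⟶ P), IsPullback a b π π ∧ IsPullback a.left b.left π.left π.left ∧
      IsAffine W.left ∧ Flat a.left ∧ LocallyOfFinitePresentation a.left ∧ Flat b.left ∧
      LocallyOfFinitePresentation b.left ∧ IsClosedImmersion (prod.lift a b).left := by
  obtain ⟨W, a, b, sq, sql⟩ := exists_pullback_over π π
  haveI : Smooth a.left := MorphismProperty.of_isPullback sql.flip ‹Smooth π.left›
  haveI : Smooth b.left := MorphismProperty.of_isPullback sql ‹Smooth π.left›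
  haveI hw : IsClosedImmersion (prod.lift a b).left := isClosedImmersion_lift sql
  haveI : IsAffineHom π.left :=
    MorphismProperty.of_postcomp (W := @IsAffineHom) (W' := @IsSeparated) π.left (terminal.from V.left)
      Scheme.IsSeparated.isSeparated_terminal_from inferInstance
  haveI : IsAffineHom a.left := MorphismProperty.of_isPullback sql.flip ‹IsAffineHom π.left›
  exact ⟨W, a, b, sq, sql, isAffine_of_isAffineHom a.left, inferInstance, inferInstance, inferInstance,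
    inferInstance, hw⟩

theorem isAffine_prod {P Q : Over S} [IsAffine S] [IsAffine P.left] [IsAffine Q.left] : IsAffine (P ⨯ Q).left :=
  .of_isIso (Groth.AlgSpBasic.isPullback_prod_left P Q).isoPullback.hom

theorem isAffine_of_isPullback {W A B C : Over S} [IsAffine A.left] [IsAffine B.left] [IsAffine C.left]
    {a : W ⟶ A} {b : W ⟶ B} {f : A ⟶ C} {g : B ⟶ C} (sq : IsPullback a b f g) : IsAffine W.left :=
  .of_isIso (Groth.AlgSpBasic.isPullback_left sq).isoPullback.hom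

/-- The pair of pieces is a piece of the product. -/
theorem piece_prod_map {P P₁ U : Over S} {e : P₁ ⟶ P} {u : P₁ ⟶ U} (h : Piece e u)
    {F : Over S} {c d : F ⟶ P₁} (sq : IsPullback c d u u) : Piece (prod.lift (c ≫ e) (d ≫ e)) (c ≫ u) := by
  intro T x q
  obtain ⟨ka, hka, hka'⟩ := h.exists_lift (x ≫ prod.fst) q
  obtain ⟨kb, hkb, hkb'⟩ := h.exists_lift (x ≫ prod.snd) q
  refine ⟨sq.lift ka kb (hka'.trans hkb'.symm), ⟨?_, by rw [sq.lift_fst_assoc, hka']⟩, fun m hm => ?_⟩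
  · apply Limits.prod.hom_ext
    · rw [Category.assoc, prod.lift_fst, sq.lift_fst_assoc, hka]
    · rw [Category.assoc, prod.lift_snd, sq.lift_snd_assoc, hkb]
  · refine sq.hom_ext ?_ ?_
    · rw [sq.lift_fst]
      exact h.hom_ext (by rw [Category.assoc, hka, ← hm.1, Category.assoc, prod.lift_fst])
        (by rw [Category.assoc, hka']; exact hm.2)
    · rw [sq.lift_snd]
      exact h.hom_ext (by rw [Category.assoc, hkb, ← hm.1, Category.assoc, prod.lift_snd])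
        (by rw [Category.assoc, hkb', ← sq.w]; exact hm.2)

/-- Composition on a piece of the composable pairs of the relation. -/
theorem exists_triple {P Rq M U V P₁ P₁₁ : Over S} {s t : Rq ⟶ P} {v : V ⟶ U} {π : P₁ ⟶ V} {e : P₁ ⟶ P}
    (he : Piece e (π ≫ v)) {a b : P₁₁ ⟶ P₁} (sq : IsPullback a b π π) {ε : P₁₁ ⟶ Rq}
    (hε : Piece ε (a ≫ π ≫ v)) (ht : ε ≫ t = a ≫ e) (hs : ε ≫ s = b ≫ e) {m n : M ⟶ Rq}
    (sqM : IsPullback m n s t) : ∃ (M₁ : Over S) (μ : M₁ ⟶ M) (w : M₁ ⟶ U) (c : M₁ ⟶ Rq),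
      Piece μ w ∧ c ≫ t = μ ≫ m ≫ t ∧ c ≫ s = μ ≫ n ≫ s := by
  obtain ⟨M₁, p, q, sq', -⟩ := exists_pullback_over b a
  have hw : (p ≫ ε) ≫ s = (q ≫ ε) ≫ t := by rw [Category.assoc, Category.assoc, hs, ht, sq'.w_assoc]
  refine ⟨M₁, sqM.lift _ _ hw, p ≫ a ≫ π ≫ v,
    sq.lift (p ≫ a) (q ≫ b) (by simp only [Category.assoc]; rw [sq.w, sq'.w_assoc, sq.w]) ≫ ε,
    fun T x c => ?_, ?_, ?_⟩
  · obtain ⟨ka, hka, hka'⟩ := hε.exists_lift (x ≫ m) c
    obtain ⟨kb, hkb, hkb'⟩ := hε.exists_lift (x ≫ n) c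
    have hab : ka ≫ b = kb ≫ a := he.hom_ext
      (by rw [Category.assoc, Category.assoc, ← hs, ← ht, reassoc_of% hka, reassoc_of% hkb, sqM.w])
      (by rw [Category.assoc, Category.assoc, hkb', ← sq.w_assoc, hka'])
    refine ⟨sq'.lift ka kb hab, ⟨sqM.hom_ext ?_ ?_, by rw [sq'.lift_fst_assoc, hka']⟩, fun k hk => ?_⟩
    · rw [Category.assoc, sqM.lift_fst, sq'.lift_fst_assoc, hka]
    · rw [Category.assoc, sqM.lift_snd, sq'.lift_snd_assoc, hkb]
    · refine sq'.hom_ext ?_ ?_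
      · rw [sq'.lift_fst]
        exact hε.hom_ext (by rw [hka, ← hk.1, Category.assoc, Category.assoc, sqM.lift_fst])
          (by rw [hka', Category.assoc]; exact hk.2)
      · rw [sq'.lift_snd]
        exact hε.hom_ext (by rw [hkb, ← hk.1, Category.assoc, Category.assoc, sqM.lift_snd])
          (by rw [hkb', Category.assoc, ← sq'.w_assoc, ← sq.w_assoc]; exact hk.2)
  · rw [Category.assoc, ht, sq.lift_fst_assoc, sqM.lift_fst_assoc, Category.assoc, Category.assoc, ht]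
  · rw [Category.assoc, hs, sq.lift_snd_assoc, sqM.lift_snd_assoc, Category.assoc, Category.assoc, hs]

/-- Doubling a piece along a cover. -/
theorem piece_double {U V V' P₁ P₁₂ P₁₁ K : Over S} {pV : V' ⟶ V} {w : V' ⟶ U} (hV : Piece pV w)
    {π₁ : P₁ ⟶ V} {π₁₂ : P₁₂ ⟶ V'} {l : P₁₂ ⟶ P₁} (sql : IsPullback l π₁₂ π₁ pV) {a b : P₁₁ ⟶ P₁}
    (sq : IsPullback a b π₁ π₁) {ka kb : K ⟶ P₁₂} (sqK : IsPullback ka kb π₁₂ π₁₂) {l₁₁ : K ⟶ P₁₁}
    (ha : l₁₁ ≫ a = ka ≫ l) (hb : l₁₁ ≫ b = kb ≫ l) : Piece l₁₁ (ka ≫ π₁₂ ≫ w) := by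
  have hl := piece_of_pullback hV sql
  intro T x c
  obtain ⟨k₁, hk₁, hk₁'⟩ := hl.exists_lift (x ≫ a) c
  obtain ⟨k₂, hk₂, hk₂'⟩ := hl.exists_lift (x ≫ b) c
  have hk : k₁ ≫ π₁₂ = k₂ ≫ π₁₂ := hV.hom_ext
    (by rw [Category.assoc, Category.assoc, ← sql.w, reassoc_of% hk₁, reassoc_of% hk₂, sq.w])
    (by rw [Category.assoc, Category.assoc, hk₁', hk₂'])
  refine ⟨sqK.lift k₁ k₂ hk, ⟨sq.hom_ext ?_ ?_, by rw [sqK.lift_fst_assoc, hk₁']⟩, fun m hm => ?_⟩
  · rw [Category.assoc, ha, sqK.lift_fst_assoc, hk₁]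
  · rw [Category.assoc, hb, sqK.lift_snd_assoc, hk₂]
  · refine sqK.hom_ext ?_ ?_
    · rw [sqK.lift_fst]
      exact hl.hom_ext (by rw [hk₁, ← hm.1, Category.assoc, Category.assoc, ha])
        (by rw [hk₁', Category.assoc]; exact hm.2)
    · rw [sqK.lift_snd]
      exact hl.hom_ext (by rw [hk₂, ← hm.1, Category.assoc, Category.assoc, hb])
        (by rw [hk₂', Category.assoc, ← sqK.w_assoc]; exact hm.2)

section Rel

variable {R R' : Type u} [CommRing R] [CommRing R'] [Algebra R R'] {f : R}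

/-- Maps on the pieces which agree on the middle glue. -/
theorem exists_hom_of_middle (h : EtGlue.IsGlueingPair R R' f) {E E₁ E₂ E₁₂ G : Over (Spec (CommRingCat.of R))}
    [IsAffine G.left] {e₁ : E₁ ⟶ E} {u₁ : E₁ ⟶ algObj R (Localization.Away f)} {e₂ : E₂ ⟶ E}
    {u₂ : E₂ ⟶ algObj R R'} (hE : Glued R' f e₁ u₁ e₂ u₂) {l : E₁₂ ⟶ E₁} {r : E₁₂ ⟶ E₂}
    (hl : Piece l (r ≫ u₂)) (hle : l ≫ e₁ = r ≫ e₂) (g₁ : E₁ ⟶ G) (g₂ : E₂ ⟶ G) (hg : l ≫ g₁ = r ≫ g₂) :
    ∃ g : E ⟶ G, e₁ ≫ g = g₁ ∧ e₂ ≫ g = g₂ := by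
  refine hE.exists_hom h g₁ g₂ fun T a b hab => ?_
  obtain ⟨k, hk, hk'⟩ := hl.exists_lift a (b ≫ u₂)
  have hkr : k ≫ r = b := hE.piece₂.hom_ext
    (by rw [Category.assoc, ← hle, reassoc_of% hk, hab]) (by rw [Category.assoc, hk'])
  rw [← hk, ← hkr, Category.assoc, Category.assoc, hg]

theorem glueable_of_flat (h : EtGlue.IsGlueingPair R R' f) {P M : Over (Spec (CommRingCat.of R))}
    [IsAffine P.left] (g : M ⟶ P) [Flat g.left]
    (hP : ∀ (A : Type u) [CommRing A] [Algebra R A], (algObj R A ≅ P) → TorsInj R R' f A)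
    (B : Type u) [CommRing B] [Algebra R B] (ε : algObj R B ≅ M) : TorsInj R R' f B := by
  obtain ⟨A, _, _, ⟨δ⟩⟩ := exists_algObj_iso P
  obtain ⟨α, hα⟩ := algMap_surjective (ε.hom ≫ g ≫ δ.inv)
  let : Algebra A B := α.toRingHom.toAlgebra
  haveI : IsScalarTower R A B := IsScalarTower.of_algebraMap_eq (fun r => (α.commutes r).symm)
  haveI : Flat (algMap α).left := by
    rw [hα, Over.comp_left, Over.comp_left]; infer_instance
  have hfl : α.toRingHom.Flat := (HasRingHomProperty.Spec_iff (P := @Flat)).1 this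
  haveI : Module.Flat A B := hfl
  exact torsInj_of_flat_algebra h A B (hP A δ)

/-- The glued cover and the glued relation. -/
theorem exists_rel (h : EtGlue.IsGlueingPair R R' f) {V Y' V' P₁ P₂ P₁₂ : Over (Spec (CommRingCat.of R))}
    [IsAffine P₁.left] [IsAffine P₂.left] [IsAffine P₁₂.left] [V.left.IsSeparated] [Y'.left.IsSeparated]
    [V'.left.IsSeparated] {v : V ⟶ algObj R (Localization.Away f)} {y' : Y' ⟶ algObj R R'}
    {pV : V' ⟶ V} {pY : V' ⟶ Y'} (hV : Piece pV (pY ≫ y')) (hY : Piece pY (pV ≫ v))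
    {π₁ : P₁ ⟶ V} {π₂ : P₂ ⟶ Y'} [Smooth π₁.left] [Smooth π₂.left]
    {π₁₂ : P₁₂ ⟶ V'} [Smooth π₁₂.left]
    {l : P₁₂ ⟶ P₁} {r : P₁₂ ⟶ P₂} (sql : IsPullback l π₁₂ π₁ pV) (sqr : IsPullback r π₁₂ π₂ pY) :
    ∃ (P Rq P₁₁ P₂₂ : Over (Spec (CommRingCat.of R))) (s t : Rq ⟶ P) (e₁ : P₁ ⟶ P) (e₂ : P₂ ⟶ P)
      (a₁ b₁ : P₁₁ ⟶ P₁) (a₂ b₂ : P₂₂ ⟶ P₂) (ε₁ : P₁₁ ⟶ Rq) (ε₂ : P₂₂ ⟶ Rq),
      Flat s.left ∧ LocallyOfFinitePresentation s.left ∧ Flat t.left ∧ LocallyOfFinitePresentation t.left ∧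
      IsEqvRel s t ∧ IsClosedImmersion (prod.lift t s).left ∧
      Piece e₁ (π₁ ≫ v) ∧ Piece e₂ (π₂ ≫ y') ∧ l ≫ e₁ = r ≫ e₂ ∧
      IsPullback a₁ b₁ π₁ π₁ ∧ Piece ε₁ (a₁ ≫ π₁ ≫ v) ∧ ε₁ ≫ t = a₁ ≫ e₁ ∧ ε₁ ≫ s = b₁ ≫ e₁ ∧
      IsPullback a₂ b₂ π₂ π₂ ∧ Piece ε₂ (a₂ ≫ π₂ ≫ y') ∧ ε₂ ≫ t = a₂ ≫ e₂ ∧ ε₂ ≫ s = b₂ ≫ e₂ := by
  obtain ⟨P₁₁, a₁, b₁, sq₁, -, _, _, _, _, _, hc₁⟩ := exists_double π₁
  obtain ⟨P₂₂, a₂, b₂, sq₂, -, _, _, _, _, _, hc₂⟩ := exists_double π₂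
  obtain ⟨K, ka, kb, sqK, -, _, -⟩ := exists_double π₁₂
  have hl : Piece l (r ≫ π₂ ≫ y') := by rw [sqr.w_assoc]; exact piece_of_pullback hV sql
  have hr : Piece r (l ≫ π₁ ≫ v) := by rw [sql.w_assoc]; exact piece_of_pullback hY sqr
  obtain ⟨P, e₁, e₂, hP, hle⟩ := exists_glued h (π₁ ≫ v) (π₂ ≫ y') hl hr
  haveI := hP.affine
  haveI : IsAffine (algObj R (Localization.Away f)).left := inferInstanceAs (IsAffine (Spec _))
  haveI : IsAffine (algObj R R').left := inferInstanceAs (IsAffine (Spec _))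
  have hKl : (ka ≫ l) ≫ π₁ = (kb ≫ l) ≫ π₁ := by
    rw [Category.assoc, Category.assoc, sql.w, sqK.w_assoc]
  have hKr : (ka ≫ r) ≫ π₂ = (kb ≫ r) ≫ π₂ := by
    rw [Category.assoc, Category.assoc, sqr.w, sqK.w_assoc]
  let L : K ⟶ P₁₁ := sq₁.lift _ _ hKl
  let Q : K ⟶ P₂₂ := sq₂.lift _ _ hKr
  have hLa : L ≫ a₁ = ka ≫ l := sq₁.lift_fst _ _ _
  have hLb : L ≫ b₁ = kb ≫ l := sq₁.lift_snd _ _ _
  have hQa : Q ≫ a₂ = ka ≫ r := sq₂.lift_fst _ _ _
  have hQb : Q ≫ b₂ = kb ≫ r := sq₂.lift_snd _ _ _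
  have hL : Piece L (Q ≫ a₂ ≫ π₂ ≫ y') := by
    rw [reassoc_of% hQa, sqr.w_assoc]; exact piece_double hV sql sq₁ sqK hLa hLb
  have hQ : Piece Q (L ≫ a₁ ≫ π₁ ≫ v) := by
    rw [reassoc_of% hLa, sql.w_assoc]; exact piece_double hY sqr sq₂ sqK hQa hQb
  obtain ⟨Rq, ε₁, ε₂, hR, hLe⟩ := exists_glued h (a₁ ≫ π₁ ≫ v) (a₂ ≫ π₂ ≫ y') hL hQ
  haveI := hR.affine
  obtain ⟨t, ht₁, ht₂⟩ := exists_hom_of_middle h hR hL hLe (a₁ ≫ e₁) (a₂ ≫ e₂)
    (by rw [reassoc_of% hLa, reassoc_of% hQa, hle])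
  obtain ⟨s, hs₁, hs₂⟩ := exists_hom_of_middle h hR hL hLe (b₁ ≫ e₁) (b₂ ≫ e₂)
    (by rw [reassoc_of% hLb, reassoc_of% hQb, hle])
  obtain ⟨ft, pt⟩ := flat_lfp_of_pieces h t hR hP a₁ ht₁.symm a₂ ht₂.symm rfl
  obtain ⟨fs, ps⟩ := flat_lfp_of_pieces h s hR hP b₁ hs₁.symm b₂ hs₂.symm (sq₂.w_assoc y').symm
  -- the relation is closed in the product
  haveI : IsAffine (P ⨯ P).left := isAffine_prod
  obtain ⟨F₁, c₁, d₁, sF₁, -⟩ := exists_pullback_over (π₁ ≫ v) (π₁ ≫ v)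
  obtain ⟨F₂, c₂, d₂, sF₂, -⟩ := exists_pullback_over (π₂ ≫ y') (π₂ ≫ y')
  have : IsAffine F₁.left := isAffine_of_isPullback sF₁
  have : IsAffine F₂.left := isAffine_of_isPullback sF₂
  let k₁ : P₁₁ ⟶ F₁ := sF₁.lift a₁ b₁ (sq₁.w_assoc v)
  let k₂ : P₂₂ ⟶ F₂ := sF₂.lift a₂ b₂ (sq₂.w_assoc y')
  haveI : IsClosedImmersion k₁.left := by
    have e : k₁ ≫ prod.lift c₁ d₁ = prod.lift a₁ b₁ := by apply Limits.prod.hom_ext <;> simp [k₁]
    haveI : IsAffine (P₁ ⨯ P₁).left := isAffine_prod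
    haveI : IsClosedImmersion (k₁.left ≫ (prod.lift c₁ d₁).left) := by
      rw [← Over.comp_left, e]; exact hc₁
    exact IsClosedImmersion.of_comp k₁.left (prod.lift c₁ d₁).left
  haveI : IsClosedImmersion k₂.left := by
    have e : k₂ ≫ prod.lift c₂ d₂ = prod.lift a₂ b₂ := by apply Limits.prod.hom_ext <;> simp [k₂]
    haveI : IsAffine (P₂ ⨯ P₂).left := isAffine_prod
    haveI : IsClosedImmersion (k₂.left ≫ (prod.lift c₂ d₂).left) := by
      rw [← Over.comp_left, e]; exact hc₂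
    exact IsClosedImmersion.of_comp k₂.left (prod.lift c₂ d₂).left
  haveI hj : IsClosedImmersion (prod.lift t s).left :=
    isClosedImmersion_of_pieces h (prod.lift t s) hR.piece₁ hR.piece₂ (piece_prod_map hP.piece₁ sF₁)
      (piece_prod_map hP.piece₂ sF₂) k₁ (by apply Limits.prod.hom_ext <;> simp [k₁, ht₁, hs₁])
      k₂ (by apply Limits.prod.hom_ext <;> simp [k₂, ht₂, hs₂]) (by simp [k₂])
  have hinj : ∀ {T : Over (Spec (CommRingCat.of R))} {x y : T ⟶ Rq},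
      x ≫ t = y ≫ t → x ≫ s = y ≫ s → x = y := fun {T x y} hxt hxs => by
    refine Over.OverMorphism.ext ((cancel_mono (prod.lift t s).left).1 ?_)
    rw [← Over.comp_left, ← Over.comp_left]
    refine congrArg CommaMorphism.left ?_
    apply Limits.prod.hom_ext <;> simp [hxt, hxs]
  -- reflexivity
  obtain ⟨δ, hδt, hδs⟩ : ∃ δ : P ⟶ Rq, δ ≫ t = 𝟙 P ∧ δ ≫ s = 𝟙 P := by
    let D₁ : P₁ ⟶ P₁₁ := sq₁.lift (𝟙 _) (𝟙 _) rfl
    let D₂ : P₂ ⟶ P₂₂ := sq₂.lift (𝟙 _) (𝟙 _) rfl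
    obtain ⟨δ, h₁, h₂⟩ := hP.exists_hom h (D₁ ≫ ε₁) (D₂ ≫ ε₂) fun T x y hxy => hinj
      (by simp [D₁, D₂, ht₁, ht₂, hxy]) (by simp [D₁, D₂, hs₁, hs₂, hxy])
    exact ⟨δ, hP.hom_ext h (by simp [reassoc_of% h₁, ht₁, D₁]) (by simp [reassoc_of% h₂, ht₂, D₂]),
      hP.hom_ext h (by simp [reassoc_of% h₁, hs₁, D₁]) (by simp [reassoc_of% h₂, hs₂, D₂])⟩
  -- symmetry
  obtain ⟨σ, hσt, hσs⟩ : ∃ σ : Rq ⟶ Rq, σ ≫ t = s ∧ σ ≫ s = t := by
    let W₁ : P₁₁ ⟶ P₁₁ := sq₁.lift b₁ a₁ sq₁.w.symm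
    let W₂ : P₂₂ ⟶ P₂₂ := sq₂.lift b₂ a₂ sq₂.w.symm
    obtain ⟨σ, h₁, h₂⟩ := hR.exists_hom h (W₁ ≫ ε₁) (W₂ ≫ ε₂) fun T x y hxy => hinj
      (by simp [W₁, W₂, ht₁, ht₂, ← hs₁, ← hs₂, reassoc_of% hxy])
      (by simp [W₁, W₂, hs₁, hs₂, ← ht₁, ← ht₂, reassoc_of% hxy])
    exact ⟨σ, hR.hom_ext h (by simp [reassoc_of% h₁, ht₁, hs₁, W₁]) (by simp [reassoc_of% h₂, ht₂, hs₂, W₂]),
      hR.hom_ext h (by simp [reassoc_of% h₁, hs₁, ht₁, W₁]) (by simp [reassoc_of% h₂, hs₂, ht₂, W₂])⟩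
  -- transitivity
  obtain ⟨M, m, n, sqM, sqMl⟩ := exists_pullback_over s t
  haveI : IsAffine M.left := isAffine_of_isPullback sqM
  obtain ⟨M₁, μ₁, w₁, γ₁, hμ₁, hγ₁t, hγ₁s⟩ := exists_triple hP.piece₁ sq₁ hR.piece₁ ht₁ hs₁ sqM
  obtain ⟨M₂, μ₂, w₂, γ₂, hμ₂, hγ₂t, hγ₂s⟩ := exists_triple hP.piece₂ sq₂ hR.piece₂ ht₂ hs₂ sqM
  haveI : Flat m.left := MorphismProperty.of_isPullback sqMl.flip ft
  haveI : Flat (m ≫ s).left := by rw [Over.comp_left]; infer_instance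
  have hM : Glued R' f μ₁ w₁ μ₂ w₂ :=
    ⟨inferInstance, hμ₁, hμ₂, fun A _ _ ε => glueable_of_flat h (m ≫ s) hP.glueable A ε⟩
  obtain ⟨γ, hγ₁, hγ₂⟩ := hM.exists_hom h γ₁ γ₂ fun T x y hxy => hinj
    (by simp only [Category.assoc, hγ₁t, hγ₂t, reassoc_of% hxy])
    (by simp only [Category.assoc, hγ₁s, hγ₂s, reassoc_of% hxy])
  have hγt : γ ≫ t = m ≫ t := hM.hom_ext h (by rw [reassoc_of% hγ₁, hγ₁t]) (by rw [reassoc_of% hγ₂, hγ₂t])
  have hγs : γ ≫ s = n ≫ s := hM.hom_ext h (by rw [reassoc_of% hγ₁, hγ₁s]) (by rw [reassoc_of% hγ₂, hγ₂s])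
  have hrel : IsEqvRel s t :=
    { injective := fun T x y hxt hxs => hinj hxt hxs
      equivalence := fun T =>
        { refl := fun a => ⟨a ≫ δ, by rw [Category.assoc, hδt, Category.comp_id],
            by rw [Category.assoc, hδs, Category.comp_id]⟩
          symm := fun {x y} ⟨r, h₁, h₂⟩ => ⟨r ≫ σ, by rw [Category.assoc, hσt, h₂],
            by rw [Category.assoc, hσs, h₁]⟩
          trans := fun {x y z} ⟨r₁, h₁, h₂⟩ ⟨r₂, h₃, h₄⟩ =>
            ⟨sqM.lift r₁ r₂ (h₂.trans h₃.symm) ≫ γ,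
              by rw [Category.assoc, hγt, sqM.lift_fst_assoc, h₁],
              by rw [Category.assoc, hγs, sqM.lift_snd_assoc, h₄]⟩ } }
  exact ⟨P, Rq, P₁₁, P₂₂, s, t, e₁, e₂, a₁, b₁, a₂, b₂, ε₁, ε₂, fs, ps, ft, pt, hrel, hj, hP.piece₁,
    hP.piece₂, hle, sq₁, hR.piece₁, ht₁, hs₁, sq₂, hR.piece₂, ht₂, hs₂⟩

/-- Glueing of quasi-affine schemes along a glueing pair as a separated algebraic space. -/
theorem exists_glueing (h : EtGlue.IsGlueingPair R R' f) {V Y' V' : Over (Spec (CommRingCat.of R))}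
    [V.left.IsQuasiAffine] [V'.left.IsQuasiAffine] [Y'.left.IsQuasiAffine]
    (tU : algObj R (Localization.Away f) ⟶ Over.mk (𝟙 _)) (tX : algObj R R' ⟶ Over.mk (𝟙 _))
    (v : V ⟶ algObj R (Localization.Away f)) (y' : Y' ⟶ algObj R R')
    (pV : V' ⟶ V) (pY : V' ⟶ Y') [IsAffineHom pV.left] [IsAffineHom pY.left]
    (hV : Piece pV (pY ≫ y')) (hY : Piece pY (pV ≫ v)) :
    ∃ (Y : AlgSp.Space (Spec (CommRingCat.of R))) (πY : Y.obj ⟶ (yon _).obj (Over.mk (𝟙 _)))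
      (a : (yon _).obj V ⟶ Y.obj) (b : (yon _).obj Y' ⟶ Y.obj),
      IsSeparatedSp Y.obj ∧ IsPullback a ((yon _).map v) πY ((yon _).map tU) ∧
        IsPullback b ((yon _).map y') πY ((yon _).map tX) ∧ (yon _).map pV ≫ a = (yon _).map pY ≫ b := by
  obtain ⟨P₁, P₂, P₁₂, π₁, π₂, π₁₂, l, r, _, _, _, _, _, _, _, sql, sqr⟩ := exists_middle pV pY
  haveI : Smooth π₁₂.left :=
    MorphismProperty.of_isPullback (Groth.AlgSpBasic.isPullback_left sql) ‹Smooth π₁.left›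
  haveI : Surjective π₁₂.left :=
    MorphismProperty.of_isPullback (Groth.AlgSpBasic.isPullback_left sql) ‹Surjective π₁.left›
  obtain ⟨P, Rq, P₁₁, P₂₂, s, t, e₁, e₂, a₁, b₁, a₂, b₂, ε₁, ε₂, _, _, _, _, hrel, hj, he₁, he₂, hle,
    sq₁, hε₁, ht₁, hs₁, sq₂, hε₂, ht₂, hs₂⟩ := exists_rel h hV hY sql sqr
  let Y : AlgSp.Space (Spec (CommRingCat.of R)) :=
    ⟨QuotSh.quot Scheme.fppfPrecoverage s t, Groth.Agent.S10103.result _ s t hrel⟩
  let π : (yon _).obj P ⟶ Y.obj := yonQuotπ s t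
  haveI : Sheaf.IsLocallySurjective π := isLocallySurjective_yonQuotπ s t
  have sq : IsPullback ((yon _).map t) ((yon _).map s) π π := isPullback_yonQuot hrel
  obtain ⟨πY, -⟩ := Cofork.IsColimit.desc' (isColimitYonQuot s t)
    ((yon _).map (Over.mkIdTerminal.from P)) (hom_ext_terminal _ _)
  change Y.obj ⟶ _ at πY
  obtain ⟨a, ha, hpa⟩ := exists_part sq v he₁ sq₁ hε₁ ht₁ hs₁ πY tU
  obtain ⟨b, hb, hpb⟩ := exists_part sq y' he₂ sq₂ hε₂ ht₂ hs₂ πY tX
  refine ⟨Y, πY, a, b, ?_, hpa, hpb, ?_⟩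
  · haveI := isLocallySurjective_prod_map (π := π)
    exact repWith_of_isLocallySurjective _ Y.property.diag
      (prodComparison (yon _) P P ≫ prod.map π π) _ _
      (isPullback_diag_yon sq) ((repWith_yon_map_iff _ _).2 hj)
  · haveI := isLocallySurjective_yon_map π₁₂
    rw [← cancel_epi ((yon _).map π₁₂), ← Category.assoc, ← Category.assoc, ← Functor.map_comp,
      ← Functor.map_comp, ← sql.w, ← sqr.w, Functor.map_comp, Functor.map_comp, Category.assoc,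
      Category.assoc, ha, hb]
    have := congrArg (fun g => (yon _).map g ≫ π) hle
    simp only [Functor.map_comp, Category.assoc] at this
    exact this

end Rel

end

end Groth.AlgSpBasic.GluedQuot
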