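import Groth.Agent.AlgSpBasic.FieldConj
import Groth.Agent.AlgSpBasic.Points
import Groth.Agent.AlgSpBasic.SepLocal
import Groth.Agent.AlgSp2.GrpdRestrict

/-!
# Arrows of a groupoid over a field become automorphisms over a large field
-/

set_option autoImplicit false
set_option backward.isDefEq.respectTransparency.types false
universe u

open CategoryTheory CategoryTheory.Limits AlgebraicGeometry Opposite AlgSp

namespace Groth.AlgSpBasic.GrpdPointOver

variable {S : Scheme.{u}}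

theorem exists_conjugate_maps {k K : Type u} [Field k] [Field K]
    {σ : Spec (CommRingCat.of k) ⟶ S} {τ : Spec (CommRingCat.of K) ⟶ S}
    (A Bm : Over.mk τ ⟶ Over.mk σ) :
    ∃ (k' : Type u) (_ : Field k') (_ : Algebra k k'), IsAlgClosed k' ∧
      ∃ (z : Over.mk (Spec.map (CommRingCat.ofHom (algebraMap k k')) ≫ σ) ⟶ Over.mk τ)
        (β : Over.mk (Spec.map (CommRingCat.ofHom (algebraMap k k')) ≫ σ) ⟶
          Over.mk (Spec.map (CommRingCat.ofHom (algebraMap k k')) ≫ σ)),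
        IsIso β ∧ z ≫ A = (Over.homMk (Spec.map (CommRingCat.ofHom (algebraMap k k'))) rfl :
          Over.mk (Spec.map (CommRingCat.ofHom (algebraMap k k')) ≫ σ) ⟶ Over.mk σ) ∧
        z ≫ Bm = β ≫ (Over.homMk (Spec.map (CommRingCat.ofHom (algebraMap k k'))) rfl :
          Over.mk (Spec.map (CommRingCat.ofHom (algebraMap k k')) ≫ σ) ⟶ Over.mk σ) := by
  obtain ⟨a, ha⟩ : ∃ a : k →+* K, Spec.map (CommRingCat.ofHom a) = A.left :=
    ⟨(Spec.preimage A.left).hom, Spec.map_preimage _⟩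
  obtain ⟨b, hb⟩ : ∃ b : k →+* K, Spec.map (CommRingCat.ofHom b) = Bm.left :=
    ⟨(Spec.preimage Bm.left).hom, Spec.map_preimage _⟩
  obtain ⟨Ω, iΩ, ψ, β, hΩ, hβ⟩ := Groth.AlgSpBasic.FieldConj.exists_conjugate a b
  refine ⟨Ω, iΩ, (ψ.comp a).toAlgebra, hΩ, ?_⟩
  letI := (ψ.comp a).toAlgebra
  have hA : Spec.map (CommRingCat.ofHom a) ≫ σ = τ := by rw [ha]; exact Over.w A
  have hB : Spec.map (CommRingCat.ofHom b) ≫ σ = τ := by rw [hb]; exact Over.w Bm
  have h₁ : Spec.map (CommRingCat.ofHom (algebraMap k Ω)) =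
      Spec.map (CommRingCat.ofHom ψ) ≫ Spec.map (CommRingCat.ofHom a) := by
    rw [← Spec.map_comp]; rfl
  have h₂ : Spec.map (CommRingCat.ofHom β.toRingHom) ≫ Spec.map (CommRingCat.ofHom (algebraMap k Ω)) =
      Spec.map (CommRingCat.ofHom ψ) ≫ Spec.map (CommRingCat.ofHom b) := by
    rw [← Spec.map_comp, ← Spec.map_comp, ← CommRingCat.ofHom_comp, ← CommRingCat.ofHom_comp]
    exact congrArg (fun f => Spec.map (CommRingCat.ofHom f)) hβ
  refine ⟨Over.homMk (Spec.map (CommRingCat.ofHom ψ)) ?_,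
    Over.homMk (Spec.map (CommRingCat.ofHom β.toRingHom)) ?_, ?_, ?_, ?_⟩
  · change _ ≫ τ = _ ≫ σ
    rw [h₁, Category.assoc, hA]
  · change _ ≫ _ ≫ σ = _ ≫ σ
    rw [← Category.assoc, h₂, Category.assoc, hB, h₁, Category.assoc, hA]
  · haveI : IsIso (CommRingCat.ofHom β.toRingHom) := β.toCommRingCatIso.isIso_hom
    haveI h : IsIso ((Over.forget S).map (Over.homMk (Spec.map (CommRingCat.ofHom β.toRingHom)) (by
      change _ ≫ _ ≫ σ = _ ≫ σ
      rw [← Category.assoc, h₂, Category.assoc, hB, h₁, Category.assoc, hA]) :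
        Over.mk (Spec.map (CommRingCat.ofHom (algebraMap k Ω)) ≫ σ) ⟶
          Over.mk (Spec.map (CommRingCat.ofHom (algebraMap k Ω)) ≫ σ))) :=
      inferInstanceAs (IsIso (Spec.map (CommRingCat.ofHom β.toRingHom)))
    exact isIso_of_reflects_iso _ (Over.forget S)
  · refine Over.OverMorphism.ext ?_
    change _ ≫ A.left = Spec.map _
    rw [← ha]; exact h₁.symm
  · refine Over.OverMorphism.ext ?_
    change _ ≫ Bm.left = _ ≫ Spec.map _
    rw [← hb]; exact h₂.symm

theorem exists_algClosed_point {B : Sp S} (G : GroupoidSp B) {k : Type u} [Field k]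
    (σ : Spec (CommRingCat.of k) ⟶ S) (eU : G.U ≅ (yon S).obj (Over.mk σ)) (r : Points G.R) :
    ∃ (k' : Type u) (_ : Field k') (_ : Algebra k k'), IsAlgClosed k' ∧
      ∀ (G' : GroupoidSp B) (φ : GroupoidSp.Hom G' G), φ.IsRestriction →
        ∀ (eU' : G'.U ≅ (yon S).obj (Over.mk (Spec.map (CommRingCat.ofHom (algebraMap k k')) ≫ σ))),
          φ.fU = eU'.hom ≫ (yon S).map (Over.homMk (Spec.map (CommRingCat.ofHom (algebraMap k k'))) rfl :
            Over.mk (Spec.map (CommRingCat.ofHom (algebraMap k k')) ≫ σ) ⟶ Over.mk σ) ≫ eU.inv →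
          ∃ r' : G'.U ⟶ G'.R, (∀ x : Points G'.U, Points.map (r' ≫ φ.fR) x = r) ∧
            IsIso (r' ≫ G'.s) ∧ IsIso (r' ≫ G'.t) := by
  obtain ⟨q, rfl⟩ := Points.mk_surjective r
  obtain ⟨A, hA⟩ := (yon S).map_surjective (fieldPtHom q ≫ G.s ≫ eU.hom)
  obtain ⟨Bm, hB⟩ := (yon S).map_surjective (fieldPtHom q ≫ G.t ≫ eU.hom)
  obtain ⟨k', iK, iA, hk, z, β, hβ, hzA, hzB⟩ := exists_conjugate_maps (k := k) (K := q.K) A Bm
  refine ⟨k', iK, iA, hk, fun G' φ hφ eU' hfU => ?_⟩
  have hpt : ∀ x : Points ((yon S).obj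
      (Over.mk (Spec.map (CommRingCat.ofHom (algebraMap k k')) ≫ σ))),
      Points.map ((yon S).map z ≫ fieldPtHom q) x = Points.mk q := by
    intro x
    obtain ⟨t, rfl⟩ := (Points.schemeEquiv _).surjective x
    change Points.map _ (Points.ofScheme _ t) = _
    rw [← ofPt_eq_map, ofPt_comp_yon]
    rw [Subsingleton.elim (α := PrimeSpectrum q.K) (z.left t) (IsLocalRing.closedPoint q.K)]
    exact ofPt_fieldPtHom q
  obtain ⟨r', ht, hs, hR⟩ := Groth.AlgSp2.GrpdRestrict.exists_lift φ hφ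
    (eU'.hom ≫ (yon S).map β ≫ eU'.inv) (𝟙 _) (eU'.hom ≫ (yon S).map z ≫ fieldPtHom q)
    (by
      simp only [Category.assoc, hfU, Iso.inv_hom_id_assoc]
      congr 1
      rw [← cancel_mono eU.hom]
      simp only [Category.assoc, Iso.inv_hom_id, Category.comp_id]
      rw [← hB, ← Functor.map_comp, hzB, Functor.map_comp])
    (by
      rw [Category.id_comp, hfU]
      simp only [Category.assoc]
      congr 1
      rw [← cancel_mono eU.hom]
      simp only [Category.assoc, Iso.inv_hom_id, Category.comp_id]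
      rw [← hA, ← Functor.map_comp, hzA])
  refine ⟨r', fun x => ?_, by rw [hs]; infer_instance, by rw [ht]; infer_instance⟩
  rw [hR, Points.map_comp]
  exact hpt _

end Groth.AlgSpBasic.GrpdPointOver
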