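import Groth.Agent.AlgSpBasic.SchematicPieces
import Groth.Agent.AlgSpBasic.DecentNbhdCofiltered
import Groth.Agent.AlgSpBasic.LocP
import Groth.Agent.Flatmor4.EtaleSplit
import Groth.Agent.S9332
import Mathlib.FieldTheory.PurelyInseparable.Basic

/-!
# Universal injectivity tested by etale base change
-/

set_option autoImplicit false
set_option backward.isDefEq.respectTransparency.types false
universe u

open CategoryTheory CategoryTheory.Limits AlgebraicGeometry Topology Opposite AlgSp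

namespace Groth.AlgSpBasic

variable {S : Scheme.{u}} {X Y : Sp S}

theorem exists_etale_separating {U Q : Scheme.{u}} (π : Q ⟶ U) (q₀ : Q)
    (hfin : (π.residueFieldMap q₀).hom.Finite) :
    ∃ (V : Scheme.{u}) (g : V ⟶ U) (η : Spec (Q.residueField q₀) ⟶ V), Etale g ∧
      η ≫ g = Q.fromSpecResidueField q₀ ≫ π ∧
      ∀ (Ω : Type u) [Field Ω] (a b : Spec (CommRingCat.of Ω) ⟶ Spec (Q.residueField q₀)),
        a ≫ η = b ≫ η → a = b := by
  let k := U.residueField (π q₀)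
  let K := Q.residueField q₀
  let _ : Algebra k K := (π.residueFieldMap q₀).hom.toAlgebra
  have : Module.Finite k K := hfin
  let M := separableClosure k K
  have : IsPurelyInseparable M K := separableClosure.isPurelyInseparable k K
  obtain ⟨V, g, v, hv, hg, ⟨e⟩⟩ := Groth.Flatmor4.exists_etale_residueField U (π q₀) M
  let ι : V.residueField v ⟶ K :=
    CommRingCat.ofHom ((algebraMap M K).comp (letI := ((U.residueFieldCongr hv).inv ≫
      g.residueFieldMap v).hom.toAlgebra; e.symm.toAlgHom.toRingHom))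
  refine ⟨V, g, Spec.map ι ≫ V.fromSpecResidueField v, hg, ?_, fun Ω _ a b hab => ?_⟩
  · have e₁ : (U.residueFieldCongr hv).inv ≫ g.residueFieldMap v ≫ ι = π.residueFieldMap q₀ := by
      let _ := ((U.residueFieldCongr hv).inv ≫ g.residueFieldMap v).hom.toAlgebra
      ext z
      exact congrArg (algebraMap M K) (e.symm.commutes z)
    rw [Category.assoc, ← Scheme.Hom.SpecMap_residueFieldMap_fromSpecResidueField g v,
      ← Scheme.Hom.SpecMap_residueFieldMap_fromSpecResidueField π q₀,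
      ← Scheme.residueFieldCongr_fromSpecResidueField (X := U) hv.symm, ← Category.assoc,
      ← Category.assoc, ← Spec.map_comp, ← Spec.map_comp, ← e₁]
    congr 2
  · rw [← Category.assoc, ← Category.assoc, cancel_mono] at hab
    obtain ⟨a, rfl⟩ := Spec.map_surjective a
    obtain ⟨b, rfl⟩ := Spec.map_surjective b
    rw [← Spec.map_comp, ← Spec.map_comp] at hab
    have h := Spec.map_injective hab
    congr 1
    refine CommRingCat.hom_ext (IsPurelyInseparable.injective_comp_algebraMap M K Ω (RingHom.ext fun z => ?_))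
    let _ := ((U.residueFieldCongr hv).inv ≫ g.residueFieldMap v).hom.toAlgebra
    have := ConcreteCategory.congr_hom h (e z)
    change a.hom (algebraMap M K (e.symm (e z))) = b.hom (algebraMap M K (e.symm (e z))) at this
    rwa [e.symm_apply_apply] at this

theorem exists_finite_residue_over {U Q : Scheme.{u}} (π : Q ⟶ U) [LocallyOfFiniteType π] (a : Q) :
    ∃ q₀ : Q, π q₀ = π a ∧ (π.residueFieldMap q₀).hom.Finite := by
  have : LocallyOfFiniteType (π.fiberToSpecResidueField (π a)) :=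
    MorphismProperty.pullback_snd _ _ inferInstance
  have : JacobsonSpace ↥(π.fiber (π a)) :=
    LocallyOfFiniteType.jacobsonSpace (π.fiberToSpecResidueField (π a))
  obtain ⟨z, hz⟩ : (closedPoints ↥(π.fiber (π a))).Nonempty := by
    have h : closure (closedPoints ↥(π.fiber (π a))) = Set.univ := closure_closedPoints
    by_contra hne
    rw [Set.not_nonempty_iff_eq_empty.1 hne, closure_empty] at h
    exact (h.symm ▸ Set.mem_univ (π.asFiber a) : π.asFiber a ∈ (∅ : Set ↥(π.fiber (π a))))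
  have hq : π (π.fiberι (π a) z) = π a := (π.range_fiberι (π a)).le ⟨z, rfl⟩
  generalize π a = y at z hz hq ⊢
  obtain ⟨q₀, hq₀⟩ : ∃ q₀, π.fiberι y z = q₀ := ⟨_, rfl⟩
  rw [hq₀] at hq
  subst hq
  refine ⟨q₀, rfl, (Groth.SchemeMorphisms.isClosed_asFiber_iff_finite π q₀).1 ?_⟩
  rw [show π.asFiber q₀ = z from (π.fiberι (π q₀)).isEmbedding.injective
    ((π.fiberι_asFiber q₀).trans hq₀.symm)]
  exact hz

/-- A field point lifts along a representable surjective morphism, after an extension. -/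
theorem exists_field_lift {F : Sp S} {U : Over S} {p : (yon S).obj U ⟶ F}
    (hp : RepWith @Surjective p) {Ω : Type u} [Field Ω] {w : Spec (CommRingCat.of Ω) ⟶ S}
    (x : (yon S).obj (Over.mk w) ⟶ F) :
    ∃ (Ω' : Type u) (_ : Field Ω') (w' : Spec (CommRingCat.of Ω') ⟶ S)
      (τ : Over.mk w' ⟶ Over.mk w) (r : Over.mk w' ⟶ U),
      (yon S).map r ≫ p = (yon S).map τ ≫ x := by
  obtain ⟨T, snd, fst, sq⟩ := hp.rep x
  obtain ⟨l, rfl⟩ := (yon S).map_surjective fst
  obtain ⟨t, -⟩ := (hp.property x _ snd sq).surj (IsLocalRing.closedPoint Ω)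
  refine ⟨T.left.residueField t, inferInstance, T.left.fromSpecResidueField t ≫ T.hom,
    (Over.homMk (T.left.fromSpecResidueField t) : Over.mk _ ⟶ T) ≫ snd,
    (Over.homMk (T.left.fromSpecResidueField t) : Over.mk _ ⟶ T) ≫ l, ?_⟩
  rw [Functor.map_comp, Functor.map_comp, Category.assoc, Category.assoc, sq.w]

/-- Two scheme points with the same image have a common field point. -/
theorem exists_common_point {F : Sp S} {U V : Over S} {a : (yon S).obj U ⟶ F}
    {b : (yon S).obj V ⟶ F} {x : ↥U.left} {y : ↥V.left}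
    (h : AlgSp.Points.ofPt a x = AlgSp.Points.ofPt b y) :
    ∃ (Ω : Type u) (_ : Field Ω) (w : Spec (CommRingCat.of Ω) ⟶ S) (α : Over.mk w ⟶ U)
      (β : Over.mk w ⟶ V), (yon S).map α ≫ a = (yon S).map β ≫ b ∧
        α.left (IsLocalRing.closedPoint Ω) = x ∧ β.left (IsLocalRing.closedPoint Ω) = y := by
  obtain ⟨Ω, _, w, α, β, e⟩ := rel_iff.1 (AlgSp.Points.mk_eq_mk_iff.1 h)
  let rx : (FieldPt.ofPt a x).pt ⟶ U := Over.homMk (U.left.fromSpecResidueField x) rfl
  let ry : (FieldPt.ofPt b y).pt ⟶ V := Over.homMk (V.left.fromSpecResidueField y) rfl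
  have ea : fieldPtHom (FieldPt.ofPt a x) = (yon S).map rx ≫ a := FieldPt.toHom_ofPt a x
  have eb : fieldPtHom (FieldPt.ofPt b y) = (yon S).map ry ≫ b := FieldPt.toHom_ofPt b y
  let α' : Over.mk w ⟶ (FieldPt.ofPt a x).pt := α
  let β' : Over.mk w ⟶ (FieldPt.ofPt b y).pt := β
  refine ⟨Ω, inferInstance, w, α' ≫ rx, β' ≫ ry, ?_, ?_, ?_⟩
  · rw [Functor.map_comp, Functor.map_comp, Category.assoc, Category.assoc, ← ea, ← eb]
    exact e
  · exact Scheme.fromSpecResidueField_apply x (α'.left (IsLocalRing.closedPoint Ω))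
  · exact Scheme.fromSpecResidueField_apply y (β'.left (IsLocalRing.closedPoint Ω))

/-- Field points with the same image agree after an extension. -/
theorem exists_extension_eq (hX : IsAlgSpace X) (hY : IsAlgSpace Y) {f : X ⟶ Y}
    (hft : LocP @LocallyOfFiniteType f)
    (hinj : ∀ (V : Over S) (e : (yon S).obj V ⟶ Y), RepWith @Etale e →
      ∀ (P : Sp S) (fst : P ⟶ X) (snd : P ⟶ (yon S).obj V), IsPullback fst snd f e →
        Function.Injective (AlgSp.Points.map snd))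
    {Ω : Type u} [Field Ω] {w : Spec (CommRingCat.of Ω) ⟶ S}
    (x₁ x₂ : (yon S).obj (Over.mk w) ⟶ X) (hx : x₁ ≫ f = x₂ ≫ f) :
    ∃ (Ω' : Type u) (_ : Field Ω') (w' : Spec (CommRingCat.of Ω') ⟶ S)
      (τ : Over.mk w' ⟶ Over.mk w), (yon S).map τ ≫ x₁ = (yon S).map τ ≫ x₂ := by
  obtain ⟨U, p, hp, hps⟩ := hY.atlas
  obtain ⟨Ω₁, _, w₁, τ₁, r, hr⟩ := exists_field_lift hps (x₁ ≫ f)
  have sqP := IsPullback.of_hasPullback f p
  have hPinj := hinj U p hp _ _ _ sqP
  obtain ⟨Q, q, hq, hqs⟩ :=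
    (isAlgSpace_of_isPullback sqP hY.diag hX (IsAlgSpace.yon_obj U)).atlas
  obtain ⟨π, hπ⟩ := (yon S).map_surjective (q ≫ pullback.snd f p)
  have hπ' : LocallyOfFiniteType π.left :=
    hft (q ≫ pullback.fst f p) p π (repWith_comp hq (repWith_of_isPullback sqP.flip hp)) hp
      (by rw [hπ, Category.assoc, Category.assoc, sqP.w])
  have hw₁ : ((yon S).map τ₁ ≫ x₁) ≫ f = (yon S).map r ≫ p := by rw [Category.assoc, hr]
  have hw₂ : ((yon S).map τ₁ ≫ x₂) ≫ f = (yon S).map r ≫ p := by rw [Category.assoc, ← hx, hr]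
  obtain ⟨X₁, hX₁, hX₁'⟩ : ∃ X₁ : (yon S).obj (Over.mk w₁) ⟶ pullback f p,
      X₁ ≫ pullback.fst f p = (yon S).map τ₁ ≫ x₁ ∧ X₁ ≫ pullback.snd f p = (yon S).map r :=
    ⟨_, sqP.lift_fst _ _ hw₁, sqP.lift_snd _ _ hw₁⟩
  obtain ⟨X₂, hX₂, hX₂'⟩ : ∃ X₂ : (yon S).obj (Over.mk w₁) ⟶ pullback f p,
      X₂ ≫ pullback.fst f p = (yon S).map τ₁ ≫ x₂ ∧ X₂ ≫ pullback.snd f p = (yon S).map r :=
    ⟨_, sqP.lift_fst _ _ hw₂, sqP.lift_snd _ _ hw₂⟩
  -- a point of the chart which is closed in its fibre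
  let c := IsLocalRing.closedPoint Ω₁
  have : Subsingleton ↥(Over.mk w₁).left := inferInstanceAs (Subsingleton (PrimeSpectrum Ω₁))
  have hπpt : ∀ a, AlgSp.Points.map (pullback.snd f p) (AlgSp.Points.ofPt q a) =
      AlgSp.Points.ofScheme U (π.left a) := fun a => by
    rw [AlgSp.Points.map_ofPt, ← hπ, ← Category.comp_id ((yon S).map π), ofPt_comp_yon]
  obtain ⟨a, ha⟩ := surjective_ofPt_of_repWith hqs (AlgSp.Points.ofPt X₁ c)
  obtain ⟨q₀, hq₀, hfin⟩ := exists_finite_residue_over π.left a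
  have h₁ : AlgSp.Points.ofPt X₁ c = AlgSp.Points.ofPt q q₀ := by
    rw [← ha]
    exact hPinj (by rw [hπpt, hπpt, hq₀])
  have h₂ : AlgSp.Points.ofPt X₂ c = AlgSp.Points.ofPt q q₀ := by
    rw [← h₁]
    exact hPinj (by rw [AlgSp.Points.map_ofPt, AlgSp.Points.map_ofPt, hX₁', hX₂'])
  obtain ⟨Ω₂, _, w₂, τ₂, σ₁, hσ₁, -, -⟩ := exists_common_point h₁
  have h₂' : AlgSp.Points.ofPt ((yon S).map τ₂ ≫ X₂) (IsLocalRing.closedPoint Ω₂) =
      AlgSp.Points.ofPt q q₀ := by
    rw [ofPt_comp_yon, ← h₂]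
    exact congrArg _ (Subsingleton.elim _ _)
  obtain ⟨Ω₃, _, w₃, τ₃, σ₂, hσ₂, -, hσ₂c⟩ := exists_common_point h₂'
  let τ : Over.mk w₃ ⟶ Over.mk w₁ := τ₃ ≫ τ₂
  have e₁ : (yon S).map (τ₃ ≫ σ₁) ≫ q = (yon S).map τ ≫ X₁ := by
    rw [Functor.map_comp, Functor.map_comp, Category.assoc, Category.assoc, hσ₁]
  have e₂ : (yon S).map σ₂ ≫ q = (yon S).map τ ≫ X₂ := by
    rw [← hσ₂, Functor.map_comp, Category.assoc]
  have hσπ : σ₂ ≫ π = τ ≫ r := (yon S).map_injective (by
    rw [Functor.map_comp, Functor.map_comp, hπ, reassoc_of% e₂, hX₂'])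
  -- an etale neighbourhood separating the embeddings
  obtain ⟨V, g, η, hg, hη, hsep⟩ := exists_etale_separating π.left q₀ hfin
  obtain ⟨a₀, ha₀⟩ : ∃ a₀ : Spec (CommRingCat.of Ω₃) ⟶ Spec (Q.left.residueField q₀),
      a₀ ≫ Q.left.fromSpecResidueField q₀ = σ₂.left := by
    subst hσ₂c
    exact exists_fac_residue σ₂.left
  let Vo : Over S := Over.mk (g ≫ U.hom)
  let go : Vo ⟶ U := Over.homMk g rfl
  have hgη : (a₀ ≫ η) ≫ g = (τ ≫ r).left := by
    rw [Category.assoc, hη, reassoc_of% ha₀, ← Over.comp_left, hσπ]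
  let m : Over.mk w₃ ⟶ Vo := Over.homMk (a₀ ≫ η) (by
    show (a₀ ≫ η) ≫ g ≫ U.hom = w₃
    rw [← Category.assoc, hgη, Over.w (τ ≫ r)]
    rfl)
  have hm : m ≫ go = τ ≫ r := Over.OverMorphism.ext hgη
  have he : RepWith @Etale ((yon S).map go ≫ p) :=
    repWith_comp ((repWith_yon_map_iff _ go).2 hg) hp
  have sqV := IsPullback.of_hasPullback f ((yon S).map go ≫ p)
  have hVinj := hinj Vo _ he _ _ _ sqV
  have wY : ∀ x : (yon S).obj (Over.mk w) ⟶ X, x ≫ f = x₁ ≫ f →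
      ((yon S).map τ ≫ (yon S).map τ₁ ≫ x) ≫ f = (yon S).map m ≫ (yon S).map go ≫ p := by
    intro x e
    rw [← Category.assoc ((yon S).map m), ← Functor.map_comp, hm]
    simp only [Functor.map_comp, Category.assoc]
    rw [e, hr]
  obtain ⟨Y₁, hY₁, hY₁'⟩ : ∃ Y₁ : (yon S).obj (Over.mk w₃) ⟶ pullback f ((yon S).map go ≫ p),
      Y₁ ≫ pullback.fst f ((yon S).map go ≫ p) = (yon S).map τ ≫ (yon S).map τ₁ ≫ x₁ ∧
        Y₁ ≫ pullback.snd f ((yon S).map go ≫ p) = (yon S).map m :=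
    ⟨_, sqV.lift_fst _ _ (wY x₁ rfl), sqV.lift_snd _ _ (wY x₁ rfl)⟩
  obtain ⟨Y₂, hY₂, hY₂'⟩ : ∃ Y₂ : (yon S).obj (Over.mk w₃) ⟶ pullback f ((yon S).map go ≫ p),
      Y₂ ≫ pullback.fst f ((yon S).map go ≫ p) = (yon S).map τ ≫ (yon S).map τ₁ ≫ x₂ ∧
        Y₂ ≫ pullback.snd f ((yon S).map go ≫ p) = (yon S).map m :=
    ⟨_, sqV.lift_fst _ _ (wY x₂ hx.symm), sqV.lift_snd _ _ (wY x₂ hx.symm)⟩
  have hc : AlgSp.Points.ofPt Y₁ (IsLocalRing.closedPoint Ω₃) =
      AlgSp.Points.ofPt Y₂ (IsLocalRing.closedPoint Ω₃) :=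
    hVinj (by rw [AlgSp.Points.map_ofPt, AlgSp.Points.map_ofPt, hY₁', hY₂'])
  obtain ⟨Ω₄, _, w₄, A, B, hAB, -, -⟩ := exists_common_point hc
  refine ⟨Ω₄, inferInstance, w₄, A ≫ τ ≫ τ₁, ?_⟩
  have hm' : A ≫ m = B ≫ m := (yon S).map_injective (by
    rw [Functor.map_comp, Functor.map_comp, ← hY₁', ← Category.assoc, hAB, Category.assoc, hY₁',
      hY₂'])
  have hAB' : A ≫ σ₂ = B ≫ σ₂ := by
    apply Over.OverMorphism.ext
    have := hsep Ω₄ (A.left ≫ a₀) (B.left ≫ a₀) (by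
      rw [Category.assoc, Category.assoc]
      exact congrArg CommaMorphism.left hm')
    simp only [Over.comp_left, ← ha₀]
    exact congrArg (· ≫ Q.left.fromSpecResidueField q₀) this |>.trans (Category.assoc _ _ _) |>
      (Category.assoc _ _ _).symm.trans
  have k₂ : (yon S).map (A ≫ τ) ≫ X₂ = (yon S).map (B ≫ τ) ≫ X₂ := by
    have := (congrArg (fun k => (yon S).map k ≫ q) hAB')
    simp only [Functor.map_comp, Category.assoc] at this ⊢
    simpa only [e₂, τ, Functor.map_comp, Category.assoc] using this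
  calc (yon S).map (A ≫ τ ≫ τ₁) ≫ x₁
      = (yon S).map A ≫ Y₁ ≫ pullback.fst f ((yon S).map go ≫ p) := by
        simp [hY₁]
    _ = (yon S).map B ≫ Y₂ ≫ pullback.fst f ((yon S).map go ≫ p) := by rw [reassoc_of% hAB]
    _ = ((yon S).map (B ≫ τ) ≫ X₂) ≫ pullback.fst f p := by simp [hY₂, hX₂]
    _ = (yon S).map (A ≫ τ ≫ τ₁) ≫ x₂ := by rw [← k₂]; simp [hX₂]

/-- A morphism locally of finite type whose etale base changes are injective is universally
injective. -/
theorem isUnivInjectiveMor_of_etale (hX : IsAlgSpace X) (hY : IsAlgSpace Y) {f : X ⟶ Y}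
    (hft : LocP @LocallyOfFiniteType f)
    (hinj : ∀ (V : Over S) (e : (yon S).obj V ⟶ Y), RepWith @Etale e →
      ∀ (P : Sp S) (fst : P ⟶ X) (snd : P ⟶ (yon S).obj V), IsPullback fst snd f e →
        Function.Injective (AlgSp.Points.map snd)) :
    IsUnivInjectiveMor f := by
  intro Z Z' _ g fst snd sq a b e
  obtain ⟨p, rfl⟩ := AlgSp.Points.mk_surjective a
  obtain ⟨q, rfl⟩ := AlgSp.Points.mk_surjective b
  obtain ⟨Ω, _, w, α₀, β₀, h₀⟩ := rel_iff.1 (AlgSp.Points.mk_eq_mk_iff.1 e)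
  let α : Over.mk w ⟶ p.pt := α₀
  let β : Over.mk w ⟶ q.pt := β₀
  have h : ((yon S).map α ≫ fieldPtHom p) ≫ snd = ((yon S).map β ≫ fieldPtHom q) ≫ snd := by
    rw [Category.assoc, Category.assoc]
    exact ((congrArg ((yon S).map α₀ ≫ ·) (fieldPtHom_map p snd)).symm.trans h₀).trans
      (congrArg ((yon S).map β₀ ≫ ·) (fieldPtHom_map q snd))
  obtain ⟨Ω', _, w', τ, hτ⟩ := exists_extension_eq hX hY hft hinj
    (((yon S).map α ≫ fieldPtHom p) ≫ fst) (((yon S).map β ≫ fieldPtHom q) ≫ fst) (by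
      simp only [Category.assoc] at h ⊢
      rw [sq.w, reassoc_of% h])
  refine AlgSp.Points.sound (rel_iff.2 ⟨Ω', inferInstance, w', τ ≫ α, τ ≫ β, sq.hom_ext ?_ ?_⟩)
  · simpa using hτ
  · have := (yon S).map τ ≫= h
    simpa using this

end Groth.AlgSpBasic
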