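import Groth.Agent.AlgSp3.NormApps
import Groth.Agent.AlgSpBasic.SepLQFScheme

/-!
# Extending integral morphisms over quasi-compact opens
-/

set_option autoImplicit false
set_option backward.isDefEq.respectTransparency.types false
universe u

open CategoryTheory CategoryTheory.Limits AlgebraicGeometry Opposite AlgSp

namespace Groth.AlgSpBasic

open Groth.AlgSp3

noncomputable section

variable {S : Scheme.{u}} {V Y Z : Sp S}

/-- An integral morphism is its own normalization. -/
theorem isRelNormalization_self (π : Z ⟶ V) (hπ : IsIntegralMor π) :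
    IsRelNormalization π π (𝟙 Z) :=
  ⟨Category.id_comp π, hπ, fun _ _ _ g _ hg =>
    ⟨g, ⟨Category.id_comp g, hg⟩, fun m hm => (Category.id_comp m).symm.trans hm.1⟩⟩

theorem exists_integral_extension (hV : IsAlgSpace V) (hY : IsAlgSpace Y) (hZ : IsAlgSpace Z)
    {j : V ⟶ Y} (hj : RepWith @IsOpenImmersion j) (hjq : IsQuasiCompactMor j) {π : Z ⟶ V}
    (hπ : IsIntegralMor π) :
    ∃ (Y' : Sp S) (ν : Y' ⟶ Y) (j' : Z ⟶ Y'), IsAlgSpace Y' ∧ IsIntegralMor ν ∧
      IsPullback j' π ν j := by
  have hπ' := (AlgSp2.isIntegralMor_iff hZ hV).1 hπ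
  have hqc : IsQuasiCompactMor (π ≫ j) := isQuasiCompactMor_of_repWith hZ hY (repWith_comp
    (repWith_mono (fun _ _ k (_ : IsIntegralHom k) => (inferInstance : QuasiCompact k)) hπ')
    (repWith_of_isQuasiCompactMor hj.rep hjq))
  have hsr : RepWith @IsSeparated (π ≫ j) := repWith_comp
    (repWith_mono (fun _ _ k (_ : IsIntegralHom k) => (inferInstance : IsSeparated k)) hπ')
    (repWith_mono (fun _ _ k (_ : IsOpenImmersion k) => (inferInstance : IsSeparated k)) hj)
  have hqs : IsQuasiSeparatedMor (π ≫ j) :=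
    repWith_mono (fun _ _ k (_ : IsClosedImmersion k) => (inferInstance : QuasiCompact k))
      ((AlgSp2.repWith_isSeparated_iff hsr.rep).2 hsr)
  obtain ⟨Y', ν, f', _, _, _, _, _, _, _, _, _, hY', hn, -⟩ :=
    exists_normalization hY hZ (π ≫ j) hqc hqs
  have he : IsEtaleMor j := fun U φ hφ => repWith_comp hφ
    (repWith_mono (fun _ _ k (_ : IsOpenImmersion k) => (inferInstance : Etale k)) hj)
  have : Mono j := mono_of_repWith
    (fun _ _ k (_ : IsOpenImmersion k) => (inferInstance : Mono k)) hj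
  have sq1 : IsPullback (𝟙 Z) π (π ≫ j) j :=
    ⟨⟨Category.id_comp _⟩, ⟨PullbackCone.IsLimit.mk _ (fun s => s.fst) (fun s => Category.comp_id _)
      (fun s => (cancel_mono j).1 (by rw [Category.assoc]; exact s.condition))
      fun s m h₁ _ => (Category.comp_id m).symm.trans h₁⟩⟩
  have sq2 := IsPullback.of_hasPullback ν j
  have hn₂ := isRelNormalization_etale_baseChange hY hZ hY' hV hqc hqs hn he sq1 sq2
    (f'W := sq2.lift f' π hn.1) (sq2.lift_snd _ _ _) (by rw [sq2.lift_fst, Category.id_comp])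
  obtain ⟨e, he₁, he₂⟩ := exists_iso_of_isRelNormalization
    (isAlgSpace_of_isPullback sq2 hY.diag hY' hV) hZ hn₂ (isRelNormalization_self π hπ)
  rw [Category.id_comp] at he₂
  refine ⟨Y', ν, f', hY', hn.2.1, sq2.of_iso e.symm (Iso.refl _) (Iso.refl _) (Iso.refl _) ?_ ?_
    (by simp) (by simp)⟩
  · rw [Iso.refl_hom, Category.comp_id, Iso.symm_hom, ← cancel_epi e.hom, Iso.hom_inv_id_assoc,
      he₂, sq2.lift_fst]
  · rw [Iso.refl_hom, Category.comp_id, Iso.symm_hom, ← cancel_epi e.hom, Iso.hom_inv_id_assoc,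
      he₂, sq2.lift_snd]

end

end Groth.AlgSpBasic
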