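import Groth.Agent.AlgSpBasic.DecentTop
import Mathlib.AlgebraicGeometry.Morphisms.Finite
import Mathlib.Topology.JacobsonSpace

/-!
# Jacobson algebraic spaces
-/

set_option autoImplicit false
set_option backward.isDefEq.respectTransparency.types false
universe u

open CategoryTheory CategoryTheory.Limits AlgebraicGeometry Opposite TopologicalSpace AlgSp

namespace Groth.AlgSpBasic

/-- Points over a closed point of a locally quasi-finite morphism are closed. -/
theorem isClosed_singleton_of_lqf {A B : Scheme.{u}} (f : A ⟶ B) [LocallyQuasiFinite f] {a : A}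
    (h : IsClosed ({f a} : Set B)) : IsClosed ({a} : Set A) := by
  have hd : DiscreteTopology ↥(f ⁻¹' {f a}) :=
    isDiscrete_iff_discreteTopology.mp (f.isDiscrete_preimage_singleton (f a))
  have := (h.preimage f.continuous).isClosedEmbedding_subtypeVal.isClosedMap _
    (isClosed_discrete ({⟨a, rfl⟩} : Set ↥(f ⁻¹' {f a})))
  rwa [Set.image_singleton] at this

/-- A locally finite set of closed points is closed. -/
theorem isClosed_of_locally_finite {A : Scheme.{u}} {F : Set A}
    (hc : ∀ a ∈ F, IsClosed ({a} : Set A))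
    (hfin : ∀ O : A.Opens, IsAffineOpen O → (F ∩ O).Finite) : IsClosed F := by
  refine isClosed_of_closure_subset fun z hz => ?_
  obtain ⟨O, hO, hzO, -⟩ := exists_isAffineOpen_mem_and_subset (X := A) (x := z) (U := ⊤) trivial
  have h1 : z ∈ closure ((O : Set A) ∩ F) :=
    O.2.inter_closure ⟨hzO, hz⟩
  rw [Set.inter_comm, ← Set.biUnion_of_singleton (F ∩ O), (hfin O hO).closure_biUnion] at h1
  obtain ⟨a, ha, hza⟩ := Set.mem_iUnion₂.1 h1
  rw [(hc a ha.1).closure_eq] at hza
  rw [Set.mem_singleton_iff.1 hza]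
  exact ha.1

theorem finite_inter_fibre_of_etale {A B : Scheme.{u}} (f : A ⟶ B) [Etale f] (b : B) (O : A.Opens)
    (hO : IsAffineOpen O) : (f ⁻¹' {b} ∩ (O : Set A)).Finite := by
  have : LocallyQuasiFinite f := Groth.DescentBase.locallyQuasiFinite_of_etale f
  have : IsAffine (O : Scheme) := hO
  let g := O.ι ≫ f
  have : QuasiCompact (B.fromSpecResidueField b) := ⟨fun U _ _ =>
    (Set.toFinite ((B.fromSpecResidueField b) ⁻¹' U)).isCompact⟩
  have : CompactSpace ↥(g.fiber b) :=
    @QuasiCompact.compactSpace_of_compactSpace _ _ (pullback.fst g (B.fromSpecResidueField b))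
      (MorphismProperty.pullback_fst _ _ ‹_›) inferInstance
  have hcl : IsCompact (g ⁻¹' {b}) := by
    rw [← g.range_fiberι]; exact isCompact_range (g.fiberι b).continuous
  have hfin : (g ⁻¹' {b}).Finite := hcl.finite (g.isDiscrete_preimage_singleton b)
  exact (hfin.image O.ι).subset fun a ⟨ha, haO⟩ => ⟨⟨a, haO⟩, ha, rfl⟩

/-- An etale surjective map from a Jacobson scheme sends closed points to closed points. -/
theorem isClosed_image_singleton_of_jacobson {M W : Scheme.{u}} (f : M ⟶ W) [Etale f] [Surjective f]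
    [JacobsonSpace M] {m : M} (hm : IsClosed ({m} : Set M)) : IsClosed ({f m} : Set W) := by
  refine ((f.isOpenMap.isQuotientMap f.continuous f.surjective).isClosed_preimage).1
    (isClosed_of_locally_finite (fun a ha => ?_) fun O hO => finite_inter_fibre_of_etale f _ O hO)
  have : LocallyQuasiFinite f := Groth.DescentBase.locallyQuasiFinite_of_etale f
  obtain ⟨z, hz₁, hz₂⟩ := Scheme.Pullback.exists_preimage_pullback (f := f) (g := f) m a
    (Eq.symm ha)
  have : LocallyQuasiFinite (pullback.fst f f) :=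
    Groth.DescentBase.locallyQuasiFinite_of_etale _
  have hzc : IsClosed ({z} : Set ↥(pullback f f)) :=
    isClosed_singleton_of_lqf (pullback.fst f f) (by rw [hz₁]; exact hm)
  rw [← hz₂]
  exact (pullback.snd f f).closePoints_subset_preimage_closedPoints hzc

variable {S : Scheme.{u}} {X : Sp S}

/-- Over a Jacobson chart all lifts of a finite type point are closed. -/
theorem isClosed_lift_of_jacobson {U V : Over S} [JacobsonSpace ↥V.left] {a : (yon S).obj U ⟶ X}
    {b : (yon S).obj V ⟶ X} (ha : RepWith @Etale a) (hb : RepWith @Etale b) {u : ↥U.left}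
    {v : ↥V.left} (he : AlgSp.Points.ofPt a u = AlgSp.Points.ofPt b v)
    (hu : IsClosed ({u} : Set ↥U.left)) : IsClosed ({v} : Set ↥V.left) := by
  obtain ⟨R, r₁, r₂, sq⟩ := exists_pullback_yon ha.rep b
  have : Etale r₂.left := ha.property _ _ _ sq
  have : Etale r₁.left := hb.property _ _ _ sq.flip
  have : LocallyQuasiFinite r₁.left := Groth.DescentBase.locallyQuasiFinite_of_etale _
  obtain ⟨z, hz₁, hz₂⟩ := (ofPt_eq_ofPt_iff sq u v).1 he
  have hzc : IsClosed ({z} : Set ↥R.left) :=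
    isClosed_singleton_of_lqf r₁.left (by rw [hz₁]; exact hu)
  rw [← hz₂]
  exact r₂.left.closePoints_subset_preimage_closedPoints hzc

/-- A scheme locally of finite type over a Jacobson space has a closed point over each finite type
point in its image. -/
theorem exists_closed_lift_of_jacobson (hX : IsAlgSpace X)
    (hJ : EtaleLocally (fun U => JacobsonSpace ↥U) X) {x : AlgSp.Points X}
    (hx : HasAt (fun U u => IsClosed ({u} : Set ↥U)) X x) {W : Over S} {g : (yon S).obj W ⟶ X}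
    (hg : LocP @LocallyOfFiniteType g) (hxW : x ∈ Set.range (AlgSp.Points.ofPt g)) :
    ∃ w : ↥W.left, IsClosed ({w} : Set ↥W.left) ∧ AlgSp.Points.ofPt g w = x := by
  obtain ⟨V, p, hp, hps, hV⟩ := hJ
  obtain ⟨U, a, u, ha, rfl, hu⟩ := hx
  obtain ⟨w₀, hw₀⟩ := hxW
  obtain ⟨M, m₁, m₂, sq⟩ := exists_pullback_of_diag hX.diag g p
  have : Etale m₁.left := hp.property _ _ _ sq.flip
  have : Surjective m₁.left := hps.property _ _ _ sq.flip
  have : LocallyOfFiniteType m₂.left := hg ((yon S).map m₁) p m₂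
    ((repWith_yon_map_iff _ m₁).2 ‹_›) hp sq.w
  have : JacobsonSpace ↥M.left := LocallyOfFiniteType.jacobsonSpace m₂.left
  obtain ⟨v, hv⟩ := surjective_ofPt_of_repWith hps (AlgSp.Points.ofPt a u)
  have hvc := isClosed_lift_of_jacobson ha hp hv.symm hu
  obtain ⟨m₀, -, hm₀⟩ := (ofPt_eq_ofPt_iff sq w₀ v).1 (hw₀.trans hv.symm)
  obtain ⟨m, hm, hmc⟩ := nonempty_inter_closedPoints (Z := m₂.left ⁻¹' {v}) ⟨m₀, hm₀⟩
    (hvc.preimage m₂.left.continuous).isLocallyClosed
  refine ⟨m₁.left m, isClosed_image_singleton_of_jacobson m₁.left hmc, ?_⟩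
  rw [(ofPt_eq_ofPt_iff sq (m₁.left m) (m₂.left m)).2 ⟨m, rfl, rfl⟩,
    show m₂.left m = v from hm, hv]

/-- A point with closed lift in some chart, with finite fibres, is closed as soon as all lifts in an
etale surjective chart are closed. -/
theorem isClosed_of_lifts_closed {x : AlgSp.Points X} (hfin : FiniteAt X x) {U : Over S}
    {p : (yon S).obj U ⟶ X} (hp : RepWith @Etale p) (hps : RepWith @Surjective p)
    (h : ∀ u, AlgSp.Points.ofPt p u = x → IsClosed ({u} : Set ↥U.left)) :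
    IsClosed ({x} : Set (AlgSp.Points X)) := by
  refine (isQuotientMap_ofPt hp hps).isClosed_preimage.1 (isClosed_of_locally_finite h fun O hO => ?_)
  let OO : Over S := Over.mk (O.ι ≫ U.hom)
  let jO : OO ⟶ U := Over.homMk O.ι rfl
  have : Etale jO.left := inferInstanceAs (Etale O.ι)
  refine ((hfin OO _ hO (repWith_comp ((repWith_yon_map_iff _ jO).2 ‹_›) hp)).image jO.left).subset
    fun a ⟨ha, haO⟩ => ⟨(⟨a, haO⟩ : ↥OO.left), ?_, rfl⟩
  show AlgSp.Points.ofPt ((yon S).map jO ≫ p) (⟨a, haO⟩ : ↥OO.left) = x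
  rw [ofPt_comp_yon]; exact ha

/-- In a decent space all lifts of a closed point are closed. -/
theorem isClosed_lift_of_isDecent (hX : IsAlgSpace X) (hd : IsDecent X) {U : Over S}
    {p : (yon S).obj U ⟶ X} (hp : RepWith @Etale p) {u : ↥U.left}
    (hx : IsClosed ({AlgSp.Points.ofPt p u} : Set (AlgSp.Points X))) :
    IsClosed ({u} : Set ↥U.left) := by
  refine isClosed_of_closure_subset fun z hz => ?_
  have hz' : AlgSp.Points.ofPt p z = AlgSp.Points.ofPt p u :=
    (closure_minimal (t := AlgSp.Points.ofPt p ⁻¹' {AlgSp.Points.ofPt p u})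
      (Set.singleton_subset_iff.2 rfl) (hx.preimage (AlgSp.Points.continuous_ofPt p))) hz
  exact eq_of_specializes_of_finiteAt hX (finiteAt_of_isDecent hd _) hp hz' rfl
    (specializes_iff_mem_closure.2 hz)

theorem ftPt_iff_isClosed (hX : IsAlgSpace X) (hd : IsDecent X)
    (hJ : EtaleLocally (fun U => JacobsonSpace ↥U) X) (x : AlgSp.Points X) :
    HasAt (fun U u => IsClosed ({u} : Set ↥U)) X x ↔ IsClosed ({x} : Set (AlgSp.Points X)) := by
  constructor
  · rintro ⟨U, a, u, ha, rfl, hu⟩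
    obtain ⟨V, p, hp, hps, hV⟩ := hJ
    exact isClosed_of_lifts_closed (finiteAt_of_isDecent hd _) hp hps fun v hv =>
      isClosed_lift_of_jacobson ha hp hv.symm hu
  · intro hx
    obtain ⟨U, p, hp, hps⟩ := hX.atlas
    obtain ⟨u, rfl⟩ := surjective_ofPt_of_repWith hps x
    exact ⟨U, p, u, hp, rfl, isClosed_lift_of_isDecent hX hd hp hx⟩

theorem jacobson_iff (hX : IsAlgSpace X) (hd : IsDecent X) :
    EtaleLocally (fun U => JacobsonSpace ↥U) X ↔ JacobsonSpace (AlgSp.Points X) := by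
  constructor
  · intro hJ
    rw [jacobsonSpace_iff_locallyClosed]
    intro Z hne hZ
    obtain ⟨U, p, hp, hps, hU⟩ := hJ
    obtain ⟨x, hx⟩ := hne
    obtain ⟨u₀, rfl⟩ := surjective_ofPt_of_repWith hps x
    obtain ⟨u, hu, huc⟩ := nonempty_inter_closedPoints (Z := AlgSp.Points.ofPt p ⁻¹' Z) ⟨u₀, hx⟩
      (hZ.preimage (AlgSp.Points.continuous_ofPt p))
    exact ⟨_, hu, (ftPt_iff_isClosed hX hd ⟨U, p, hp, hps, hU⟩ _).1 ⟨U, p, u, hp, rfl, huc⟩⟩
  · intro hJ
    obtain ⟨U, p, hp, hps⟩ := hX.atlas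
    refine ⟨U, p, hp, hps, jacobsonSpace_iff_locallyClosed.2 fun Z hne hZ => ?_⟩
    obtain ⟨z, hz⟩ := hne
    obtain ⟨O, C, hO, hC, rfl⟩ := hZ
    obtain ⟨A, hA, hzA, hAO⟩ :=
      exists_isAffineOpen_mem_and_subset (X := U.left) (x := z) (U := ⟨O, hO⟩) hz.1
    let x := AlgSp.Points.ofPt p z
    let OO : Over S := Over.mk (A.ι ≫ U.hom)
    let jA : OO ⟶ U := Over.homMk A.ι rfl
    have : Etale jA.left := inferInstanceAs (Etale A.ι)
    have hF : ((AlgSp.Points.ofPt p ⁻¹' {x}) ∩ (A : Set ↥U.left)).Finite := by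
      refine ((finiteAt_of_isDecent hd x OO _ hA
        (repWith_comp ((repWith_yon_map_iff _ jA).2 ‹_›) hp)).image jA.left).subset
        fun a ⟨ha, haA⟩ => ⟨(⟨a, haA⟩ : ↥OO.left), ?_, rfl⟩
      show AlgSp.Points.ofPt ((yon S).map jA ≫ p) (⟨a, haA⟩ : ↥OO.left) = x
      rw [ofPt_comp_yon]; exact ha
    let Ω : Set ↥U.left :=
      (A : Set ↥U.left) \ ⋃ f ∈ ((AlgSp.Points.ofPt p ⁻¹' {x}) ∩ (A : Set ↥U.left)) \ {z}, closure {f}
    have hΩ : IsOpen Ω := A.2.sdiff (hF.sdiff.isClosed_biUnion fun _ _ => isClosed_closure)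
    have hzΩ : z ∈ Ω := by
      refine ⟨hzA, fun h => ?_⟩
      obtain ⟨f, ⟨⟨hf, -⟩, hne⟩, hzf⟩ := Set.mem_iUnion₂.1 h
      exact hne (eq_of_specializes_of_finiteAt hX (finiteAt_of_isDecent hd x) hp rfl hf
        (specializes_iff_mem_closure.2 hzf)).symm
    have hloc : IsLocallyClosed (AlgSp.Points.ofPt p '' Ω ∩ closure {x}) :=
      ⟨_, _, (isOpenMap_ofPt_of_etale hp) _ hΩ, isClosed_closure, rfl⟩
    obtain ⟨_, ⟨⟨w, hw, rfl⟩, hwx⟩, hwc⟩ :=
      nonempty_inter_closedPoints (Z := AlgSp.Points.ofPt p '' Ω ∩ closure {x})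
        ⟨x, ⟨z, hzΩ, rfl⟩, subset_closure rfl⟩ hloc
    refine ⟨w, ⟨hAO hw.1, ?_⟩, isClosed_lift_of_isDecent hX hd hp hwc⟩
    obtain ⟨u', hu', hu'x⟩ :=
      exists_specializes_of_finiteAt (finiteAt_of_isDecent hd x) hp
        (specializes_iff_mem_closure.2 hwx)
    have hu'A : u' ∈ A := hu'.mem_open A.2 hw.1
    have hu'z : u' = z := by
      by_contra hne
      exact hw.2 (Set.mem_biUnion ⟨⟨hu'x, hu'A⟩, hne⟩ hu'.mem_closure)
    exact (hu'z ▸ hu').mem_closed hC hz.2

end Groth.AlgSpBasic
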