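import Groth.Agent.AlgSpBasic.DiagProps
import Groth.Agent.AlgSpBasic.Topology
import Groth.Agent.AlgSpBasic.Compact
import Groth.Prelude.Def_AlgSpDec
import Mathlib.RingTheory.Algebraic.LinearIndependent
import Mathlib.RingTheory.MvPolynomial
import Mathlib.SetTheory.Cardinal.Finsupp
import Mathlib.RingTheory.Jacobson.Ring
import Mathlib.FieldTheory.IsAlgClosed.Basic
import Mathlib.AlgebraicGeometry.Morphisms.Immersion

/-!
# Points over large algebraically closed fields
-/

set_option autoImplicit false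
set_option backward.isDefEq.respectTransparency.types false
universe u

open CategoryTheory CategoryTheory.Limits AlgebraicGeometry Opposite AlgSp
open scoped TensorProduct Cardinal

namespace Groth.AlgSpBasic

/-- A field extension of an algebraically closed field generated as an algebra by fewer elements than
the field is trivial. -/
theorem bijective_algebraMap_of_small_generators {k K : Type u} [Field k] [IsAlgClosed k] [Field K]
    [Algebra k K] (G : Set K) (hG : Algebra.adjoin k G = ⊤) (h : G.Finite ∨ #G < #k) :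
    Function.Bijective (algebraMap k K) := by
  by_cases hfin : G.Finite
  · have : Algebra.FiniteType k K := ⟨⟨hfin.toFinset, by rw [Set.Finite.coe_toFinset]; exact hG⟩⟩
    have : Module.Finite k K := finite_of_finite_type_of_isJacobsonRing k K
    exact IsAlgClosed.algebraMap_bijective_of_isIntegral
  · have hlt := h.resolve_left hfin
    have : Infinite G := Set.infinite_coe_iff.2 hfin
    have : Algebra.IsIntegral k K := ⟨fun x => by
      by_contra hx
      have hx' : Transcendental k x := fun ha => hx ha.isIntegral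
      have h₁ : #k ≤ Module.rank k K := hx'.linearIndependent_sub_inv.cardinal_le_rank
      have hsurj : Function.Surjective (MvPolynomial.aeval (R := k) ((↑) : G → K)) :=
        (AlgHom.range_eq_top _).1 (by rw [← Algebra.adjoin_range_eq_range_aeval, Subtype.range_coe, hG])
      have h₂ : Module.rank k K ≤ #(G →₀ ℕ) :=
        (LinearMap.rank_le_of_surjective (MvPolynomial.aeval (R := k) ((↑) : G → K)).toLinearMap
          hsurj).trans_eq MvPolynomial.rank_eq
      rw [Cardinal.mk_finsupp_nat, max_eq_left (Cardinal.aleph0_le_mk G)] at h₂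
      exact absurd (h₁.trans h₂) (not_le.2 hlt)⟩
    exact IsAlgClosed.algebraMap_bijective_of_isIntegral

/-- A nonzero finite type algebra over `L ⊗ k` has a `k`-point when `k` is large. -/
theorem exists_retraction_of_finiteType {R L k B : Type u} [CommRing R] [Field L] [Field k]
    [Algebra R L] [Algebra R k] [IsAlgClosed k] [CommRing B] [Nontrivial B] (φ : L ⊗[R] k →+* B) (hφ : φ.FiniteType) (h : #L < #k) :
    ∃ e : B →+* k, ∀ c, e (φ (1 ⊗ₜ c)) = c := by
  obtain ⟨m, hm⟩ := Ideal.exists_maximal B
  let _ := Ideal.Quotient.field m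
  let ψ : L ⊗[R] k →+* B ⧸ m := (Ideal.Quotient.mk m).comp φ
  let ik : k →+* B ⧸ m := ψ.comp Algebra.TensorProduct.includeRight.toRingHom
  let _ : Algebra k (B ⧸ m) := ik.toAlgebra
  let _ : Algebra (L ⊗[R] k) B := φ.toAlgebra
  obtain ⟨s, hs⟩ := hφ.out
  let G₁ : Set (B ⧸ m) := Set.range fun l : L => ψ (l ⊗ₜ 1)
  let G : Set (B ⧸ m) := G₁ ∪ Ideal.Quotient.mk m '' s
  have hG : Algebra.adjoin k G = ⊤ := by
    have hψ : ∀ t, ψ t ∈ Algebra.adjoin k G := fun t => by
      induction t using TensorProduct.induction_on with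
      | zero => rw [map_zero]; exact zero_mem _
      | tmul l c =>
        have : ψ (l ⊗ₜ c) = ψ (l ⊗ₜ 1) * algebraMap k (B ⧸ m) c := by
          show _ = _ * ψ (1 ⊗ₜ c)
          rw [← map_mul, Algebra.TensorProduct.tmul_mul_tmul, mul_one, one_mul]
        rw [this]
        exact mul_mem (Algebra.subset_adjoin (Or.inl ⟨l, rfl⟩)) (Subalgebra.algebraMap_mem _ _)
      | add x y hx hy => rw [map_add]; exact add_mem hx hy
    suffices ∀ b : B, Ideal.Quotient.mk m b ∈ Algebra.adjoin k G from eq_top_iff.2 fun y _ => by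
      obtain ⟨b, rfl⟩ := Ideal.Quotient.mk_surjective y
      exact this b
    intro b
    have hb : b ∈ Algebra.adjoin (L ⊗[R] k) (s : Set B) := by rw [hs]; trivial
    induction hb using Algebra.adjoin_induction with
    | mem z hz => exact Algebra.subset_adjoin (Or.inr ⟨z, hz, rfl⟩)
    | algebraMap r => exact hψ r
    | add z w _ _ hz hw => rw [map_add]; exact add_mem hz hw
    | mul z w _ _ hz hw => rw [map_mul]; exact mul_mem hz hw
  have hc : G.Finite ∨ #G < #k := by
    by_cases hfin : G.Finite
    · exact Or.inl hfin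
    refine Or.inr ?_
    have hk : ℵ₀ ≤ #k := Cardinal.aleph0_le_mk k
    refine (Cardinal.mk_union_le _ _).trans_lt (Cardinal.add_lt_of_lt hk ?_ ?_)
    · exact Cardinal.mk_range_le.trans_lt h
    · exact ((s.finite_toSet.image _).lt_aleph0).trans_le hk
  let e := RingEquiv.ofBijective _ (bijective_algebraMap_of_small_generators G hG hc)
  exact ⟨e.symm.toRingHom.comp (Ideal.Quotient.mk m), fun c => e.symm_apply_apply c⟩

/-- A nonempty scheme of finite type over `L ⊗ k` has a `k`-rational point when `k` is large. -/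
theorem exists_rational_point {R L k : Type u} [CommRing R] [Field L] [Field k] [Algebra R L]
    [Algebra R k] [IsAlgClosed k] (h : #L < #k)
    {P : Scheme.{u}} [Nonempty P] (c : P ⟶ Spec (CommRingCat.of (L ⊗[R] k)))
    [LocallyOfFiniteType c] :
    ∃ σ : Spec (CommRingCat.of k) ⟶ P, σ ≫ c ≫ Spec.map (CommRingCat.ofHom
      (Algebra.TensorProduct.includeRight.toRingHom : k →+* L ⊗[R] k)) = 𝟙 _ := by
  obtain ⟨z⟩ := ‹Nonempty P›
  obtain ⟨_, ⟨(V : P.Opens), hV, rfl⟩, hz, -⟩ :=
    P.isBasis_affineOpens.exists_subset_of_mem_open (Set.mem_univ z) isOpen_univ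
  replace hV : IsAffineOpen V := hV
  have : Nontrivial Γ(P, V) := by
    have : Nonempty V := ⟨⟨z, hz⟩⟩
    exact AlgebraicGeometry.Scheme.component_nontrivial P V
  obtain ⟨φ, hφ⟩ := Spec.map_surjective (hV.fromSpec ≫ c)
  have hft : φ.hom.FiniteType := by
    refine (HasRingHomProperty.Spec_iff (P := @LocallyOfFiniteType)).1 ?_
    rw [hφ]; infer_instance
  obtain ⟨e, he⟩ := exists_retraction_of_finiteType φ.hom hft h
  refine ⟨Spec.map (CommRingCat.ofHom e) ≫ hV.fromSpec, ?_⟩
  rw [Category.assoc, ← Category.assoc hV.fromSpec, ← hφ, ← Spec.map_comp, ← Spec.map_comp,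
    ← Spec.map_id]
  congr 1
  ext c
  exact he c

/-- A nonempty scheme of finite type over a fibre product of two spectra of fields has a rational
point over the large field. -/
theorem exists_rational_point_over {S : Scheme.{u}} {L k : Type u} [Field L] [Field k] [IsAlgClosed k]
    (h : #L < #k) {sL : Spec (CommRingCat.of L) ⟶ S} {sk : Spec (CommRingCat.of k) ⟶ S}
    {P : Scheme.{u}} [Nonempty P] (c : P ⟶ pullback sL sk) [LocallyOfFiniteType c] :
    ∃ σ : Spec (CommRingCat.of k) ⟶ P, σ ≫ c ≫ pullback.snd sL sk = 𝟙 _ := by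
  obtain ⟨R, _, φL, φk, g, hL, hk'⟩ : ∃ (R : Type u) (_ : CommRing R) (φL : R →+* L) (φk : R →+* k)
      (g : S ⟶ Spec (CommRingCat.of R)),
        sL ≫ g = Spec.map (CommRingCat.ofHom φL) ∧ sk ≫ g = Spec.map (CommRingCat.ofHom φk) :=
    ⟨ULift.{u} ℤ, inferInstance, (Int.castRingHom L).comp ULift.ringEquiv.toRingHom,
      (Int.castRingHom k).comp ULift.ringEquiv.toRingHom, specULiftZIsTerminal.from S,
      specULiftZIsTerminal.hom_ext _ _, specULiftZIsTerminal.hom_ext _ _⟩
  let _ : Algebra R L := φL.toAlgebra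
  let _ : Algebra R k := φk.toAlgebra
  let e : pullback sL sk ⟶ Spec (CommRingCat.of (L ⊗[R] k)) :=
    pullback.mapDesc sL sk g ≫ (pullback.congrHom hL hk').hom ≫ (pullbackSpecIso R L k).hom
  have : IsImmersion (pullback.mapDesc sL sk g) := inferInstance
  have : LocallyOfFiniteType (c ≫ e) := inferInstance
  obtain ⟨σ, hσ⟩ := exists_rational_point h (c ≫ e)
  refine ⟨σ, Eq.trans ?_ hσ⟩
  simp only [e, Category.assoc]
  erw [pullbackSpecIso_hom_snd]
  simp [pullback.congrHom_hom, pullback.mapDesc]
  simp only [pullback.map]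
  erw [pullback.lift_snd]
  erw [pullback.lift_snd_assoc]
  simp

section Spaces

variable {S : Scheme.{u}} {X Y : Sp S}

/-- A point over a geometric point with a large field comes from a point over that field. -/
theorem exists_geometric_lift_of_large (hY : IsAlgSpace Y) (f : X ⟶ Y) {U : Over S}
    (a : (yon S).obj U ⟶ X) (ybar : FieldPt Y) [IsAlgClosed ybar.K] (u : ↥U.left)
    (hk : #(U.left.residueField u) < #ybar.K)
    (h : AlgSp.Points.ofPt (a ≫ f) u = AlgSp.Points.mk ybar) :
    ∃ xbar : (yon S).obj ybar.pt ⟶ X, xbar ≫ f = ybar.toHom ∧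
      AlgSp.Points.ofPt xbar (IsLocalRing.closedPoint ybar.K) = AlgSp.Points.ofPt a u := by
  let η := FieldPt.ofPt (a ≫ f) u
  let r : η.pt ⟶ U := Over.homMk (U.left.fromSpecResidueField u) rfl
  obtain ⟨P, p₁, p₂, sq⟩ := exists_pullback_of_diag hY.diag η.toHom ybar.toHom
  have : Nonempty P.left := by
    obtain ⟨Ω, _, w, i, j, hij⟩ := AlgSp.Points.mk_eq_mk_iff.1 h
    have e : (yon S).map i ≫ η.toHom = (yon S).map j ≫ ybar.toHom := by
      rw [← (J S).uliftYonedaEquiv.apply_eq_iff_eq]
      exact ((J S).uliftYonedaEquiv_naturality η.toHom i).symm.trans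
        (((congrArg _ η.uliftYonedaEquiv_toHom).trans hij).trans
          ((congrArg _ ybar.uliftYonedaEquiv_toHom).symm.trans
            ((J S).uliftYonedaEquiv_naturality ybar.toHom j)))
    obtain ⟨l, -⟩ := (yon S).map_surjective (sq.lift _ _ e)
    exact ⟨l.left (IsLocalRing.closedPoint Ω)⟩
  have : LocallyOfFiniteType (prod.lift p₁ p₂).left :=
    (prop_lift_of_repWith_diag (monoLFT_diag hY) sq).2
  have : LocallyOfFiniteType ((prod.lift p₁ p₂).left ≫
      (Over.prodLeftIsoPullback η.pt ybar.pt).hom) := inferInstance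
  obtain ⟨σ, hσ⟩ := exists_rational_point_over (L := η.K) hk
    ((prod.lift p₁ p₂).left ≫ (Over.prodLeftIsoPullback η.pt ybar.pt).hom)
  have hp₂ : σ ≫ p₂.left = 𝟙 _ := by
    refine Eq.trans ?_ hσ
    congr 1
    erw [Category.assoc, Over.prodLeftIsoPullback_hom_snd]
    rw [← Over.comp_left, prod.lift_snd]
  let m : ybar.pt ⟶ P := Over.homMk σ (by
    rw [← Over.w p₂, ← Category.assoc, hp₂]; exact Category.id_comp _)
  have hm : m ≫ p₂ = 𝟙 _ := Over.OverMorphism.ext hp₂
  refine ⟨(yon S).map (m ≫ p₁ ≫ r) ≫ a, ?_, ?_⟩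
  · have e : (yon S).map r ≫ a ≫ f = η.toHom := (FieldPt.toHom_ofPt _ _).symm
    rw [Functor.map_comp, Functor.map_comp, Category.assoc, Category.assoc, Category.assoc, e, sq.w,
      ← Category.assoc, ← Functor.map_comp, hm, CategoryTheory.Functor.map_id, Category.id_comp]
  · rw [ofPt_comp_yon]
    congr 1
    exact Scheme.fromSpecResidueField_apply u _

end Spaces

end Groth.AlgSpBasic
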