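import Groth.Agent.AlgSpBasic.DecentQS
import Groth.Agent.AlgSpBasic.OpenSub
import Groth.Agent.AlgSpBasic.Compact
import Groth.Agent.AlgSpBasic.FiltrationQS

/-!
# Zariski locally quasi-separated spaces
-/

set_option autoImplicit false
set_option backward.isDefEq.respectTransparency.types false
universe u

open CategoryTheory CategoryTheory.Limits AlgebraicGeometry Opposite AlgSp

namespace Groth.AlgSpBasic

variable {S : Scheme.{u}} {X : Sp S}

theorem quasiSeparatedSpace_prod_affine {U V : Over S} [IsAffine U.left] [IsAffine V.left] :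
    QuasiSeparatedSpace ↥(U ⨯ V).left := by
  have : IsSeparated U.hom := inferInstance
  have : QuasiSeparatedSpace ↥(pullback U.hom V.hom) :=
    quasiSeparatedSpace_of_quasiSeparated (pullback.snd U.hom V.hom)
  exact quasiSeparatedSpace_of_quasiSeparated (Over.prodLeftIsoPullback U V).hom

/-- A space with a quasi-compact affine chart is quasi-separated over the base. -/
theorem isQuasiSeparatedSp_of_affine_qc_chart {U : Over S} [IsAffine U.left]
    {p : (yon S).obj U ⟶ X} (hq : RepWith @QuasiCompact p) (hp : RepWith @Etale p)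
    (hps : RepWith @Surjective p) : IsQuasiSeparatedSp X := by
  have : Sheaf.IsLocallySurjective p := isLocallySurjective_of_etale p hp hps
  have := isLocallySurjective_prod_map (π := p)
  obtain ⟨R, t, s, sqR⟩ := exists_pullback_yon hp.rep p
  have : Etale t.left := repWith_fst_of_isPullback sqR.flip hp
  have : QuasiCompact t.left := repWith_fst_of_isPullback sqR.flip hq
  have : CompactSpace ↥R.left := QuasiCompact.compactSpace_of_compactSpace t.left
  have hinj := (isEqvRel_of_isPullback sqR).injective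
  have : Mono (prod.lift t s) := ⟨fun {Z} a a' e => hinj Z a a'
    (by
      have := e =≫ prod.fst
      rwa [Category.assoc, Category.assoc, prod.lift_fst] at this)
    (by
      have := e =≫ prod.snd
      rwa [Category.assoc, Category.assoc, prod.lift_snd] at this)⟩
  have : Mono (prod.lift t s).left :=
    inferInstanceAs (Mono ((Over.forget S).map (prod.lift t s)))
  have e : (prod.lift t s).left ≫ (prod.fst : U ⨯ U ⟶ U).left = t.left := lift_left_fst t s
  have : LocallyOfFiniteType (prod.lift t s).left := by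
    have : LocallyOfFiniteType ((prod.lift t s).left ≫ (prod.fst : U ⨯ U ⟶ U).left) := by
      rw [e]; infer_instance
    exact locallyOfFiniteType_of_comp _ (prod.fst : U ⨯ U ⟶ U).left
  have : LocallyQuasiFinite (prod.lift t s).left :=
    locallyQuasiFinite_of_formallyUnramified _
  refine repWith_of_sepLQF (Q := @QuasiCompact) (prodComparison (yon S) U U ≫ prod.map p p)
    (isPullback_diag_yon sqR) ?_
  have := quasiSeparatedSpace_prod_affine (U := U) (V := U)
  infer_instance

/-- An affine open of an etale chart lying over a quasi-separated open of the base has a quasi-compact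
map onto its image. -/
theorem exists_affine_qc_chart (hX : IsAlgSpace X) (hqs : IsQuasiSeparatedSp X) {U : Over S}
    {p : (yon S).obj U ⟶ X} (hp : RepWith @Etale p) (u : ↥U.left) :
    ∃ (W : Sp S) (ι : W ⟶ X) (K : Over S) (q : (yon S).obj K ⟶ W), IsAlgSpace W ∧
      RepWith @IsOpenImmersion ι ∧ IsAffine K.left ∧ RepWith @QuasiCompact q ∧ RepWith @Etale q ∧
        RepWith @Surjective q ∧ AlgSp.Points.ofPt p u ∈ Set.range (AlgSp.Points.map ι) := by
  obtain ⟨_, ⟨(T : S.Opens), hT, rfl⟩, huT, -⟩ :=
    S.isBasis_affineOpens.exists_subset_of_mem_open (Set.mem_univ (U.hom u)) isOpen_univ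
  obtain ⟨_, ⟨(L : U.left.Opens), hL, rfl⟩, huL, hLT⟩ := U.left.isBasis_affineOpens.exists_subset_of_mem_open
    (show u ∈ U.hom ⁻¹ᵁ T from huT) (U.hom ⁻¹ᵁ T).isOpen
  replace hL : IsAffineOpen L := hL
  replace hT : IsAffineOpen T := hT
  let K : Over S := Over.mk (L.ι ≫ U.hom)
  let j : K ⟶ U := Over.homMk L.ι rfl
  have : IsAffine K.left := hL
  let b := (yon S).map j ≫ p
  have hb : RepWith @Etale b :=
    repWith_comp ((repWith_yon_map_iff _ j).2 (inferInstanceAs (Etale L.ι))) hp
  let O : Set (AlgSp.Points X) := Set.range (AlgSp.Points.ofPt b)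
  have hO : IsOpen O := by
    show IsOpen (Set.range (AlgSp.Points.ofPt b))
    rw [← Set.image_univ]; exact isOpenMap_ofPt_of_etale hb _ isOpen_univ
  have hW := isAlgSpace_openSub hX hO
  obtain ⟨q, hq⟩ := (openSub_exists_lift_iff X O b).2 fun v => ⟨v, rfl⟩
  have hι := repWith_openSubι (X := X) hO
  have : Mono (openSubι X O) :=
    mono_of_repWith (fun _ _ g (_ : IsOpenImmersion g) => (inferInstance : Mono g)) hι
  have hqe : RepWith @Etale q := repWith_of_isPullback (isPullback_of_mono_comp hq) hb
  -- the points of a scheme mapping to the image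
  have key : ∀ ⦃V : Over S⦄ (g : (yon S).obj V ⟶ openSub X O) (v : ↥V.left), ∃ k : ↥K.left,
      AlgSp.Points.ofPt q k = AlgSp.Points.ofPt g v ∧ V.hom v = K.hom k := by
    intro V g v
    obtain ⟨k, hk⟩ := (openSub_exists_lift_iff X O (g ≫ openSubι X O)).1 ⟨g, rfl⟩ v
    obtain ⟨R, r₁, r₂, sqR⟩ := exists_pullback_of_diag hX.diag b (g ≫ openSubι X O)
    obtain ⟨z, hz₁, hz₂⟩ := (ofPt_eq_ofPt_iff sqR k v).1 hk
    have w : (yon S).map r₁ ≫ q = (yon S).map r₂ ≫ g :=
      openSub_hom_ext X O (by rw [Category.assoc, Category.assoc, hq, sqR.w])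
    refine ⟨k, ?_, ?_⟩
    · rw [← hz₁, ← hz₂, ← ofPt_comp_yon, ← ofPt_comp_yon, w]
    · rw [← hz₁, ← hz₂, ← Scheme.Hom.comp_apply, ← Scheme.Hom.comp_apply, Over.w r₁, Over.w r₂]
  have hqs' : RepWith @Surjective q := repWith_surjective_of_ofPt hqe.rep fun y => by
    obtain ⟨V, g, v, rfl⟩ := exists_ofPt y
    obtain ⟨k, hk, -⟩ := key g v
    exact ⟨k, hk⟩
  have hqq : RepWith @QuasiCompact q := by
    refine repWith_of_representable hqe.rep fun V R g fst snd sq => ?_
    obtain ⟨l, hl⟩ := (yon S).map_surjective fst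
    subst hl
    have sq' : IsPullback ((yon S).map l) ((yon S).map snd) b (g ≫ openSubι X O) :=
      ⟨⟨by rw [← hq, ← Category.assoc, sq.w, Category.assoc]⟩, ⟨PullbackCone.IsLimit.mk _
        (fun c : PullbackCone b (g ≫ openSubι X O) => sq.lift c.fst c.snd ((cancel_mono (openSubι X O)).1 (by
          rw [Category.assoc, hq, Category.assoc]; exact c.condition)))
        (fun c => sq.lift_fst _ _ _) (fun c => sq.lift_snd _ _ _)
        fun c m h₁ h₂ => sq.hom_ext (by rw [sq.lift_fst, h₁]) (by rw [sq.lift_snd, h₂])⟩⟩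
    have : QuasiCompact (prod.lift l snd).left := prop_lift_of_repWith_diag hqs sq'
    have hV : Set.range V.hom ⊆ Set.range T.ι := by
      rintro _ ⟨v, rfl⟩
      obtain ⟨k, -, hk⟩ := key g v
      rw [Scheme.Opens.range_ι, hk]
      exact hLT k.2
    have hK : Set.range K.hom ⊆ Set.range T.ι := by
      rintro _ ⟨k, rfl⟩
      rw [Scheme.Opens.range_ι]
      exact hLT k.2
    let k₀ : K.left ⟶ T.toScheme := IsOpenImmersion.lift T.ι K.hom hK
    let v₀ : V.left ⟶ T.toScheme := IsOpenImmersion.lift T.ι V.hom hV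
    have : IsAffine T.toScheme := hT
    have : QuasiCompact (pullback.snd k₀ v₀) := inferInstance
    have sqT : IsPullback (pullback.fst k₀ v₀) (pullback.snd k₀ v₀) K.hom V.hom :=
      ⟨⟨by rw [← IsOpenImmersion.lift_fac T.ι K.hom hK, ← IsOpenImmersion.lift_fac T.ι V.hom hV,
        pullback.condition_assoc]⟩, ⟨PullbackCone.IsLimit.mk _
        (fun c => pullback.lift c.fst c.snd ((cancel_mono T.ι).1 (by
          rw [Category.assoc, Category.assoc, IsOpenImmersion.lift_fac, IsOpenImmersion.lift_fac,
            c.condition])))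
        (fun c => pullback.lift_fst _ _ _) (fun c => pullback.lift_snd _ _ _)
        fun c m h₁ h₂ => pullback.hom_ext (by rw [pullback.lift_fst, h₁])
          (by rw [pullback.lift_snd, h₂])⟩⟩
    have hps : QuasiCompact (prod.snd : K ⨯ V ⟶ V).left := by
      have h := isPullback_prod_left K V
      rw [← sqT.isoIsPullback_inv_snd _ _ h]
      infer_instance
    rw [← lift_left_snd l snd]
    infer_instance
  refine ⟨_, _, K, q, hW, hι, inferInstance, hqq, hqe, hqs', ?_⟩
  rw [range_map_openSubι]
  refine ⟨⟨u, huL⟩, ?_⟩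
  show AlgSp.Points.ofPt ((yon S).map j ≫ p) _ = _
  rw [ofPt_comp_yon]
  rfl

end Groth.AlgSpBasic
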