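import Groth.Agent.AlgSp3.NormApps

/-!
# Normalization commutes with smooth base change

The stable normalization of a space over a scheme stays one after smooth base change; Zariski locally on
the base it is the ring theoretic normalization, whose formation commutes with smooth base change.
-/

set_option autoImplicit false
set_option backward.isDefEq.respectTransparency.types false
universe u

open CategoryTheory CategoryTheory.Limits AlgebraicGeometry Opposite AlgSp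

namespace Groth.AlgSpBasic

open Groth.AlgSp3

noncomputable section

variable {S : Scheme.{u}}

section Affine

variable {P : Sp S} {U N : Over S}

/-- The ring theoretic description is stable under smooth base change between affines. -/
theorem isNormHom_smoothBaseChange [IsAffine U.left] {π : P ⟶ (yon S).obj U} {C : AffCover π}
    {ν : N ⟶ U} {n : C.W ⟶ N} (h : IsNormData C ν n) {f' : P ⟶ (yon S).obj N}
    (hf : C.w ≫ f' = (yon S).map n) {K : Over S} [IsAffine K.left] (c : K ⟶ U) [Smooth c.left]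
    {P' : Sp S} {qP : P' ⟶ P} {π' : P' ⟶ (yon S).obj K}
    (sq : IsPullback qP π' π ((yon S).map c)) {N' : Over S} {qN : N' ⟶ N} {ν' : N' ⟶ K}
    (sqN : IsPullback qN ν' ν c) {f'' : P' ⟶ (yon S).obj N'}
    (hf₁ : f'' ≫ (yon S).map ν' = π') (hf₂ : f'' ≫ (yon S).map qN = qP ≫ f') :
    IsNormHom π' ν' f'' := by
  have := h.affine
  have := C.affW
  have := C.affW₃
  obtain ⟨C', g, g₃, hW, h₃, hag, hbg, hwq⟩ := C.exists_baseChange c sq
  have := C'.affW
  have := C'.affW₃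
  have : IsAffine N'.left := .of_isPullback (isPullback_left sqN)
  let n' : C'.W ⟶ N' := sqN.lift (g ≫ n) C'.α (by rw [Category.assoc, h.fac, hW.w])
  have hfn : C'.w ≫ f'' = (yon S).map n' := by
    apply (sqN.map (yon S)).hom_ext
    · rw [Category.assoc, hf₂, ← Functor.map_comp, sqN.lift_fst, ← Category.assoc, hwq,
        Category.assoc, hf, Functor.map_comp]
    · rw [Category.assoc, hf₁, C'.fac, ← Functor.map_comp, sqN.lift_snd]
  have hint : IsIntegralHom ν'.left := MorphismProperty.of_isPullback (isPullback_left sqN) h.integral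
  have key := pushout_integralClosure_equalizer
    (HasRingHomProperty.appTop (P := @Smooth) (f := c.left) inferInstance)
    (isPushout_appTop_of_isPullback (isPullback_left hW).flip)
    (isPushout_appTop_of_isPullback (isPullback_left h₃).flip)
    (isPushout_appTop_of_isPullback (isPullback_left sqN).flip)
    (α := C.a.left.appTop) (β := C.b.left.appTop)
    (by rw [← Scheme.Hom.comp_appTop, ← Over.comp_left])
    (by rw [← Scheme.Hom.comp_appTop, ← Over.comp_left, C.a_comp_α])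
    (α' := C'.a.left.appTop) (β' := C'.b.left.appTop)
    (by simp only [← Scheme.Hom.comp_appTop, ← Over.comp_left, hag])
    (by simp only [← Scheme.Hom.comp_appTop, ← Over.comp_left])
    (by simp only [← Scheme.Hom.comp_appTop, ← Over.comp_left, hbg])
    (by simp only [← Scheme.Hom.comp_appTop, ← Over.comp_left, C'.a_comp_α])
    (n := n.left.appTop)
    (by rw [← Scheme.Hom.comp_appTop, ← Over.comp_left, h.fac]) h.inj
    (by simp only [← Scheme.Hom.comp_appTop, ← Over.comp_left, h.eq])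
    (isIntegral_appTop ν.left h.integral) h.max
    (n' := n'.left.appTop)
    (by rw [← Scheme.Hom.comp_appTop, ← Scheme.Hom.comp_appTop, ← Over.comp_left, ← Over.comp_left,
      sqN.lift_fst])
    (by rw [← Scheme.Hom.comp_appTop, ← Over.comp_left, sqN.lift_snd])
  refine isNormHom_of_isNormData
    ⟨inferInstance, hint, sqN.lift_snd _ _ _, sqN.hom_ext ?_ ?_, key.1, key.2⟩ hfn
  · simp only [Category.assoc, IsPullback.lift_fst]
    rw [← Category.assoc, ← Category.assoc, hag, hbg, Category.assoc, Category.assoc, h.eq]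
  · simp only [Category.assoc, IsPullback.lift_snd, C'.a_comp_α]

/-- Two integral factorisations with the universal property are isomorphic. -/
theorem exists_iso_of_isNormHom {N₂ : Over S} {π : P ⟶ (yon S).obj U} {ν : N ⟶ U}
    {f' : P ⟶ (yon S).obj N} {ν₂ : N₂ ⟶ U} {f₂ : P ⟶ (yon S).obj N₂}
    (h : IsNormHom π ν f') (h₂ : IsNormHom π ν₂ f₂)
    (hν : IsIntegralHom ν.left) (hν₂ : IsIntegralHom ν₂.left)
    (hf : f' ≫ (yon S).map ν = π) (hf₂ : f₂ ≫ (yon S).map ν₂ = π) :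
    ∃ e : N ≅ N₂, e.hom ≫ ν₂ = ν ∧ f' ≫ (yon S).map e.hom = f₂ := by
  obtain ⟨a, ⟨ha₁, ha₂⟩, -⟩ :=
    h (IsAlgSpace.yon_obj N₂) _ f₂ (isIntegralMor_yon_map ν₂ hν₂) hf₂
  obtain ⟨b, ⟨hb₁, hb₂⟩, -⟩ :=
    h₂ (IsAlgSpace.yon_obj N) _ f' (isIntegralMor_yon_map ν hν) hf
  have hab : a ≫ b = 𝟙 _ :=
    (h (IsAlgSpace.yon_obj N) _ f' (isIntegralMor_yon_map ν hν) hf).unique
      ⟨by rw [← Category.assoc, ha₁, hb₁], by rw [Category.assoc, hb₂, ha₂]⟩
      ⟨Category.comp_id _, Category.id_comp _⟩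
  have hba : b ≫ a = 𝟙 _ :=
    (h₂ (IsAlgSpace.yon_obj N₂) _ f₂ (isIntegralMor_yon_map ν₂ hν₂) hf₂).unique
      ⟨by rw [← Category.assoc, hb₁, ha₁], by rw [Category.assoc, ha₂, hb₂]⟩
      ⟨Category.comp_id _, Category.id_comp _⟩
  obtain ⟨a', rfl⟩ := (yon S).map_surjective a
  obtain ⟨b', rfl⟩ := (yon S).map_surjective b
  refine ⟨⟨a', b', (yon S).map_injective ?_, (yon S).map_injective ?_⟩,
    (yon S).map_injective (by rw [Functor.map_comp, ha₂]), ha₁⟩
  · rw [Functor.map_comp, hab, CategoryTheory.Functor.map_id]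
  · rw [Functor.map_comp, hba, CategoryTheory.Functor.map_id]

/-- A stable normalization has the universal property after any smooth base change to an affine. -/
theorem isNormHom_of_isStable_of_smooth {π : P ⟶ (yon S).obj U} {ν : N ⟶ U}
    {f' : P ⟶ (yon S).obj N} (h : IsStable π ν f') (hP : IsAlgSpace P)
    (hqc : IsQuasiCompactMor π) (hqs : IsQuasiSeparatedMor π) {K : Over S} (c : K ⟶ U)
    (hc : Smooth c.left) {P' : Sp S} {qP : P' ⟶ P} {π' : P' ⟶ (yon S).obj K}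
    (sq : IsPullback qP π' π ((yon S).map c)) {N' : Over S} {qN : N' ⟶ N} {ν' : N' ⟶ K}
    (sqN : IsPullback qN ν' ν c) {f'' : P' ⟶ (yon S).obj N'}
    (e₁ : f'' ≫ (yon S).map ν' = π') (e₂ : f'' ≫ (yon S).map qN = qP ≫ f') :
    IsNormHom π' ν' f'' := by
  refine isNormHom_of_basis e₁
    (fun L => IsAffineOpen L ∧ ∃ M : U.left.Opens, IsAffineOpen M ∧ L ≤ c.left ⁻¹ᵁ M)
    (fun y V hy => ?_) ?_
  · obtain ⟨_, ⟨M, hM, rfl⟩, hyM, -⟩ := U.left.isBasis_affineOpens.exists_subset_of_mem_open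
      (Set.mem_univ (c.left y)) isOpen_univ
    obtain ⟨_, ⟨L, hL, rfl⟩, hyL, hLV⟩ := K.left.isBasis_affineOpens.exists_subset_of_mem_open
      (show y ∈ V ⊓ c.left ⁻¹ᵁ M from ⟨hy, hyM⟩) (V ⊓ c.left ⁻¹ᵁ M).isOpen
    exact ⟨L, ⟨hL, M, hM, fun z hz => (hLV hz).2⟩, hyL, fun z hz => (hLV hz).1⟩
  rintro L ⟨hL, M, hM, hle⟩ P₁ q₁ π₁ sq₁ N₁ r₁ ν₁ sqN₁ f₁ d₁ d₂
  have : IsAffine (resObj M).left := hM
  have : IsAffine (resObj L).left := hL
  -- the restriction to `M`, compared with the ring theoretic normalization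
  have hetM : Etale (resι M).left := inferInstanceAs (Etale M.ι)
  obtain ⟨PM, qM, πM, sqM⟩ : ∃ (PM : Sp S) (qM : PM ⟶ P) (πM : PM ⟶ (yon S).obj (resObj M)),
      IsPullback qM πM π ((yon S).map (resι M)) := ⟨_, _, _, IsPullback.of_hasPullback _ _⟩
  obtain ⟨NM, qNM, νM, sqNM⟩ : ∃ (NM : Over S) (qNM : NM ⟶ N) (νM : NM ⟶ resObj M),
      IsPullback qNM νM ν (resι M) := ⟨_, _, _, IsPullback.of_hasPullback _ _⟩
  obtain ⟨fM, hfM₁, hfM₂⟩ : ∃ fM : PM ⟶ (yon S).obj NM,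
      fM ≫ (yon S).map qNM = qM ≫ f' ∧ fM ≫ (yon S).map νM = πM := by
    have w : (qM ≫ f') ≫ (yon S).map ν = πM ≫ (yon S).map (resι M) := by
      rw [Category.assoc, h.fac, sqM.w]
    exact ⟨_, (sqNM.map (yon S)).lift_fst _ _ w, (sqNM.map (yon S)).lift_snd _ _ w⟩
  have hSt := h.baseChange (resι M) sqM sqNM hfM₂ hfM₁
  obtain ⟨C⟩ := exists_affCover
    (isAlgSpace_of_isPullback sqM (IsAlgSpace.yon_obj U).diag hP (IsAlgSpace.yon_obj _))
    (isQuasiCompactMor_of_isPullback sqM hqc)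
    (repWith_of_isPullback (isPullback_diagonal_baseChange sqM) hqs)
  obtain ⟨Nd, νd, n, hd⟩ := exists_isNormData C
  obtain ⟨fd, hfd, -⟩ := C.existsUnique_desc ((yon S).map n)
    (by rw [← Functor.map_comp, ← Functor.map_comp, hd.eq])
  have hfd' : fd ≫ (yon S).map νd = πM :=
    C.hom_ext (by rw [← Category.assoc, hfd, ← Functor.map_comp, hd.fac, C.fac])
  obtain ⟨e, he₁, he₂⟩ := exists_iso_of_isNormHom hSt.isNormHom (isNormHom_of_isNormData hd hfd)
    hSt.integral hd.integral hfM₂ hfd'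
  -- the base change along `L ⟶ M`
  obtain ⟨j, hj, hjo⟩ := exists_resMap hle
  obtain ⟨cM, sqc⟩ := exists_isPullback_resι c M
  have hd' : (j ≫ cM) ≫ resι M = resι L ≫ c := by
    rw [Category.assoc, ← sqc.w, reassoc_of% hj]
  have : Smooth (j ≫ cM).left := by
    have : Smooth cM.left := MorphismProperty.of_isPullback (isPullback_left sqc) hc
    exact inferInstanceAs (Smooth (j.left ≫ cM.left))
  have w₁ : (q₁ ≫ qP) ≫ π = (π₁ ≫ (yon S).map (j ≫ cM)) ≫ (yon S).map (resι M) := by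
    rw [Category.assoc, sq.w, reassoc_of% sq₁.w, Category.assoc, ← Functor.map_comp,
      ← Functor.map_comp, hd']
  obtain ⟨u, hu₁, hu₂⟩ : ∃ u : P₁ ⟶ PM, u ≫ qM = q₁ ≫ qP ∧
      u ≫ πM = π₁ ≫ (yon S).map (j ≫ cM) := ⟨_, sqM.lift_fst _ _ w₁, sqM.lift_snd _ _ w₁⟩
  have hu : IsPullback u π₁ πM ((yon S).map (j ≫ cM)) :=
    IsPullback.of_right (by
      rw [hu₁, ← Functor.map_comp, hd', Functor.map_comp]
      exact sq₁.paste_horiz sq) hu₂ sqM
  have w₂ : (r₁ ≫ qN) ≫ ν = (ν₁ ≫ j ≫ cM) ≫ resι M := by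
    rw [Category.assoc, sqN.w, ← Category.assoc, sqN₁.w, Category.assoc, Category.assoc, hd']
  obtain ⟨v, hv₁, hv₂⟩ : ∃ v : N₁ ⟶ NM, v ≫ qNM = r₁ ≫ qN ∧ v ≫ νM = ν₁ ≫ j ≫ cM :=
    ⟨_, sqNM.lift_fst _ _ w₂, sqNM.lift_snd _ _ w₂⟩
  have hv : IsPullback v ν₁ νM (j ≫ cM) :=
    IsPullback.of_right (by rw [hv₁, hd']; exact sqN₁.paste_horiz sqN) hv₂ sqNM
  have hv' : IsPullback (v ≫ e.hom) ν₁ νd (j ≫ cM) :=
    hv.of_iso (Iso.refl _) e (Iso.refl _) (Iso.refl _) (by simp) (by simp) (by simp [he₁])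
      (by simp)
  refine isNormHom_smoothBaseChange hd hfd (j ≫ cM) hu hv' d₁ ?_
  rw [← he₂, Functor.map_comp, ← Category.assoc, ← Category.assoc]
  congr 1
  apply (sqNM.map (yon S)).hom_ext
  · rw [Category.assoc, ← Functor.map_comp, hv₁, Category.assoc, hfM₁, reassoc_of% hu₁,
      Functor.map_comp, reassoc_of% d₂, e₂]
  · rw [Category.assoc, ← Functor.map_comp, hv₂, Category.assoc, hfM₂, hu₂, Functor.map_comp,
      reassoc_of% d₁]

/-- Stable normalizations stay stable after smooth base change. -/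
theorem isStable_smoothBaseChange {π : P ⟶ (yon S).obj U} {ν : N ⟶ U}
    {f' : P ⟶ (yon S).obj N} (h : IsStable π ν f') (hP : IsAlgSpace P)
    (hqc : IsQuasiCompactMor π) (hqs : IsQuasiSeparatedMor π)
    {V : Over S} (c : V ⟶ U) [Smooth c.left] {P' : Sp S}
    {qP : P' ⟶ P} {π' : P' ⟶ (yon S).obj V} (sq : IsPullback qP π' π ((yon S).map c))
    {N' : Over S} {qN : N' ⟶ N} {ν' : N' ⟶ V} (sqN : IsPullback qN ν' ν c)
    {f'' : P' ⟶ (yon S).obj N'} (h₁ : f'' ≫ (yon S).map ν' = π')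
    (h₂ : f'' ≫ (yon S).map qN = qP ≫ f') : IsStable π' ν' f'' where
  fac := h₁
  integral := MorphismProperty.of_isPullback (isPullback_left sqN) h.integral
  univ K hK d hd Q qQ πQ sqQ M qM νM sqM fM e₁ e₂ := by
    have : Etale d.left := hd
    refine isNormHom_of_isStable_of_smooth h hP hqc hqs (d ≫ c)
      (inferInstanceAs (Smooth (d.left ≫ c.left))) (qP := qQ ≫ qP) ?_ (sqM.paste_horiz sqN) e₁ ?_
    · rw [Functor.map_comp]
      exact sqQ.paste_horiz sq
    · rw [Functor.map_comp, ← Category.assoc fM, e₂, Category.assoc, h₂, Category.assoc]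

end Affine

section Spaces

variable {X Y X' : Sp S} {f : Y ⟶ X} {ν : X' ⟶ X} {f' : Y ⟶ X'}

/-- Normalizations commute with smooth base change. -/
theorem isRelNormalization_smooth_baseChange {W YW X'W : Sp S} (hX : IsAlgSpace X)
    (hY : IsAlgSpace Y) (hX' : IsAlgSpace X') (hW : IsAlgSpace W) (hqc : IsQuasiCompactMor f)
    (hqs : IsQuasiSeparatedMor f) (hn : IsRelNormalization f ν f') {w : W ⟶ X} (hw : LocP @Smooth w)
    {a : YW ⟶ Y} {fW : YW ⟶ W} (sq1 : IsPullback a fW f w) {b : X'W ⟶ X'} {νW : X'W ⟶ W}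
    (sq2 : IsPullback b νW ν w) {f'W : YW ⟶ X'W} (c1 : f'W ≫ νW = fW) (c2 : f'W ≫ b = a ≫ f') :
    IsRelNormalization fW νW f'W := by
  obtain ⟨U, p, P, qP, π, N, q, ν₀, f₀, hp, hps, sqP, sqN, hf₀, h⟩ :=
    exists_stable_chart hX hY hX' hqc hqs hn
  obtain ⟨W₀, p₀, hp₀, hps₀⟩ := hW.atlas
  obtain ⟨M, m₁, m₂, sqM⟩ := exists_pullback_of_diag hX.diag p (p₀ ≫ w)
  have hm₁ : Smooth m₁.left :=
    hw ((yon S).map m₂ ≫ p₀) p m₁ (repWith_comp (repWith_of_isPullback sqM hp) hp₀) hp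
      (by rw [Category.assoc, sqM.w])
  let e : (yon S).obj M ⟶ W := (yon S).map m₂ ≫ p₀
  have he : RepWith @Etale e := repWith_comp (repWith_of_isPullback sqM hp) hp₀
  have hes : RepWith @Surjective e := repWith_comp (repWith_of_isPullback sqM hps) hps₀
  have hew : e ≫ w = (yon S).map m₁ ≫ p := by rw [Category.assoc, sqM.w]
  obtain ⟨Q, qQ, πQ, sqQ⟩ : ∃ (Q : Sp S) (qQ : Q ⟶ P) (πQ : Q ⟶ (yon S).obj M),
      IsPullback qQ πQ π ((yon S).map m₁) := ⟨_, _, _, IsPullback.of_hasPullback _ _⟩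
  obtain ⟨N', qN, ν', sqN'⟩ : ∃ (N' : Over S) (qN : N' ⟶ N) (ν' : N' ⟶ M),
      IsPullback qN ν' ν₀ m₁ := ⟨_, _, _, IsPullback.of_hasPullback _ _⟩
  obtain ⟨fQ, hfQ₁, hfQ₂⟩ : ∃ fQ : Q ⟶ (yon S).obj N',
      fQ ≫ (yon S).map qN = qQ ≫ f₀ ∧ fQ ≫ (yon S).map ν' = πQ := by
    have := sqN'.map (yon S)
    have w : (qQ ≫ f₀) ≫ (yon S).map ν₀ = πQ ≫ (yon S).map m₁ := by
      rw [Category.assoc, h.fac, sqQ.w]
    exact ⟨_, this.lift_fst _ _ w, this.lift_snd _ _ w⟩
  have := hm₁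
  have hSt := isStable_smoothBaseChange h
    (isAlgSpace_of_isPullback sqP hX.diag hY (IsAlgSpace.yon_obj U))
    (isQuasiCompactMor_of_isPullback sqP hqc)
    (repWith_of_isPullback (isPullback_diagonal_baseChange sqP) hqs) m₁ sqQ sqN' hfQ₂ hfQ₁
  have wu : (qQ ≫ qP) ≫ f = (πQ ≫ e) ≫ w := by
    rw [Category.assoc, Category.assoc, hew, sqP.w, reassoc_of% sqQ.w]
  obtain ⟨u, hu₁, hu₂⟩ : ∃ u : Q ⟶ YW, u ≫ a = qQ ≫ qP ∧ u ≫ fW = πQ ≫ e :=
    ⟨_, sq1.lift_fst _ _ wu, sq1.lift_snd _ _ wu⟩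
  have hu : IsPullback u πQ fW e :=
    IsPullback.of_right (by rw [hu₁, hew]; exact sqQ.paste_horiz sqP) hu₂ sq1
  have wr : ((yon S).map qN ≫ q) ≫ ν = ((yon S).map ν' ≫ e) ≫ w := by
    rw [Category.assoc, Category.assoc, hew, sqN.w, ← Category.assoc, ← Category.assoc,
      ← Functor.map_comp, ← Functor.map_comp, sqN'.w]
  obtain ⟨r, hr₁, hr₂⟩ : ∃ r : (yon S).obj N' ⟶ X'W,
      r ≫ b = (yon S).map qN ≫ q ∧ r ≫ νW = (yon S).map ν' ≫ e :=
    ⟨_, sq2.lift_fst _ _ wr, sq2.lift_snd _ _ wr⟩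
  have hr : IsPullback r ((yon S).map ν') νW e :=
    IsPullback.of_right (by rw [hr₁, hew]; exact (sqN'.map (yon S)).paste_horiz sqN) hr₂ sq2
  have hν : IsIntegralMor νW :=
    affWith_isIntegralHom_iff.1 (affWith_of_isPullback sq2 (affWith_isIntegralHom_iff.2 hn.2.1))
  refine isRelNormalization_of_isStable hW he hes c1 hν hu hr (sq2.hom_ext ?_ ?_) hSt
  · rw [Category.assoc, Category.assoc, c2, hr₁, reassoc_of% hu₁, reassoc_of% hfQ₁, hf₀]
  · rw [Category.assoc, Category.assoc, c1, hr₂, hu₂, reassoc_of% hfQ₂]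

end Spaces

end

end Groth.AlgSpBasic
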