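import Groth.Prelude.Def_W4stk3sptopologiesPh
import Groth.Agent.SpLimit.BaseRestrict
import Groth.Agent.AlgSp2.FiniteTfae
import Groth.Agent.AlgSp2.Absolute.ClosedApprox
import Groth.Agent.S10048
import Groth.Agent.S10275
import Groth.Agent.S10276

/-!
# Proper surjective morphisms of spaces are ph coverings
-/

set_option autoImplicit false
set_option backward.isDefEq.respectTransparency.types false
set_option linter.style.haveILetI false
universe u

open CategoryTheory CategoryTheory.Limits AlgebraicGeometry Opposite AlgSp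

namespace Groth.AlgSpBasic.PhProper

open Groth.AlgSp3

noncomputable section

variable {S : Scheme.{u}}

/-- A space proper and surjective over an affine scheme receives a map from a scheme which is
proper and surjective over that affine scheme. -/
theorem exists_scheme_cover {Z : Over S} [IsAffine Z.left] {P : Sp S} (hP : IsAlgSpace P)
    (π : P ⟶ (yon S).obj Z) (hπ : IsProperMor π) (hs : IsSurjectiveMor π) :
    ∃ (W : Over S) (w : (yon S).obj W ⟶ P) (k : W ⟶ Z),
      w ≫ π = (yon S).map k ∧ IsProper k.left ∧ Surjective k.left := by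
  let π₀ : P ⟶ (yon S).obj (Over.mk Z.hom) := π
  obtain ⟨e, he⟩ := exists_shriek_fibre_iso Z.hom π₀
  let P₀ := fibre Z.hom π₀
  have hP₀ : IsAlgSpace P₀ := (isAlgSpace_shriek_iff Z.hom P₀).1 (IsAlgSpace.of_iso hP e.symm)
  have hqc : IsQuasiCompactSp P₀ := by
    refine Groth.SpLimit.isQuasiCompactSp_of_shriek Z.hom ?_
    have hc : IsQuasiCompactSp P :=
      Groth.AlgSp2.Absolute.isQuasiCompactSp_of_qcMor (IsAlgSpace.yon_obj Z)
        ⟨Z, 𝟙 _, repWith_isIso _, repWith_isIso _, inferInstance⟩ hπ.2.1.2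
    obtain ⟨U, b, h₁, h₂, h₃⟩ := hc
    exact ⟨U, b ≫ e.inv, repWith_comp h₁ (repWith_isIso _), repWith_comp h₂ (repWith_isIso _), h₃⟩
  have hqs : IsQuasiSeparatedSp P₀ := by
    let T₀ : Over Z.left := Over.mk (𝟙 Z.left)
    have hT₀ : IsTerminal ((yon Z.left).obj T₀) :=
      IsTerminal.isTerminalObj (yon Z.left) T₀ Over.mkIdTerminal
    let τ := shriekToBase Z.hom ((yon Z.left).obj T₀)
    let η : (Over.map Z.hom).obj T₀ ≅ Over.mk Z.hom :=
      Over.isoMk (Iso.refl _) (by simp [T₀])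
    have hτ : τ = (shriekYonIso Z.hom T₀).hom ≫ (yon S).map η.hom := by
      ext T p
      refine ULift.ext _ _ (Over.OverMorphism.ext ?_)
      exact ((Over.w p.2.down).symm.trans rfl)
    have : Mono τ := by rw [hτ]; infer_instance
    have sq : IsPullback (prod.fst : P₀ ⨯ P₀ ⟶ P₀) prod.snd (hT₀.from P₀) (hT₀.from P₀) :=
      IsPullback.of_isLimit_binaryFan_of_isTerminal (prodIsProd P₀ P₀) hT₀
    have sq₁ := isPullback_comp_mono τ (isPullback_shriek Z.hom sq)
    have hb : (shriek Z.hom).map (hT₀.from P₀) ≫ τ = e.hom ≫ π₀ :=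
      (shriek_map_toBase Z.hom _).trans he.symm
    rw [hb] at sq₁
    have sq₂ : IsPullback ((shriek Z.hom).map (prod.fst : P₀ ⨯ P₀ ⟶ P₀) ≫ e.hom)
        ((shriek Z.hom).map (prod.snd : P₀ ⨯ P₀ ⟶ P₀) ≫ e.hom) π₀ π₀ :=
      sq₁.of_iso (Iso.refl _) e e (Iso.refl _) (by simp) (by simp) (by simp) (by simp)
    have hd : (shriek Z.hom).map (Limits.diag P₀) =
        e.hom ≫ pullback.diagonal π₀ ≫ sq₂.isoPullback.inv := by
      rw [← Category.assoc, Iso.eq_comp_inv]
      apply pullback.hom_ext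
      · rw [Category.assoc, IsPullback.isoPullback_hom_fst, ← Category.assoc, ← Functor.map_comp,
          prod.lift_fst, Category.assoc, pullback.diagonal_fst, CategoryTheory.Functor.map_id,
          Category.id_comp, Category.comp_id]
      · rw [Category.assoc, IsPullback.isoPullback_hom_snd, ← Category.assoc, ← Functor.map_comp,
          prod.lift_snd, Category.assoc, pullback.diagonal_snd, CategoryTheory.Functor.map_id,
          Category.id_comp, Category.comp_id]
    refine repWith_of_shriek_map Z.hom ?_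
    rw [hd]
    exact repWith_comp (repWith_isIso _) (repWith_comp
      (repWith_mono (fun _ _ g (_ : IsClosedImmersion g) => (inferInstance : QuasiCompact g)) hπ.1)
      (repWith_isIso _))
  obtain ⟨U, p, hpe, hps⟩ := hP₀.atlas
  obtain ⟨W, w, hwf, hws, -, -⟩ := Groth.Agent.S10048.result Z.left ⟨P₀, hP₀⟩ hqc hqs U p hpe hps
  let w' : (yon S).obj ((Over.map Z.hom).obj W) ⟶ P :=
    (shriekYonIso Z.hom W).inv ≫ (shriek Z.hom).map w ≫ e.hom
  have hwf' : RepWith @IsFinite w' :=
    repWith_comp (repWith_isIso _) (repWith_comp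
      (repWith_shriek_map Z.hom ((Groth.AlgSp2.isFiniteMor_iff (IsAlgSpace.yon_obj W) hP₀).1 hwf))
      (repWith_isIso _))
  have hws' : RepWith @Surjective w' :=
    repWith_comp (repWith_isIso _) (repWith_comp
      (repWith_shriek_map Z.hom (repWith_surjective_of_points
        ((Groth.AlgSp2.isFiniteMor_iff (IsAlgSpace.yon_obj W) hP₀).1 hwf).rep hws))
      (repWith_isIso _))
  obtain ⟨k, hk⟩ := (yon S).map_surjective (w' ≫ π)
  have hpr : IsProperMor (w' ≫ π) := Groth.Agent.S10276.result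
    (X := ⟨_, IsAlgSpace.yon_obj ((Over.map Z.hom).obj W)⟩) (Y := ⟨P, hP⟩) (Z := ⟨_, IsAlgSpace.yon_obj Z⟩)
    (ObjectProperty.homMk w') (ObjectProperty.homMk π)
    (Groth.AlgSp2.isProperMor_of_isFiniteMor (IsAlgSpace.yon_obj _) hP
      ((Groth.AlgSp2.isFiniteMor_iff (IsAlgSpace.yon_obj _) hP).2 hwf')) hπ
  have hrep := representable_yon_map k
  refine ⟨_, w', k, hk.symm, ?_, ⟨fun z => ?_⟩⟩
  · rw [← hk, Groth.AlgSp2.isProperMor_iff_repWith (IsAlgSpace.yon_obj _) (IsAlgSpace.yon_obj _) hrep] at hpr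
    exact (repWith_yon_map_iff _ k).1 hpr
  · obtain ⟨x, hx⟩ := hs (Points.ofScheme Z z)
    obtain ⟨T, g, t, rfl⟩ := exists_ofPt x
    obtain ⟨V, snd, fst, sqV⟩ := hws'.rep g
    have : Surjective snd.left := hws'.property g fst snd sqV
    obtain ⟨v, rfl⟩ := snd.left.surjective t
    obtain ⟨j, hj⟩ := (yon S).map_surjective fst
    refine ⟨j.left v, (Points.schemeHomeo Z).injective ?_⟩
    rw [Points.map_ofPt] at hx
    refine Eq.trans ?_ hx
    rw [← ofPt_comp_yon, ← Category.assoc, ← sqV.w, Category.assoc, ← hk, ← hj, ← Functor.map_comp]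
    exact ((Points.ofPt_eq_map_ofScheme _ _).trans (Points.map_yon_map_apply (j ≫ k) v)).symm

/-- A proper surjective morphism of algebraic spaces is a ph covering. -/
theorem isPhCover_of_proper_surjective {X Y : Space S} (f : Y ⟶ X) (hf : IsProperMor f.hom)
    (hs : IsSurjectiveMor f.hom) : IsPhCover (fun _ : PUnit.{u + 1} => Y.obj) (fun _ => f.hom) := by
  refine ⟨fun _ => hf.2.1.1, fun Z hZ h => ?_⟩
  haveI := hZ
  have sq := IsPullback.of_hasPullback f.hom h
  have hP := isAlgSpace_of_isPullback sq X.property.diag Y.property (IsAlgSpace.yon_obj Z)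
  have hπ : IsProperMor (pullback.snd f.hom h) :=
    Groth.Agent.S10275.result (X' := ⟨_, hP⟩) (Y' := ⟨_, IsAlgSpace.yon_obj Z⟩) f
      (ObjectProperty.homMk h) (ObjectProperty.homMk (pullback.fst f.hom h))
      (ObjectProperty.homMk (pullback.snd f.hom h)) sq hf
  have hπs : IsSurjectiveMor (pullback.snd f.hom h) := fun z => by
    obtain ⟨y, hy⟩ := hs (Points.map h z)
    obtain ⟨w, -, hw⟩ := exists_point_of_isPullback sq y z hy
    exact ⟨w, hw⟩
  obtain ⟨W, w, k, hk, _, _⟩ := exists_scheme_cover hP (pullback.snd f.hom h) hπ hπs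
  haveI : CompactSpace W.left := QuasiCompact.compactSpace_of_compactSpace k.left
  let 𝒰 := W.left.affineCover.finiteSubcover
  haveI : ∀ j, IsAffine (𝒰.X j) := fun j => inferInstanceAs (IsAffine (W.left.affineCover.X _))
  obtain ⟨N, ⟨eN⟩⟩ := Finite.exists_equiv_fin 𝒰.I₀
  refine ⟨PreZeroHypercover.mk (Fin N) (fun j => 𝒰.X (eN.symm j)) (fun j => 𝒰.f (eN.symm j) ≫ k.left),
    ⟨hZ, (inferInstance : Finite (Fin N)), fun j => inferInstanceAs (IsAffine (𝒰.X _)),
      W.left, k.left, fun j => 𝒰.f (eN.symm j), ‹_›, ‹_›, fun j => 𝒰.map_prop _, fun j => rfl,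
      fun x => ?_⟩, fun j => ?_⟩
  · obtain ⟨i, hi⟩ := 𝒰.exists_eq x
    have aux : ∀ i', i' = i → x ∈ Set.range (𝒰.f i') := fun i' e => by subst e; exact hi
    exact ⟨eN i, aux _ (eN.symm_apply_apply i)⟩
  · let m : Over.mk ((𝒰.f (eN.symm j) ≫ k.left) ≫ Z.hom) ⟶ W :=
      Over.homMk (𝒰.f (eN.symm j)) (by
        show 𝒰.f (eN.symm j) ≫ W.hom = (𝒰.f (eN.symm j) ≫ k.left) ≫ Z.hom
        rw [Category.assoc, Over.w k])
    refine ⟨PUnit.unit, (yon S).map m ≫ w ≫ pullback.fst f.hom h, ?_⟩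
    have key : ∀ {A : Over S} (m : A ⟶ W),
        ((yon S).map m ≫ w ≫ pullback.fst f.hom h) ≫ f.hom = (yon S).map (m ≫ k) ≫ h := fun m => by
      rw [Category.assoc, Category.assoc, pullback.condition, reassoc_of% hk, Functor.map_comp,
        Category.assoc]
    refine (key m).trans ?_
    rfl


end

end Groth.AlgSpBasic.PhProper
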