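import Groth.Agent.AlgSpBasic.PhProper
import Groth.Agent.AlgSp2.PhCovers
import Groth.Agent.AlgSp2.SpacesSiteCompare

/-!
# Sheaves for the big ph topology of spaces
-/

set_option autoImplicit false
set_option backward.isDefEq.respectTransparency.types false
set_option linter.style.haveILetI false
universe u v w

open CategoryTheory CategoryTheory.Limits AlgebraicGeometry Opposite AlgSp

namespace Groth.AlgSpBasic.PhSheaf

open Groth.AlgSpBasic

noncomputable section

variable {S : Scheme.{u}}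

/-- Etale coverings are ph coverings. -/
theorem spacesTop_le_phSpacesTop : spacesTop S IsEtaleMor ≤ phSpacesTop S := by
  rw [spacesTop, Precoverage.toGrothendieck_le_iff_le_toPrecoverage]
  intro Y R hR
  rw [GrothendieckTopology.mem_toPrecoverage_iff]
  obtain ⟨hP, hx⟩ := hR
  obtain ⟨A, a, ha, has⟩ := Y.property.atlas
  choose W g hg w hw using fun t : ↥A.left => hx (Points.ofPt a t)
  have hcov : IsFppfCover (fun t => (W t).obj) (fun t => (g t).hom) :=
    ⟨fun t => ⟨locP_mono (fun _ _ k (_ : Etale k) => (inferInstance : Flat k)) (locP_of_isEtaleMor (hP _ (hg t))),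
      locP_mono (fun _ _ k (_ : Etale k) => (inferInstance : LocallyOfFinitePresentation k))
        (locP_of_isEtaleMor (hP _ (hg t)))⟩,
    fun y => by
      obtain ⟨t, rfl⟩ := surjective_ofPt_of_repWith has y
      exact ⟨t, w t, hw t⟩⟩
  refine GrothendieckTopology.superset_covering _ ?_ (Precoverage.generate_mem_toGrothendieck
    ((ofArrows_mem_phSpacesPre_iff W g).2
      (Groth.AlgSp2.isPhCover_of_isFppfCover Y.property (fun t => (W t).property) hcov)))
  rintro Z _ ⟨_, c, _, ⟨t⟩, rfl⟩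
  exact ⟨_, c, g t, hg t, rfl⟩

variable {X : Space S} (F : (Over X)ᵒᵖ ⥤ Type w)

/-- The finest topology on spaces whose localisation at `X` has `F` as a sheaf. -/
def K : GrothendieckTopology (Space S) where
  sieves Y := {R | ∀ ⦃Y' : Space S⦄ (g : Y' ⟶ Y) (s : Y' ⟶ X),
    (Sieve.overEquiv (Over.mk s)).symm (R.pullback g) ∈ Sheaf.finestTopologySingle F (Over.mk s)}
  top_mem' Y Y' g s := by
    have : (Sieve.overEquiv (Over.mk s)).symm ((⊤ : Sieve Y).pullback g) = ⊤ := by
      rw [Sieve.pullback_top]; exact map_top _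
    rw [this]
    exact (Sheaf.finestTopologySingle F).top_mem _
  pullback_stable' Y Y' R g hR Y'' g' s := by
    rw [← Sieve.pullback_comp]
    exact hR _ s
  transitive' Y R hR T hT Y' g s := by
    refine (Sheaf.finestTopologySingle F).transitive (hR g s) _ fun E h hh => ?_
    rw [← Sieve.overEquiv_symm_pullback]
    have := hT hh (𝟙 E.left) E.hom
    erw [Sieve.pullback_id, Sieve.pullback_comp] at this
    exact this

variable {F}

theorem mem_finest_of_mem {J : GrothendieckTopology (Over X)} (hF : Presieve.IsSheaf J F) {E : Over X}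
    {R : Sieve E} (hR : R ∈ J E) : R ∈ Sheaf.finestTopologySingle F E :=
  fun _ h => hF _ (J.pullback_stable h hR)

theorem spacesTop_le_K (hF : Presheaf.IsSheaf (spacesTopOver IsEtaleMor X) F) :
    spacesTop S IsEtaleMor ≤ K F := by
  intro Y R hR Y' g s
  refine mem_finest_of_mem ((isSheaf_iff_isSheaf_of_type _ _).1 hF) ?_
  rw [GrothendieckTopology.mem_over_iff, OrderIso.apply_symm_apply]
  exact (spacesTop S IsEtaleMor).pullback_stable g hR

/-- The descent condition along proper surjective morphisms over `X`. -/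
def ProperDesc (F : (Over X)ᵒᵖ ⥤ Type w) : Prop :=
  ∀ ⦃U V W : Over X⦄ (f : V ⟶ U) (p q : W ⟶ V),
    IsProperMor f.left.hom → IsSurjectiveMor f.left.hom →
    IsPullback p.left.hom q.left.hom f.left.hom f.left.hom →
    ∀ t : F.obj (op V), F.map p.op t = F.map q.op t → ∃! s : F.obj (op U), F.map f.op s = t

theorem singleton_mem_K (hF : ProperDesc F) {W Z : Space S} (f : W ⟶ Z) (hf : IsProperMor f.hom)
    (hs : IsSurjectiveMor f.hom) : Sieve.generate (Presieve.singleton f) ∈ K F Z := by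
  intro Y' g s E h
  rw [← Sieve.overEquiv_symm_pullback, ← Sieve.pullback_comp]
  let g' : E.left ⟶ Z := h.left ≫ g
  have sq := IsPullback.of_hasPullback f.hom g'.hom
  let P : Space S := ⟨_, isAlgSpace_pullback W E.left Z f.hom g'.hom⟩
  let f' : P ⟶ E.left := ObjectProperty.homMk (pullback.snd f.hom g'.hom)
  let f₁ : P ⟶ W := ObjectProperty.homMk (pullback.fst f.hom g'.hom)
  let fh : Over.mk (f' ≫ E.hom) ⟶ E := Over.homMk f' rfl
  have hf' : IsProperMor f'.hom := Groth.Agent.S10275.result f g' f₁ f' sq hf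
  have hs' : IsSurjectiveMor f'.hom := fun z => by
    obtain ⟨y, hy⟩ := hs (Points.map g'.hom z)
    obtain ⟨w, -, hw⟩ := exists_point_of_isPullback sq y z hy
    exact ⟨w, hw⟩
  have key : (Sieve.overEquiv E).symm (Sieve.pullback g' (Sieve.generate (Presieve.singleton f))) =
      Sieve.generate (Presieve.singleton fh) := by
    ext T q
    constructor
    · rintro ⟨_, k, _, ⟨⟩, hk⟩
      let l : T.left ⟶ P := ObjectProperty.homMk
        (sq.lift k.hom q.left.hom (congrArg (fun a : T.left ⟶ Z => a.hom) hk))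
      have hl : l ≫ f' = q.left := ObjectProperty.hom_ext _ (sq.lift_snd _ _ _)
      exact ⟨_, Over.homMk l (by
        show l ≫ f' ≫ E.hom = T.hom
        rw [← Category.assoc, hl]; exact Over.w q), fh, ⟨⟩, Over.OverMorphism.ext (by rw [Over.comp_left]; exact hl)⟩
    · rintro ⟨_, k, _, ⟨⟩, rfl⟩
      refine ⟨W, k.left ≫ f₁, f, ⟨⟩, ?_⟩
      show (k.left ≫ f₁) ≫ f = (k.left ≫ f') ≫ g'
      rw [Category.assoc, Category.assoc]
      exact congrArg (k.left ≫ ·) (ObjectProperty.hom_ext _ sq.w)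
  show Presieve.IsSheafFor F _
  rw [key, ← Presieve.isSheafFor_iff_generate, Presieve.isSheafFor_singleton]
  intro x hx
  have sq₂ := IsPullback.of_hasPullback f'.hom f'.hom
  let P₂ : Space S := ⟨_, isAlgSpace_pullback P P E.left f'.hom f'.hom⟩
  let p : P₂ ⟶ P := ObjectProperty.homMk (pullback.fst f'.hom f'.hom)
  let q : P₂ ⟶ P := ObjectProperty.homMk (pullback.snd f'.hom f'.hom)
  have hpq : p ≫ f' = q ≫ f' := ObjectProperty.hom_ext _ sq₂.w
  let p' : Over.mk (p ≫ f' ≫ E.hom) ⟶ Over.mk (f' ≫ E.hom) := Over.homMk p rfl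
  let q' : Over.mk (p ≫ f' ≫ E.hom) ⟶ Over.mk (f' ≫ E.hom) := Over.homMk q (by
    show q ≫ f' ≫ E.hom = p ≫ f' ≫ E.hom
    rw [← Category.assoc, ← Category.assoc, hpq])
  exact hF fh p' q' hf' hs' sq₂ x (hx p' q' (Over.OverMorphism.ext hpq))

theorem mem_K_of_generate {Y : Space S} {R : Presieve Y} (hR : Sieve.generate R ∈ K F Y) (T : Sieve Y)
    (h : ∀ ⦃W : Space S⦄ ⦃g : W ⟶ Y⦄, R g → T.pullback g ∈ K F W) : T ∈ K F Y := by
  refine (K F).transitive hR T ?_
  rintro W _ ⟨V, a, g, hg, rfl⟩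
  rw [Sieve.pullback_comp]
  exact (K F).pullback_stable a (h hg)

theorem phSpacesTop_le_K (hF : Presheaf.IsSheaf (spacesTopOver IsEtaleMor X) F) (hF' : ProperDesc F) :
    phSpacesTop S ≤ K F := by
  have hEt := spacesTop_le_K hF
  rw [phSpacesTop, Precoverage.toGrothendieck_le_iff_le_toPrecoverage]
  intro Y R hR
  rw [GrothendieckTopology.mem_toPrecoverage_iff]
  obtain ⟨-, hR⟩ := hR
  obtain ⟨A, a, ha, has⟩ := Y.property.atlas
  let 𝒰 := A.left.affineCover
  let Z : 𝒰.I₀ → Over S := fun k => Over.mk (𝒰.f k ≫ A.hom)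
  let c : ∀ k, (ofScheme S).obj (Z k) ⟶ Y := fun k =>
    ObjectProperty.homMk ((yon S).map (Over.homMk (𝒰.f k) rfl : Z k ⟶ A) ≫ a)
  have hc : Sieve.generate (Presieve.ofArrows (fun k => (ofScheme S).obj (Z k)) c) ∈ K F Y := by
    refine hEt _ (Precoverage.generate_mem_toGrothendieck
      ((ofArrows_mem_spacesPre_iff IsEtaleMor _ c).2 ⟨fun k => ?_, fun y => ?_⟩))
    · exact isEtaleMor_of_repWith _ (repWith_comp
        ((repWith_yon_map_iff _ (Over.homMk (𝒰.f k) rfl : Z k ⟶ A)).2 (inferInstanceAs (Etale (𝒰.f k)))) ha)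
    · obtain ⟨t, rfl⟩ := surjective_ofPt_of_repWith has y
      obtain ⟨k, z, rfl⟩ := 𝒰.exists_eq t
      refine ⟨k, Points.ofScheme (Z k) z, ?_⟩
      show Points.map ((yon S).map _ ≫ a) _ = _
      rw [← Points.ofPt_eq_map_ofScheme, ofPt_comp_yon]
      rfl
  refine mem_K_of_generate hc _ ?_
  rintro _ _ ⟨k⟩
  have hZ : IsAffine (Z k).left := inferInstanceAs (IsAffine (𝒰.X k))
  obtain ⟨G, hG, hl⟩ := hR (Z k) hZ (c k).hom
  haveI := hG.finite_index
  obtain ⟨U, π, ι, hπ, hπs, hι, hιπ, hcov⟩ := hG.exists_proper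
  let U' : Over S := Over.mk (π ≫ (Z k).hom)
  let π' : U' ⟶ Z k := Over.homMk π rfl
  have hπ' : IsProperMor ((yon S).map π') :=
    (Groth.AlgSp2.isProperMor_iff_repWith (IsAlgSpace.yon_obj _) (IsAlgSpace.yon_obj _)
      (representable_yon_map π')).2 ((repWith_yon_map_iff _ π').2 hπ)
  have hπs' : IsSurjectiveMor ((yon S).map π') := fun z => by
    obtain ⟨t, rfl⟩ := (Points.schemeHomeo (Z k)).surjective z
    obtain ⟨v, hv⟩ := π.surjective t
    refine ⟨Points.ofScheme U' v, ?_⟩
    rw [← hv]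
    exact Points.map_yon_map_apply π' v
  refine mem_K_of_generate (singleton_mem_K hF' ((ofScheme S).map π') hπ' hπs') _ ?_
  rintro _ _ ⟨⟩
  let J := ULift.{u} G.I₀
  let W : J → Over S := fun j => Over.mk (G.f j.down ≫ (Z k).hom)
  let m : ∀ j, W j ⟶ U' := fun j => Over.homMk (ι j.down) (by
    show ι j.down ≫ π ≫ (Z k).hom = G.f j.down ≫ (Z k).hom
    rw [← Category.assoc, hιπ])
  have hm : Sieve.generate (Presieve.ofArrows (fun j => (ofScheme S).obj (W j))
      (fun j => (ofScheme S).map (m j))) ∈ K F _ := by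
    refine hEt _ (Precoverage.generate_mem_toGrothendieck
      ((ofArrows_mem_spacesPre_iff IsEtaleMor _ _).2 ⟨fun j => ?_, fun y => ?_⟩))
    · haveI := hι j.down
      haveI : Etale (m j).left := inferInstanceAs (Etale (ι j.down))
      exact Groth.AlgSp2.SpacesSiteCompare.isEtaleMor_yon (m j)
    · obtain ⟨t, rfl⟩ := (Points.schemeHomeo U').surjective y
      obtain ⟨j, v, hv⟩ := hcov t
      refine ⟨⟨j⟩, Points.ofScheme (W ⟨j⟩) v, ?_⟩
      rw [← hv]
      exact Points.map_yon_map_apply (m ⟨j⟩) v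
  refine mem_K_of_generate hm _ ?_
  rintro _ _ ⟨j⟩
  obtain ⟨Y', g, hg, l, hlg⟩ := hl j.down
  refine GrothendieckTopology.superset_covering _ ?_ ((K F).top_mem _)
  intro T q _
  refine (Sieve.generate R).downward_closed (?_ : Sieve.generate R
    ((ofScheme S).map (m j) ≫ (ofScheme S).map π' ≫ c k)) q |> fun h => by simpa using h
  refine ⟨Y', ObjectProperty.homMk l, g, hg, ObjectProperty.hom_ext _ ?_⟩
  refine hlg.trans ?_
  show _ = (yon S).map (m j) ≫ (yon S).map π' ≫ (c k).hom
  rw [← Category.assoc, ← Functor.map_comp]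
  refine congrArg (fun a => (yon S).map a ≫ (c k).hom) (Over.OverMorphism.ext ?_)
  exact (hιπ j.down).symm

theorem isSheaf_iff (X : Space S) (F : (Over X)ᵒᵖ ⥤ Type w) :
    Presheaf.IsSheaf (phSpacesTopOver X) F ↔
      Presheaf.IsSheaf (spacesTopOver IsEtaleMor X) F ∧ ProperDesc F := by
  constructor
  · intro hF
    refine ⟨(isSheaf_iff_isSheaf_of_type _ _).2 (Presieve.isSheaf_of_le F (fun E R hR => ?_)
      ((isSheaf_iff_isSheaf_of_type _ _).1 hF)), ?_⟩
    · rw [GrothendieckTopology.mem_over_iff] at hR ⊢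
      exact spacesTop_le_phSpacesTop _ hR
    intro U V W f p q hf hs sq t ht
    have hmem : Sieve.generate (Presieve.singleton f) ∈ phSpacesTopOver X U := by
      rw [GrothendieckTopology.mem_over_iff, Sieve.overEquiv_generate]
      refine GrothendieckTopology.superset_covering _ ?_ (Precoverage.generate_mem_toGrothendieck
        ((ofArrows_mem_phSpacesPre_iff (fun _ : PUnit.{u + 1} => V.left) (fun _ => f.left)).2
          (PhProper.isPhCover_of_proper_surjective f.left hf hs)))
      refine Sieve.generate_mono ?_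
      rintro _ _ ⟨⟨⟩⟩
      exact ⟨V, f, 𝟙 _, ⟨⟩, (Category.id_comp _).symm⟩
    have hS := ((isSheaf_iff_isSheaf_of_type _ _).1 hF) _ hmem
    rw [← Presieve.isSheafFor_iff_generate, Presieve.isSheafFor_singleton] at hS
    refine hS t fun {T} g₁ g₂ hg => ?_
    have e : g₁.left.hom ≫ f.left.hom = g₂.left.hom ≫ f.left.hom :=
      congrArg (fun a : T ⟶ U => a.left.hom) hg
    let l : T.left ⟶ W.left := ObjectProperty.homMk (sq.lift _ _ e)
    have hl₁ : l ≫ p.left = g₁.left := ObjectProperty.hom_ext _ (sq.lift_fst _ _ _)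
    have hl₂ : l ≫ q.left = g₂.left := ObjectProperty.hom_ext _ (sq.lift_snd _ _ _)
    let l' : T ⟶ W := Over.homMk l (by rw [← Over.w p, ← Category.assoc, hl₁, Over.w g₁])
    rw [show g₁ = l' ≫ p from (Over.OverMorphism.ext hl₁).symm,
      show g₂ = l' ≫ q from (Over.OverMorphism.ext hl₂).symm, op_comp, op_comp,
      Functor.map_comp_apply, Functor.map_comp_apply, ht]
  · rintro ⟨hF, hF'⟩
    rw [isSheaf_iff_isSheaf_of_type]
    intro E R hR
    rw [GrothendieckTopology.mem_over_iff] at hR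
    have h := phSpacesTop_le_K hF hF' _ hR (𝟙 E.left) E.hom
    erw [Sieve.pullback_id, OrderIso.symm_apply_apply] at h
    have h' := h E (𝟙 E)
    erw [Sieve.pullback_id] at h'
    exact h'

end

end Groth.AlgSpBasic.PhSheaf
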