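import Groth.Agent.AlgSpBasic.SepLocal
import Groth.Agent.AlgSp3.NbhdInv

/-!
# Points of fibre products over given points
-/

set_option autoImplicit false
set_option backward.isDefEq.respectTransparency.types false
universe u

open CategoryTheory CategoryTheory.Limits AlgebraicGeometry Opposite TopologicalSpace AlgSp

namespace Groth.AlgSpBasic

variable {S : Scheme.{u}}

/-- Finiteness of the points over two points, over a monomorphic point of the base at which one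
factor is quasi-finite. -/
theorem finite_points_of_mono_point {X Y Z W : Sp S}
    {f : X ⟶ Y} {g : Z ⟶ Y} {p : W ⟶ X} {q : W ⟶ Z} (hW : IsPullback p q f g)
    (x : AlgSp.Points X) (z : AlgSp.Points Z) (hxz : AlgSp.Points.map f x = AlgSp.Points.map g z)
    (r : FieldPt Y) (hr : AlgSp.Points.mk r = AlgSp.Points.map g z) [Mono r.toHom]
    (hg : HasAtMor (fun U _ h u => ∃ W : U.Opens, u ∈ W ∧ LocallyQuasiFinite (W.ι ≫ h) ∧
      LocallyOfFiniteType (W.ι ≫ h)) g z) :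
    {w | AlgSp.Points.map p w = x ∧ AlgSp.Points.map q w = z}.Finite := by
  obtain ⟨p₀, rfl⟩ := AlgSp.Points.mk_surjective x
  obtain ⟨U, A, a, b, h, u, ha, hb, comm, rfl, W₀, huW, hlqf, hlft⟩ := hg
  rw [← hr, AlgSp.Points.map_mk, AlgSp.Points.mk_eq_mk_iff, Groth.AlgSp2.rel_iff] at hxz
  obtain ⟨Ω, hΩ, wΩ, c, c', e⟩ := hxz
  rw [FieldPt.toHom_map] at e
  let m : (yon S).obj (Over.mk wΩ) ⟶ X := (yon S).map (c : Over.mk wΩ ⟶ p₀.pt) ≫ p₀.toHom
  replace e : m ≫ f = (yon S).map c' ≫ r.toHom := (Category.assoc _ _ _).trans e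
  obtain ⟨K, k₁, k₂, sqK⟩ := exists_pullback_yon hb.rep r.toHom
  have : Etale k₂.left := hb.property _ _ _ sqK
  have : LocallyQuasiFinite k₂.left := Groth.DescentBase.locallyQuasiFinite_of_etale k₂.left
  let U₀ : Over S := Over.mk (W₀.ι ≫ U.hom)
  let j₀ : U₀ ⟶ U := Over.homMk W₀.ι rfl
  obtain ⟨P₀, π₁, π₂, sqP⟩ := exists_pullback_of_diag (IsAlgSpace.yon_obj A).diag
    ((yon S).map (j₀ ≫ h)) ((yon S).map k₁)
  have hpb := isPullback_left (isPullback_of_yon sqP)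
  have : LocallyQuasiFinite π₂.left :=
    MorphismProperty.of_isPullback (P := @LocallyQuasiFinite) hpb
      (show LocallyQuasiFinite (j₀.left ≫ h.left) from hlqf)
  -- a point of the chart over the given point
  obtain ⟨κ, hκ₁, hκ₂⟩ := (ofPt_eq_ofPt_iff sqK (h.left u) (IsLocalRing.closedPoint r.K)).1 (by
    rw [AlgSp.Points.ofPt_toHom, hr, AlgSp.Points.map_ofPt, comm, ofPt_comp_yon])
  obtain ⟨v, hv₁, hv₂⟩ := Scheme.Pullback.exists_preimage_pullback
    (f := (j₀ ≫ h).left) (g := k₁.left) (⟨u, huW⟩ : ↥U₀.left) κ hκ₁.symm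
  let v' : ↥P₀.left := hpb.isoPullback.inv v
  have hv' : π₁.left v' = ⟨u, huW⟩ := by
    rw [← Scheme.Hom.comp_apply, hpb.isoPullback_inv_fst]; exact hv₁
  obtain ⟨V₀, hV₀, hvV, -⟩ :=
    exists_isAffineOpen_mem_and_subset (X := P₀.left) (x := v') (U := ⊤) trivial
  let V₁ : Over S := Over.mk (V₀.ι ≫ P₀.hom)
  let j₁ : V₁ ⟶ P₀ := Over.homMk V₀.ι rfl
  have : IsAffine V₁.left := hV₀
  let φ : V₁ ⟶ r.pt := j₁ ≫ π₂ ≫ k₂
  have : LocallyQuasiFinite φ.left := inferInstanceAs (LocallyQuasiFinite (V₀.ι ≫ π₂.left ≫ k₂.left))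
  have : IsAffine r.pt.left := inferInstanceAs (IsAffine (Spec (CommRingCat.of r.K)))
  -- the base change to the larger field
  obtain ⟨VΩ, l₁, l₂, sqΩ⟩ := exists_pullback_of_diag (IsAlgSpace.yon_obj r.pt).diag
    ((yon S).map φ) ((yon S).map c')
  have hpbΩ := isPullback_left (isPullback_of_yon sqΩ)
  have : IsAffine (Over.mk wΩ).left := inferInstanceAs (IsAffine (Spec (CommRingCat.of Ω)))
  have : LocallyQuasiFinite l₂.left :=
    MorphismProperty.of_isPullback (P := @LocallyQuasiFinite) hpbΩ ‹_›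
  have : QuasiCompact l₂.left :=
    MorphismProperty.of_isPullback (P := @QuasiCompact) hpbΩ inferInstance
  have : Finite ↥VΩ.left := by
    have : Subsingleton ↥(Over.mk wΩ).left :=
      inferInstanceAs (Subsingleton ↥(Spec (CommRingCat.of Ω)))
    refine Set.finite_univ_iff.1 ((l₂.left.finite_preimage_singleton
      (IsLocalRing.closedPoint Ω)).subset fun t _ => Subsingleton.elim (α := ↥(Over.mk wΩ).left) _ _)
  obtain ⟨Q, q₁, q₂, sqQ⟩ : ∃ (Q : Sp S) (q₁ : Q ⟶ Z) (q₂ : Q ⟶ (yon S).obj r.pt),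
      IsPullback q₁ q₂ g r.toHom := ⟨_, _, _, IsPullback.of_hasPullback _ _⟩
  have : Mono q₁ := MorphismProperty.of_isPullback (P := MorphismProperty.monomorphisms _)
    sqQ.flip ‹_›
  obtain ⟨R, r₁, r₂, sqR⟩ : ∃ (R : Sp S) (r₁ : R ⟶ W) (r₂ : R ⟶ (yon S).obj (Over.mk wΩ)),
      IsPullback r₁ r₂ p m := ⟨_, _, _, IsPullback.of_hasPullback _ _⟩
  let lR : R ⟶ Q := sqQ.lift (r₁ ≫ q) (r₂ ≫ (yon S).map c')
    (by rw [Category.assoc, ← hW.w, ← Category.assoc, sqR.w, Category.assoc, e, Category.assoc])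
  have hlR : IsPullback lR r₂ q₂ ((yon S).map c') := by
    refine IsPullback.of_right ?_ (sqQ.lift_snd _ _ _) sqQ
    rw [sqQ.lift_fst, ← e]
    exact sqR.paste_horiz hW.flip
  let e₁ : (yon S).obj V₁ ⟶ Q := sqQ.lift ((yon S).map (j₁ ≫ π₁ ≫ j₀) ≫ a) ((yon S).map φ) (by
    rw [Category.assoc, comm, ← Category.assoc, ← Functor.map_comp]
    have : (j₁ ≫ π₁ ≫ j₀) ≫ h = j₁ ≫ π₂ ≫ k₁ := by
      simp only [Category.assoc]
      rw [(isPullback_of_yon sqP).w]
    rw [this]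
    simp only [φ, Functor.map_comp, Category.assoc, sqK.w])
  let eΩ : (yon S).obj VΩ ⟶ R := hlR.lift ((yon S).map l₁ ≫ e₁) ((yon S).map l₂)
    (by rw [Category.assoc, sqQ.lift_snd]; exact sqΩ.w)
  have heΩ : IsPullback eΩ ((yon S).map l₁) lR e₁ := by
    refine (IsPullback.of_right ?_ (hlR.lift_fst _ _ _).symm.symm hlR.flip)
    rw [hlR.lift_snd, sqQ.lift_snd]
    exact sqΩ.flip
  refine (Set.finite_range (AlgSp.Points.ofPt (eΩ ≫ r₁))).subset fun w ⟨hwx, hwz⟩ => ?_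
  have hm : AlgSp.Points.map m (AlgSp.Points.ofScheme (Over.mk wΩ) (IsLocalRing.closedPoint Ω)) =
      AlgSp.Points.mk p₀ := by
    rw [← ofPt_eq_map, ofPt_comp_yon]
    exact AlgSp.Points.ofPt_toHom p₀ _
  obtain ⟨ω, hω, -⟩ := exists_point_of_isPullback sqR w _ (hwx.trans hm.symm)
  have hkey : AlgSp.Points.map lR ω = AlgSp.Points.ofPt e₁ (⟨v', hvV⟩ : ↥V₁.left) := by
    apply Groth.AlgSp2.map_injective_of_mono q₁
    rw [← AlgSp.Points.map_comp, sqQ.lift_fst, AlgSp.Points.map_comp, hω, hwz,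
      AlgSp.Points.map_ofPt, sqQ.lift_fst, ofPt_comp_yon]
    exact congrArg (AlgSp.Points.ofPt a) (congrArg Subtype.val hv').symm
  obtain ⟨t, ht, -⟩ := exists_point_of_isPullback heΩ ω _ (hkey.trans (ofPt_eq_map e₁ _))
  obtain ⟨t', rfl⟩ := (AlgSp.Points.schemeHomeo VΩ).surjective t
  refine ⟨t', ?_⟩
  rw [← hω, ← ht, ofPt_eq_map, AlgSp.Points.map_comp]
  rfl

/-- Finiteness of the points over two points, for a morphism of finite type quasi-finite at one of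
them. -/
theorem finite_points_of_finiteType {X Y Z W : Sp S} (hX : IsAlgSpace X) (hY : IsAlgSpace Y)
    (hZ : IsAlgSpace Z) {f : X ⟶ Y} {g : Z ⟶ Y} {p : W ⟶ X} {q : W ⟶ Z}
    (hW : IsPullback p q f g) (x : AlgSp.Points X) (z : AlgSp.Points Z)
    (hxz : AlgSp.Points.map f x = AlgSp.Points.map g z) (hft : IsFiniteTypeMor f)
    (hf : HasAtMor (fun _ _ h u => FlatMor.fibreDimAt h u = 0) f x) :
    {w | AlgSp.Points.map p w = x ∧ AlgSp.Points.map q w = z}.Finite := by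
  obtain ⟨V₀, b₀, hb₀, hb₀s⟩ := hY.atlas
  obtain ⟨v₀, hv₀⟩ := surjective_ofPt_of_repWith hb₀s (AlgSp.Points.map f x)
  obtain ⟨A, hA, hvA, -⟩ :=
    exists_isAffineOpen_mem_and_subset (X := V₀.left) (x := v₀) (U := ⊤) trivial
  let V : Over S := Over.mk (A.ι ≫ V₀.hom)
  let jV : V ⟶ V₀ := Over.homMk A.ι rfl
  have : IsAffine V.left := hA
  let b : (yon S).obj V ⟶ Y := (yon S).map jV ≫ b₀
  have hb : RepWith @Etale b :=
    repWith_comp ((repWith_yon_map_iff _ jV).2 (inferInstanceAs (Etale A.ι))) hb₀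
  let v : ↥V.left := ⟨v₀, hvA⟩
  have hbv : AlgSp.Points.ofPt b v = AlgSp.Points.map f x := by rw [ofPt_comp_yon]; exact hv₀
  obtain ⟨P, r, qP, sqP⟩ : ∃ (P : Sp S) (r : P ⟶ X) (qP : P ⟶ (yon S).obj V),
      IsPullback r qP f b := ⟨_, _, _, IsPullback.of_hasPullback _ _⟩
  have hP : IsAlgSpace P := isAlgSpace_of_isPullback sqP hY.diag hX (IsAlgSpace.yon_obj V)
  have hr : RepWith @Etale r := repWith_of_isPullback sqP.flip hb
  obtain ⟨U, c, hU, hc, hcs⟩ := exists_affine_chart hP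
    (hft.2 (IsAlgSpace.yon_obj V) ((isQuasiCompactSp_yon_iff V).2 inferInstance) b r qP sqP)
  obtain ⟨h, hh⟩ := (yon S).map_surjective (c ≫ qP)
  have comm : (c ≫ r) ≫ f = (yon S).map h ≫ b := by
    rw [Category.assoc, sqP.w, ← Category.assoc, hh]
  have : LocallyOfFiniteType h.left := hft.1 (c ≫ r) b h (repWith_comp hc hr) hb comm
  -- the finitely many quasi-finite points
  let F : Set ↥U.left := {u | h.left u = v ∧ AlgSp.Points.ofPt (c ≫ r) u = x}
  have hFd : ∀ u ∈ F, FlatMor.fibreDimAt h.left u = 0 := fun u hu =>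
    (Groth.AlgSp3.hasAtMor_iff_of_chart Groth.AlgSp3.etMor_fibreDimAt (fun d => d = 0) hX.diag
      hY.diag (repWith_comp hc hr) hb comm u).1 (hu.2.symm ▸ hf)
  have hF : F.Finite := (Groth.AlgSp3.finite_quasiFinite_fibre h.left v).subset
    fun u hu => ⟨hu.1, hFd u hu⟩
  obtain ⟨T, tZ, tV, sqT⟩ : ∃ (T : Sp S) (tZ : T ⟶ Z) (tV : T ⟶ (yon S).obj V),
      IsPullback tZ tV g b := ⟨_, _, _, IsPullback.of_hasPullback _ _⟩
  have hT : IsAlgSpace T := isAlgSpace_of_isPullback sqT hY.diag hZ (IsAlgSpace.yon_obj V)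
  obtain ⟨τ, hτ₁, hτ₂⟩ := exists_point_of_isPullback sqT z (AlgSp.Points.ofScheme V v)
    ((hxz.symm.trans hbv.symm).trans (ofPt_eq_map b v))
  obtain ⟨T₀, c₂, hc₂, hc₂s⟩ := hT.atlas
  obtain ⟨t₀, rfl⟩ := surjective_ofPt_of_repWith hc₂s τ
  obtain ⟨k, hk⟩ := (yon S).map_surjective (c₂ ≫ tV)
  have hkv : k.left t₀ = v := by
    refine (AlgSp.Points.schemeHomeo V).injective (Eq.trans ?_ hτ₂)
    rw [ofPt_eq_map, ← AlgSp.Points.map_comp, ← hk]
    exact (AlgSp.Points.map_yon_map_apply k t₀).symm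
  obtain ⟨R, r₁, r₂, sqR⟩ : ∃ (R : Sp S) (r₁ : R ⟶ W) (r₂ : R ⟶ (yon S).obj T₀),
      IsPullback r₁ r₂ q (c₂ ≫ tZ) := ⟨_, _, _, IsPullback.of_hasPullback _ _⟩
  let lR : R ⟶ P := sqP.lift (r₁ ≫ p) (r₂ ≫ (yon S).map k) (by
    rw [Category.assoc, hW.w, ← Category.assoc, sqR.w, hk]
    simp only [Category.assoc, sqT.w])
  have hlR : IsPullback lR r₂ qP ((yon S).map k) := by
    refine IsPullback.of_right ?_ (sqP.lift_snd _ _ _) sqP
    rw [sqP.lift_fst, hk, Category.assoc, ← sqT.w, ← Category.assoc]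
    exact sqR.paste_horiz hW
  obtain ⟨U', l₁, l₂, sqU⟩ := exists_pullback_of_diag (IsAlgSpace.yon_obj V).diag
    ((yon S).map h) ((yon S).map k)
  have hpb := isPullback_left (isPullback_of_yon sqU)
  let e' : (yon S).obj U' ⟶ R := hlR.lift ((yon S).map l₁ ≫ c) ((yon S).map l₂)
    (by rw [Category.assoc, ← hh]; exact sqU.w)
  have he' : IsPullback e' ((yon S).map l₁) lR c := by
    refine IsPullback.of_right ?_ (hlR.lift_fst _ _ _) hlR.flip
    rw [hlR.lift_snd, ← hh]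
    exact sqU.flip
  have hS : ∀ u ∈ F, {s : ↥U'.left | l₁.left s = u ∧ l₂.left s = t₀}.Finite := by
    intro u hu
    obtain ⟨W', huW, hlqf, -⟩ := (Groth.AlgSp3.nbhd_lqf_iff_fibreDimAt h.left u).2 (hFd u hu)
    obtain ⟨B, hB, huB, hBW⟩ :=
      exists_isAffineOpen_mem_and_subset (X := U.left) (x := u) (U := W') huW
    have : IsAffine (B : Scheme) := hB
    have : LocallyQuasiFinite (B.ι ≫ h.left) := by
      rw [← U.left.homOfLE_ι (show B ≤ W' from hBW), Category.assoc]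
      have := hlqf
      infer_instance
    have hsq : IsPullback ((l₁.left ⁻¹ᵁ B).ι ≫ l₂.left) (l₁.left ∣_ B) k.left (B.ι ≫ h.left) :=
      ((isPullback_morphismRestrict l₁.left B).flip.paste_horiz hpb.flip)
    have : LocallyQuasiFinite ((l₁.left ⁻¹ᵁ B).ι ≫ l₂.left) :=
      MorphismProperty.of_isPullback (P := @LocallyQuasiFinite) hsq.flip ‹_›
    have : QuasiCompact ((l₁.left ⁻¹ᵁ B).ι ≫ l₂.left) :=
      MorphismProperty.of_isPullback (P := @QuasiCompact) hsq.flip inferInstance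
    refine ((((l₁.left ⁻¹ᵁ B).ι ≫ l₂.left).finite_preimage_singleton t₀).image
      (l₁.left ⁻¹ᵁ B).ι).subset fun s ⟨hs₁, hs₂⟩ => ?_
    exact ⟨⟨s, show l₁.left s ∈ B by rw [hs₁]; exact huB⟩, hs₂, rfl⟩
  refine ((hF.biUnion hS).image (AlgSp.Points.ofPt (e' ≫ r₁))).subset fun w ⟨hwx, hwz⟩ => ?_
  obtain ⟨ω, hω₁, hω₂⟩ := exists_point_of_isPullback sqR w (AlgSp.Points.ofScheme T₀ t₀) (by
    rw [hwz, ← ofPt_eq_map, ← hτ₁, ← AlgSp.Points.map_ofPt])
  obtain ⟨u, hu⟩ := surjective_ofPt_of_repWith hcs (AlgSp.Points.map lR ω)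
  obtain ⟨s, hs, hs'⟩ := exists_point_of_isPullback he' ω _ (hu.symm.trans (ofPt_eq_map c u))
  obtain ⟨s', rfl⟩ := (AlgSp.Points.schemeHomeo U').surjective s
  have hl₁ : l₁.left s' = u :=
    (AlgSp.Points.schemeHomeo U).injective ((AlgSp.Points.map_yon_map_apply l₁ s').symm.trans hs')
  have hl₂ : l₂.left s' = t₀ := by
    refine (AlgSp.Points.schemeHomeo T₀).injective ((AlgSp.Points.map_yon_map_apply l₂ s').symm.trans ?_)
    rw [← hlR.lift_snd ((yon S).map l₁ ≫ c) ((yon S).map l₂) (by rw [Category.assoc, ← hh]; exact sqU.w),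
      AlgSp.Points.map_comp]
    exact (congrArg _ hs).trans hω₂
  refine ⟨s', Set.mem_biUnion (x := u) ⟨?_, ?_⟩ ⟨hl₁, hl₂⟩, ?_⟩
  · rw [← hl₁, ← Scheme.Hom.comp_apply, hpb.w, Scheme.Hom.comp_apply, hl₂, hkv]
  · rw [← AlgSp.Points.map_ofPt, hu, ← AlgSp.Points.map_comp, sqP.lift_fst, AlgSp.Points.map_comp,
      hω₁, hwx]
  · rw [← hω₁, ← hs, ofPt_eq_map, AlgSp.Points.map_comp]
    rfl

end Groth.AlgSpBasic
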