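import Groth.Agent.AlgSpBasic.DecentClosedImm
import Groth.Agent.AlgSpBasic.OverField
import Groth.Agent.AlgSp2.SmoothDescent
import Groth.Agent.AlgSp2.FppfProps
import Groth.Agent.AlgSp2.InfSmallExt
import Groth.Agent.S0116

/-!
# Spaces with one point: charts are zero-dimensional reduced schemes
-/

set_option autoImplicit false
set_option backward.isDefEq.respectTransparency.types false
universe u

open CategoryTheory CategoryTheory.Limits AlgebraicGeometry Opposite TopologicalSpace AlgSp

namespace Groth.AlgSpBasic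

section Scheme

variable {A B : Scheme.{u}}

/-- All local rings are fields. -/
def FieldStalks (B : Scheme.{u}) : Prop := ∀ b : B, IsField ↥(B.presheaf.stalk b)

theorem flat_of_isField_stalk (f : A ⟶ B) (h : ∀ a, IsField ↥(B.presheaf.stalk (f a))) : Flat f := by
  rw [Flat.iff_flat_stalkMap]
  intro a
  let := (h a).toField
  let := (f.stalkMap a).hom.toAlgebra
  show Module.Flat _ _
  infer_instance

theorem flat_of_fieldStalks (f : A ⟶ B) (h : FieldStalks B) : Flat f :=
  flat_of_isField_stalk f fun a => h (f a)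

theorem isClosed_singleton_of_fieldStalks (h : FieldStalks B) (b : B) : IsClosed ({b} : Set B) := by
  rw [← closure_subset_iff_isClosed]
  intro z hz
  exact (eq_of_specializes_of_ringKrullDim_eq_zero (ringKrullDim_eq_zero_of_isField (h z)) b
    (specializes_iff_mem_closure.2 hz)).symm

theorem isReduced_of_fieldStalks (h : FieldStalks B) : IsReduced B := by
  have : ∀ b : B, _root_.IsReduced ↥(B.presheaf.stalk b) := fun b => by
    have := (h b).isDomain
    infer_instance
  exact isReduced_of_isReduced_stalk B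

/-- Schemes etale over a field have field stalks. -/
theorem fieldStalks_of_etale {k : Type u} [Field k] (f : A ⟶ Spec (CommRingCat.of k)) [Etale f] :
    FieldStalks A := by
  intro a
  have : IsReduced A := Groth.AlgSp2.isReduced_of_smooth_morphism f
  have h : ringKrullDim ↥(A.presheaf.stalk a) = 0 := by
    refine (etaleInvariant_ringKrullDim f a).trans ?_
    dsimp only
    rw [ringKrullDim_stalk_eq_coheight,
      show Order.coheight (f a) = 0 from Order.coheight_eq_zero.2 fun y _ =>
        le_of_eq (Subsingleton.elim (α := ↥(Spec (CommRingCat.of k))) y (f a))]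
    rfl
  have : Ring.KrullDimLE 0 ↥(A.presheaf.stalk a) :=
    (Ring.krullDimLE_iff).2 (by rw [h]; rfl)
  exact Ring.KrullDimLE.isField_of_isReduced

/-- Field stalks descend along flat surjections. -/
theorem fieldStalks_of_flat_surjective (f : A ⟶ B) [Flat f] [Surjective f] (h : FieldStalks A) :
    FieldStalks B := by
  intro b
  obtain ⟨a, rfl⟩ := f.surjective b
  let := (h a).toField
  algebraize [(f.stalkMap a).hom]
  have hfl : Module.Flat ↥(B.presheaf.stalk (f a)) ↥(A.presheaf.stalk a) :=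
    (Flat.iff_flat_stalkMap f).1 ‹Flat f› a
  have : IsLocalHom (algebraMap ↥(B.presheaf.stalk (f a)) ↥(A.presheaf.stalk a)) :=
    inferInstanceAs (IsLocalHom (f.stalkMap a).hom)
  have : Module.FaithfullyFlat ↥(B.presheaf.stalk (f a)) ↥(A.presheaf.stalk a) :=
    Module.FaithfullyFlat.of_flat_of_isLocalHom
  by_contra hnf
  obtain ⟨P, hP, hPp⟩ := Ring.not_isField_iff_exists_prime.1 hnf
  obtain ⟨x, hx, hx0⟩ := Submodule.exists_mem_ne_zero_of_ne_bot hP
  refine hx0 (FaithfulSMul.algebraMap_injective ↥(B.presheaf.stalk (f a)) ↥(A.presheaf.stalk a) ?_)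
  rw [map_zero]
  by_contra hne
  have hu : IsUnit x := (isUnit_map_iff (algebraMap ↥(B.presheaf.stalk (f a)) ↥(A.presheaf.stalk a)) x).1
    (isUnit_iff_ne_zero.2 hne)
  exact hPp.ne_top (Ideal.eq_top_of_isUnit_mem _ hx hu)

end Scheme

variable {S : Scheme.{u}} {Z : Sp S}

/-- The space receives a flat surjection from the spectrum of a field. -/
def HasFlatPoint (Z : Sp S) : Prop :=
  ∃ (k : Type u) (_ : Field k) (str : Spec (CommRingCat.of k) ⟶ S)
    (p : (yon S).obj (Over.mk str) ⟶ Z), LocP @Flat p ∧ IsSurjectiveMor p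

theorem points_of_hasFlatPoint (h : HasFlatPoint Z) :
    Nonempty (AlgSp.Points Z) ∧ Subsingleton (AlgSp.Points Z) := by
  obtain ⟨k, _, str, p, -, hs⟩ := h
  let e := AlgSp.Points.schemeEquiv (Over.mk str)
  refine ⟨⟨AlgSp.Points.map p (e (default : ↥(Spec (CommRingCat.of k))))⟩, ⟨fun y z => ?_⟩⟩
  obtain ⟨a, rfl⟩ := hs y
  obtain ⟨b, rfl⟩ := hs z
  obtain ⟨a, rfl⟩ := e.surjective a
  obtain ⟨b, rfl⟩ := e.surjective b
  exact congrArg _ (congrArg e (Subsingleton.elim (α := ↥(Spec (CommRingCat.of k))) a b))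

theorem fieldStalks_chart (hZ : IsAlgSpace Z) (h : HasFlatPoint Z) {U : Over S}
    {a : (yon S).obj U ⟶ Z} (ha : RepWith @Etale a) : FieldStalks U.left := by
  obtain ⟨k, _, str, p, hf, hs⟩ := h
  obtain ⟨Q, qU, qk, sq⟩ := exists_pullback_yon ha.rep p
  have : Etale qk.left := ha.property _ _ _ sq
  have hflat : Flat qU.left := hf ((yon S).map qk) a qU ((repWith_yon_map_iff _ qk).2 ‹_›) ha sq.w.symm
  have hsurj : Surjective qU.left := ⟨fun u => by
    obtain ⟨z, hz⟩ := hs (AlgSp.Points.ofPt a u)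
    obtain ⟨c, rfl⟩ := (AlgSp.Points.schemeEquiv (Over.mk str)).surjective z
    obtain ⟨q, hq, -⟩ := (ofPt_eq_ofPt_iff sq u c).1 ((ofPt_eq_map p c).trans hz).symm
    exact ⟨q, hq⟩⟩
  exact fieldStalks_of_flat_surjective qU.left (fieldStalks_of_etale (k := k) qk.left)

theorem repWith_flat_of_etale {F G : Sp S} {f : F ⟶ G} (h : RepWith @Etale f) : RepWith @Flat f :=
  repWith_mono (P := @Etale) (Q := @Flat) (fun _ _ φ (_ : Etale φ) => inferInstance) h

theorem isSurjectiveMor_of_subsingleton [Subsingleton (AlgSp.Points Z)] {k : Type u} [Field k]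
    {str : Spec (CommRingCat.of k) ⟶ S} (q : (yon S).obj (Over.mk str) ⟶ Z) : IsSurjectiveMor q :=
  fun _ => ⟨AlgSp.Points.ofScheme (Over.mk str) (default : ↥(Spec (CommRingCat.of k))),
    Subsingleton.elim _ _⟩

/-- A reduced one-point space receives a flat surjection from a field. -/
theorem hasFlatPoint_of_reduced (hZ : IsAlgSpace Z) (hr : IsReducedSp Z) [Nonempty (AlgSp.Points Z)]
    [Subsingleton (AlgSp.Points Z)] : HasFlatPoint Z := by
  obtain ⟨U, a, ha, has, hU⟩ := hr
  have : IsReduced U.left := hU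
  obtain ⟨x⟩ := ‹Nonempty (AlgSp.Points Z)›
  obtain ⟨u₀, -⟩ := surjective_ofPt_of_repWith has x
  obtain ⟨w, -, hw⟩ := exists_ringKrullDim_stalk_eq_zero (⊤ : U.left.Opens) ⟨u₀, trivial⟩
  have : Ring.KrullDimLE 0 ↥(U.left.presheaf.stalk w) :=
    (Ring.krullDimLE_iff).2 (by rw [hw]; rfl)
  have hfield : IsField ↥(U.left.presheaf.stalk w) := Ring.KrullDimLE.isField_of_isReduced
  let j : Over.mk (U.left.fromSpecResidueField w ≫ U.hom) ⟶ U :=
    Over.homMk (U.left.fromSpecResidueField w) rfl
  have : Flat j.left := flat_of_isField_stalk _ fun c => by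
    show IsField ↥(U.left.presheaf.stalk ((U.left.fromSpecResidueField w) c))
    rw [show (U.left.fromSpecResidueField w) c = w from Scheme.fromSpecResidueField_apply _ _]
    exact hfield
  exact ⟨U.left.residueField w, inferInstance, _, (yon S).map j ≫ a,
    locP_of_repWith (repWith_comp ((repWith_yon_map_iff _ j).2 ‹_›) (repWith_flat_of_etale ha)),
    isSurjectiveMor_of_subsingleton _⟩

theorem locP_flat_of_hasFlatPoint (hZ : IsAlgSpace Z) (h : HasFlatPoint Z) {F : Sp S} (q : F ⟶ Z) :
    LocP @Flat q :=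
  fun _ _ _ _ g _ hb _ => flat_of_fieldStalks g.left (fieldStalks_chart hZ h hb)

theorem isReducedSp_of_hasFlatPoint (hZ : IsAlgSpace Z) (h : HasFlatPoint Z) : IsReducedSp Z := by
  obtain ⟨U, a, ha, has⟩ := hZ.atlas
  exact ⟨U, a, ha, has, isReduced_of_fieldStalks (fieldStalks_chart hZ h ha)⟩

/-- With a flat point the residue points of a chart are closed immersions. -/
theorem exists_closedImmersion_point (hZ : IsAlgSpace Z) (h : HasFlatPoint Z) :
    ∃ (U : Over S) (a : (yon S).obj U ⟶ Z) (u : ↥U.left), RepWith @Etale a ∧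
      RepWith @Surjective a ∧ IsClosedImmersion (U.left.fromSpecResidueField u) := by
  obtain ⟨U, a, ha, has⟩ := hZ.atlas
  obtain ⟨⟨x⟩, -⟩ := points_of_hasFlatPoint h
  obtain ⟨u, -⟩ := surjective_ofPt_of_repWith has x
  exact ⟨U, a, u, ha, has, isClosed_singleton_iff_isClosedImmersion.1
    (isClosed_singleton_of_fieldStalks (fieldStalks_chart hZ h ha) u)⟩

theorem exists_lft_flatPoint (hZ : IsAlgSpace Z) (h : HasFlatPoint Z) :
    ∃ (k' : Type u) (_ : Field k') (str' : Spec (CommRingCat.of k') ⟶ S)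
      (q : (yon S).obj (Over.mk str') ⟶ Z),
      LocP @LocallyOfFiniteType q ∧ LocP @Flat q ∧ IsSurjectiveMor q := by
  obtain ⟨U, a, u, ha, -, hu⟩ := exists_closedImmersion_point hZ h
  have := (points_of_hasFlatPoint h).2
  let j : Over.mk (U.left.fromSpecResidueField u ≫ U.hom) ⟶ U :=
    Over.homMk (U.left.fromSpecResidueField u) rfl
  have : LocallyOfFiniteType j.left := inferInstanceAs (LocallyOfFiniteType (U.left.fromSpecResidueField u))
  exact ⟨U.left.residueField u, inferInstance, _, (yon S).map j ≫ a,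
    locP_of_repWith (repWith_comp ((repWith_yon_map_iff _ j).2 ‹_›)
      (repWith_mono (P := @Etale) (Q := @LocallyOfFiniteType)
        (fun _ _ φ (_ : Etale φ) => inferInstance) ha)),
    locP_flat_of_hasFlatPoint hZ h _, isSurjectiveMor_of_subsingleton _⟩

theorem exists_lfp_flatPoint (hZ : IsAlgSpace Z) (h : HasFlatPoint Z) (hN : IsLocNoethSp Z) :
    ∃ (k' : Type u) (_ : Field k') (str' : Spec (CommRingCat.of k') ⟶ S)
      (q : (yon S).obj (Over.mk str') ⟶ Z),
      LocP @LocallyOfFinitePresentation q ∧ LocP @Flat q ∧ IsSurjectiveMor q := by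
  obtain ⟨U, a, u, ha, -, hu⟩ := exists_closedImmersion_point hZ h
  have : IsLocallyNoetherian U.left := Groth.AlgSp2.isLocallyNoetherian_of_etale hZ hN ha
  have := (points_of_hasFlatPoint h).2
  let j : Over.mk (U.left.fromSpecResidueField u ≫ U.hom) ⟶ U :=
    Over.homMk (U.left.fromSpecResidueField u) rfl
  have : LocallyOfFinitePresentation j.left :=
    inferInstanceAs (LocallyOfFinitePresentation (U.left.fromSpecResidueField u))
  exact ⟨U.left.residueField u, inferInstance, _, (yon S).map j ≫ a,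
    locP_of_repWith (repWith_comp ((repWith_yon_map_iff _ j).2 ‹_›)
      (repWith_mono (P := @Etale) (Q := @LocallyOfFinitePresentation)
        (fun _ _ φ (_ : Etale φ) => inferInstance) ha)),
    locP_flat_of_hasFlatPoint hZ h _, isSurjectiveMor_of_subsingleton _⟩

theorem isLocNoethSp_of_lfp_flatPoint (hZ : IsAlgSpace Z) {k : Type u} [Field k]
    {str : Spec (CommRingCat.of k) ⟶ S} {p : (yon S).obj (Over.mk str) ⟶ Z}
    (hfp : LocP @LocallyOfFinitePresentation p) (hf : LocP @Flat p) (hs : IsSurjectiveMor p) :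
    IsLocNoethSp Z := by
  obtain ⟨U, a, ha, has⟩ := hZ.atlas
  obtain ⟨Q, qU, qk, sq⟩ := exists_pullback_yon ha.rep p
  have : Etale qk.left := ha.property _ _ _ sq
  have : Flat qU.left := hf ((yon S).map qk) a qU ((repWith_yon_map_iff _ qk).2 ‹_›) ha sq.w.symm
  have : LocallyOfFinitePresentation qU.left :=
    hfp ((yon S).map qk) a qU ((repWith_yon_map_iff _ qk).2 ‹_›) ha sq.w.symm
  have : Surjective qU.left := ⟨fun u => by
    obtain ⟨z, hz⟩ := hs (AlgSp.Points.ofPt a u)
    obtain ⟨c, rfl⟩ := (AlgSp.Points.schemeEquiv (Over.mk str)).surjective z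
    obtain ⟨q, hq, -⟩ := (ofPt_eq_ofPt_iff sq u c).1 ((ofPt_eq_map p c).trans hz).symm
    exact ⟨q, hq⟩⟩
  have : IsLocallyNoetherian (Spec (CommRingCat.of k)) := inferInstance
  have : IsLocallyNoetherian Q.left :=
    LocallyOfFiniteType.isLocallyNoetherian (Y := Spec (CommRingCat.of k)) qk.left
  exact ⟨U, a, ha, has, Groth.Agent.S0116.result qU.left⟩

end Groth.AlgSpBasic
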