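import Groth.Prelude.Def_AlgSpRep

/-!
# Presheaves representable over sheaves
-/

set_option autoImplicit false
universe u

open CategoryTheory CategoryTheory.Limits AlgebraicGeometry Opposite AlgSp

namespace Groth.AlgSpBasic

variable {S : Scheme.{u}} {F G : PSp S}

/-- The Yoneda lemma for presheaves. -/
abbrev pEquiv {U : Over S} {F : PSp S} : ((pyon S).obj U ⟶ F) ≃ F.obj (op U) :=
  CategoryTheory.uliftYonedaEquiv.{u + 1}

theorem pEquiv_symm_map {U V : Over S} (i : V ⟶ U) (x : F.obj (op U)) :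
    pEquiv.symm (F.map i.op x) = (pyon S).map i ≫ pEquiv.symm x :=
  CategoryTheory.uliftYonedaEquiv_symm_map i.op x

theorem pEquiv_symm_app (a : F ⟶ G) {U : Over S} (x : F.obj (op U)) :
    pEquiv.symm (a.app (op U) x) = pEquiv.symm x ≫ a :=
  (CategoryTheory.uliftYonedaEquiv_symm_comp x a).symm

theorem isSheaf_of_relativelyRepresentable (a : F ⟶ G) (ha : (pyon S).relativelyRepresentable a)
    (hG : Presheaf.IsSheaf (J S) G) : Presheaf.IsSheaf (J S) F := by
  rw [isSheaf_iff_isSheaf_of_type] at hG ⊢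
  have hY : ∀ W : Over S, Presieve.IsSheaf (J S) ((pyon S).obj W) := fun W =>
    (isSheaf_iff_isSheaf_of_type _ _).1 ((yon S).obj W).property
  intro U R hR x hx
  obtain ⟨y, hy, hyu⟩ := hG R hR (fun V i hi => a.app _ (x i hi)) (hx.map a)
  obtain ⟨W, snd, fst, sq⟩ := ha (pEquiv.symm y)
  have hl : ∀ ⦃V : Over S⦄ (i : V ⟶ U) (hi : R i),
      pEquiv.symm (x i hi) ≫ a = (pyon S).map i ≫ pEquiv.symm y := fun V i hi => by
    rw [← pEquiv_symm_app, ← pEquiv_symm_map]
    exact congrArg pEquiv.symm (hy i hi).symm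
  choose l hl₁ using fun V (i : V ⟶ U) (hi : R i) =>
    (pyon S).map_surjective (sq.lift _ _ (hl i hi))
  have l_fst : ∀ V (i : V ⟶ U) (hi : R i), (pyon S).map (l V i hi) ≫ fst = pEquiv.symm (x i hi) :=
    fun V i hi => by rw [hl₁, sq.lift_fst]
  have l_snd : ∀ V (i : V ⟶ U) (hi : R i), l V i hi ≫ snd = i := fun V i hi =>
    (pyon S).map_injective (by rw [Functor.map_comp, hl₁, sq.lift_snd])
  let z : Presieve.FamilyOfElements ((pyon S).obj W) R.arrows := fun V i hi => ⟨l V i hi⟩
  have hz : z.Compatible := by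
    intro Y₁ Y₂ Z g₁ g₂ f₁ f₂ h₁ h₂ e
    apply ULift.ext
    show g₁ ≫ l Y₁ f₁ h₁ = g₂ ≫ l Y₂ f₂ h₂
    apply (pyon S).map_injective
    apply sq.hom_ext
    · rw [Functor.map_comp, Functor.map_comp, Category.assoc, Category.assoc, l_fst, l_fst,
        ← pEquiv_symm_map, ← pEquiv_symm_map]
      exact congrArg pEquiv.symm (hx g₁ g₂ h₁ h₂ e)
    · rw [← Functor.map_comp, ← Functor.map_comp, Category.assoc, Category.assoc, l_snd, l_snd, e]
  obtain ⟨⟨w⟩, hw, hwu⟩ := hY W R hR z hz
  have hw' : ∀ V (i : V ⟶ U) (hi : R i), i ≫ w = l V i hi := fun V i hi =>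
    congrArg ULift.down (hw i hi)
  have hws : w ≫ snd = 𝟙 U :=
    congrArg ULift.down ((hY U).isSeparated R hR |>.ext
      (t₁ := (⟨w ≫ snd⟩ : ULift.{u + 1} (U ⟶ U))) (t₂ := ⟨𝟙 U⟩) fun {V} i hi => ULift.ext _ _
        (show i ≫ w ≫ snd = i ≫ 𝟙 U by rw [← Category.assoc, hw' V i hi, l_snd, Category.comp_id]))
  refine ⟨pEquiv ((pyon S).map w ≫ fst), fun V i hi => ?_, fun t' ht' => ?_⟩
  · apply pEquiv.symm.injective
    rw [pEquiv_symm_map, Equiv.symm_apply_apply, ← Category.assoc, ← Functor.map_comp, hw', l_fst]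
  · have hga : a.app (op U) t' = y := hyu _ fun V i hi => by
      refine (ConcreteCategory.congr_hom (a.naturality i.op) t').symm.trans ?_
      exact congrArg (a.app (op V)) (ht' i hi)
    have e : pEquiv.symm t' ≫ a = (pyon S).map (𝟙 U) ≫ pEquiv.symm y := by
      rw [← pEquiv_symm_app, hga, (pyon S).map_id, Category.id_comp]
    obtain ⟨w', hw''⟩ := (pyon S).map_surjective (sq.lift _ _ e)
    have : (⟨w'⟩ : ULift.{u + 1} (U ⟶ W)) = ⟨w⟩ := hwu _ fun V i hi => by
      apply ULift.ext
      show i ≫ w' = l V i hi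
      apply (pyon S).map_injective
      apply sq.hom_ext
      · rw [l_fst, Functor.map_comp, Category.assoc, hw'', sq.lift_fst, ← pEquiv_symm_map]
        exact congrArg pEquiv.symm (ht' i hi)
      · rw [← Functor.map_comp, ← Functor.map_comp, l_snd, Category.assoc]
        have : w' ≫ snd = 𝟙 U :=
          (pyon S).map_injective (by rw [Functor.map_comp, hw'', sq.lift_snd])
        rw [this, Category.comp_id]
    apply pEquiv.symm.injective
    have hww : w' = w := congrArg ULift.down this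
    rw [Equiv.symm_apply_apply, ← hww, hw'', sq.lift_fst]

theorem relativelyRepresentable_diagonal (a : F ⟶ G) (ha : (pyon S).relativelyRepresentable a) :
    (pyon S).relativelyRepresentable (pullback.diagonal a) := by
  intro U g
  have e : (g ≫ pullback.fst a a) ≫ a = (g ≫ pullback.snd a a) ≫ a := by
    rw [Category.assoc, Category.assoc, pullback.condition]
  obtain ⟨W, snd, fst, sq⟩ := ha ((g ≫ pullback.fst a a) ≫ a)
  obtain ⟨σ₁, h₁⟩ := (pyon S).map_surjective
    (sq.lift (g ≫ pullback.fst a a) (𝟙 _) (Category.id_comp _).symm)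
  obtain ⟨σ₂, h₂⟩ := (pyon S).map_surjective
    (sq.lift (g ≫ pullback.snd a a) (𝟙 _) (by rw [Category.id_comp, e]))
  let ι := equalizer.ι σ₁ σ₂
  have hlim := isLimitForkMapOfIsLimit (pyon S) (equalizer.condition σ₁ σ₂) (equalizerIsEqualizer σ₁ σ₂)
  have hι : (pyon S).map ι ≫ (g ≫ pullback.fst a a) = (pyon S).map ι ≫ (g ≫ pullback.snd a a) := by
    have := congrArg (fun k => (pyon S).map k ≫ fst) (equalizer.condition σ₁ σ₂)
    simp only [Functor.map_comp, Category.assoc, h₁, h₂, IsPullback.lift_fst] at this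
    exact this
  refine ⟨equalizer σ₁ σ₂, ι, (pyon S).map ι ≫ (g ≫ pullback.fst a a), ⟨?_⟩,
    ⟨PullbackCone.IsLimit.mk _
      (fun c => Fork.IsLimit.lift hlim c.snd ?_) ?_ ?_ ?_⟩⟩
  · apply pullback.hom_ext
    · rw [Category.assoc, pullback.diagonal_fst, Category.comp_id, Category.assoc]
    · rw [Category.assoc, pullback.diagonal_snd, Category.comp_id, hι, Category.assoc]
  · have hc₁ := c.condition =≫ pullback.fst a a
    have hc₂ := c.condition =≫ pullback.snd a a
    rw [Category.assoc, pullback.diagonal_fst, Category.comp_id] at hc₁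
    rw [Category.assoc, pullback.diagonal_snd, Category.comp_id] at hc₂
    apply sq.hom_ext
    · rw [Category.assoc, Category.assoc, h₁, h₂, sq.lift_fst, sq.lift_fst, ← Category.assoc,
        ← hc₁, hc₂, Category.assoc]
    · rw [Category.assoc, Category.assoc, h₁, h₂, sq.lift_snd, sq.lift_snd]
  · intro c
    have hc₁ := c.condition =≫ pullback.fst a a
    rw [Category.assoc, pullback.diagonal_fst, Category.comp_id] at hc₁
    refine ((Category.assoc _ _ _).symm.trans (congrArg (· ≫ (g ≫ pullback.fst a a))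
      (Fork.IsLimit.lift_ι' hlim _ _))).trans ?_
    rw [hc₁, Category.assoc]
  · intro c; exact Fork.IsLimit.lift_ι' hlim _ _
  · intro c m _ hm
    apply Fork.IsLimit.hom_ext hlim
    exact hm.trans (Fork.IsLimit.lift_ι' hlim _ _).symm

end Groth.AlgSpBasic
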