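import Groth.Agent.AlgSpBasic.Quotient

/-!
# Restriction of quotient sheaves along flat maps
-/

set_option autoImplicit false
set_option backward.isDefEq.respectTransparency.types false
universe u

open CategoryTheory CategoryTheory.Limits AlgebraicGeometry Opposite AlgSp

namespace Groth.AlgSpBasic

noncomputable section

variable {S : Scheme.{u}}

theorem yon_prod_hom_ext {A B : Over S} {Z : Sp S} {a b : Z ⟶ (yon S).obj (A ⨯ B)}
    (h₁ : a ≫ (yon S).map prod.fst = b ≫ (yon S).map prod.fst)
    (h₂ : a ≫ (yon S).map prod.snd = b ≫ (yon S).map prod.snd) : a = b := by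
  rw [← cancel_mono (prodComparison (yon S) A B)]
  apply prod.hom_ext
  · rwa [Category.assoc, Category.assoc, prodComparison_fst]
  · rwa [Category.assoc, Category.assoc, prodComparison_snd]

theorem isPullback_restrict {F : Sp S} {R U R' U' : Over S} {s t : R ⟶ U} {π : (yon S).obj U ⟶ F}
    (sq : IsPullback ((yon S).map t) ((yon S).map s) π π)
    {g : U' ⟶ U} {s' t' : R' ⟶ U'} {r : R' ⟶ R}
    (hsq : IsPullback (prod.lift t' s') r (prod.map g g) (prod.lift t s)) :
    IsPullback ((yon S).map t') ((yon S).map s') ((yon S).map g ≫ π) ((yon S).map g ≫ π) := by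
  have hsq' := hsq.map (yon S)
  have ht : r ≫ t = t' ≫ g := by
    have := hsq.w =≫ prod.fst
    rw [Category.assoc, Category.assoc, prod.map_fst, prod.lift_fst, prod.lift_fst_assoc] at this
    exact this.symm
  have hs : r ≫ s = s' ≫ g := by
    have := hsq.w =≫ prod.snd
    rw [Category.assoc, Category.assoc, prod.map_snd, prod.lift_snd, prod.lift_snd_assoc] at this
    exact this.symm
  have w : (yon S).map t' ≫ (yon S).map g ≫ π = (yon S).map s' ≫ (yon S).map g ≫ π := by
    rw [← Category.assoc, ← Category.assoc, ← Functor.map_comp, ← Functor.map_comp, ← ht, ← hs,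
      Functor.map_comp, Functor.map_comp, Category.assoc, Category.assoc, sq.w]
  have e₁ : (yon S).map t' = (yon S).map (prod.lift t' s') ≫ (yon S).map prod.fst := by
    rw [← Functor.map_comp, prod.lift_fst]
  have e₂ : (yon S).map s' = (yon S).map (prod.lift t' s') ≫ (yon S).map prod.snd := by
    rw [← Functor.map_comp, prod.lift_snd]
  refine ⟨⟨w⟩, ⟨PullbackCone.IsLimit.mk _
    (fun c => hsq'.lift (prod.lift c.fst c.snd ≫ inv (prodComparison (yon S) U' U'))
      (sq.lift (c.fst ≫ (yon S).map g) (c.snd ≫ (yon S).map g)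
        (by simpa only [Category.assoc] using c.condition)) ?_) ?_ ?_ ?_⟩⟩
  · apply yon_prod_hom_ext
    · simp only [Category.assoc, ← Functor.map_comp, prod.map_fst, prod.lift_fst, sq.lift_fst]
      simp only [Functor.map_comp, ← Category.assoc]
      congr 1
      simp only [Category.assoc]
      rw [← prodComparison_fst, IsIso.inv_hom_id_assoc, prod.lift_fst]
    · simp only [Category.assoc, ← Functor.map_comp, prod.map_snd, prod.lift_snd, sq.lift_snd]
      simp only [Functor.map_comp, ← Category.assoc]
      congr 1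
      simp only [Category.assoc]
      rw [← prodComparison_snd, IsIso.inv_hom_id_assoc, prod.lift_snd]
  · intro c
    refine (congrArg (_ ≫ ·) e₁).trans ?_
    rw [← Category.assoc, hsq'.lift_fst,
      Category.assoc, ← prodComparison_fst, IsIso.inv_hom_id_assoc, prod.lift_fst]
  · intro c
    refine (congrArg (_ ≫ ·) e₂).trans ?_
    rw [← Category.assoc, hsq'.lift_fst,
      Category.assoc, ← prodComparison_snd, IsIso.inv_hom_id_assoc, prod.lift_snd]
  · intro c m h₁ h₂
    apply hsq'.hom_ext
    · rw [hsq'.lift_fst]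
      apply yon_prod_hom_ext
      · rw [Category.assoc, Category.assoc, ← Functor.map_comp, prod.lift_fst, h₁,
          ← prodComparison_fst, IsIso.inv_hom_id_assoc, prod.lift_fst]
      · rw [Category.assoc, Category.assoc, ← Functor.map_comp, prod.lift_snd, h₂,
          ← prodComparison_snd, IsIso.inv_hom_id_assoc, prod.lift_snd]
    · rw [hsq'.lift_snd]
      apply sq.hom_ext
      · rw [sq.lift_fst, Category.assoc, ← Functor.map_comp, ht, Functor.map_comp, ← Category.assoc, h₁]
      · rw [sq.lift_snd, Category.assoc, ← Functor.map_comp, hs, Functor.map_comp, ← Category.assoc, h₂]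

/-- A map out of a quotient which has the same kernel pair is a monomorphism. -/
theorem mono_of_kernelPair {F F' V : Sp S} {π : V ⟶ F'} [Sheaf.IsLocallySurjective π] {φ : F' ⟶ F}
    {K : Sp S} {t s : K ⟶ V} (sq : IsPullback t s (π ≫ φ) (π ≫ φ)) (w : t ≫ π = s ≫ π) :
    Mono φ := by
  constructor
  intro Z a b e
  have ha : Sheaf.IsLocallySurjective (pullback.snd π a) :=
    isLocallySurjective_of_isPullback (IsPullback.of_hasPullback π a)
  have hb : Sheaf.IsLocallySurjective (pullback.snd π (pullback.snd π a ≫ b)) :=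
    isLocallySurjective_of_isPullback (IsPullback.of_hasPullback π _)
  have := (Sheaf.isLocallySurjective_iff_epi _).1 ha
  have := (Sheaf.isLocallySurjective_iff_epi _).1 hb
  rw [← cancel_epi (pullback.snd π a), ← cancel_epi (pullback.snd π (pullback.snd π a ≫ b))]
  let x := pullback.snd π (pullback.snd π a ≫ b) ≫ pullback.fst π a
  let y := pullback.fst π (pullback.snd π a ≫ b)
  have hx : x ≫ π = pullback.snd π (pullback.snd π a ≫ b) ≫ pullback.snd π a ≫ a := by
    simp only [x, Category.assoc, pullback.condition]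
  have hy : y ≫ π = pullback.snd π (pullback.snd π a ≫ b) ≫ pullback.snd π a ≫ b := pullback.condition
  have e' : x ≫ π ≫ φ = y ≫ π ≫ φ := by
    rw [← Category.assoc, ← Category.assoc y, hx, hy]
    simp only [Category.assoc, e]
  rw [← hx, ← hy]
  conv_lhs => rw [← sq.lift_fst x y e']
  conv_rhs => rw [← sq.lift_snd x y e']
  simp only [Category.assoc, w]

/-- Uniqueness of epi-mono factorizations. -/
theorem exists_iso_of_factorizations {A B C D : Sp S} {c : A ⟶ B} [Sheaf.IsLocallySurjective c]
    {m : B ⟶ D} [Mono m] {e : A ⟶ C} [Sheaf.IsLocallySurjective e] {n : C ⟶ D} [Mono n]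
    (h : c ≫ m = e ≫ n) : ∃ i : B ≅ C, i.hom ≫ n = m := by
  have := (Sheaf.isLocallySurjective_iff_epi c).1 inferInstance
  have := (Sheaf.isLocallySurjective_iff_epi e).1 inferInstance
  have : StrongEpi c := strongEpi_of_epi c
  have : StrongEpi e := strongEpi_of_epi e
  have sq₁ : CommSq e c n m := ⟨h.symm⟩
  have sq₂ : CommSq c e m n := ⟨h⟩
  refine ⟨⟨sq₁.lift, sq₂.lift, ?_, ?_⟩, sq₁.fac_right⟩
  · rw [← cancel_mono m, Category.assoc, sq₂.fac_right, sq₁.fac_right, Category.id_comp]
  · rw [← cancel_mono n, Category.assoc, sq₁.fac_right, sq₂.fac_right, Category.id_comp]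

theorem repWith_isOpenImmersion_restrict {R U R' U' : Over S} (s t : R ⟶ U) (g : U' ⟶ U)
    (s' t' : R' ⟶ U') (r : R' ⟶ R)
    (hsq : IsPullback (prod.lift t' s') r (prod.map g g) (prod.lift t s))
    (hR : AlgSp.IsEqvRel s t)
    [Surjective s.left] [Flat s.left] [LocallyOfFinitePresentation s.left]
    [Flat t.left] [LocallyOfFinitePresentation t.left]
    [Flat g.left] [LocallyOfFinitePresentation g.left]
    (φ : QuotSh.quot Scheme.fppfPrecoverage s' t' ⟶ QuotSh.quot Scheme.fppfPrecoverage s t)
    (hφ : QuotSh.quotπ Scheme.fppfPrecoverage s' t' ≫ φ =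
      QuotSh.repMap Scheme.fppfPrecoverage g ≫ QuotSh.quotπ Scheme.fppfPrecoverage s t) :
    AlgSp.RepWith @IsOpenImmersion φ := by
  let π := yonQuotπ s t
  let π' := yonQuotπ s' t'
  have hπ : Sheaf.IsLocallySurjective π := isLocallySurjective_yonQuotπ s t
  have hπ' : Sheaf.IsLocallySurjective π' := isLocallySurjective_yonQuotπ s' t'
  have hK := isPullback_yonQuot hR
  have comm : π' ≫ φ = (yon S).map g ≫ π := by
    simp only [π, π', yonQuotπ, Category.assoc, hφ]
    rw [← Category.assoc, ← repMap_comp_iso, Category.assoc]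
  have : Mono φ := mono_of_kernelPair (π := π') (φ := φ)
    (by rw [comm]; exact isPullback_restrict hK hsq) (yonQuot_w s' t')
  -- the pullback `U' ×_F U`
  let RW := Over.mk (pullback.snd g.left t.left ≫ R.hom)
  let k₁ : RW ⟶ U' := Over.homMk (pullback.fst g.left t.left) (by
    change _ = pullback.snd g.left t.left ≫ R.hom
    rw [← Over.w g, ← Category.assoc, pullback.condition, Category.assoc, Over.w t])
  let k₂ : RW ⟶ R := Over.homMk (pullback.snd g.left t.left) rfl
  have hRW : IsPullback k₁ k₂ g t :=
    IsPullback.of_map (Over.forget S) (by ext1; exact pullback.condition)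
      (IsPullback.of_hasPullback g.left t.left)
  have hP : IsPullback ((yon S).map k₁) ((yon S).map (k₂ ≫ s)) (π' ≫ φ) π := by
    rw [comm, Functor.map_comp]
    exact ((hRW.map (yon S)).flip.paste_horiz (hK.flip)).flip
  -- its image
  have : Flat k₂.left := inferInstanceAs (Flat (pullback.snd g.left t.left))
  have : LocallyOfFinitePresentation k₂.left :=
    inferInstanceAs (LocallyOfFinitePresentation (pullback.snd g.left t.left))
  let W : U.left.Opens := ⟨Set.range (k₂ ≫ s).left, by
    have : Flat (k₂ ≫ s).left := by rw [Over.comp_left]; infer_instance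
    have : LocallyOfFinitePresentation (k₂ ≫ s).left := by rw [Over.comp_left]; infer_instance
    exact (k₂ ≫ s).left.isOpenMap.isOpen_range⟩
  let WO : Over S := Over.mk (W.ι ≫ U.hom)
  let j : WO ⟶ U := Over.homMk W.ι rfl
  let k : RW ⟶ WO := Over.homMk (IsOpenImmersion.lift W.ι (k₂ ≫ s).left (by
      rw [Scheme.Opens.range_ι]; exact le_refl _)) (by
    change _ ≫ W.ι ≫ U.hom = _
    rw [← Category.assoc, IsOpenImmersion.lift_fac, Over.w])
  have hk : k ≫ j = k₂ ≫ s := by ext1; exact IsOpenImmersion.lift_fac _ _ _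
  have hkl : k.left ≫ W.ι = (k₂ ≫ s).left := IsOpenImmersion.lift_fac _ _ _
  have hcomp : Flat (k.left ≫ W.ι) ∧ LocallyOfFinitePresentation (k.left ≫ W.ι) := by
    rw [hkl, Over.comp_left]; constructor <;> infer_instance
  have : Flat k.left := MorphismProperty.of_postcomp (W := @Flat) (W' := @IsOpenImmersion)
    k.left W.ι inferInstance hcomp.1
  have : LocallyOfFinitePresentation k.left :=
    MorphismProperty.of_postcomp (W := @LocallyOfFinitePresentation) (W' := @IsOpenImmersion)
      k.left W.ι inferInstance hcomp.2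
  have : Surjective k.left := ⟨fun w => by
    obtain ⟨x, hx⟩ := w.2
    refine ⟨x, W.ι.isOpenEmbedding.injective ?_⟩
    rw [← Scheme.Hom.comp_apply, hkl]
    exact hx⟩
  have : Sheaf.IsLocallySurjective ((yon S).map k) := isLocallySurjective_of_repWith _
    ((repWith_yon_map_iff _ k).2 ‹Flat k.left›)
    ((repWith_yon_map_iff _ k).2 ‹LocallyOfFinitePresentation k.left›)
    ((repWith_yon_map_iff _ k).2 ‹Surjective k.left›)
  have : Mono j := (Over.forget S).mono_of_mono_map (inferInstanceAs (Mono W.ι))
  -- compare with the pullback of `φ`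
  have hw : ((yon S).map k₁ ≫ π') ≫ φ = (yon S).map (k₂ ≫ s) ≫ π := by
    rw [Category.assoc]; exact hP.w
  have hc : IsPullback ((yon S).map k₁) (pullback.lift ((yon S).map k₁ ≫ π') ((yon S).map (k₂ ≫ s))
      hw) π' (pullback.fst φ π) :=
    IsPullback.of_bot (by rw [pullback.lift_snd]; exact hP) (pullback.lift_fst _ _ _).symm
      (IsPullback.of_hasPullback φ π)
  have := isLocallySurjective_of_isPullback hc
  obtain ⟨i, hi⟩ := exists_iso_of_factorizations (c := (yon S).map k) (m := (yon S).map j)
    (e := pullback.lift ((yon S).map k₁ ≫ π') ((yon S).map (k₂ ≫ s))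
      hw) (n := pullback.snd φ π)
    (by rw [pullback.lift_snd, ← Functor.map_comp, hk])
  have sqW : IsPullback (i.hom ≫ pullback.fst φ π) ((yon S).map j) φ π :=
    (IsPullback.of_hasPullback φ π).of_iso i.symm (Iso.refl _) (Iso.refl _) (Iso.refl _)
      (by simp) (by simp [← hi]) (by simp) (by simp)
  have : IsOpenImmersion j.left := inferInstanceAs (IsOpenImmersion W.ι)
  exact repWith_of_sepLQF (Q := @IsOpenImmersion) π sqW inferInstance

end

end Groth.AlgSpBasic
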