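import Groth.Agent.AlgSpBasic.FpqcSheaf
import Groth.Agent.AlgSp2.AffineDescentLocal
import Groth.Prelude.Def_AlgSp3
import Groth.Agent.FlatMor2.IndQuasiAffineDescent

/-!
# Spaces which are fpqc locally ind-quasi-affine schemes are schemes
-/

set_option autoImplicit false
set_option backward.isDefEq.respectTransparency.types false
universe u

open CategoryTheory CategoryTheory.Limits AlgebraicGeometry Opposite AlgSp

namespace Groth.AlgSpBasic

noncomputable section

variable {S : Scheme.{u}}

/-- A finite disjoint union of quasi-affine schemes is quasi-affine. -/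
theorem isQuasiAffine_sigma {ι : Type u} [Finite ι] (V : ι → Scheme.{u}) [∀ i, (V i).IsQuasiAffine] :
    (∐ V).IsQuasiAffine := by
  let R : ι → CommRingCat.{u} := fun i => Γ(V i, ⊤)
  haveI : ∀ i, CompactSpace (V i) := fun i => inferInstance
  let j : (∐ V) ⟶ ∐ fun i => Spec (R i) := Limits.Sigma.map fun i => (V i).toSpecΓ
  haveI : IsImmersion j := by
    rw [IsZariskiLocalAtTarget.iff_of_openCover (P := @IsImmersion) (sigmaOpenCover fun i => Spec (R i))]
    intro i
    show IsImmersion (pullback.snd j (Sigma.ι (fun i => Spec (R i)) i))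
    rw [← (Groth.Pi1Desc.isPullback_sigma_map (fun i => (V i).toSpecΓ) i).isoPullback_inv_snd]
    infer_instance
  haveI : CompactSpace (∐ V : Scheme.{u}) := by
    have h : (Set.univ : Set (∐ V : Scheme.{u})) = ⋃ i, Set.range (Sigma.ι V i) := by
      refine (Set.eq_univ_of_forall fun x => ?_).symm
      obtain ⟨i, hi⟩ := Groth.Pi1Desc.opensRange_sigmaι_cover V x
      exact Set.mem_iUnion.2 ⟨i, hi⟩
    exact ⟨h ▸ isCompact_iUnion fun i => isCompact_range (Sigma.ι V i).continuous⟩
  exact .of_isImmersion j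

open Groth.Pi1Desc in
/-- A space over an affine scheme which becomes an ind-quasi-affine scheme after a faithfully flat
base change is representable. -/
theorem exists_iso_of_indQuasiAffine {Q : Sp S} (hQ : IsAlgSpace Q) {Z W V : Over S} [IsAffine Z.left]
    [IsAffine W.left] (c : W ⟶ Z) [Flat c.left] [Surjective c.left] {π : Q ⟶ (yon S).obj Z}
    {vq : (yon S).obj V ⟶ Q} {p : V ⟶ W} (sq : IsPullback vq ((yon S).map p) π ((yon S).map c))
    (hp : MoreMor.IsIndQuasiAffineHom p.left) :
    ∃ (U : Over S) (u : U ⟶ Z) (e : (yon S).obj U ≅ Q) (q : V ⟶ U),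
      e.hom ≫ π = (yon S).map u ∧ IsPullback q.left p.left u.left c.left := by
  haveI : QuasiCompact c.left := (quasiCompact_iff_compactSpace _).2 inferInstance
  haveI : IsCover c.left := inferInstance
  -- uniqueness of points of `V`
  have hext : ∀ {T : Over S} {a b : T ⟶ V}, (yon S).map a ≫ vq = (yon S).map b ≫ vq →
      a.left ≫ p.left = b.left ≫ p.left → a = b := fun {T a b} h₁ h₂ =>
    (yon S).map_injective (sq.hom_ext h₁ (by
      rw [← Functor.map_comp, ← Functor.map_comp]; exact congrArg _ (Over.OverMorphism.ext h₂)))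
  have hlift' : ∀ (T : Over S) (v : T ⟶ V) (x : T ⟶ W), v ≫ p ≫ c = x ≫ c →
      ∃ l : T ⟶ V, (yon S).map l ≫ vq = (yon S).map v ≫ vq ∧ l ≫ p = x := by
    intro T v x hvx
    have hc : ((yon S).map v ≫ vq) ≫ π = (yon S).map x ≫ (yon S).map c := by
      rw [Category.assoc, sq.w, ← Functor.map_comp, ← Functor.map_comp, ← Functor.map_comp, hvx]
    obtain ⟨l, hl⟩ := (yon S).map_surjective (sq.lift _ _ hc)
    exact ⟨l, by rw [hl]; exact sq.lift_fst _ _ hc,
      (yon S).map_injective (by rw [Functor.map_comp, hl]; exact sq.lift_snd _ _ hc)⟩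
  let ov : ∀ {T : Scheme.{u}}, (T ⟶ V.left) → Over S := fun {T} v => Over.mk (v ≫ V.hom)
  have hlift₀ : ∀ (T : Scheme.{u}) (v : T ⟶ V.left) (x : T ⟶ W.left) (h : v ≫ p.left ≫ c.left = x ≫ c.left),
      ∃ l : ov v ⟶ V, (yon S).map l ≫ vq = (yon S).map (Over.homMk v rfl : ov v ⟶ V) ≫ vq ∧ l.left ≫ p.left = x := by
    intro T v x hvx
    let x₁ : ov v ⟶ W := Over.homMk x (by
      show x ≫ W.hom = v ≫ V.hom
      rw [← Over.w p, ← Over.w c, reassoc_of% hvx])
    obtain ⟨l, h₁, h₂⟩ := hlift' (ov v) (Over.homMk v rfl) x₁ (Over.OverMorphism.ext hvx)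
    exact ⟨l, h₁, congrArg CommaMorphism.left h₂⟩
  choose l hl₁ hl₂ using hlift₀
  -- transport of the defining property to any `T` over `S`
  have hlT : ∀ {T : Over S} (v : T ⟶ V) (x : T.left ⟶ W.left) (h),
      ∃ m : T ⟶ V, m.left = (l T.left v.left x h).left ∧ (yon S).map m ≫ vq = (yon S).map v ≫ vq := by
    intro T v x h
    let i : T ⟶ ov v.left := Over.homMk (𝟙 _) (by simp [ov])
    refine ⟨i ≫ l T.left v.left x h, Category.id_comp _, ?_⟩
    rw [Functor.map_comp, Category.assoc, hl₁, ← Category.assoc, ← Functor.map_comp]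
    exact congrArg (fun k => (yon S).map k ≫ vq) (Over.OverMorphism.ext (Category.id_comp _))
  have key : ∀ {T : Over S} {a : T ⟶ V} (v : T ⟶ V) (x : T.left ⟶ W.left) (h),
      (yon S).map a ≫ vq = (yon S).map v ≫ vq → a.left ≫ p.left = x → (l T.left v.left x h).left = a.left := by
    intro T a v x h h₁ h₂
    obtain ⟨m, hm, hm'⟩ := hlT v x h
    rw [← hm]
    exact congrArg CommaMorphism.left (hext (hm'.trans h₁.symm) (by rw [hm, h₂]; exact hl₂ _ _ _ h))
  let D : Act p.left c.left :=
    { act := fun {T} v x h => (l T v x h).left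
      act_hom := fun v x h => hl₂ _ v x h
      act_self := fun v x h hv => key (Over.homMk v rfl : ov v ⟶ V) x h rfl hv
      act_act := fun {T} v x y h h' h'' => by
        obtain ⟨m, hm, hm'⟩ := hlT (l T v x h) y h''
        have := key (a := m) (Over.homMk v rfl : ov v ⟶ V) y h' (hm'.trans (hl₁ T v x h))
          (by rw [hm]; exact hl₂ _ _ _ h'')
        exact (this.trans hm).symm
      act_comp := fun {T T'} g v x h h' => by
        let i : ov (g ≫ v) ⟶ ov v := Over.homMk g (by simp [ov])
        refine key (a := i ≫ l T v x h) (Over.homMk (g ≫ v) rfl : ov (g ≫ v) ⟶ V) _ h' ?_ ?_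
        · rw [Functor.map_comp, Category.assoc, hl₁, ← Category.assoc, ← Functor.map_comp]
          exact congrArg (fun k => (yon S).map k ≫ vq) (Over.OverMorphism.ext rfl)
        · show (g ≫ _) ≫ p.left = _
          rw [Category.assoc, hl₂ T v x h] }
  obtain ⟨U₀, u₀, q₀, hpb, hcompat⟩ := D.eff_of_isIndQuasiAffineHom_of_isAffine hp
  haveI : IsCover q₀ := IsCover.of_isPullback hpb.flip
  let U : Over S := Over.mk (u₀ ≫ Z.hom)
  let u : U ⟶ Z := Over.homMk u₀ rfl
  let q : V ⟶ U := Over.homMk q₀ (by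
    show q₀ ≫ u₀ ≫ Z.hom = V.hom
    rw [reassoc_of% hpb.w, Over.w, Over.w])
  haveI : IsCover q.left := ‹IsCover q₀›
  have hq : ∀ {T : Over S} {a b : T ⟶ V}, a ≫ q = b ≫ q ↔ (yon S).map a ≫ vq ≫ π = (yon S).map b ≫ vq ≫ π ∧
      (yon S).map a ≫ vq = (yon S).map b ≫ vq := by
    intro T a b
    constructor
    · intro h
      have h0 : a.left ≫ q₀ = b.left ≫ q₀ := congrArg CommaMorphism.left h
      have h1 : a.left ≫ p.left ≫ c.left = (b.left ≫ p.left) ≫ c.left := by
        rw [← hpb.w, reassoc_of% h0, Category.assoc, hpb.w]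
      obtain ⟨m, hm, hm'⟩ := hlT a (b.left ≫ p.left) h1
      have : m = b := Over.OverMorphism.ext (hm.trans (hpb.hom_ext
        ((hcompat _ a.left (b.left ≫ p.left) h1).trans h0) (hl₂ _ _ _ h1)))
      subst this
      exact ⟨by rw [← Category.assoc, ← Category.assoc, hm'], hm'.symm⟩
    · rintro ⟨h, h'⟩
      refine Over.OverMorphism.ext ?_
      rw [sq.w, ← Functor.map_comp, ← Functor.map_comp, ← Functor.map_comp] at h
      have h1 : a.left ≫ p.left ≫ c.left = (b.left ≫ p.left) ≫ c.left :=
        (congrArg CommaMorphism.left ((yon S).map_injective h)).trans (Category.assoc _ _ _).symm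
      show a.left ≫ q₀ = b.left ≫ q₀
      rw [← hcompat _ a.left (b.left ≫ p.left) h1]
      exact congrArg (· ≫ q₀) (key a _ h1 h'.symm rfl)
  -- the comparison map
  have hs := isSheaf_fpqc hQ
  have hcov : Sieve.generate (Presieve.singleton q) ∈ (Scheme.fpqcTopology.over S) U := by
    rw [GrothendieckTopology.mem_over_iff]
    refine GrothendieckTopology.superset_covering _ ?_
      (Precoverage.generate_mem_toGrothendieck (IsCover.mem_fpqc q.left))
    rw [Sieve.generate_le_iff]
    rintro _ _ ⟨⟩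
    rw [Sieve.overEquiv_iff]
    exact ⟨V, Over.homMk (𝟙 _) (by simp), q, Presieve.singleton_self _, by ext; simp⟩
  obtain ⟨t, ht, -⟩ := Presieve.isSheafFor_singleton.1 ((Presieve.isSheafFor_iff_generate _).2 (hs _ hcov))
    (yEquiv vq) (fun {T} a b hab => by
      refine ((J S).uliftYonedaEquiv_naturality vq a).trans
        (Eq.trans ?_ ((J S).uliftYonedaEquiv_naturality vq b).symm)
      exact congrArg _ (hq.1 hab).2)
  let ψ : (yon S).obj U ⟶ Q := yEquiv.symm t
  have hψ : (yon S).map q ≫ ψ = vq := yEquiv.injective (by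
    refine ((J S).uliftYonedaEquiv_naturality ψ q).symm.trans ?_
    rw [Equiv.apply_symm_apply]; exact ht)
  have hqu : q ≫ u = p ≫ c := Over.OverMorphism.ext hpb.w
  have hψπ : ψ ≫ π = (yon S).map u :=
    eq_of_isCover (IsAlgSpace.yon_obj Z).diag q (by
      rw [← Category.assoc, hψ, sq.w, ← Functor.map_comp, ← Functor.map_comp, hqu])
  have : IsIso ψ := by
    refine Groth.AlgSp2.isIso_of_bijective_comp ψ fun T => ⟨fun a b hab => ?_, fun x => ?_⟩
    · obtain ⟨a, rfl⟩ := (yon S).map_surjective a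
      obtain ⟨b, rfl⟩ := (yon S).map_surjective b
      dsimp only at hab
      let T' : Over S := Over.mk (pullback.fst (a ≫ u).left c.left ≫ T.hom)
      let r : T' ⟶ T := Over.homMk (pullback.fst _ _) rfl
      haveI : IsCover r.left := IsCover.of_isPullback (IsPullback.of_hasPullback _ c.left).flip
      have hr : (r ≫ a).left ≫ u₀ = pullback.snd (a ≫ u).left c.left ≫ c.left := by
        show (pullback.fst _ _ ≫ a.left) ≫ u₀ = _
        rw [Category.assoc]; exact pullback.condition
      have hab' : (a ≫ u).left = (b ≫ u).left := by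
        refine congrArg CommaMorphism.left ((yon S).map_injective ?_)
        rw [Functor.map_comp, Functor.map_comp, ← hψπ, ← Category.assoc, hab, Category.assoc]
      have hr' : (r ≫ b).left ≫ u₀ = pullback.snd (a ≫ u).left c.left ≫ c.left := by
        show (pullback.fst _ _ ≫ b.left) ≫ u₀ = _
        rw [Category.assoc, show b.left ≫ u₀ = (a ≫ u).left from hab'.symm]; exact pullback.condition
      let ka : T' ⟶ V := Over.homMk (hpb.lift _ _ hr) (by
        rw [← Over.w q]; exact (hpb.lift_fst_assoc _ _ hr _).trans (Over.w (r ≫ a)))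
      let kb : T' ⟶ V := Over.homMk (hpb.lift _ _ hr') (by
        rw [← Over.w q]; exact (hpb.lift_fst_assoc _ _ hr' _).trans (Over.w (r ≫ b)))
      have ea : ka ≫ q = r ≫ a := Over.OverMorphism.ext (hpb.lift_fst _ _ hr)
      have eb : kb ≫ q = r ≫ b := Over.OverMorphism.ext (hpb.lift_fst _ _ hr')
      have hk : ka = kb := by
        refine hext ?_ ((hpb.lift_snd _ _ hr).trans (hpb.lift_snd _ _ hr').symm)
        rw [← hψ, ← Category.assoc, ← Category.assoc, ← Functor.map_comp, ← Functor.map_comp, ea, eb,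
          Functor.map_comp, Functor.map_comp, Category.assoc, Category.assoc, hab]
      refine eq_of_isCover (IsAlgSpace.yon_obj U).diag r ?_
      rw [← Functor.map_comp, ← Functor.map_comp, ← ea, ← eb, hk]
    · obtain ⟨z, hz⟩ := (yon S).map_surjective (x ≫ π)
      let T' : Over S := Over.mk (pullback.fst z.left c.left ≫ T.hom)
      let r : T' ⟶ T := Over.homMk (pullback.fst _ _) rfl
      haveI : IsCover r.left := IsCover.of_isPullback (IsPullback.of_hasPullback _ c.left).flip
      let w : T' ⟶ W := Over.homMk (pullback.snd z.left c.left) (by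
        show pullback.snd _ _ ≫ W.hom = pullback.fst _ _ ≫ T.hom
        rw [← Over.w c, ← Category.assoc, ← pullback.condition, Category.assoc, Over.w])
      have hrw : r ≫ z = w ≫ c := Over.OverMorphism.ext pullback.condition
      have hc : ((yon S).map r ≫ x) ≫ π = (yon S).map w ≫ (yon S).map c := by
        rw [Category.assoc, ← hz, ← Functor.map_comp, ← Functor.map_comp, hrw]
      obtain ⟨k, hk⟩ := (yon S).map_surjective (sq.lift _ _ hc)
      have hk₁ : (yon S).map k ≫ vq = (yon S).map r ≫ x := by rw [hk]; exact sq.lift_fst _ _ hc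
      haveI : EffectiveEpi r.left := IsCover.effectiveEpi r.left
      let y₀ := EffectiveEpi.desc r.left (k ≫ q).left fun {R} g g' hg => by
        let g₁ : Over.mk (g ≫ T'.hom) ⟶ T' := Over.homMk g rfl
        let g₂ : Over.mk (g ≫ T'.hom) ⟶ T' := Over.homMk g' (by
          show g' ≫ T'.hom = g ≫ T'.hom
          rw [← Over.w r, ← Category.assoc, ← Category.assoc, hg])
        have hg' : g₁ ≫ r = g₂ ≫ r := Over.OverMorphism.ext hg
        have e : (yon S).map (g₁ ≫ k) ≫ vq = (yon S).map (g₂ ≫ k) ≫ vq := by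
          rw [Functor.map_comp, Category.assoc, hk₁, ← Category.assoc, ← Functor.map_comp, hg',
            Functor.map_comp, Category.assoc, ← hk₁, ← Category.assoc, ← Functor.map_comp]
        exact congrArg CommaMorphism.left ((hq (a := g₁ ≫ k) (b := g₂ ≫ k)).2
          ⟨by rw [← Category.assoc, e, Category.assoc], e⟩)
      let y : T ⟶ U := Over.homMk y₀ (by
        rw [← cancel_epi r.left, EffectiveEpi.fac_assoc, Over.w, Over.w])
      have hy : r ≫ y = k ≫ q := Over.OverMorphism.ext (by
        show r.left ≫ y₀ = _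
        simp only [y₀, EffectiveEpi.fac])
      refine ⟨(yon S).map y, eq_of_isCover hQ.diag r ?_⟩
      show (yon S).map r ≫ (yon S).map y ≫ ψ = _
      rw [← Category.assoc, ← Functor.map_comp, hy,
        Functor.map_comp, Category.assoc, hψ, hk₁]
  exact ⟨U, u, asIso ψ, q, hψπ, hpb⟩

open Groth.AlgSp2 in
/-- A space over an affine scheme which becomes quasi-affine on an fpqc cover is quasi-affine. -/
theorem exists_quasiAffine_iso_of_affCover {Q : Sp S} (hQ : IsAlgSpace Q) {Z : Over S} [IsAffine Z.left]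
    (π : Q ⟶ (yon S).obj Z) (𝒲 : AffCover (T := Z))
    (H : ∀ j, ∃ (V : Over S) (vq : (yon S).obj V ⟶ Q) (p : V ⟶ 𝒲.W j),
      IsPullback vq ((yon S).map p) π ((yon S).map (𝒲.c j)) ∧ V.left.IsQuasiAffine) :
    ∃ (U : Over S) (u : U ⟶ Z) (e : (yon S).obj U ≅ Q),
      e.hom ≫ π = (yon S).map u ∧ U.left.IsQuasiAffine := by
  choose V vq p sq hV using H
  have := 𝒲.affine
  let W' : ULift.{u} (Fin 𝒲.m) → Over S := fun j => 𝒲.W j.down
  let V' : ULift.{u} (Fin 𝒲.m) → Over S := fun j => V j.down
  have : IsAffine (Groth.AlgSp2.sigmaObj W').left := inferInstanceAs (IsAffine (∐ fun j => (W' j).left))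
  let c : Groth.AlgSp2.sigmaObj W' ⟶ Z := Over.homMk (Sigma.desc fun j => (𝒲.c j.down).left) (by
    apply Sigma.hom_ext
    intro j
    change _ ≫ Sigma.desc _ ≫ Z.hom = _ ≫ Sigma.desc _
    rw [Sigma.ι_desc_assoc, Sigma.ι_desc, Over.w (𝒲.c j.down)])
  have hc : ∀ j, sigmaIncl W' j ≫ c = 𝒲.c j.down := fun j =>
    Over.OverMorphism.ext (Sigma.ι_desc _ _)
  have : Surjective c.left := ⟨fun z => by
    obtain ⟨j, w, hw⟩ := 𝒲.surj z
    refine ⟨Sigma.ι (fun j => (W' j).left) ⟨j⟩ w, ?_⟩
    rw [← hw, ← hc ⟨j⟩, Over.comp_left, Scheme.Hom.comp_apply]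
    rfl⟩
  have : Flat c.left := by
    refine (IsZariskiLocalAtSource.iff_of_openCover (P := @Flat) (f := c.left)
      (sigmaOpenCover fun j => (W' j).left)).2 fun j => ?_
    change Flat (Sigma.ι (fun j => (W' j).left) j ≫ Sigma.desc fun j => (𝒲.c j.down).left)
    rw [Sigma.ι_desc]
    exact 𝒲.flat _
  obtain ⟨q, hq, -⟩ := exists_glue V' fun j => (yon S).map (p j.down ≫ sigmaIncl W' j)
  obtain ⟨q, rfl⟩ := (yon S).map_surjective q
  have hq' : ∀ j, sigmaIncl V' j ≫ q = p j.down ≫ sigmaIncl W' j := fun j =>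
    (yon S).map_injective (by rw [Functor.map_comp]; exact hq j)
  obtain ⟨v, hv, -⟩ := exists_glue V' fun j => vq j.down
  have hw : v ≫ π = (yon S).map q ≫ (yon S).map c := sigma_hom_ext V' fun j => by
    rw [← Category.assoc, hv, ← Functor.map_comp, ← Functor.map_comp, ← Category.assoc, hq',
      Category.assoc, hc, Functor.map_comp]
    exact (sq j.down).w
  let g : ∀ j, (yon S).obj (V' j) ⟶ pullback π ((yon S).map c) := fun j =>
    pullback.lift (vq j.down) ((yon S).map (p j.down ≫ sigmaIncl W' j)) (by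
      rw [← Functor.map_comp, Category.assoc, hc, Functor.map_comp]
      exact (sq j.down).w)
  have hg : ∀ j, IsPullback (g j) ((yon S).map (p j.down)) (pullback.snd π ((yon S).map c))
      ((yon S).map (sigmaIncl W' j)) := fun j => by
    refine IsPullback.of_right ?_ (by rw [pullback.lift_snd, Functor.map_comp])
      (IsPullback.of_hasPullback π ((yon S).map c))
    rw [pullback.lift_fst, ← Functor.map_comp, hc]
    exact sq j.down
  have hP : IsAlgSpace (pullback π ((yon S).map c)) :=
    isAlgSpace_of_isPullback (IsPullback.of_hasPullback _ _) (IsAlgSpace.yon_obj Z).diag hQ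
      (IsAlgSpace.yon_obj _)
  have : ∀ j, IsAffine (W' j).left := fun j => 𝒲.affine j.down
  have hcov : IsFpqcCover (fun j => (yon S).obj (V' j)) g :=
    isFpqcCover_baseChange (IsAlgSpace.yon_obj _) hP (fun _ => IsAlgSpace.yon_obj _) hg
      (isFpqcCover_sigmaIncl W')
  let ψ : (yon S).obj (Groth.AlgSp2.sigmaObj V') ⟶ pullback π ((yon S).map c) :=
    pullback.lift v ((yon S).map q) hw
  have hψ : ∀ j, (yon S).map (sigmaIncl V' j) ≫ ψ = g j := fun j => by
    apply pullback.hom_ext
    · rw [Category.assoc, pullback.lift_fst, pullback.lift_fst, hv]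
    · rw [Category.assoc, pullback.lift_snd, pullback.lift_snd, hq]
  have : IsIso ψ := (MorphismProperty.isomorphisms.iff ψ).1
    ((isLocalOnBase_fpqc_isomorphisms _ g hP (fun _ => IsAlgSpace.yon_obj _) hcov ψ
      (IsAlgSpace.yon_obj _) (fun j => (yon S).obj (V' j)) (fun _ => 𝟙 _)
      (fun j => (yon S).map (sigmaIncl V' j)) (fun _ => IsAlgSpace.yon_obj _) (fun j => by
        refine IsPullback.of_bot ?_ (by rw [hψ, Category.id_comp]) (hg j)
        rw [Category.id_comp, pullback.lift_snd]
        exact (isPullback_sigmaIncl (fun j => p j.down) q hq' j).map (yon S))).2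
      fun _ => MorphismProperty.isomorphisms.infer_property _)
  let eW := (asIso ψ).symm
  have sqV : IsPullback v ((yon S).map q) π ((yon S).map c) :=
    ((IsPullback.of_hasPullback π ((yon S).map c)).of_iso eW (Iso.refl _) (Iso.refl _)
      (Iso.refl _) (fst' := v) (snd' := (yon S).map q) (f' := π) (g' := (yon S).map c)
      (by simpa [eW, IsIso.eq_inv_comp, ψ] using pullback.lift_fst v ((yon S).map q) hw)
      (by simpa [eW, IsIso.eq_inv_comp, ψ] using pullback.lift_snd v ((yon S).map q) hw) (by simp) (by simp))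
  have hVqa : (Groth.AlgSp2.sigmaObj V').left.IsQuasiAffine := by
    show (∐ fun j => (V' j).left).IsQuasiAffine
    haveI : ∀ j, (V' j).left.IsQuasiAffine := fun j => hV j.down
    exact isQuasiAffine_sigma _
  haveI := hVqa
  have hqi : MoreMor.IsIndQuasiAffineHom q.left :=
    Groth.FlatMor2.isIndQuasiAffineHom_def.2 fun O hO U hU hUc => by
      haveI : CompactSpace (U : Scheme.{u}) := isCompact_iff_compactSpace.mp hUc
      exact .of_isImmersion U.ι
  obtain ⟨U, u, e, qU, he, hpb⟩ := exists_iso_of_indQuasiAffine hQ c sqV hqi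
  refine ⟨U, u, e, he, ?_⟩
  haveI : QuasiCompact c.left := (quasiCompact_iff_compactSpace _).2 inferInstance
  have hu : MoreMor.IsIndQuasiAffineHom u.left := Groth.FlatMor2.isIndQuasiAffineHom_of_fpqc hpb hqi
  haveI : Surjective qU.left := MorphismProperty.of_isPullback hpb.flip ‹Surjective c.left›
  have hc' : IsCompact (Set.univ : Set U.left) := by
    rw [← qU.left.surjective.range_eq, ← Set.image_univ]
    exact isCompact_univ.image qU.left.continuous
  have := Groth.FlatMor2.isIndQuasiAffineHom_def.1 hu ⊤ (isAffineOpen_top _) ⊤ (by simp) hc'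
  exact .of_isAffineHom U.left.topIso.inv

open Groth.AlgSp2 in
/-- Being quasi-affine is fpqc local on the base. -/
theorem isLocalOnBase_fpqc_isQuasiAffineMor :
    IsLocalOnBase (IsFpqcCover (S := S)) IsQuasiAffineMor := by
  intro ι Y Yi g hY hYi hg X f hX Xi p q hXi hsq
  refine ⟨fun h i Z hZ a => ?_, fun hp Z hZ a => ?_⟩
  · obtain ⟨W, w, fst, sq, hW⟩ := h hZ (a ≫ g i)
    refine ⟨W, w, (hsq i).lift fst ((yon S).map w ≫ a) (by rw [Category.assoc]; exact sq.w), ?_, hW⟩
    exact IsPullback.of_right (by rw [(hsq i).lift_fst]; exact sq) ((hsq i).lift_snd _ _ _) (hsq i)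
  · obtain ⟨𝒲, hl⟩ := (isFpqcCover_iff.1 hg).2 Z hZ a
    have hQ : IsAlgSpace (pullback f a) :=
      isAlgSpace_of_isPullback (IsPullback.of_hasPullback _ _) hY.diag hX (IsAlgSpace.yon_obj _)
    have H : ∀ j, ∃ (V : Over S) (vq : (yon S).obj V ⟶ pullback f a) (p : V ⟶ 𝒲.W j),
        IsPullback vq ((yon S).map p) (pullback.snd f a) ((yon S).map (𝒲.c j)) ∧
          V.left.IsQuasiAffine := fun j => by
      obtain ⟨i, l, hl⟩ := hl j
      obtain ⟨V, w, fst, sq, hV⟩ := hp i (𝒲.affine j) l
      have big := sq.paste_horiz (hsq i)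
      rw [hl] at big
      refine ⟨V, pullback.lift (fst ≫ q i) ((yon S).map (w ≫ 𝒲.c j))
        (by rw [Functor.map_comp, Category.assoc]; exact big.w), w, ?_, hV⟩
      refine IsPullback.of_right ?_ (by rw [pullback.lift_snd, Functor.map_comp])
        (IsPullback.of_hasPullback f a)
      rw [pullback.lift_fst]
      exact big
    have : IsAffine Z.left := hZ
    obtain ⟨U, u, e, he, hU⟩ := exists_quasiAffine_iso_of_affCover hQ (pullback.snd f a) 𝒲 H
    exact ⟨U, u, e.hom ≫ pullback.fst f a, (IsPullback.of_hasPullback f a).of_iso e.symm (Iso.refl _)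
      (Iso.refl _) (Iso.refl _) (by simp) (by simp [← he]) (by simp) (by simp), hU⟩

end

end Groth.AlgSpBasic
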