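import Mathlib.AlgebraicGeometry.Morphisms.ClosedImmersion
import Mathlib.AlgebraicGeometry.Morphisms.Separated
import Mathlib.AlgebraicGeometry.Limits
import Mathlib.RingTheory.TensorProduct.Maps

/-!
# Maps to a product of two affine schemes
-/

set_option autoImplicit false
set_option backward.isDefEq.respectTransparency.types false
universe u

open CategoryTheory CategoryTheory.Limits AlgebraicGeometry TensorProduct

namespace Groth.AlgSpBasic

noncomputable section

variable {A B : Scheme.{u}}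

/-- The map `A ×_ℤ B → Spec (Γ(A) ⊗ Γ(B))` seen on a scheme `T` with two projections. -/
def toTensor {T : Scheme.{u}} (f : T ⟶ A) (g : T ⟶ B) :
    T ⟶ Spec (CommRingCat.of (Γ(A, ⊤) ⊗[ℤ] Γ(B, ⊤))) :=
  T.toSpecΓ ≫ Spec.map (CommRingCat.ofHom (Algebra.TensorProduct.productMap
    f.appTop.hom.toIntAlgHom g.appTop.hom.toIntAlgHom).toRingHom)

theorem comp_toTensor {T T' : Scheme.{u}} (k : T' ⟶ T) (f : T ⟶ A) (g : T ⟶ B) :
    k ≫ toTensor f g = toTensor (k ≫ f) (k ≫ g) := by
  rw [toTensor, toTensor, Scheme.toSpecΓ_naturality_assoc, ← Spec.map_comp]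
  congr 2
  ext1
  apply RingHom.ext
  intro (x : Γ(A, ⊤) ⊗[ℤ] Γ(B, ⊤))
  induction x with
  | zero => simp
  | tmul a b => simp [Scheme.Hom.comp_appTop]
  | add a b ha hb => simp only [map_add, ha, hb]

theorem toTensor_fst {T : Scheme.{u}} [IsAffine A] (f : T ⟶ A) (g : T ⟶ B) :
    toTensor f g ≫ Spec.map (CommRingCat.ofHom (Algebra.TensorProduct.includeLeftRingHom :
      Γ(A, ⊤) →+* Γ(A, ⊤) ⊗[ℤ] Γ(B, ⊤))) ≫ A.isoSpec.inv = f := by
  rw [toTensor, Category.assoc, ← Spec.map_comp_assoc]
  have : CommRingCat.ofHom (Algebra.TensorProduct.includeLeftRingHom :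
      Γ(A, ⊤) →+* Γ(A, ⊤) ⊗[ℤ] Γ(B, ⊤)) ≫ CommRingCat.ofHom (Algebra.TensorProduct.productMap
        f.appTop.hom.toIntAlgHom g.appTop.hom.toIntAlgHom).toRingHom = f.appTop := by
    ext x
    simp
  rw [this, ← Scheme.toSpecΓ_naturality_assoc, ← Scheme.isoSpec_hom, Iso.hom_inv_id,
    Category.comp_id]

theorem toTensor_snd {T : Scheme.{u}} [IsAffine B] (f : T ⟶ A) (g : T ⟶ B) :
    toTensor f g ≫ Spec.map (CommRingCat.ofHom (Algebra.TensorProduct.includeRight :
      Γ(B, ⊤) →ₐ[ℤ] Γ(A, ⊤) ⊗[ℤ] Γ(B, ⊤)).toRingHom) ≫ B.isoSpec.inv = g := by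
  rw [toTensor, Category.assoc, ← Spec.map_comp_assoc]
  have : CommRingCat.ofHom (Algebra.TensorProduct.includeRight :
      Γ(B, ⊤) →ₐ[ℤ] Γ(A, ⊤) ⊗[ℤ] Γ(B, ⊤)).toRingHom ≫ CommRingCat.ofHom
      (Algebra.TensorProduct.productMap
        f.appTop.hom.toIntAlgHom g.appTop.hom.toIntAlgHom).toRingHom = g.appTop := by
    ext x
    simp
  rw [this, ← Scheme.toSpecΓ_naturality_assoc, ← Scheme.isoSpec_hom, Iso.hom_inv_id,
    Category.comp_id]

theorem surjective_productMap_iff {T : Scheme.{u}} [IsAffine T] (f : T ⟶ A) (g : T ⟶ B) :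
    Function.Surjective (Algebra.TensorProduct.productMap f.appTop.hom.toIntAlgHom
      g.appTop.hom.toIntAlgHom) ↔ IsClosedImmersion (toTensor f g) := by
  rw [toTensor, ← Scheme.isoSpec_hom,
    MorphismProperty.cancel_left_of_respectsIso @IsClosedImmersion]
  constructor
  · intro h
    exact IsClosedImmersion.spec_of_surjective _ h
  · intro h
    have := h
    have := (IsClosedImmersion.isAffine_surjective_of_isAffine (f := Spec.map
      (CommRingCat.ofHom (Algebra.TensorProduct.productMap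
        f.appTop.hom.toIntAlgHom g.appTop.hom.toIntAlgHom).toRingHom))).2
    exact ((MorphismProperty.surjective CommRingCat).arrow_mk_iso_iff
      (arrowIsoΓSpecOfIsAffine _)).2 this

/-- A closed immersion into a fibre product of affine schemes over a separated base is a closed
immersion into the spectrum of the tensor product. -/
theorem isClosedImmersion_toTensor [IsAffine A] [IsAffine B] {S' : Scheme.{u}} [S'.IsSeparated]
    {a : A ⟶ S'} {b : B ⟶ S'} :
    IsClosedImmersion (toTensor (pullback.fst a b) (pullback.snd a b)) := by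
  let e₀ : Spec (CommRingCat.of (Γ(A, ⊤) ⊗[ℤ] Γ(B, ⊤))) ⟶
      pullback (a ≫ terminal.from S') (b ≫ terminal.from S') :=
    pullback.lift (Spec.map (CommRingCat.ofHom Algebra.TensorProduct.includeLeftRingHom) ≫
      A.isoSpec.inv) (Spec.map (CommRingCat.ofHom (Algebra.TensorProduct.includeRight :
      Γ(B, ⊤) →ₐ[ℤ] Γ(A, ⊤) ⊗[ℤ] Γ(B, ⊤)).toRingHom) ≫ B.isoSpec.inv)
      (Subsingleton.elim _ _)
  have e : toTensor (pullback.fst a b) (pullback.snd a b) ≫ e₀ =
      pullback.mapDesc a b (terminal.from S') := by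
    apply pullback.hom_ext
    · rw [Category.assoc, pullback.lift_fst, toTensor_fst, pullback.mapDesc, pullback.map,
        pullback.lift_fst, Category.comp_id]
    · rw [Category.assoc, pullback.lift_snd, toTensor_snd, pullback.mapDesc, pullback.map,
        pullback.lift_snd, Category.comp_id]
  have hΔ : IsClosedImmersion (pullback.diagonal (terminal.from S')) :=
    IsSeparated.isClosedImmersion_diagonal
  have : IsClosedImmersion (pullback.mapDesc a b (terminal.from S')) :=
    MorphismProperty.of_isPullback (pullback_map_diagonal_isPullback a b (terminal.from S')) hΔ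
  have : IsClosedImmersion (toTensor (pullback.fst a b) (pullback.snd a b) ≫ e₀) := e ▸ this
  exact IsClosedImmersion.of_comp _ e₀

end

end Groth.AlgSpBasic
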