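import Groth.Agent.AlgSpBasic.EqualizerOpen

/-!
# Invariant functions of a separated chart and their base change
-/

set_option autoImplicit false
set_option backward.isDefEq.respectTransparency.types false
universe u

open CategoryTheory CategoryTheory.Limits AlgebraicGeometry Opposite AlgSp

namespace Groth.AlgSpBasic

variable {S : Scheme.{u}}

/-- The relation of an affine chart of a separated map is closed in the product over the base. -/
theorem isClosedImmersion_of_isSeparatedMor {X : Sp S} {U R T : Over S} {f : X ⟶ (yon S).obj T}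
    (hsep : IsSeparatedMor f) {p : (yon S).obj U ⟶ X} {t s : R ⟶ U}
    (sq : IsPullback ((yon S).map t) ((yon S).map s) p p) {π : U ⟶ T}
    (hπ : p ≫ f = (yon S).map π) :
    ∃ w : t.left ≫ π.left = s.left ≫ π.left, IsClosedImmersion (pullback.lift t.left s.left w) := by
  have w : t.left ≫ π.left = s.left ≫ π.left := congrArg CommaMorphism.left
    (show t ≫ π = s ≫ π from (yon S).map_injective (by
      rw [Functor.map_comp, Functor.map_comp, ← hπ, ← Category.assoc, sq.w, Category.assoc]))
  refine ⟨w, ?_⟩
  let W : Over S := Over.mk (pullback.fst π.left π.left ≫ U.hom)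
  let a : W ⟶ U := Over.homMk (pullback.fst π.left π.left) rfl
  let b : W ⟶ U := Over.homMk (pullback.snd π.left π.left) (by
    change pullback.snd π.left π.left ≫ U.hom = pullback.fst π.left π.left ≫ U.hom
    rw [← Over.w π, ← Category.assoc, ← pullback.condition, Category.assoc])
  let ρ : R ⟶ W := Over.homMk (pullback.lift t.left s.left w) (by
    change pullback.lift t.left s.left w ≫ pullback.fst π.left π.left ≫ U.hom = R.hom
    rw [pullback.lift_fst_assoc, Over.w t])
  have ρa : ρ ≫ a = t := by ext1; exact pullback.lift_fst _ _ _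
  have ρb : ρ ≫ b = s := by ext1; exact pullback.lift_snd _ _ _
  have hm : ((yon S).map a ≫ p) ≫ f = ((yon S).map b ≫ p) ≫ f := by
    rw [Category.assoc, Category.assoc, hπ, ← Functor.map_comp, ← Functor.map_comp]
    congr 1
    ext1
    exact pullback.condition
  obtain ⟨Z, snd, fst, sqZ⟩ := hsep.rep (pullback.lift _ _ hm)
  have : IsClosedImmersion snd.left := hsep.property _ fst snd sqZ
  have hfst : fst = (yon S).map (snd ≫ a) ≫ p := by
    have := sqZ.w =≫ pullback.fst f f
    rw [Category.assoc, Category.assoc, pullback.diagonal_fst, Category.comp_id] at this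
    rw [this, Functor.map_comp, Category.assoc]
    exact congrArg (_ ≫ ·) (pullback.lift_fst _ _ _)
  have hfst' : fst = (yon S).map (snd ≫ b) ≫ p := by
    have := sqZ.w =≫ pullback.snd f f
    rw [Category.assoc, Category.assoc, pullback.diagonal_snd, Category.comp_id] at this
    rw [this, Functor.map_comp, Category.assoc]
    exact congrArg (_ ≫ ·) (pullback.lift_snd _ _ _)
  obtain ⟨l, hl⟩ := (yon S).map_surjective (sqZ.lift ((yon S).map t ≫ p) ((yon S).map ρ) (by
    apply pullback.hom_ext
    · simp only [Category.assoc, pullback.diagonal_fst, pullback.lift_fst, Category.comp_id]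
      rw [← Category.assoc, ← Functor.map_comp, ρa]
    · simp only [Category.assoc, pullback.diagonal_snd, pullback.lift_snd, Category.comp_id]
      rw [← Category.assoc ((yon S).map ρ), ← Functor.map_comp, ρb, sq.w]))
  have hlρ : l ≫ snd = ρ := (yon S).map_injective (by rw [Functor.map_comp, hl, sqZ.lift_snd])
  obtain ⟨l', hl'⟩ := (yon S).map_surjective (sq.lift ((yon S).map (snd ≫ a))
    ((yon S).map (snd ≫ b)) (hfst.symm.trans hfst'))
  have h₁ : l' ≫ t = snd ≫ a := (yon S).map_injective (by rw [Functor.map_comp, hl', sq.lift_fst])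
  have h₂ : l' ≫ s = snd ≫ b := (yon S).map_injective (by rw [Functor.map_comp, hl', sq.lift_snd])
  have e₁ : l ≫ l' = 𝟙 R := by
    apply (isEqvRel_of_isPullback sq).injective R
    · rw [Category.assoc, h₁, ← Category.assoc, hlρ, ρa, Category.id_comp]
    · rw [Category.assoc, h₂, ← Category.assoc, hlρ, ρb, Category.id_comp]
  have e₃ : l' ≫ ρ = snd := by
    ext1
    apply pullback.hom_ext
    · rw [Over.comp_left, Category.assoc]
      exact (congrArg (_ ≫ ·) (pullback.lift_fst _ _ _)).trans
        (congrArg CommaMorphism.left h₁)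
    · rw [Over.comp_left, Category.assoc]
      exact (congrArg (_ ≫ ·) (pullback.lift_snd _ _ _)).trans
        (congrArg CommaMorphism.left h₂)
  have e₂ : l' ≫ l = 𝟙 Z := (yon S).map_injective (sqZ.hom_ext
    (by rw [Functor.map_comp, Category.assoc, hl, sqZ.lift_fst, ← Category.assoc, ← Functor.map_comp,
          h₁, ← hfst, CategoryTheory.Functor.map_id, Category.id_comp])
    (by rw [← Functor.map_comp, ← Functor.map_comp, Category.assoc, hlρ, e₃, Category.id_comp]))
  let e : R ≅ Z := ⟨l, l', e₁, e₂⟩
  have : IsIso l.left := ((Over.forget S).mapIso e).isIso_hom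
  change IsClosedImmersion ρ.left
  rw [← hlρ, Over.comp_left]
  infer_instance

/-- The spectrum of the invariant functions. -/
theorem exists_invariants {U R T : Scheme.{u}} [IsAffine U] [IsAffine T] {t s : R ⟶ U} {π₀ : U ⟶ T}
    (w : t ≫ π₀ = s ≫ π₀) :
    ∃ (Q : Scheme.{u}) (_ : IsAffine Q) (π : U ⟶ Q) (τ : Q ⟶ T), t ≫ π = s ≫ π ∧ π ≫ τ = π₀ ∧
      Function.Injective π.appTop ∧ ∀ a, t.appTop a = s.appTop a → ∃ d, π.appTop d = a := by
  let A : Subring Γ(U, ⊤) := RingHom.eqLocus t.appTop.hom s.appTop.hom
  let π : U ⟶ Spec (CommRingCat.of A) := U.toSpecΓ ≫ Spec.map (CommRingCat.ofHom A.subtype)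
  have hπ : π.appTop = (Scheme.ΓSpecIso (CommRingCat.of A)).hom ≫ CommRingCat.ofHom A.subtype := by
    rw [Scheme.Hom.comp_appTop, Scheme.toSpecΓ_appTop, Scheme.ΓSpecIso_naturality]
  have hπ₀ : ∀ c, π₀.appTop c ∈ A := fun c => by
    have := congrArg (fun g : R ⟶ T => g.appTop c) w
    simp only [Scheme.Hom.comp_appTop] at this
    exact this
  refine ⟨Spec (CommRingCat.of A), inferInstance, π,
    Spec.map (CommRingCat.ofHom (π₀.appTop.hom.codRestrict A hπ₀)) ≫ T.isoSpec.inv, ?_, ?_, ?_, ?_⟩
  · refine ext_of_isAffine ?_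
    rw [Scheme.Hom.comp_appTop t π, Scheme.Hom.comp_appTop s π, hπ, Category.assoc, Category.assoc]
    congr 1
    exact CommRingCat.hom_ext (RingHom.ext fun x : A => x.2)
  · rw [Category.assoc, ← Spec.map_comp_assoc]
    have : CommRingCat.ofHom (π₀.appTop.hom.codRestrict A hπ₀) ≫ CommRingCat.ofHom A.subtype =
        π₀.appTop := rfl
    rw [this, ← Scheme.toSpecΓ_naturality_assoc, ← Scheme.isoSpec_hom, Iso.hom_inv_id,
      Category.comp_id]
  · intro a b h
    rw [hπ] at h
    refine ((ConcreteCategory.isIso_iff_bijective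
      (Scheme.ΓSpecIso (CommRingCat.of A)).hom).mp inferInstance).1 ?_
    exact Subtype.val_injective h
  · intro a ha
    refine ⟨(Scheme.ΓSpecIso (CommRingCat.of A)).inv (⟨a, ha⟩ : A), ?_⟩
    rw [hπ, CommRingCat.comp_apply, Iso.inv_hom_id_apply]
    rfl

/-- The kernel pair of the base change of a chart. -/
theorem isPullback_kernelPair_baseChange {X X' : Sp S} {U U' R R' : Over S} {m : X' ⟶ X}
    {p : (yon S).obj U ⟶ X} {p' : (yon S).obj U' ⟶ X'} {jU : U' ⟶ U}
    (hp : IsPullback ((yon S).map jU) p' p m) {t s : R ⟶ U}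
    (sq : IsPullback ((yon S).map t) ((yon S).map s) p p) {jR : R' ⟶ R} {t' s' : R' ⟶ U'}
    (ht : IsPullback jR t' t jU) (hs : s' ≫ jU = jR ≫ s)
    (hs' : (yon S).map s' ≫ p' = (yon S).map t' ≫ p') :
    IsPullback ((yon S).map t') ((yon S).map s') p' p' := by
  have h := (ht.map (yon S)).paste_horiz sq.flip
  rw [← Functor.map_comp, ← hs, hp.w, Functor.map_comp] at h
  exact (IsPullback.of_right h hs' hp).flip

/-- Closedness of the relation is stable under base change. -/
theorem isClosedImmersion_lift_baseChange {U R Q U' R' Q' : Scheme.{u}} {π : U ⟶ Q} {t s : R ⟶ U}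
    {w : t ≫ π = s ≫ π} [IsClosedImmersion (pullback.lift t s w)] {k : Q' ⟶ Q}
    {kU : U' ⟶ U} {π' : U' ⟶ Q'} (hU : IsPullback kU π' π k) {kR : R' ⟶ R} {t' s' : R' ⟶ U'}
    (ht : IsPullback kR t' t kU) (hs : s' ≫ kU = kR ≫ s) (w' : t' ≫ π' = s' ≫ π') :
    IsClosedImmersion (pullback.lift t' s' w') := by
  let M : pullback π' π' ⟶ pullback π π := pullback.lift (pullback.fst π' π' ≫ kU)
    (pullback.snd π' π' ≫ kU) (by
      rw [Category.assoc, Category.assoc, hU.w, pullback.condition_assoc])
  have hM : IsPullback M (pullback.fst π' π') (pullback.fst π π) kU := by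
    refine IsPullback.of_right ?_ (pullback.lift_fst _ _ _) (IsPullback.of_hasPullback π π).flip
    simp only [M, pullback.lift_snd, hU.w]
    exact (IsPullback.of_hasPullback π' π').flip.paste_horiz hU
  have hρ : IsPullback kR (pullback.lift t' s' w') (pullback.lift t s w) M := by
    refine IsPullback.of_bot ?_ ?_ hM
    · simpa only [pullback.lift_fst] using ht
    · apply pullback.hom_ext
      · simp only [M, Category.assoc, pullback.lift_fst, pullback.lift_fst_assoc, ht.w]
      · simp only [M, Category.assoc, pullback.lift_snd, pullback.lift_snd_assoc, hs]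
  exact MorphismProperty.of_isPullback hρ ‹_›

end Groth.AlgSpBasic
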