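import Groth.Agent.AlgSpBasic.SepLQFScheme
import Groth.Prelude.Def_AlgSpRep

/-!
# Locally quasi-finite maps from schemes representable by algebraic spaces
-/

set_option autoImplicit false
set_option backward.isDefEq.respectTransparency.types false
universe u

open CategoryTheory CategoryTheory.Limits AlgebraicGeometry Opposite AlgSp

namespace Groth.AlgSpBasic

variable {S : Scheme.{u}}

theorem isSeparatedMor_mono_comp {Z : Sp S} {V U : Over S} (m : Z ⟶ (yon S).obj V) [Mono m]
    (v : V ⟶ U) (hv : IsSeparated v.left) : IsSeparatedMor (m ≫ (yon S).map v) := by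
  have hv' : IsSeparatedMor ((yon S).map v) := (isSeparatedMor_yon_map_iff v).2 hv
  let c : pullback (m ≫ (yon S).map v) (m ≫ (yon S).map v) ⟶
      pullback ((yon S).map v) ((yon S).map v) :=
    pullback.map _ _ _ _ m m (𝟙 _) (Category.comp_id _) (Category.comp_id _)
  refine repWith_of_isPullback (a := m) (b := c) ?_ hv'
  have c₁ : c ≫ pullback.fst _ _ = pullback.fst _ _ ≫ m := pullback.lift_fst _ _ _
  have c₂ : c ≫ pullback.snd _ _ = pullback.snd _ _ ≫ m := pullback.lift_snd _ _ _
  have w : m ≫ pullback.diagonal ((yon S).map v) =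
      pullback.diagonal (m ≫ (yon S).map v) ≫ c := by
    apply pullback.hom_ext
    · simp only [Category.assoc, c₁, pullback.diagonal_fst, pullback.diagonal_fst_assoc,
        Category.comp_id]
    · simp only [Category.assoc, c₂, pullback.diagonal_snd, pullback.diagonal_snd_assoc,
        Category.comp_id]
  refine ⟨⟨w⟩, ⟨PullbackCone.IsLimit.mk _ (fun s => s.snd ≫ pullback.fst _ _) (fun s => ?_)
    (fun s => ?_) (fun s k _ h₂ => ?_)⟩⟩
  · have := s.condition =≫ pullback.fst ((yon S).map v) ((yon S).map v)
    simp only [Category.assoc, c₁, pullback.diagonal_fst, Category.comp_id] at this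
    rw [Category.assoc]; exact this.symm
  · have h₁ := s.condition =≫ pullback.fst ((yon S).map v) ((yon S).map v)
    have h₂ := s.condition =≫ pullback.snd ((yon S).map v) ((yon S).map v)
    simp only [Category.assoc, c₁, c₂, pullback.diagonal_fst, pullback.diagonal_snd,
      Category.comp_id] at h₁ h₂
    apply pullback.hom_ext
    · simp only [Category.assoc, pullback.diagonal_fst, Category.comp_id]
    · rw [← cancel_mono m]
      simp only [Category.assoc, pullback.diagonal_snd_assoc]
      rw [← h₁, h₂]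
  · rw [← h₂]; simp

/-- A space over a scheme embedded in the product with a scheme, locally quasi-finite over it, is a
scheme. -/
theorem exists_iso_of_lqf_of_mono {Z : Sp S} (hZ : IsAlgSpace Z) {X U : Over S}
    (fst : Z ⟶ (yon S).obj X) (snd : Z ⟶ (yon S).obj U)
    (hmono : ∀ {T : Sp S} (a b : T ⟶ Z), a ≫ fst = b ≫ fst → a ≫ snd = b ≫ snd → a = b)
    (hqf : LocP (@LocallyQuasiFinite ⊓ @LocallyOfFiniteType) snd) :
    ∃ G : Over S, Nonempty ((yon S).obj G ≅ Z) := by
  let 𝒰 := X.left.affineCover
  let XO : 𝒰.I₀ → Over S := fun i => Over.mk (𝒰.f i ≫ X.hom)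
  let j : ∀ i, XO i ⟶ X := fun i => Over.homMk (𝒰.f i) rfl
  have hU : IsAlgSpace ((yon S).obj U) := ((ofScheme S).obj U).property
  have hX : IsAlgSpace ((yon S).obj X) := ((ofScheme S).obj X).property
  have hj : ∀ i, RepWith @IsOpenImmersion ((yon S).map (j i)) := fun i =>
    (repWith_yon_map_iff _ _).2 (inferInstanceAs (IsOpenImmersion (𝒰.f i)))
  have main : ∀ i, ∃ (G : Over S) (g : (yon S).obj G ⟶ Z) (l : G ⟶ XO i),
      RepWith @IsOpenImmersion g ∧ IsPullback ((yon S).map l) g ((yon S).map (j i)) fst := by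
    intro i
    have sq := IsPullback.of_hasPullback ((yon S).map (j i)) fst
    have hZi : IsAlgSpace (pullback ((yon S).map (j i)) fst) :=
      isAlgSpace_of_isPullback sq hX.diag ((ofScheme S).obj (XO i)).property hZ
    have hι : RepWith @IsOpenImmersion (pullback.snd ((yon S).map (j i)) fst) :=
      repWith_of_isPullback sq (hj i)
    let V : Over S := XO i ⨯ U
    let m : pullback ((yon S).map (j i)) fst ⟶ (yon S).obj V :=
      prod.lift (pullback.fst _ _) (pullback.snd _ _ ≫ snd) ≫ inv (prodComparison (yon S) _ _)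
    have hm₁ : m ≫ (yon S).map prod.fst = pullback.fst _ _ := by
      rw [Category.assoc, ← prodComparison_fst, IsIso.inv_hom_id_assoc, prod.lift_fst]
    have hm₂ : m ≫ (yon S).map prod.snd = pullback.snd _ _ ≫ snd := by
      rw [Category.assoc, ← prodComparison_snd, IsIso.inv_hom_id_assoc, prod.lift_snd]
    have : Mono (pullback.snd ((yon S).map (j i)) fst) :=
      mono_of_repWith (fun _ _ g (_ : IsOpenImmersion g) => inferInstance) hι
    have : Mono m := ⟨fun a b e => by
      have e₁ := e =≫ (yon S).map prod.fst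
      have e₂ := e =≫ (yon S).map prod.snd
      rw [Category.assoc a, Category.assoc b, hm₁] at e₁
      rw [Category.assoc a, Category.assoc b, hm₂, ← Category.assoc, ← Category.assoc] at e₂
      rw [← cancel_mono (pullback.snd ((yon S).map (j i)) fst)]
      refine hmono _ _ ?_ e₂
      simp only [Category.assoc, ← pullback.condition]
      rw [← Category.assoc, e₁, Category.assoc]⟩
    have hsepv : IsSeparated (prod.snd : V ⟶ U).left := by
      have sqP := (IsPullback.of_hasBinaryProduct' (XO i) U).map (Over.forget S)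
      have : IsAffine (XO i).left := inferInstanceAs (IsAffine (𝒰.X i))
      have : IsSeparated (terminal.from (XO i)).left := inferInstance
      exact MorphismProperty.of_isPullback sqP ‹IsSeparated (terminal.from (XO i)).left›
    have hsep := isSeparatedMor_mono_comp m (prod.snd : V ⟶ U) hsepv
    rw [hm₂] at hsep
    have hqf' : LocP (@LocallyQuasiFinite ⊓ @LocallyOfFiniteType)
        (pullback.snd ((yon S).map (j i)) fst ≫ snd) :=
      locP_comp hZi hZ hU (locP_of_repWith (repWith_mono (P := @IsOpenImmersion)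
        (fun _ _ g (_ : IsOpenImmersion g) => ⟨inferInstance, inferInstance⟩) hι)) hqf
    obtain ⟨G, ⟨e⟩⟩ := exists_iso_of_separated_lqf hZi hqf' hsep
    obtain ⟨l, hl⟩ := (yon S).map_surjective (e.hom ≫ pullback.fst _ _)
    exact ⟨G, e.hom ≫ pullback.snd _ _, l, repWith_comp (repWith_isIso _) hι,
      sq.of_iso e.symm (Iso.refl _) (Iso.refl _) (Iso.refl _) (by simp [hl]) (by simp) (by simp)
        (by simp)⟩
  choose G g l hg hsq using main
  refine exists_iso_yon_of_openImmersions hg fun T₁ g₁ t₁ => ?_
  obtain ⟨b, hb⟩ := (yon S).map_surjective (g₁ ≫ fst)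
  obtain ⟨i, y, hy⟩ := 𝒰.exists_eq (b.left t₁)
  obtain ⟨V, v₁, v₂, sqV⟩ := exists_pullback_yon (hg i).rep g₁
  refine ⟨i, V, (yon S).map v₁, v₂, sqV, ?_⟩
  have hcomp : IsPullback ((yon S).map (v₁ ≫ l i)) ((yon S).map v₂) ((yon S).map (j i))
      ((yon S).map b) := by
    rw [hb, Functor.map_comp]
    exact sqV.paste_horiz (hsq i)
  obtain ⟨x, -, hx⟩ := Scheme.exists_preimage_of_isPullback (isPullback_left (isPullback_of_yon hcomp)) y t₁ hy
  exact ⟨x, hx⟩

end Groth.AlgSpBasic
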