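import Groth.Agent.S1366
import Groth.Agent.S10048
import Groth.Agent.S9920
import Groth.Agent.AlgSp2.UnivThickExists
import Groth.Agent.AlgSp2.FiniteTfae
import Groth.Agent.AlgSp2.Absolute.ClosedApprox
import Groth.Agent.AlgSp2.FlatSubmersive
import Groth.Agent.AlgSpBasic.ChowFiniteType
import Groth.Agent.AlgSpBasic.ImmersionDescent
import Groth.Agent.AlgSpBasic.Compact
import Groth.Agent.AlgSp2.SectionPoint

/-!
# Splitting off the proper part over a henselian pair, for algebraic spaces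
-/

set_option autoImplicit false
set_option backward.isDefEq.respectTransparency.types false
universe u

open CategoryTheory CategoryTheory.Limits AlgebraicGeometry AlgSp

namespace Groth.AlgSpBasic.SplitProperPart

noncomputable section

variable {S : Scheme.{u}}

theorem isClosedMap_points {X Y : Sp S} (hY : IsAlgSpace Y) {f : X ⟶ Y} (h : IsUnivClosedMor f) :
    IsClosedMap (Points.map f) :=
  h hY (𝟙 Y) (𝟙 X) f (IsPullback.of_horiz_isIso ⟨by simp⟩)

theorem range_map_eq {T : Over S} {X : Sp S} (g : (yon S).obj T ⟶ X) :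
    Set.range (Points.map g) = Set.range (Points.ofPt g) := by
  ext x
  constructor
  · rintro ⟨p, rfl⟩
    obtain ⟨t, rfl⟩ := (Points.schemeEquiv T).surjective p
    exact ⟨t, ofPt_eq_map g t⟩
  · rintro ⟨t, rfl⟩
    exact ⟨_, (ofPt_eq_map g t).symm⟩

/-- The composite of proper morphisms. -/
theorem isProperMor_comp {A B C : Sp S} (hA : IsAlgSpace A) (hB : IsAlgSpace B) (hC : IsAlgSpace C)
    {g : A ⟶ B} {h : B ⟶ C} (hg : IsProperMor g) (hh : IsProperMor h) : IsProperMor (g ≫ h) :=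
  ⟨ColimitSep.isSeparatedMor_comp hg.1 hh.1,
    ⟨locP_comp hA hB hC hg.2.1.1 hh.2.1.1, isQuasiCompactMor_comp hB hC hg.2.1.2 hh.2.1.2⟩,
    isUnivClosedMor_comp hB hC hg.2.2 hh.2.2⟩

/-- The image of a proper part of a finite cover is proper. -/
theorem isProperMor_openSub [QuasiSeparatedSpace ↥S] {one : Sp S} (hone : IsAlgSpace one) (hqs : IsQuasiSeparatedSp one)
    {X Q : Sp S} (hX : IsAlgSpace X) (hQ : IsAlgSpace Q) (hQc : IsQuasiCompactSp Q) (s : X ⟶ one)
    (hs : IsSeparatedMor s) (hl : LocP @LocallyOfFiniteType s) {C : Set (Points X)} (hC : IsOpen C)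
    (q : Q ⟶ openSub X C) (hq : IsSurjectiveMor q) (hp : IsUnivClosedMor (q ≫ openSubι X C ≫ s)) :
    IsProperMor (openSubι X C ≫ s) := by
  have hW := isAlgSpace_openSub hX hC
  have hi := repWith_openSubι (X := X) hC
  have : Mono (openSubι X C) :=
    mono_of_repWith (fun _ _ g (_ : IsOpenImmersion g) => inferInstance) hi
  have hWc : IsQuasiCompactSp (openSub X C) := isQuasiCompactSp_of_surjective hQc hQ hW q hq
  exact ⟨ColimitSep.isSeparatedMor_comp (ColimitSep.isSeparatedMor_of_mono _) hs,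
    ⟨locP_comp hW hX hone (locP_of_repWith (repWith_mono
      (fun _ _ g (_ : IsOpenImmersion g) => (inferInstance : LocallyOfFiniteType g)) hi)) hl,
      @Groth.Agent.S9920.result S _ ⟨_, hW⟩ ⟨_, hone⟩ (ObjectProperty.homMk (openSubι X C ≫ s)) hWc hqs⟩,
    isUnivClosedMor_of_surjective hQ hW hq hp⟩

variable {A : Type u} [CommRing A] {I : Ideal A}

local notation "B" => Spec (CommRingCat.of A)

theorem exists_split [HenselianRing A I] {X X0 Y : Sp B} (hX : IsAlgSpace X) (hX0 : IsAlgSpace X0)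
    (hY : IsAlgSpace Y) (s : X ⟶ (yon B).obj (Over.mk (𝟙 B))) (hs1 : IsSeparatedMor s)
    (hs2 : IsFiniteTypeMor s) (i0 : X0 ⟶ X)
    (s0 : X0 ⟶ (yon B).obj (Over.mk (Spec.map (CommRingCat.ofHom (Ideal.Quotient.mk I)))))
    (hX0p : IsPullback i0 s0 s ((yon B).map (Over.homMk (Spec.map (CommRingCat.ofHom (Ideal.Quotient.mk I)))
      (Category.comp_id _) : Over.mk (Spec.map (CommRingCat.ofHom (Ideal.Quotient.mk I))) ⟶ Over.mk (𝟙 B))))
    (jY : Y ⟶ X0) (hY1 : RepWith @IsOpenImmersion jY) (hY2 : RepWith @IsClosedImmersion jY)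
    (hY3 : IsProperMor (jY ≫ s0)) :
    ∃ (C : Set (Points X)) (k : Y ⟶ openSub X C), IsOpen C ∧ IsClosed C ∧
      IsProperMor (openSubι X C ≫ s) ∧ IsPullback k jY (openSubι X C) i0 := by
  let q := Spec.map (CommRingCat.ofHom (Ideal.Quotient.mk I))
  let one : Over B := Over.mk (𝟙 B)
  let A0 : Over B := Over.mk q
  let c : A0 ⟶ one := Over.homMk q (Category.comp_id _)
  have hone := IsAlgSpace.yon_obj (S := B) one
  have ht : IsTerminal ((yon B).obj one) := Groth.AlgSp2.SectionPoint.isTerminalYon B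
  have hqc1 : IsQuasiCompactSp ((yon B).obj one) :=
    (isQuasiCompactSp_yon_iff one).2 (inferInstanceAs (CompactSpace ↥B))
  have hqs1 : IsQuasiSeparatedSp ((yon B).obj one) :=
    (repWith_diag_yon_iff _ _).2 (inferInstanceAs (QuasiCompact (pullback.diagonal (𝟙 B))))
  have hXc := Groth.AlgSp2.Absolute.isQuasiCompactSp_of_qcMor hone hqc1 hs2.2
  have hXq := Groth.AlgSp2.Absolute.isQuasiSeparatedSp_of_sepMor hs1 hqs1
  obtain ⟨U, p, hpe, hps⟩ := hX.atlas
  obtain ⟨Z, gZ, hZf, hZs, -, -⟩ := Groth.Agent.S10048.result B ⟨X, hX⟩ hXc hXq U p hpe hps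
  have hZ := IsAlgSpace.yon_obj (S := B) Z
  have hpZ := Groth.AlgSp2.isProperMor_of_isFiniteMor hZ hX hZf
  let tZ : Z ⟶ one := Over.homMk Z.hom (Category.comp_id _)
  have eZ : (yon B).map tZ = gZ ≫ s := ht.hom_ext _ _
  have : LocallyOfFiniteType Z.hom := by
    have h := locP_comp hZ hX hone hpZ.2.1.1 hs2.1
    rw [← eZ] at h
    exact (repWith_yon_map_iff _ tZ).1 (repWith_of_locP hone (representable_of_diag hone.diag _) h)
  have : IsSeparated Z.hom := by
    have h := ColimitSep.isSeparatedMor_comp hpZ.1 hs1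
    rw [← eZ] at h
    exact (isSeparatedMor_yon_map_iff tZ).1 h
  have : CompactSpace ↥Z.left :=
    (isQuasiCompactSp_yon_iff Z).1 (Groth.AlgSp2.Absolute.isQuasiCompactSp_of_qcMor hX hXc hpZ.2.1.2)
  have : QuasiCompact Z.hom :=
    HasAffineProperty.iff_of_isAffine.2 ‹CompactSpace ↥Z.left›
  -- the special fibre of the cover
  let P : Over B := Over.mk (pullback.fst Z.hom q ≫ Z.hom)
  let pr : P ⟶ Z := Over.homMk (pullback.fst Z.hom q)
  let q0 : P ⟶ A0 := Over.homMk (pullback.snd Z.hom q) pullback.condition.symm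
  have hP := IsAlgSpace.yon_obj (S := B) P
  have sqP : IsPullback ((yon B).map pr) ((yon B).map q0) ((yon B).map tZ) ((yon B).map c) :=
    Groth.AlgSp2.UnivExists.isPullback_yon (Over.OverMorphism.ext (IsPullback.of_hasPullback Z.hom q).w)
      (IsPullback.of_hasPullback Z.hom q)
  rw [eZ] at sqP
  obtain ⟨m, hm₁, hm₂⟩ : ∃ m : (yon B).obj P ⟶ X0, m ≫ i0 = (yon B).map pr ≫ gZ ∧ m ≫ s0 = (yon B).map q0 := by
    refine ⟨hX0p.lift ((yon B).map pr ≫ gZ) ((yon B).map q0) ?_, hX0p.lift_fst _ _ _, hX0p.lift_snd _ _ _⟩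
    rw [Category.assoc]; exact sqP.w
  have sqm : IsPullback ((yon B).map pr) m gZ i0 :=
    IsPullback.of_bot (by rw [hm₂]; exact sqP) hm₁.symm hX0p
  have hmf : RepWith @IsFinite m :=
    repWith_of_isPullback sqm ((Groth.AlgSp2.isFiniteMor_iff hZ hX).1 hZf)
  have hms : IsSurjectiveMor m := Groth.AlgSp2.isSurjectiveMor_of_isPullback' sqm hZs
  -- the part of the cover over `Y`
  obtain ⟨Q, v, l, sqv⟩ := hY1.rep m
  have : IsOpenImmersion v.left := hY1.property m l v sqv
  have hvc : IsClosedImmersion v.left := hY2.property m l v sqv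
  have hv : ∀ p, p ∈ Set.range v.left ↔ Points.ofPt m p ∈ Set.range (Points.map jY) := fun p => by
    constructor
    · rintro ⟨z, rfl⟩
      exact ⟨Points.ofPt l z, by rw [Points.map_ofPt, sqv.w, ofPt_comp_yon]⟩
    · rintro ⟨y, hy⟩
      obtain ⟨z, -, hz⟩ := (map_eq_ofPt_iff sqv y p).1 hy
      exact ⟨z, hz⟩
  have hQp : IsProper (v.left ≫ pullback.snd Z.hom q) := by
    have hl : IsFiniteMor l := (Groth.AlgSp2.isFiniteMor_iff (IsAlgSpace.yon_obj Q) hY).2
      (repWith_of_isPullback sqv.flip hmf)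
    have h := isProperMor_comp (IsAlgSpace.yon_obj Q) hY (IsAlgSpace.yon_obj A0)
      (Groth.AlgSp2.isProperMor_of_isFiniteMor (IsAlgSpace.yon_obj Q) hY hl) hY3
    have e : l ≫ jY ≫ s0 = (yon B).map (v ≫ q0) := by
      rw [reassoc_of% sqv.w, hm₂, Functor.map_comp]
    rw [e] at h
    exact (repWith_yon_map_iff @IsProper (v ≫ q0)).1 ((Groth.AlgSp2.isProperMor_iff_repWith
      (IsAlgSpace.yon_obj _) (IsAlgSpace.yon_obj _) (representable_of_diag (IsAlgSpace.yon_obj A0).diag _)).1 h)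
  let O : (pullback Z.hom q).Opens := v.left.opensRange
  have hOc : IsClosed (O : Set ↑(pullback Z.hom q)) := v.left.isClosedEmbedding.isClosed_range
  have hOp : IsProper (O.ι ≫ pullback.snd Z.hom q) := by
    have e : O.ι ≫ pullback.snd Z.hom q =
        v.left.isoOpensRange.inv ≫ v.left ≫ pullback.snd Z.hom q := by
      rw [← Category.assoc, Scheme.Hom.isoOpensRange_inv_comp]
    rw [e]
    infer_instance
  obtain ⟨WZ, hWc, hWp, hWpre⟩ := Groth.Agent.S1366.result I Z.hom O hOc hOp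
  -- the two images
  have hgc := isClosedMap_points hX hpZ.2.2
  have hcl : ∀ F : Set ↥Z.left, IsClosed F → IsClosed (Points.ofPt gZ '' F) := fun F hF => by
    have h : Points.ofPt gZ '' F = Points.map gZ '' (Points.schemeHomeo Z '' F) := by
      rw [Set.image_image]
      exact Set.image_congr fun z _ => ofPt_eq_map gZ z
    rw [h]
    exact hgc _ ((Points.schemeHomeo Z).isClosedMap F hF)
  let C : Set (Points X) := Points.ofPt gZ '' (WZ : Set ↥Z.left)
  let D : Set (Points X) := Points.ofPt gZ '' (WZ : Set ↥Z.left)ᶜ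
  have hC : IsClosed C := hcl _ hWc
  have hD : IsClosed D := hcl _ WZ.isOpen.isClosed_compl
  have hdisj : Disjoint C D := by
    rw [Set.disjoint_left]
    intro x hxC hxD
    let F : Set ↥(WZ : Scheme) := WZ.ι ⁻¹' (Points.ofPt gZ ⁻¹' (C ∩ D))
    have hF : IsClosed F :=
      ((hC.inter hD).preimage (Points.continuous_ofPt gZ)).preimage WZ.ι.continuous
    obtain ⟨w₀, hw₀, e₀⟩ := hxC
    have hne : ((WZ.ι ≫ Z.hom) '' F).Nonempty := ⟨_, ⟨w₀, hw₀⟩, by
      show Points.ofPt gZ w₀ ∈ C ∩ D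
      exact ⟨⟨w₀, hw₀, rfl⟩, e₀ ▸ hxD⟩, rfl⟩
    obtain ⟨a, ha, hcla⟩ := ((WZ.ι ≫ Z.hom).isClosedMap F hF).exists_closed_singleton hne
    obtain ⟨w, hw, hwa⟩ := ha
    have hmax : (a : PrimeSpectrum A).asIdeal.IsMaximal :=
      (PrimeSpectrum.isClosed_singleton_iff_isMaximal _).1 hcla
    have haI : a ∈ Set.range q := by
      have h := range_comap_of_surjective _ (Ideal.Quotient.mk I)
        Ideal.Quotient.mk_surjective
      have ha' : (a : PrimeSpectrum A) ∈ PrimeSpectrum.zeroLocus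
          (RingHom.ker (Ideal.Quotient.mk I) : Set A) := by
        rw [Ideal.mk_ker]; refine (PrimeSpectrum.mem_zeroLocus (a : PrimeSpectrum A) (I : Set A)).2 ?_
        exact le_trans (HenselianRing.jac : I ≤ Ideal.jacobson ⊥)
          (show Ideal.jacobson (⊥ : Ideal A) ≤ (a : PrimeSpectrum A).asIdeal from sInf_le ⟨bot_le, hmax⟩)
      rw [← h] at ha'
      exact ha'
    obtain ⟨a0, ha0⟩ := haI
    obtain ⟨t, ht₁, -⟩ := Scheme.Pullback.exists_preimage_pullback (f := Z.hom) (g := q) (WZ.ι w) a0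
      (hwa.trans ha0.symm)
    have htO : t ∈ O := by
      rw [← hWpre]
      show pullback.fst Z.hom q t ∈ WZ
      rw [ht₁]; exact w.2
    obtain ⟨-, ⟨z', hz', hz''⟩⟩ : Points.ofPt gZ (WZ.ι w) ∈ C ∩ D := hw
    have hx : Points.map i0 (Points.ofPt m t) = Points.ofPt gZ z' := by
      rw [Points.map_ofPt, hm₁, ofPt_comp_yon]
      exact (congrArg (Points.ofPt gZ) ht₁).trans hz''.symm
    obtain ⟨t', ht'₁, ht'₂⟩ := exists_point_of_isPullback sqm (Points.ofScheme Z z') (Points.ofPt m t)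
      (by rw [← ofPt_eq_map]; exact hx.symm)
    obtain ⟨t'', rfl⟩ := (Points.schemeEquiv P).surjective t'
    have ht'O : t'' ∈ O := by
      refine (hv t'').2 ?_
      rw [ofPt_eq_map]
      rw [show Points.map m (Points.ofScheme P t'') = _ from ht'₂]
      exact (hv t).1 htO
    apply hz'
    have e : pr.left t'' = z' :=
      (Points.schemeEquiv Z).injective ((Points.map_yon_map_apply pr t'').symm.trans ht'₁)
    rw [← hWpre] at ht'O
    rw [← e]; exact ht'O
  have hcov : C ∪ D = Set.univ := Set.eq_univ_of_forall fun x => by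
    obtain ⟨p, rfl⟩ := hZs x
    obtain ⟨z, rfl⟩ := (Points.schemeEquiv Z).surjective p
    rcases em (z ∈ WZ) with h | h
    · exact Or.inl ⟨z, h, ofPt_eq_map _ _⟩
    · exact Or.inr ⟨z, h, ofPt_eq_map _ _⟩
  have hCo : IsOpen C := by
    have h : C = Dᶜ := (IsCompl.mk hdisj (codisjoint_iff.2 hcov)).eq_compl
    rw [h]; exact hD.isOpen_compl
  have hi := repWith_openSubι (X := X) hCo
  have : Mono (openSubι X C) :=
    mono_of_repWith (fun _ _ g (_ : IsOpenImmersion g) => inferInstance) hi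
  have : Mono jY := mono_of_repWith (fun _ _ g (_ : IsOpenImmersion g) => inferInstance) hY1
  -- properness
  let ZW : Over B := Over.mk (WZ.ι ≫ Z.hom)
  let iW : ZW ⟶ Z := Over.homMk WZ.ι
  obtain ⟨qW, hqW⟩ := (openSub_exists_lift_iff X C ((yon B).map iW ≫ gZ)).2 fun z => by
    rw [ofPt_comp_yon]; exact ⟨_, z.2, rfl⟩
  have hWinj : ∀ {y y' : Points (openSub X C)},
      Points.map (openSubι X C) y = Points.map (openSubι X C) y' → y = y' := fun h =>
    (isEmbedding_map_of_immersion hX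
      (repWith_mono (fun _ _ g (_ : IsOpenImmersion g) => (inferInstance : IsImmersion g)) hi)).1.injective h
  have hqs : IsSurjectiveMor qW := fun y => by
    obtain ⟨z, hz, e⟩ : Points.map (openSubι X C) y ∈ C := (range_map_openSubι (X := X) (W := C)).le ⟨y, rfl⟩
    refine ⟨Points.ofScheme ZW (⟨z, hz⟩ : WZ), ?_⟩
    apply hWinj
    rw [← Points.map_comp, hqW, ← ofPt_eq_map, ofPt_comp_yon]
    exact e
  have hZWc : IsQuasiCompactSp ((yon B).obj ZW) := by
    refine (isQuasiCompactSp_yon_iff ZW).2 ?_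
    exact QuasiCompact.compactSpace_of_compactSpace (WZ.ι ≫ Z.hom)
  have hprop : IsProperMor (openSubι X C ≫ s) := by
    refine isProperMor_openSub hone hqs1 hX (IsAlgSpace.yon_obj ZW) hZWc s hs1 hs2.1 hCo qW hqs ?_
    let tW : ZW ⟶ one := Over.homMk (WZ.ι ≫ Z.hom) (Category.comp_id _)
    have e : qW ≫ openSubι X C ≫ s = (yon B).map tW := ht.hom_ext _ _
    rw [e]
    exact ((Groth.AlgSp2.isProperMor_iff_repWith (IsAlgSpace.yon_obj ZW) hone
      ((repWith_yon_map_iff @IsProper tW).2 hWp).rep).2 ((repWith_yon_map_iff @IsProper tW).2 hWp)).2.2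
  -- the special fibre
  have hmem : ∀ x0 : Points X0, Points.map i0 x0 ∈ C ↔ x0 ∈ Set.range (Points.map jY) := by
    intro x0
    obtain ⟨p, rfl⟩ := hms x0
    obtain ⟨t, rfl⟩ := (Points.schemeEquiv P).surjective p
    have e : Points.map i0 (Points.map m (Points.ofScheme P t)) = Points.ofPt gZ (pr.left t) := by
      rw [← ofPt_eq_map, Points.map_ofPt, hm₁, ofPt_comp_yon]
    show Points.map i0 (Points.map m (Points.ofScheme P t)) ∈ C ↔ Points.map m (Points.ofScheme P t) ∈ _
    rw [e, ← ofPt_eq_map, ← hv]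
    constructor
    · intro h
      show t ∈ O
      rw [← hWpre]
      by_contra hn
      exact Set.disjoint_left.1 hdisj h ⟨pr.left t, hn, rfl⟩
    · intro h
      have h' : t ∈ O := h
      rw [← hWpre] at h'
      exact ⟨pr.left t, h', rfl⟩
  have : IsAlgSpace (openSub X C) := isAlgSpace_openSub hX hCo
  obtain ⟨k, hk⟩ := exists_lift_of_range_openImmersion hY hi (jY ≫ i0) (by
    rintro _ ⟨y, rfl⟩
    rw [Points.map_comp, range_map_openSubι]
    exact (hmem _).2 ⟨y, rfl⟩)
  obtain ⟨R, r₁, r₂, sqR⟩ : ∃ (R : Sp B) (r₁ : R ⟶ openSub X C) (r₂ : R ⟶ X0),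
      IsPullback r₁ r₂ (openSubι X C) i0 := ⟨_, _, _, IsPullback.of_hasPullback (openSubι X C) i0⟩
  have hR := isAlgSpace_of_isPullback sqR hX.diag ‹IsAlgSpace (openSub X C)› hX0
  have hr₂ : RepWith @IsOpenImmersion r₂ := repWith_of_isPullback sqR hi
  have : Mono r₂ := mono_of_repWith (fun _ _ g (_ : IsOpenImmersion g) => inferInstance) hr₂
  obtain ⟨u, hu⟩ := exists_lift_of_range_openImmersion hR hY1 r₂ (by
    rintro _ ⟨y, rfl⟩
    refine (hmem _).1 ?_
    rw [← Points.map_comp, ← sqR.w, Points.map_comp]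
    exact (range_map_openSubι (X := X) (W := C)).le ⟨_, rfl⟩)
  have hl₂ := sqR.lift_snd k jY hk
  let e : Y ≅ R := ⟨sqR.lift k jY hk, u,
    (cancel_mono jY).1 (by rw [Category.assoc, hu, hl₂, Category.id_comp]),
    (cancel_mono r₂).1 (by rw [Category.assoc, hl₂, hu, Category.id_comp])⟩
  refine ⟨C, k, hCo, hC, hprop, IsPullback.of_iso sqR e.symm (Iso.refl _) (Iso.refl _) (Iso.refl _)
    ?_ ?_ (by simp) (by simp)⟩
  · rw [Iso.refl_hom, Category.comp_id]
    exact (Iso.inv_comp_eq e).2 (sqR.lift_fst k jY hk).symm |>.symm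
  · rw [Iso.refl_hom, Category.comp_id]
    exact (Iso.inv_comp_eq e).2 hl₂.symm |>.symm

/-- An open subspace with closed set of points is a closed subspace. -/
theorem repWith_closedImmersion_openSub {X : Sp S} {C : Set (Points X)} (hC : IsOpen C)
    (hC' : IsClosed C) : RepWith @IsClosedImmersion (openSubι X C) := by
  have hi := repWith_openSubι (X := X) hC
  refine ⟨hi.rep, fun U V g fst snd sq => ?_⟩
  have : IsOpenImmersion snd.left := hi.property g fst snd sq
  refine IsClosedImmersion.of_isPreimmersion snd.left ?_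
  have e : Set.range snd.left = Points.ofPt g ⁻¹' C := by
    ext t
    constructor
    · rintro ⟨z, rfl⟩
      show Points.ofPt g (snd.left z) ∈ C
      rw [← ofPt_comp_yon, ← sq.w, ← Points.map_ofPt]
      exact (range_map_openSubι (X := X) (W := C)).le ⟨_, rfl⟩
    · intro ht
      obtain ⟨y, hy⟩ := (range_map_openSubι (X := X) (W := C)).ge ht
      obtain ⟨z, -, hz⟩ := (map_eq_ofPt_iff sq y t).1 hy
      exact ⟨z, hz⟩
  rw [e]
  exact hC'.preimage (Points.continuous_ofPt g)

end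

end Groth.AlgSpBasic.SplitProperPart
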