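import Groth.Agent.S10421
import Groth.Agent.S10033
import Groth.Agent.S10007
import Groth.Agent.SpLimit.AffineLimit
import Groth.Agent.SpLimit.Charts
import Groth.Agent.EtaleBase.FpqcDescent
import Groth.Agent.Flatmor4.FlatBirational
import Groth.Agent.AlgSp2.FiniteMor
import Groth.Agent.AlgSp3.ImmersionImage
import Groth.Agent.AlgSp3.RedInduced
import Groth.Agent.AlgSpBasic.ChevalleySaturate
import Groth.Agent.AlgSpBasic.ChowProjective

/-!
# Finite covers by schemes, finite etale over a dense open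

On a Noetherian algebraic space, an integral cover by a scheme which is finite etale over a dense
open is replaced by the scheme theoretic image in a finite stage; iterating on the complements gives
a finite stratification.
-/

set_option autoImplicit false
set_option linter.unusedSectionVars false
set_option backward.isDefEq.respectTransparency.types false
universe u

open CategoryTheory CategoryTheory.Limits AlgebraicGeometry AlgSp TopologicalSpace

namespace Groth.AlgSpBasic.FiniteStrata

noncomputable section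

variable {S : Scheme.{u}}

/-- Over an open on which `h` is a closed immersion, `h` is its scheme theoretic image. -/
theorem isIso_restrict_toImage {Y G : Scheme.{u}} (h : Y ⟶ G) [QuasiCompact h] (O : G.Opens)
    [IsClosedImmersion (h ∣_ O)] : IsIso (h.toImage ∣_ (h.imageι ⁻¹ᵁ O)) := by
  have hc : IsClosedImmersion (h.toImage ∣_ (h.imageι ⁻¹ᵁ O) ≫ h.imageι ∣_ O) := by
    have e := h.toImage_imageι
    have : IsClosedImmersion ((h.toImage ≫ h.imageι) ∣_ O) := by
      rw [e]; infer_instance
    rwa [morphismRestrict_comp] at this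
  have : IsClosedImmersion (h.toImage ∣_ (h.imageι ⁻¹ᵁ O)) :=
    IsClosedImmersion.of_comp _ (h.imageι ∣_ O)
  have : IsSchemeTheoreticallyDominant h.toImage :=
    Groth.Flatmor4.isSchemeTheoreticallyDominant_toImage h
  have : IsSchemeTheoreticallyDominant (h.toImage ∣_ (h.imageι ⁻¹ᵁ O)) :=
    IsSchemeTheoreticallyDominant.of_isPullback (isPullback_morphismRestrict h.toImage _).flip
  exact IsClosedImmersion.isIso_iff_ker_eq_bot.mpr (Scheme.Hom.ker_eq_bot _)

/-- The points of a Noetherian space form a Noetherian space. -/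
theorem noetherianSpace_points {X : Sp S} (hX : IsAlgSpace X) (hqc : IsQuasiCompactSp X)
    (hN : IsLocNoethSp X) : NoetherianSpace (Points X) := by
  obtain ⟨U, a, hU, hae, has⟩ := exists_affine_chart hX hqc
  have : IsLocallyNoetherian U.left := Groth.AlgSp2.isLocallyNoetherian_of_etale hX hN hae
  have : IsNoetherian U.left := { }
  have h := NoetherianSpace.range (Points.ofPt a) (Points.continuous_ofPt a)
  rw [(surjective_ofPt_of_repWith has).range_eq] at h
  exact (noetherianSpace_set_iff _).1 h |> fun h' => ⟨by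
    exact (Homeomorph.Set.univ (Points X)).symm.isEmbedding.isInducing.noetherianSpace.wf⟩

/-- Among affine schemes with affine transition maps, a finite type limit is a closed subscheme of
some stage. -/
theorem exists_isClosedImmersion_stage {I : Type u} [SmallCategory I] [IsCofiltered I]
    (A : Groth.SpLimit.AffSys S I) {T : Over S} [IsAffine T.left] (q : ∀ i, A.D.obj i ⟶ T)
    (hq : ∀ {i j : I} (m : i ⟶ j), A.D.map m ≫ q j = q i) (bot : A.c.pt ⟶ T)
    (hbot : ∀ i, A.c.π.app i ≫ q i = bot) (hft₀ : LocallyOfFiniteType bot.left) :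
    ∃ i, IsClosedImmersion (A.c.π.app i).left := by
  have := A.affPt
  have : ∀ i, IsAffine (A.D.obj i).left := A.aff
  have : ∀ i, IsAffine ((A.D ⋙ Over.forget S).obj i) := A.aff
  have hft : bot.left.appTop.hom.FiniteType :=
    HasRingHomProperty.appTop @LocallyOfFiniteType bot.left hft₀
  algebraize [bot.left.appTop.hom]
  obtain ⟨s, hs⟩ := hft.1
  choose i t ht using fun x : Γ(A.c.pt.left, ⊤) =>
    exists_appTop_π_eq_of_isAffine_of_isLimit (A.D ⋙ Over.forget S) _ A.isLimit x
  classical
  obtain ⟨i₀⟩ := IsCofiltered.nonempty (C := I)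
  obtain ⟨k, hk⟩ := IsCofiltered.inf_objs_exists (insert i₀ (s.image i))
  refine ⟨k, IsClosedImmersion.of_surjective_of_isAffine _ fun x => ?_⟩
  let π := (A.c.π.app k).left.appTop.hom
  let R : Subalgebra Γ(T.left, ⊤) Γ(A.c.pt.left, ⊤) :=
    { π.range.toSubsemiring with
      algebraMap_mem' := fun r => ⟨(q k).left.appTop.hom r, by
        show ((q k).left.appTop ≫ (A.c.π.app k).left.appTop) r = bot.left.appTop r
        rw [← Scheme.Hom.comp_appTop, ← Over.comp_left, hbot]⟩ }
  have hle : Algebra.adjoin Γ(T.left, ⊤) (s : Set Γ(A.c.pt.left, ⊤)) ≤ R :=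
    Algebra.adjoin_le fun y hy => by
      obtain ⟨m⟩ := hk (Finset.mem_insert_of_mem (Finset.mem_image_of_mem i hy))
      refine ⟨(A.D.map m).left.appTop.hom (t y), ?_⟩
      show ((A.D.map m).left.appTop ≫ (A.c.π.app k).left.appTop) (t y) = y
      rw [← Scheme.Hom.comp_appTop, ← Over.comp_left, A.c.w m]
      exact ht y
  exact hle (hs ▸ Algebra.mem_top)

variable {Z : Sp S}

/-- One step: a finite cover by a scheme which is finite etale outside a proper closed subset. -/
theorem exists_step [QuasiSeparatedSpace ↥S] (hZ : IsAlgSpace Z) (hqc : IsQuasiCompactSp Z)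
    (hqs : IsQuasiSeparatedSp Z) (hN : IsLocNoethSp Z) (hne : Nonempty (Points Z)) :
    ∃ (C : Closeds (Points Z)) (Y : Over S) (g : (yon S).obj Y ⟶ Z), C ≠ ⊤ ∧
      RepWith @IsFinite g ∧ RepWith @Surjective g ∧ LocP @LocallyOfFinitePresentation g ∧
      ∀ (T : Over S) (t : (yon S).obj T ⟶ Z), (∀ p, Points.ofPt t p ∉ C) →
        ∀ (W : Over S) (fst : (yon S).obj W ⟶ (yon S).obj Y) (snd : W ⟶ T),
          IsPullback fst ((yon S).map snd) g t → Etale snd.left := by
  have := noetherianSpace_points hZ hqc hN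
  obtain ⟨U₀, b, hb, hbs⟩ := hZ.atlas
  obtain ⟨Y, g, Us, jU, hgi, hgs, hjU, -, hdense, hfe, -⟩ :=
    Groth.Agent.S10421.result ⟨Z, hZ⟩ hqc hqs NoetherianSpace.finite_irreducibleComponents b hb hbs
  let V : Set (Points Z) := Set.range (Points.map jU.hom)
  have hV : IsOpen V := (isOpenMap_map_of_repWith
    (fun _ _ φ (_ : IsOpenImmersion φ) => φ.isOpenEmbedding.isOpenMap) hjU).isOpen_range
  have : Mono jU.hom :=
    mono_of_repWith (fun _ _ f (_ : IsOpenImmersion f) => (inferInstance : Mono f)) hjU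
  have hprop : ∀ (T : Over S) (t : (yon S).obj T ⟶ Z), (∀ p, Points.ofPt t p ∈ V) →
      ∀ (W : Over S) (fst : (yon S).obj W ⟶ (yon S).obj Y) (snd : W ⟶ T),
        IsPullback fst ((yon S).map snd) g t → IsFinite snd.left ∧ Etale snd.left := by
    intro T t ht W fst snd sq
    obtain ⟨l, hl⟩ := exists_lift_of_range_openImmersion (IsAlgSpace.yon_obj T) hjU t (by
      rintro _ ⟨x, rfl⟩
      obtain ⟨p, rfl⟩ := (Points.schemeEquiv T).surjective x
      exact (ofPt_eq_map t p) ▸ ht p)
    obtain ⟨h₁, h₂⟩ := hfe _ _ _ (IsPullback.of_hasPullback g jU.hom)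
    let s := (IsPullback.of_hasPullback g jU.hom).lift fst ((yon S).map snd ≫ l)
      (by rw [Category.assoc, hl, sq.w])
    have sqs : IsPullback s ((yon S).map snd) (pullback.snd g jU.hom) l :=
      IsPullback.of_right (by rw [IsPullback.lift_fst, hl]; exact sq) (IsPullback.lift_snd _ _ _ _)
        (IsPullback.of_hasPullback g jU.hom)
    exact ⟨(repWith_yon_map_iff _ snd).1 (repWith_of_isPullback sqs h₁),
      (repWith_yon_map_iff _ snd).1 (repWith_of_isPullback sqs h₂)⟩
  -- the open and an affine chart of it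
  have hVs := isAlgSpace_openSub hZ hV
  have hjV := repWith_openSubι (X := Z) hV
  have hVc : IsQuasiCompactSp (openSub Z V) := by
    rw [isQuasiCompactSp_iff_compactSpace hVs]
    have he := isEmbedding_map_of_immersion hZ (i := openSubι Z V)
      (repWith_mono (fun _ _ f (_ : IsOpenImmersion f) => inferInstanceAs (IsImmersion f)) hjV)
    exact ⟨he.1.isCompact_iff.2 (NoetherianSpace.isCompact _)⟩
  obtain ⟨A, a, hA, hae, has⟩ := exists_affine_chart hVs hVc
  let bA := a ≫ openSubι Z V
  have hbA : RepWith @Etale bA :=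
    repWith_comp hae (repWith_mono (fun _ _ f (_ : IsOpenImmersion f) => inferInstanceAs (Etale f)) hjV)
  have hbAV : ∀ p, Points.ofPt bA p ∈ V := fun p => by
    rw [← Points.map_ofPt]
    exact (range_map_openSubι (X := Z) (W := V)).le ⟨_, rfl⟩
  -- the finite stages
  let Ys : AlgSp.Space S := ⟨(yon S).obj Y, IsAlgSpace.yon_obj Y⟩
  obtain ⟨I, _, _, _, D, τ, c, hc, e, hD, hDa, hDt, hDl⟩ := Groth.Agent.S10033.result S
    (X := Ys) (Y := ⟨Z, hZ⟩) (ObjectProperty.homMk g) (isIntegralMor_iff_repWith.2 hgi) hqc hqs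
  have hDf : ∀ i, RepWith @IsFinite (τ.app i) := fun i => isFiniteMor_iff_repWith.1 (hDt i).1
  have hDaff : ∀ i, IsAffineMor (τ.app i) := fun i => isAffineMor_iff_repWith.2
    (repWith_mono (fun _ _ g (_ : IsFinite g) => inferInstanceAs (IsAffineHom g)) (hDf i))
  have hDqc : ∀ i, IsQuasiCompactSp (D.obj i) := fun i =>
    Groth.AlgSp2.Approx.isQuasiCompactSp_of_affineMor (hD i) (hDaff i) hZ hqc
  have hDqs : ∀ i, IsQuasiSeparatedSp (D.obj i) := fun i =>
    Groth.AlgSp2.Approx.isQuasiSeparatedSp_of_affineMor (hD i) (hDaff i) hqs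
  have hrepc : c.pt.obj.IsRepresentable :=
    (representableByOfIso (e.symm : (yon S).obj Y ≅ c.pt)).isRepresentable
  obtain ⟨i₀, G₀, ⟨hG₀⟩⟩ := Groth.Agent.S10007.result S D hD hDa hDqc hDqs c hc hrepc
  let g₀ : (yon S).obj G₀ ≅ D.obj i₀ := isoOfRepresentableBy hG₀
  obtain ⟨A₀, w, u', sqA⟩ := (hDf i₀).rep bA
  have : IsFinite w.left := (hDf i₀).property bA u' w sqA
  have : IsAffine A₀.left := isAffine_of_isAffineHom w.left
  obtain ⟨P⟩ := Groth.SpLimit.nonempty_pullSys D hDa hc i₀ u'
  have hw : c.π.app i₀ ≫ τ.app i₀ = e.hom ≫ g := by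
    rw [← Iso.inv_comp_eq]; exact hDl i₀
  have sqL : IsPullback (P.top ≫ e.hom) ((yon S).map (P.bot ≫ w)) g bA := by
    have h := P.sqTop.paste_vert sqA
    rw [← Functor.map_comp, hw] at h
    exact h.of_iso (Iso.refl _) e (Iso.refl _) (Iso.refl _) (by simp) (by simp) (by simp) (by simp)
  obtain ⟨hLf, hLe⟩ := hprop A bA hbAV _ _ _ sqL
  have : LocallyOfFiniteType (P.bot.left ≫ w.left) := by
    rw [← Over.comp_left]; infer_instance
  have : LocallyOfFiniteType P.bot.left := locallyOfFiniteType_of_comp P.bot.left w.left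
  obtain ⟨k, hk⟩ := exists_isClosedImmersion_stage P.affSys P.q P.map_q P.bot P.π_q
    ‹LocallyOfFiniteType P.bot.left›
  obtain ⟨G, sG, fG, sqG⟩ := (isAffineMor_iff_repWith.1 (hDa _ _ k.hom)).rep g₀.hom
  have hfG : IsIso fG := sqG.isIso_fst_of_isIso
  have : CompactSpace ↥Y.left := by
    obtain ⟨A', a', ha', has', hA'⟩ := hqc
    obtain ⟨W, fst, snd, sq⟩ := exists_pullback_yon hgi.rep a'
    have : IsIntegralHom snd.left := hgi.property a' _ snd sq
    have : CompactSpace ↥A'.left := hA'
    have : CompactSpace ↥W.left := QuasiCompact.compactSpace_of_compactSpace snd.left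
    have hf : Surjective fst.left := has'.property g _ fst sq.flip
    exact hf.1.compactSpace fst.left.continuous
  have : QuasiSeparatedSpace ↥G.left := ChowProjective.quasiSeparatedSpace_left
    (isQuasiSeparatedSp_of_openImmersion (hDqs k.left) (repWith_isIso fG))
  obtain ⟨h, hh⟩ := (yon S).map_surjective (e.inv ≫ c.π.app k.left ≫ inv fG)
  have : QuasiCompact h.left := quasiCompact_of_compactSpace h.left
  let π' := fG ≫ τ.app k.left
  have hπ' : RepWith @IsFinite π' := repWith_comp (repWith_isIso _) (hDf _)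
  have hgπ : (yon S).map h ≫ π' = g := by
    rw [hh, Category.assoc, Category.assoc, IsIso.inv_hom_id_assoc]; exact hDl k.left
  let O : G.left.Opens := ⟨Points.ofPt π' ⁻¹' V, hV.preimage (Points.continuous_ofPt _)⟩
  -- the chart of the open
  have sqE : IsPullback (P.p k) ((yon S).map (P.q k ≫ w)) (τ.app k.left) bA := by
    have h := (P.sq k).paste_vert sqA
    rw [← Functor.map_comp, τ.naturality k.hom] at h
    simpa using h
  obtain ⟨eA, heA⟩ := (yon S).map_surjective (P.p k ≫ inv fG)
  have heAπ : (yon S).map eA ≫ π' = (yon S).map (P.q k ≫ w) ≫ bA := by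
    rw [heA, Category.assoc, IsIso.inv_hom_id_assoc]; exact sqE.w
  have heO : ∀ x, eA.left x ∈ O := fun x => by
    show Points.ofPt π' (eA.left x) ∈ V
    rw [← ofPt_comp_yon, heAπ, ofPt_comp_yon]
    exact hbAV _
  have : Etale eA.left := (repWith_yon_map_iff _ eA).1 (heA ▸
    repWith_comp (repWith_of_isPullback sqE.flip hbA) (repWith_isIso _))
  obtain ⟨φ, hφ⟩ := (yon S).map_surjective (P.top ≫ e.hom)
  have sqh : IsPullback ((yon S).map φ) ((yon S).map (P.L.π.app k)) ((yon S).map h) ((yon S).map eA) := by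
    rw [hφ, hh, heA]
    exact (P.sq_π k).of_iso (Iso.refl _) e (Iso.refl _) (asIso fG).symm (by simp) (by simp)
      (by simp) (by simp)
  have sqh' := isPullback_left (isPullback_of_yon sqh)
  have : IsClosedImmersion (h.left ∣_ O) := by
    let eA' : (P.E.obj k).left ⟶ O := IsOpenImmersion.lift O.ι eA.left (by
      rw [Scheme.Opens.range_ι]; rintro _ ⟨x, rfl⟩; exact heO x)
    have heA' : eA' ≫ O.ι = eA.left := IsOpenImmersion.lift_fac _ _ _
    have : Etale (eA' ≫ O.ι) := by rw [heA']; infer_instance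
    have : Etale eA' := Etale.of_comp eA' O.ι
    have : Surjective eA' := ⟨fun o => by
      have ho : Points.ofPt π' (O.ι o) ∈ V := by
        show O.ι o ∈ O
        exact o.2
      obtain ⟨x, hx⟩ := (range_map_openSubι (X := Z) (W := V)).ge ho
      obtain ⟨p, hp⟩ := surjective_ofPt_of_repWith has x
      have sqE' : IsPullback ((yon S).map eA) ((yon S).map (P.q k ≫ w)) π' bA := by
        rw [heA]
        exact sqE.of_iso (Iso.refl _) (asIso fG).symm (Iso.refl _) (Iso.refl _) (by simp) (by simp)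
          (by simp [π']) (by simp)
      obtain ⟨z, hz, -⟩ := (ofPt_eq_ofPt_iff sqE' (O.ι o) p).1 (by
        rw [← hx, ← hp, Points.map_ofPt])
      refine ⟨z, O.ι.isOpenEmbedding.injective ?_⟩
      rw [← Scheme.Hom.comp_apply, heA']
      exact hz⟩
    have : IsAffine (P.E.obj k).left := P.affSys.aff k
    have : QuasiSeparatedSpace ↥(O : Scheme.{u}) :=
      quasiSeparatedSpace_of_quasiSeparated O.ι
    have : QuasiCompact eA' := quasiCompact_of_compactSpace eA'
    let l : P.L.pt.left ⟶ (h.left ⁻¹ᵁ O : Scheme.{u}) :=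
      (isPullback_morphismRestrict h.left O).flip.lift φ.left ((P.L.π.app k).left ≫ eA')
        (by rw [Category.assoc, heA']; exact sqh'.w)
    have sql : IsPullback l (P.L.π.app k).left (h.left ∣_ O) eA' :=
      IsPullback.of_right (by rw [IsPullback.lift_fst, heA']; exact sqh') (IsPullback.lift_snd _ _ _ _)
        (isPullback_morphismRestrict h.left O).flip
    exact MorphismProperty.of_isPullback_of_descendsAlong (P := @IsClosedImmersion)
      (Q := Groth.EtaleBase.Fpqc) sql.flip ⟨⟨inferInstance, inferInstance⟩, inferInstance⟩ hk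
  have := isIso_restrict_toImage h.left O
  let Y' : Over S := Over.mk (h.left.imageι ≫ G.hom)
  let ι' : Y' ⟶ G := Over.homMk h.left.imageι rfl
  let toY' : Y ⟶ Y' := Over.homMk h.left.toImage (by
    show h.left.toImage ≫ h.left.imageι ≫ G.hom = Y.hom
    rw [Scheme.Hom.toImage_imageι_assoc, Over.w h])
  have htoY' : toY' ≫ ι' = h := Over.OverMorphism.ext (Scheme.Hom.toImage_imageι _)
  let g' := (yon S).map ι' ≫ π'
  have hg' : RepWith @IsFinite g' := repWith_comp ((repWith_yon_map_iff _ ι').2
    (inferInstanceAs (IsFinite h.left.imageι))) hπ'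
  have hgg' : (yon S).map toY' ≫ g' = g := by
    rw [← Category.assoc, ← Functor.map_comp, htoY', hgπ]
  refine ⟨⟨Vᶜ, hV.isClosed_compl⟩, Y', g', fun hC => ?_, hg', ?_,
    Groth.AlgSp2.locP_lfp_of_isFiniteMor (IsAlgSpace.yon_obj _) hZ hN (isFiniteMor_iff_repWith.2 hg'),
    ?_⟩
  · obtain ⟨x⟩ := hne
    obtain ⟨y, -, hy⟩ := hdense.inter_open_nonempty _ isOpen_univ ⟨x, trivial⟩
    have : y ∈ (⟨Vᶜ, hV.isClosed_compl⟩ : Closeds (Points Z)) := by rw [hC]; trivial
    exact this hy
  · refine repWith_surjective_of_ofPt hg'.rep fun y => ?_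
    obtain ⟨v, hv⟩ := surjective_ofPt_of_repWith hgs y
    exact ⟨toY'.left v, by rw [← ofPt_comp_yon, hgg', hv]⟩
  intro T t ht W' fst' snd' sq'
  obtain ⟨W, fst, snd, sq⟩ := exists_pullback_yon hgi.rep t
  have hetale : Etale snd.left := (hprop T t (fun p => not_not.1 (ht p)) W _ snd sq).2
  obtain ⟨ψ, hψ⟩ := (yon S).map_surjective (sq'.lift ((yon S).map (fst ≫ toY')) ((yon S).map snd)
    (by rw [Functor.map_comp, Category.assoc, hgg', sq.w]))
  obtain ⟨f', rfl⟩ := (yon S).map_surjective fst'
  have sqψ : IsPullback ((yon S).map fst) ((yon S).map ψ) ((yon S).map toY') ((yon S).map f') :=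
    IsPullback.of_bot
      (show IsPullback ((yon S).map fst) ((yon S).map ψ ≫ (yon S).map snd')
          ((yon S).map toY' ≫ g') t by rw [hgg', hψ, sq'.lift_snd]; exact sq)
      (by rw [hψ, sq'.lift_fst, Functor.map_comp]) sq'
  let O' : Y'.left.Opens := h.left.imageι ⁻¹ᵁ O
  have hf'O : Set.range f'.left ⊆ Set.range O'.ι := by
    rintro _ ⟨x, rfl⟩
    rw [Scheme.Opens.range_ι]
    show Points.ofPt π' (ι'.left (f'.left x)) ∈ V
    rw [← ofPt_comp_yon, ← ofPt_comp_yon, sq'.w, ofPt_comp_yon]
    exact not_not.1 (ht _)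
  have sqψ' := isPullback_left (isPullback_of_yon sqψ)
  let m := IsOpenImmersion.lift O'.ι f'.left hf'O
  have hm : m ≫ O'.ι = f'.left := IsOpenImmersion.lift_fac _ _ _
  let l : W.left ⟶ (toY'.left ⁻¹ᵁ O' : Scheme.{u}) :=
    (isPullback_morphismRestrict toY'.left O').flip.lift fst.left (ψ.left ≫ m)
      (by rw [Category.assoc, hm]; exact sqψ'.w)
  have sqm : IsPullback l ψ.left (toY'.left ∣_ O') m :=
    IsPullback.of_right (by rw [IsPullback.lift_fst, hm]; exact sqψ') (IsPullback.lift_snd _ _ _ _)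
      (isPullback_morphismRestrict toY'.left O').flip
  have : IsIso (toY'.left ∣_ O') := isIso_restrict_toImage h.left O
  have : IsIso ψ.left := sqm.isIso_snd_of_isIso
  have hψs : ψ ≫ snd' = snd := (yon S).map_injective (by rw [Functor.map_comp, hψ, sq'.lift_snd])
  have : Etale (ψ.left ≫ snd'.left) := by rw [← Over.comp_left, hψs]; exact hetale
  have e' : snd'.left = inv ψ.left ≫ ψ.left ≫ snd'.left := by rw [IsIso.inv_hom_id_assoc]
  rw [e']
  infer_instance

end

end Groth.AlgSpBasic.FiniteStrata
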