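import Groth.Agent.AlgSp2.ThickProps
import Groth.Agent.AlgSp2.ThickTop
import Groth.Agent.AlgSpBasic.Compact
import Mathlib.RingTheory.Noetherian.Nilpotent

/-!
# Closed immersions detected on a thickening
-/

set_option autoImplicit false
set_option backward.isDefEq.respectTransparency.types false
universe u

open CategoryTheory CategoryTheory.Limits AlgebraicGeometry AlgSp

namespace Groth.AlgSpBasic

/-- Finite type lifts along a cartesian thickening square whose source thickening is finitely
presented. -/
theorem lft_iff_of_lfp_thickening {X X' Y Y' : Scheme.{u}} {iX : X ⟶ X'} {iY : Y ⟶ Y'}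
    {f : X ⟶ Y} {f' : X' ⟶ Y'} (hY : MoreMor.IsThickening iY)
    (hX : LocallyOfFinitePresentation iX) (hc : IsPullback iX f f' iY) :
    LocallyOfFiniteType f ↔ LocallyOfFiniteType f' := by
  refine ⟨fun hf => ?_, fun hf => MorphismProperty.of_isPullback hc inferInstance⟩
  have := hY.1
  have hX' := Groth.FlatMor2.isThickening_of_isPullback hY hc
  have : IsClosedImmersion iX := hX'.1
  refine Groth.FlatMor2.of_isPullback_thickening hY hc hf fun V U h ψ H hψ =>
    Groth.AlgSp2.finiteType_of_isPushout' H (iY.app_surjective V.1 V.2) ?_ hψ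
  have hle : RingHom.ker (iX.app U.1).hom ≤ nilradical Γ(X', U.1) := by
    rw [← Scheme.Hom.ker_apply]
    exact Groth.FlatMor2.ker_le_nilradical hX' U
  have hfp : (iX.app U.1).hom.FinitePresentation := by
    rw [Scheme.Hom.app_eq_appLE]
    exact HasRingHomProperty.appLE (P := @LocallyOfFinitePresentation) iX hX U
      ⟨_, U.2.preimage iX⟩ le_rfl
  refine (Ideal.FG.isNilpotent_iff_le_nilradical ?_).2 hle
  algebraize [(iX.app U.1).hom]
  exact Algebra.FinitePresentation.ker_fG_of_surjective (Algebra.ofId _ _)
    (iX.app_surjective U.1 U.2)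

variable {S : Scheme.{u}}

theorem closedImmersion_of_thick_baseChange {X B B' X' : Sp S} (hX : IsAlgSpace X)
    (hB : IsAlgSpace B) (hB' : IsAlgSpace B') {f : X ⟶ B} {g : B' ⟶ B}
    (hg : RepWith @IsClosedImmersion g) (hs : Function.Surjective (Points.map g))
    {fst : X' ⟶ X} {snd : X' ⟶ B'} (hX' : IsPullback fst snd f g) (hX'a : IsAlgSpace X')
    (hsnd : RepWith @IsClosedImmersion snd)
    (hor : LocP @LocallyOfFiniteType f ∨ LocP @LocallyOfFinitePresentation g) :
    RepWith @IsClosedImmersion f := by
  have hj : IsThickMor g :=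
    ⟨hg.rep, fun U V h a b sq => ⟨hg.property h a b sq,
      (repWith_surjective_of_points hg.rep hs).property h a b sq⟩⟩
  have hi : IsThickMor fst := repWith_of_isPullback hX'.flip hj
  have hl : LocP @LocallyOfFiniteType snd :=
    Groth.AlgSp2.lft_of_repWith (fun g (_ : IsClosedImmersion g) => inferInstance) hsnd
  have hl' : LocP @LocallyOfFiniteType f := by
    rcases hor with h | h
    · exact h
    have h₁ : RepWith @LocallyOfFinitePresentation g := repWith_of_locP hB hg.rep h
    have h₂ : RepWith @LocallyOfFinitePresentation fst := repWith_of_isPullback hX'.flip h₁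
    refine (Groth.AlgSp2.locP_iff_of_thick hX'a hB' hX hB hi hj hX'
      fun a a' b b' h h' iU iV _ _ _ _ _ _ sU ht sq =>
        lft_iff_of_lfp_thickening ht (h₂.property a' a iU sU) sq).1 hl
  exact (Groth.AlgSp2.closedImmersion_iff_of_thick hX'a hB' hX hB hi hj hX' hl hl').1 hsnd

end Groth.AlgSpBasic
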