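import Groth.Agent.AlgSpBasic.Unramified
import Groth.Agent.AlgSpBasic.SepLocal
import Mathlib.FieldTheory.IsAlgClosed.AlgebraicClosure

/-!
# Unramified morphisms injective on geometric points are monomorphisms
-/

set_option autoImplicit false
set_option backward.isDefEq.respectTransparency.types false
universe u

open CategoryTheory CategoryTheory.Limits AlgebraicGeometry Opposite AlgSp

namespace Groth.AlgSpBasic

noncomputable section

variable {S : Scheme.{u}} {X Y : Sp S}

/-- Injectivity on geometric points makes the diagonal surjective. -/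
theorem surjective_diagonal_of_injective_algClosed {f : X ⟶ Y}
    (h : ∀ (K : Type u) [Field K] [IsAlgClosed K] (str : Spec (CommRingCat.of K) ⟶ S),
      Function.Injective (fun a : (yon S).obj (Over.mk str) ⟶ X => a ≫ f)) :
    IsSurjectiveMor (pullback.diagonal f) := by
  intro z
  obtain ⟨p, rfl⟩ := Points.mk_surjective z
  let ι : Spec (CommRingCat.of (AlgebraicClosure p.K)) ⟶ Spec (CommRingCat.of p.K) :=
    Spec.map (CommRingCat.ofHom (algebraMap p.K (AlgebraicClosure p.K)))
  let c : Over.mk (ι ≫ p.str) ⟶ p.pt := Over.homMk ι rfl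
  let g := (yon S).map c ≫ fieldPtHom p
  have e : g ≫ pullback.fst f f = g ≫ pullback.snd f f :=
    h (AlgebraicClosure p.K) (ι ≫ p.str) (by simp only [Category.assoc, pullback.condition])
  have e' : (g ≫ pullback.fst f f) ≫ pullback.diagonal f = g := by
    apply pullback.hom_ext <;> simp [e]
  let t : ↥(Spec (CommRingCat.of (AlgebraicClosure p.K))) :=
    IsLocalRing.closedPoint (AlgebraicClosure p.K)
  refine ⟨Points.ofPt (g ≫ pullback.fst f f) t, ?_⟩
  rw [Points.map_ofPt, e']
  refine (ofPt_comp_yon c (fieldPtHom p) t).trans (Eq.trans ?_ (ofPt_fieldPtHom p))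
  exact congrArg _ (Subsingleton.elim (α := PrimeSpectrum p.K) _ _)

/-- An unramified morphism with surjective diagonal is a monomorphism. -/
theorem mono_of_unramified_of_surjective_diagonal (hX : IsAlgSpace X) (hY : IsAlgSpace Y)
    {f : X ⟶ Y}
    (hf : LocP ((@LocallyOfFiniteType : MorphismProperty Scheme.{u}) ⊓ @FormallyUnramified) f)
    (hs : IsSurjectiveMor (pullback.diagonal f)) : Mono f := by
  have hd := repWith_diagonal_of_unramified hX hY hf
  have : IsIso (pullback.diagonal f) := by
    refine Groth.AlgSp2.isIso_of_repWith (repWith_of_representable hd.rep fun T V g fst snd sq => ?_)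
    have : IsOpenImmersion snd.left := hd.property g fst snd sq
    have : Surjective snd.left := ⟨fun t => by
      obtain ⟨x, hx⟩ := hs (Points.ofPt g t)
      obtain ⟨v, -, hv⟩ := (map_eq_ofPt_iff sq x t).1 hx
      exact ⟨v, hv⟩⟩
    show IsIso snd.left
    have : Epi snd.left.base := (TopCat.epi_iff_surjective _).2 snd.left.surjective
    exact IsOpenImmersion.isIso snd.left
  refine ⟨fun {Z} a b e => ?_⟩
  have h₁ : pullback.lift a b e = (pullback.lift a b e ≫ inv (pullback.diagonal f)) ≫
      pullback.diagonal f := by rw [Category.assoc, IsIso.inv_hom_id, Category.comp_id]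
  have h₂ := h₁ =≫ pullback.fst f f
  have h₃ := h₁ =≫ pullback.snd f f
  rw [pullback.lift_fst, Category.assoc, pullback.diagonal_fst, Category.comp_id] at h₂
  rw [pullback.lift_snd, Category.assoc, pullback.diagonal_snd, Category.comp_id] at h₃
  exact h₂.trans h₃.symm

end

end Groth.AlgSpBasic
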