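import Groth.Agent.AlgSpBasic.ValLiftRing
import Groth.Agent.AlgSpBasic.AffineDescent
import Groth.Agent.AlgSpBasic.DiagProps
import Groth.Agent.AlgSpBasic.DiagBaseChange
import Groth.Agent.AlgSpBasic.AlgSpace
import Groth.Agent.AlgSpBasic.Proper
import Groth.Agent.AlgSp2.InfGlue
import Groth.Prelude.Def_AlgSpMor5

/-!
# Lifts of valuative squares descend along dominating extensions for separated morphisms
-/

set_option autoImplicit false
set_option backward.isDefEq.respectTransparency.types false
universe u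

open CategoryTheory CategoryTheory.Limits AlgebraicGeometry AlgSp TensorProduct

namespace Groth.AlgSpBasic

noncomputable section

variable {S : Scheme.{u}}

/-- The fibre product of two schemes over a separated space is closed in their product over the
base. -/
theorem isClosedImmersion_lift_of_sep {P : Sp S} {Z T U W Q : Over S} {π : P ⟶ (yon S).obj Z}
    (hsep : IsSeparatedMor π) {a : (yon S).obj U ⟶ P} {l : (yon S).obj T ⟶ P} {w₁ : W ⟶ T}
    {w₂ : W ⟶ U} (sqW : IsPullback ((yon S).map w₁) ((yon S).map w₂) l a) {α : U ⟶ Z} {β : T ⟶ Z}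
    (hα : a ≫ π = (yon S).map α) (hβ : l ≫ π = (yon S).map β) {q₁ : Q ⟶ T} {q₂ : Q ⟶ U}
    (sqQ : IsPullback q₁ q₂ β α) {c : W ⟶ Q} (hc₁ : c ≫ q₁ = w₁) (hc₂ : c ≫ q₂ = w₂) :
    IsClosedImmersion c.left := by
  have sqQ' : IsPullback ((yon S).map q₁) ((yon S).map q₂) (l ≫ π) (a ≫ π) := by
    rw [hα, hβ]; exact sqQ.map (yon S)
  have h := repWith_mapDesc l a π hsep
  have e : (yon S).map c =
      sqW.isoPullback.hom ≫ pullback.mapDesc l a π ≫ sqQ'.isoPullback.inv := by
    apply sqQ'.hom_ext
    · simp only [Category.assoc, IsPullback.isoPullback_inv_fst, pullback.mapDesc, pullback.map,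
        pullback.lift_fst, Category.comp_id, IsPullback.isoPullback_hom_fst]
      rw [← Functor.map_comp, hc₁]
    · simp only [Category.assoc, IsPullback.isoPullback_inv_snd, pullback.mapDesc, pullback.map,
        pullback.lift_snd, Category.comp_id, IsPullback.isoPullback_hom_snd]
      rw [← Functor.map_comp, hc₂]
  refine (repWith_yon_map_iff _ c).1 ?_
  rw [e]
  exact MorphismProperty.RespectsIso.precomp _ _ _ (MorphismProperty.RespectsIso.postcomp _ _ _ h)

variable {A : Type u} [CommRing A] (g : Spec (.of A) ⟶ S)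

theorem isAffine_ovSpec (R : Type u) [CommRing R] [Algebra A R] : IsAffine (ovSpec A g R).left :=
  inferInstanceAs (IsAffine (Spec (.of R)))

attribute [local instance] isAffine_ovSpec

/-- The structure map of the spectrum of an algebra. -/
abbrev ovBase (R : Type u) [CommRing R] [Algebra A R] : ovSpec A g R ⟶ Over.mk g :=
  Over.homMk (Spec.map (CommRingCat.ofHom (algebraMap A R))) rfl

theorem ovMap_base {R R' : Type u} [CommRing R] [CommRing R'] [Algebra A R] [Algebra A R']
    (φ : R →ₐ[A] R') : ovMap g φ ≫ ovBase g R = ovBase g R' := by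
  apply Over.OverMorphism.ext
  show Spec.map _ ≫ Spec.map _ = Spec.map _
  rw [← Spec.map_comp, ← CommRingCat.ofHom_comp]
  congr 2
  exact φ.comp_algebraMap

theorem exists_ovMap_of_base {R R' : Type u} [CommRing R] [CommRing R'] [Algebra A R]
    [Algebra A R'] (m : ovSpec A g R' ⟶ ovSpec A g R) (hm : m ≫ ovBase g R = ovBase g R') :
    ∃ φ : R →ₐ[A] R', ovMap g φ = m := by
  obtain ⟨f, hf⟩ := Spec.map_surjective m.left
  have hl : m.left ≫ Spec.map (CommRingCat.ofHom (algebraMap A R)) =
      Spec.map (CommRingCat.ofHom (algebraMap A R')) := congrArg CommaMorphism.left hm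
  have e : CommRingCat.ofHom (algebraMap A R) ≫ f = CommRingCat.ofHom (algebraMap A R') := by
    apply Spec.map_injective
    rw [Spec.map_comp, hf, hl]
  exact ⟨{ f.hom with commutes' := fun x => ConcreteCategory.congr_hom e x },
    Over.OverMorphism.ext hf⟩

theorem isPullback_ovBase (R R' : Type u) [CommRing R] [CommRing R'] [Algebra A R]
    [Algebra A R'] :
    IsPullback (ovMap g (Algebra.TensorProduct.includeLeft : R →ₐ[A] R ⊗[A] R'))
      (ovMap g (Algebra.TensorProduct.includeRight : R' →ₐ[A] R ⊗[A] R'))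
      (ovBase g R) (ovBase g R') := by
  refine IsPullback.of_map (Over.forget S) ((ovMap_base g _).trans (ovMap_base g _).symm) ?_
  exact isPullback_SpecMap_of_isPushout _ _ _ _ (CommRingCat.isPushout_tensorProduct A R R')

/-- Affine schemes over `Spec A` are spectra of `A`-algebras. -/
theorem exists_ovSpec_iso {U : Over S} [IsAffine U.left] (α : U ⟶ Over.mk g) :
    ∃ (R : Type u) (_ : CommRing R) (_ : Algebra A R) (e : ovSpec A g R ≅ U),
      e.hom ≫ α = ovBase g R := by
  let φ : CommRingCat.of A ⟶ Γ(U.left, ⊤) := Spec.preimage (U.left.isoSpec.inv ≫ α.left)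
  algebraize [φ.hom]
  have hφ : Spec.map (CommRingCat.ofHom (algebraMap A Γ(U.left, ⊤))) =
      U.left.isoSpec.inv ≫ α.left := by
    rw [RingHom.algebraMap_toAlgebra, CommRingCat.ofHom_hom, Spec.map_preimage]
  let e : ovSpec A g Γ(U.left, ⊤) ≅ U := Over.isoMk U.left.isoSpec.symm (by
    show U.left.isoSpec.inv ≫ U.hom = Spec.map _ ≫ g
    rw [hφ, Category.assoc, ← Over.w α]
    rfl)
  exact ⟨Γ(U.left, ⊤), inferInstance, inferInstance, e, Over.OverMorphism.ext hφ.symm⟩

variable {g}

/-- Two maps into a separated space agree as soon as they agree on a schematically dense part. -/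
theorem eq_of_comp_eq_of_sep {P : Sp S} {Z : Over S} {π : P ⟶ (yon S).obj Z}
    (hsep : IsSeparatedMor π) {R R' : Type u} [CommRing R] [CommRing R'] [Algebra A R]
    [Algebra A R'] (φ : R →ₐ[A] R') (hφ : Function.Injective φ)
    {p q : (yon S).obj (ovSpec A g R) ⟶ P} (hπ : p ≫ π = q ≫ π)
    (h : (yon S).map (ovMap g φ) ≫ p = (yon S).map (ovMap g φ) ≫ q) : p = q := by
  obtain ⟨M, i, fst, sq⟩ := hsep.rep (pullback.lift p q hπ)
  have hi : IsClosedImmersion i.left := hsep.property _ fst i sq
  have hcomp : (yon S).map (ovMap g φ) ≫ pullback.lift p q hπ =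
      ((yon S).map (ovMap g φ) ≫ p) ≫ pullback.diagonal π := by
    apply pullback.hom_ext
    · rw [Category.assoc, pullback.lift_fst, Category.assoc, pullback.diagonal_fst]
      exact (Category.comp_id _).symm
    · rw [Category.assoc, pullback.lift_snd, Category.assoc, pullback.diagonal_snd, ← h]
      exact (Category.comp_id _).symm
  obtain ⟨l, hl⟩ := (yon S).map_surjective
    (sq.lift ((yon S).map (ovMap g φ) ≫ p) ((yon S).map (ovMap g φ)) hcomp.symm)
  have hl' : l.left ≫ i.left = Spec.map (CommRingCat.ofHom φ.toRingHom) := congrArg CommaMorphism.left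
    (show l ≫ i = ovMap g φ from (yon S).map_injective (by rw [Functor.map_comp, hl, sq.lift_snd]))
  have hinj : Function.Injective i.left.appTop := by
    intro x y hxy
    have h0 : (Spec.map (CommRingCat.ofHom φ.toRingHom)).appTop x =
        (Spec.map (CommRingCat.ofHom φ.toRingHom)).appTop y := by
      rw [← hl', Scheme.Hom.comp_appTop]
      exact congrArg l.left.appTop hxy
    have hn := Scheme.ΓSpecIso_naturality (CommRingCat.ofHom φ.toRingHom)
    apply (Scheme.ΓSpecIso (.of R)).commRingCatIsoToRingEquiv.injective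
    apply hφ
    have hx := ConcreteCategory.congr_hom hn x
    have hy := ConcreteCategory.congr_hom hn y
    exact hx.symm.trans ((congrArg _ h0).trans hy)
  have : IsIso i.left := IsClosedImmersion.isIso_of_injective_of_isAffine hinj
  have : IsIso i := (isIso_iff_of_reflects_iso i (Over.forget S)).1 this
  have w := sq.w
  have w₁ : (yon S).map i ≫ p = (yon S).map i ≫ q := by
    have h₁ := w =≫ pullback.fst π π
    have h₂ := w =≫ pullback.snd π π
    simp only [Category.assoc, pullback.diagonal_fst, pullback.diagonal_snd, Category.comp_id,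
      pullback.lift_fst, pullback.lift_snd] at h₁ h₂
    exact h₁.symm.trans h₂
  exact (cancel_epi ((yon S).map i)).1 w₁

/-- A separated algebraic space over a valuation ring with a point over the fraction field which
extends after a dominating extension has a section extending the point. -/
theorem exists_section_of_domExt [IsDomain A] [ValuationRing A] {K A' K' : Type u}
    [Field K] [Algebra A K] [IsFractionRing A K] [CommRing A'] [IsDomain A'] [ValuationRing A']
    [Algebra A A'] [IsLocalHom (algebraMap A A')] [Field K'] [Algebra A K'] [Algebra K K']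
    [IsScalarTower A K K'] [Algebra A' K'] [IsFractionRing A' K'] [IsScalarTower A A' K']
    {P : Sp S} (hP : IsAlgSpace P) {π : P ⟶ (yon S).obj (Over.mk g)} (hsep : IsSeparatedMor π)
    (t : (yon S).obj (ovSpec A g K) ⟶ P) (ht : t ≫ π = (yon S).map (ovBase g K))
    (l' : (yon S).obj (ovSpec A g A') ⟶ P) (hl' : l' ≫ π = (yon S).map (ovBase g A'))
    (hlt : (yon S).map (ovMap g (IsScalarTower.toAlgHom A A' K')) ≫ l' =
      (yon S).map (ovMap g (IsScalarTower.toAlgHom A K K')) ≫ t) :
    ∃ l : (yon S).obj (Over.mk g) ⟶ P,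
      (yon S).map (ovBase g K) ≫ l = t ∧ l ≫ π = 𝟙 _ := by
  have hinjA : Function.Injective (algebraMap A A') := by
    intro x y hxy
    have := congrArg (algebraMap A' K') hxy
    simp only [← IsScalarTower.algebraMap_apply] at this
    rw [IsScalarTower.algebraMap_apply A K K', IsScalarTower.algebraMap_apply A K K'] at this
    exact IsFractionRing.injective A K ((algebraMap K K').injective this)
  have := faithfullyFlat_of_domExt hinjA
  -- an affine chart around the image of the closed point
  obtain ⟨U₀, p₀, hpe, hps⟩ := hP.atlas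
  obtain ⟨W₀, u₀, v₀, sq₀⟩ := exists_pullback_yon hpe.rep l'
  have : Surjective v₀.left := repWith_fst_of_isPullback sq₀ hps
  obtain ⟨w₀, hw₀⟩ := v₀.left.surjective (IsLocalRing.closedPoint A')
  obtain ⟨O, hO, hmem, -⟩ := exists_isAffineOpen_mem_and_subset
    (x := u₀.left w₀) (U := (⊤ : U₀.left.Opens)) trivial
  let U₁ : Over S := Over.mk (O.ι ≫ U₀.hom)
  let j : U₁ ⟶ U₀ := Over.homMk O.ι rfl
  let a₁ := (yon S).map j ≫ p₀
  have hje : RepWith @Etale ((yon S).map j) :=
    (repWith_yon_map_iff _ j).2 (show Etale O.ι from inferInstance)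
  have : IsAffine U₁.left := hO
  obtain ⟨α₁, hα₁⟩ := (yon S).map_surjective (a₁ ≫ π)
  obtain ⟨B, _, _, eU, heU⟩ := exists_ovSpec_iso g α₁
  let a := (yon S).map eU.hom ≫ a₁
  have hae : RepWith @Etale a := repWith_comp (repWith_isIso _) (repWith_comp hje hpe)
  have haπ : a ≫ π = (yon S).map (ovBase g B) := by
    show ((yon S).map eU.hom ≫ a₁) ≫ π = _
    rw [Category.assoc, ← hα₁, ← Functor.map_comp, heU]
  -- its pullback to the extension
  obtain ⟨W, w₁, w₂, sqW⟩ := exists_pullback_of_diag hP.diag l' a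
  have hW₁e : Etale w₁.left := repWith_fst_of_isPullback sqW.flip hae
  obtain ⟨cW, hcW₁, hcW₂⟩ : ∃ c : W ⟶ ovSpec A g (A' ⊗[A] B),
      c ≫ ovMap g Algebra.TensorProduct.includeLeft = w₁ ∧
      c ≫ ovMap g Algebra.TensorProduct.includeRight = w₂ := by
    have e : w₁ ≫ ovBase g A' = w₂ ≫ ovBase g B := (yon S).map_injective (by
      rw [Functor.map_comp, Functor.map_comp, ← hl', ← haπ, ← Category.assoc, sqW.w,
        Category.assoc])
    exact ⟨(isPullback_ovBase g A' B).lift w₁ w₂ e, IsPullback.lift_fst _ _ _ _,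
      IsPullback.lift_snd _ _ _ _⟩
  have hcl := isClosedImmersion_lift_of_sep hsep sqW haπ hl' (isPullback_ovBase g A' B) hcW₁ hcW₂
  have : IsAffine W.left := isAffine_of_isAffineHom cW.left
  obtain ⟨C, _, _, eW, heW⟩ := exists_ovSpec_iso g (w₁ ≫ ovBase g A')
  obtain ⟨γ₀, hγ₀⟩ := exists_ovMap_of_base g (eW.hom ≫ cW) (by
    rw [Category.assoc, ← ovMap_base g (Algebra.TensorProduct.includeLeft : A' →ₐ[A] A' ⊗[A] B),
      ← Category.assoc cW, hcW₁, heW])
  let χ : A' →ₐ[A] C := γ₀.comp Algebra.TensorProduct.includeLeft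
  let βC : B →ₐ[A] C := γ₀.comp Algebra.TensorProduct.includeRight
  have hχ : ovMap g χ = eW.hom ≫ w₁ := by rw [← ovMap_comp, hγ₀, Category.assoc, hcW₁]
  have hβC : ovMap g βC = eW.hom ≫ w₂ := by rw [← ovMap_comp, hγ₀, Category.assoc, hcW₂]
  letI : Algebra A' C := χ.toRingHom.toAlgebra
  have : IsScalarTower A A' C := IsScalarTower.of_algebraMap_eq fun x => (χ.commutes x).symm
  have hγ₀s : Function.Surjective γ₀ := by
    have hc : IsClosedImmersion (eW.hom ≫ cW).left := by
      rw [Over.comp_left]; infer_instance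
    rw [← hγ₀] at hc
    obtain ⟨-, hs⟩ := IsClosedImmersion.isAffine_surjective_of_isAffine (ovMap g γ₀).left
    intro y
    obtain ⟨x, hx⟩ := hs ((Scheme.ΓSpecIso (.of C)).inv y)
    refine ⟨(Scheme.ΓSpecIso (.of (A' ⊗[A] B))).hom x, ?_⟩
    have hn := ConcreteCategory.congr_hom
      (Scheme.ΓSpecIso_naturality (CommRingCat.ofHom γ₀.toRingHom)) x
    refine hn.symm.trans ((congrArg _ hx).trans ?_)
    exact (Scheme.ΓSpecIso (.of C)).commRingCatIsoToRingEquiv.apply_symm_apply y
  let γ : A' ⊗[A] B →ₐ[A'] C :=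
    { γ₀.toRingHom with
      commutes' := fun x => by
        show γ₀ (algebraMap A' (A' ⊗[A] B) x) = χ x
        rfl }
  have : Algebra.Etale A' C := by
    have he : Etale (Spec.map (CommRingCat.ofHom χ.toRingHom)) := by
      change Etale (ovMap g χ).left
      rw [hχ, Over.comp_left]; infer_instance
    rw [HasRingHomProperty.Spec_iff (P := @Etale)] at he
    exact RingHom.etale_algebraMap.1 he
  have hC : Function.Surjective (PrimeSpectrum.comap (algebraMap A' C)) := by
    intro y
    let f := (eW.hom ≫ w₁).left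
    have hf : Etale f := by
      show Etale (eW.hom.left ≫ w₁.left)
      infer_instance
    obtain ⟨w, hw⟩ : ∃ w : W.left, w₁.left w = IsLocalRing.closedPoint A' := by
      have hpt : Points.ofPt a (eU.inv.left ⟨u₀.left w₀, hmem⟩) =
          Points.ofPt l' (IsLocalRing.closedPoint A') := by
        rw [← hw₀, ← ofPt_comp_yon eU.inv a]
        show Points.ofPt ((yon S).map eU.inv ≫ (yon S).map eU.hom ≫ (yon S).map j ≫ p₀) _ = _
        rw [← Functor.map_comp_assoc, eU.inv_hom_id, CategoryTheory.Functor.map_id,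
          Category.id_comp, ofPt_comp_yon, ← ofPt_comp_yon v₀ l', ← sq₀.w, ofPt_comp_yon]
        rfl
      obtain ⟨z, -, hz⟩ := (ofPt_eq_ofPt_iff sqW.flip _ _).1 hpt
      exact ⟨z, hz⟩
    have hrange : IsLocalRing.closedPoint A' ∈ Set.range f :=
      ⟨eW.inv.left w, by
        show w₁.left (eW.hom.left (eW.inv.left w)) = _
        rw [← hw]
        congr 1
        rw [← Scheme.Hom.comp_apply, ← Over.comp_left, eW.inv_hom_id]
        rfl⟩
    have hy : y ∈ Set.range f :=
      (IsLocalRing.specializes_closedPoint y).mem_open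
        ((etale_isOpenMap f hf).isOpen_range) hrange
    obtain ⟨z, hz⟩ := hy
    refine ⟨z, ?_⟩
    have hz' : (ovMap g χ).left z = y := by rw [hχ]; exact hz
    exact hz'
  -- the generic fibre of the chart
  obtain ⟨N, n₁, n₂, sqN⟩ := exists_pullback_of_diag hP.diag t a
  obtain ⟨cN, hcN₁, hcN₂⟩ : ∃ c : N ⟶ ovSpec A g (K ⊗[A] B),
      c ≫ ovMap g Algebra.TensorProduct.includeLeft = n₁ ∧
      c ≫ ovMap g Algebra.TensorProduct.includeRight = n₂ := by
    have e : n₁ ≫ ovBase g K = n₂ ≫ ovBase g B := (yon S).map_injective (by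
      rw [Functor.map_comp, Functor.map_comp, ← ht, ← haπ, ← Category.assoc, sqN.w,
        Category.assoc])
    exact ⟨(isPullback_ovBase g K B).lift n₁ n₂ e, IsPullback.lift_fst _ _ _ _,
      IsPullback.lift_snd _ _ _ _⟩
  have := isClosedImmersion_lift_of_sep hsep sqN haπ ht (isPullback_ovBase g K B) hcN₁ hcN₂
  have : IsAffine N.left := isAffine_of_isAffineHom cN.left
  obtain ⟨E, _, _, eN, heN⟩ := exists_ovSpec_iso g (n₁ ≫ ovBase g K)
  obtain ⟨κ, hκ⟩ := exists_ovMap_of_base g (eN.hom ≫ n₁) (by rw [Category.assoc, heN])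
  obtain ⟨β, hβ⟩ := exists_ovMap_of_base g (eN.hom ≫ n₂) (by
    rw [Category.assoc, ← heN]
    congr 1
    exact (yon S).map_injective (by
      rw [Functor.map_comp, Functor.map_comp, ← ht, ← haπ, ← Category.assoc, ← sqN.w,
        Category.assoc]))
  letI : Algebra K E := κ.toRingHom.toAlgebra
  have : IsScalarTower A K E := IsScalarTower.of_algebraMap_eq fun x => (κ.commutes x).symm
  have hNw : (yon S).map (ovMap g κ) ≫ t = (yon S).map (ovMap g β) ≫ a := by
    rw [hκ, hβ, Functor.map_comp, Functor.map_comp, Category.assoc, sqN.w, Category.assoc]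
  have hWw : (yon S).map (ovMap g χ) ≫ l' = (yon S).map (ovMap g βC) ≫ a := by
    rw [hχ, hβC, Functor.map_comp, Functor.map_comp, Category.assoc, sqW.w, Category.assoc]
  have liftW : ∀ (R : Type u) [CommRing R] [Algebra A R] (x : A' →ₐ[A] R) (y : B →ₐ[A] R),
      (yon S).map (ovMap g x) ≫ l' = (yon S).map (ovMap g y) ≫ a →
      ∃ z : C →ₐ[A] R, z.comp χ = x ∧ z.comp βC = y := by
    intro R _ _ x y e
    obtain ⟨m, hm⟩ := (yon S).map_surjective (sqW.lift _ _ e)
    have hm₁ : m ≫ w₁ = ovMap g x := (yon S).map_injective (by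
      rw [Functor.map_comp, hm, sqW.lift_fst])
    have hm₂ : m ≫ w₂ = ovMap g y := (yon S).map_injective (by
      rw [Functor.map_comp, hm, sqW.lift_snd])
    obtain ⟨z, hz⟩ := exists_ovMap_of_base g (m ≫ eW.inv) (by
      rw [← heW, Category.assoc, eW.inv_hom_id_assoc, reassoc_of% hm₁, ovMap_base])
    refine ⟨z, ovMap_injective g ?_, ovMap_injective g ?_⟩
    · rw [← ovMap_comp, hz, hχ, Category.assoc, eW.inv_hom_id_assoc, hm₁]
    · rw [← ovMap_comp, hz, hβC, Category.assoc, eW.inv_hom_id_assoc, hm₂]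
  have uniqW : ∀ {R : Type u} [CommRing R] [Algebra A R] (z z' : C →ₐ[A] R),
      z.comp χ = z'.comp χ → z.comp βC = z'.comp βC → z = z' := by
    intro R _ _ z z' h₁ h₂
    apply ovMap_injective g
    rw [← cancel_mono eW.hom]
    apply (yon S).map_injective
    apply sqW.hom_ext
    · rw [← Functor.map_comp, ← Functor.map_comp, Category.assoc, Category.assoc, ← hχ,
        ovMap_comp, ovMap_comp, h₁]
    · rw [← Functor.map_comp, ← Functor.map_comp, Category.assoc, Category.assoc, ← hβC,
        ovMap_comp, ovMap_comp, h₂]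
  have hcomm : ∀ {R : Type u} [CommRing R] [Algebra A R] (z : K' →ₐ[A] R),
      (yon S).map (ovMap g (z.comp (IsScalarTower.toAlgHom A A' K'))) ≫ l' =
      (yon S).map (ovMap g (z.comp (IsScalarTower.toAlgHom A K K'))) ≫ t := by
    intro R _ _ z
    rw [← ovMap_comp, ← ovMap_comp, Functor.map_comp, Functor.map_comp, Category.assoc, hlt,
      Category.assoc]
  let iK' : K' →ₐ[A] K' ⊗[K] E :=
    (Algebra.TensorProduct.includeLeft : K' →ₐ[K] K' ⊗[K] E).restrictScalars A
  let iE : E →ₐ[A] K' ⊗[K] E :=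
    (Algebra.TensorProduct.includeRight : E →ₐ[K] K' ⊗[K] E).restrictScalars A
  obtain ⟨δ, hδ₁, hδ₂⟩ := liftW (K' ⊗[K] E) (iK'.comp (IsScalarTower.toAlgHom A A' K'))
    (iE.comp β) (by
      rw [hcomm iK', show iK'.comp (IsScalarTower.toAlgHom A K K') = iE.comp κ from
        AlgHom.ext fun x => ?_, ← ovMap_comp g κ iE, ← ovMap_comp g β iE, Functor.map_comp,
        Functor.map_comp,
        Category.assoc, hNw, Category.assoc]
      show algebraMap K K' x ⊗ₜ[K] (1 : E) = (1 : K') ⊗ₜ[K] (κ x)
      rw [Algebra.algebraMap_eq_smul_one, TensorProduct.smul_tmul, Algebra.smul_def, mul_one]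
      rfl)
  -- `C` is contained in its generic fibre
  let D := K' ⊗[A'] C
  let jK' : K' →ₐ[A] D :=
    (Algebra.TensorProduct.includeLeft : K' →ₐ[A'] D).restrictScalars A
  let jC : C →ₐ[A] D :=
    (Algebra.TensorProduct.includeRight : C →ₐ[A'] D).restrictScalars A
  have hjC : Function.Injective jC := by
    have h₁ : Function.Injective ((Algebra.linearMap A' K').rTensor C) :=
      Module.Flat.rTensor_preserves_injective_linearMap _ (IsFractionRing.injective A' K')
    intro x y hxy
    apply (TensorProduct.lid A' C).symm.injective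
    apply h₁
    simpa [jC] using hxy
  have hDA' : jK'.comp (IsScalarTower.toAlgHom A A' K') = jC.comp χ := by
    ext x
    show algebraMap A' K' x ⊗ₜ[A'] (1 : C) = (1 : K') ⊗ₜ[A'] (χ x)
    rw [Algebra.algebraMap_eq_smul_one, TensorProduct.smul_tmul, Algebra.smul_def, mul_one]
    rfl
  obtain ⟨ν, hν₁, hν₂⟩ : ∃ ν : E →ₐ[A] D,
      ν.comp κ = jK'.comp (IsScalarTower.toAlgHom A K K') ∧ ν.comp β = jC.comp βC := by
    obtain ⟨m, hm⟩ := (yon S).map_surjective (sqN.lift
      ((yon S).map (ovMap g (jK'.comp (IsScalarTower.toAlgHom A K K'))))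
      ((yon S).map (ovMap g (jC.comp βC))) (by
        rw [← hcomm, hDA', ← ovMap_comp g χ jC, ← ovMap_comp g βC jC, Functor.map_comp, Functor.map_comp,
          Category.assoc, hWw, Category.assoc]))
    have hm₁ : m ≫ n₁ = ovMap g (jK'.comp (IsScalarTower.toAlgHom A K K')) :=
      (yon S).map_injective (by rw [Functor.map_comp, hm, sqN.lift_fst])
    have hm₂ : m ≫ n₂ = ovMap g (jC.comp βC) :=
      (yon S).map_injective (by rw [Functor.map_comp, hm, sqN.lift_snd])
    obtain ⟨z, hz⟩ := exists_ovMap_of_base g (m ≫ eN.inv) (by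
      rw [← heN, Category.assoc, eN.inv_hom_id_assoc, reassoc_of% hm₁, ovMap_base])
    refine ⟨z, ovMap_injective g ?_, ovMap_injective g ?_⟩
    · rw [← ovMap_comp, hz, hκ, Category.assoc, eN.inv_hom_id_assoc, hm₁]
    · rw [← ovMap_comp, hz, hβ, Category.assoc, eN.inv_hom_id_assoc, hm₂]
  let νK : E →ₐ[K] D := { ν.toRingHom with commutes' := fun x => AlgHom.congr_fun hν₁ x }
  let ε : K' ⊗[K] E →ₐ[A] D :=
    (Algebra.TensorProduct.lift (Algebra.TensorProduct.includeLeft : K' →ₐ[K] D) νK
      fun _ _ => Commute.all _ _).restrictScalars A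
  have hεK : ε.comp iK' = jK' := AlgHom.ext fun x => by simp [ε, iK', jK']
  have hεE : ε.comp iE = ν := AlgHom.ext fun x => by
    simp [ε, iE, νK]
    exact one_mul _
  have hεδ : ε.comp δ = jC := by
    apply uniqW
    · rw [AlgHom.comp_assoc, hδ₁, ← AlgHom.comp_assoc, hεK, hDA']
    · rw [AlgHom.comp_assoc, hδ₂, ← AlgHom.comp_assoc, hεE, hν₂]
  have hδ : Function.Injective δ := fun x y e => hjC (by
    rw [← hεδ, AlgHom.comp_apply, AlgHom.comp_apply, e])
  -- the descended chart
  obtain ⟨hVe, hVs⟩ := etale_range_of_domExt (A := A) (K := K) (A' := A') (K' := K')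
    (IsFractionRing.injective A' K') β γ hγ₀s δ.toRingHom hδ (fun x b => by
      have e₁ : (δ.comp χ) x = algebraMap A' K' x ⊗ₜ[K] (1 : E) := by rw [hδ₁]; rfl
      have e₂ : (δ.comp βC) b = (1 : K') ⊗ₜ[K] β b := by rw [hδ₂]; rfl
      show δ (γ₀ (x ⊗ₜ b)) = _
      rw [show x ⊗ₜ[A] b = (x ⊗ₜ (1 : B)) * ((1 : A') ⊗ₜ b) by simp, map_mul, map_mul]
      exact (congrArg₂ (· * ·) e₁ e₂).trans (by simp)) hC
  let V := ovSpec A g β.range
  let v := (yon S).map (ovMap g β.rangeRestrict) ≫ a
  have hvπ : v ≫ π = (yon S).map (ovBase g β.range) := by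
    show ((yon S).map _ ≫ a) ≫ π = _
    rw [Category.assoc, haπ, ← Functor.map_comp, ovMap_base]
  let iK : K →ₐ[A] K ⊗[A] β.range := Algebra.TensorProduct.includeLeft
  let iV : β.range →ₐ[A] K ⊗[A] β.range := Algebra.TensorProduct.includeRight
  have hgen : (yon S).map (ovMap g iV) ≫ v = (yon S).map (ovMap g iK) ≫ t := by
    refine eq_of_comp_eq_of_sep hsep
      (Algebra.TensorProduct.productMap (IsScalarTower.toAlgHom A K E) β.range.val)
      (injective_lift_val A K E β.range) ?_ ?_
    · simp only [v, Category.assoc, haπ, ht, ← Functor.map_comp, ovMap_base]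
    · simp only [v, ← Category.assoc, ← Functor.map_comp, ovMap_comp]
      have e₁ : (Algebra.TensorProduct.productMap (IsScalarTower.toAlgHom A K E)
          β.range.val).comp (iV.comp β.rangeRestrict) = β := AlgHom.ext fun x => by simp [iV]
      have e₂ : (Algebra.TensorProduct.productMap (IsScalarTower.toAlgHom A K E)
          β.range.val).comp iK = κ := AlgHom.ext fun x => by
        simp [iK, RingHom.algebraMap_toAlgebra]
      rw [e₁, e₂]
      exact hNw.symm
  clear_value v
  have : Etale (ovBase g β.range).left :=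
    (HasRingHomProperty.Spec_iff (P := @Etale)).2 (RingHom.etale_algebraMap.2 hVe)
  have : Surjective (ovBase g β.range).left := ⟨hVs⟩
  have hVflat : Module.Flat A (β.range ⊗[A] β.range) := inferInstance
  let R := β.range ⊗[A] β.range
  let i₁ : β.range →ₐ[A] R := Algebra.TensorProduct.includeLeft
  let i₂ : β.range →ₐ[A] R := Algebra.TensorProduct.includeRight
  have hpair : (yon S).map (ovMap g i₁) ≫ v = (yon S).map (ovMap g i₂) ≫ v := by
    let iR : R →ₐ[A] K ⊗[A] R := Algebra.TensorProduct.includeRight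
    refine eq_of_comp_eq_of_sep (R := R) (R' := K ⊗[A] R) hsep iR ?_ ?_ ?_
    · intro x y hxy
      have h₁ : Function.Injective ((Algebra.linearMap A K).rTensor R) :=
        Module.Flat.rTensor_preserves_injective_linearMap _ (IsFractionRing.injective A K)
      apply (TensorProduct.lid A R).symm.injective
      apply h₁
      simpa [iR] using hxy
    · rw [Category.assoc, Category.assoc, hvπ, ← Functor.map_comp, ← Functor.map_comp,
        ovMap_base, ovMap_base]
    · let m₁ : K ⊗[A] β.range →ₐ[A] K ⊗[A] R := Algebra.TensorProduct.map (AlgHom.id A K) i₁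
      let m₂ : K ⊗[A] β.range →ₐ[A] K ⊗[A] R := Algebra.TensorProduct.map (AlgHom.id A K) i₂
      have e₁ : iR.comp i₁ = m₁.comp iV := AlgHom.ext fun x => by simp [iR, m₁, iV]
      have e₂ : iR.comp i₂ = m₂.comp iV := AlgHom.ext fun x => by simp [iR, m₂, iV]
      have e₃ : m₁.comp iK = m₂.comp iK := AlgHom.ext fun x => by simp [iK, m₁, m₂]
      rw [← Category.assoc, ← Category.assoc, ← Functor.map_comp, ← Functor.map_comp,
        ovMap_comp, ovMap_comp, e₁, e₂, ← ovMap_comp, ← ovMap_comp, Functor.map_comp,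
        Functor.map_comp, Category.assoc, Category.assoc, hgen, ← Category.assoc,
        ← Category.assoc, ← Functor.map_comp, ← Functor.map_comp, ovMap_comp, ovMap_comp, e₃]
  obtain ⟨l, hl⟩ := AlgSp2.exists_glue_of_fppf (ovBase g β.range) v fun Z p q e => by
    obtain ⟨m, hm₁, hm₂⟩ : ∃ m, m ≫ ovMap g i₁ = p ∧ m ≫ ovMap g i₂ = q :=
      ⟨(isPullback_ovBase g β.range β.range).lift p q e, IsPullback.lift_fst _ _ _ _,
        IsPullback.lift_snd _ _ _ _⟩
    rw [← hm₁, ← hm₂, Functor.map_comp, Functor.map_comp, Category.assoc, hpair, Category.assoc]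
  refine ⟨l, ?_, AlgSp2.hom_ext_of_fppf (ovBase g β.range) ?_⟩
  · have : Etale (ovMap g iK).left :=
      MorphismProperty.of_isPullback (P := @Etale)
        (isPullback_left (isPullback_ovBase g K β.range)).flip ‹Etale (ovBase g β.range).left›
    have : Surjective (ovMap g iK).left :=
      MorphismProperty.of_isPullback (P := @Surjective)
        (isPullback_left (isPullback_ovBase g K β.range)).flip ‹Surjective (ovBase g β.range).left›
    refine AlgSp2.hom_ext_of_fppf (ovMap g iK) ?_
    rw [← hgen, ← hl, ← Category.assoc, ← Category.assoc, ← Functor.map_comp,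
      ← Functor.map_comp, ovMap_base, ovMap_base]
  · rw [reassoc_of% hl, hvπ, Category.comp_id]

/-- For a separated morphism, a lift after a dominating extension gives a lift. -/
theorem hasLift_of_domExt {X Y : Sp S} {f : X ⟶ Y} (hX : IsAlgSpace X) (hY : IsAlgSpace Y)
    (hf : IsSeparatedMor f) (sq : ValSq f) (e : sq.DomExt) (he : e.HasLift) : sq.HasLift := by
  letI : Algebra sq.A e.A' := e.φ.toAlgebra
  letI : Algebra sq.K e.K' := e.ψ.toAlgebra
  letI : Algebra sq.A e.K' := (e.ψ.comp (algebraMap sq.A sq.K)).toAlgebra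
  have : IsScalarTower sq.A sq.K e.K' := IsScalarTower.of_algebraMap_eq fun _ => rfl
  have : IsScalarTower sq.A e.A' e.K' :=
    IsScalarTower.of_algebraMap_eq fun x => (RingHom.congr_fun e.comm x).symm
  have : IsLocalHom (algebraMap sq.A e.A') := e.isLocalHom
  obtain ⟨l, hl₁, hl₂⟩ := he
  let P := pullback f sq.bot
  let π : P ⟶ (yon S).obj sq.ptA := pullback.snd f sq.bot
  have hP : IsAlgSpace P := isAlgSpace_of_isPullback (IsPullback.of_hasPullback f sq.bot) hY.diag
    hX (IsAlgSpace.yon_obj _)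
  have hsep : IsSeparatedMor π :=
    repWith_diagonal_baseChange (IsPullback.of_hasPullback f sq.bot) hf
  let t : (yon S).obj (ovSpec sq.A sq.str sq.K) ⟶ P := pullback.lift sq.top ((yon S).map sq.j) sq.comm
  let l₀ : (yon S).obj (ovSpec sq.A sq.str e.A') ⟶ X := l
  have hl₀ : l₀ ≫ f = (yon S).map (ovBase sq.str e.A') ≫ sq.bot := hl₂
  let l' := pullback.lift l₀ ((yon S).map (ovBase sq.str e.A')) hl₀
  have hid : CommRingCat.ofHom (algebraMap sq.A e.A') ≫ CommRingCat.ofHom (algebraMap e.A' e.K') =
      CommRingCat.ofHom (algebraMap sq.A e.K') := by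
    rw [← CommRingCat.ofHom_comp]
    exact congrArg CommRingCat.ofHom (IsScalarTower.algebraMap_eq sq.A e.A' e.K').symm
  let c : ovSpec sq.A sq.str e.K' ⟶ e.ptK' := Over.homMk (𝟙 _) (by
    show 𝟙 _ ≫ Spec.map _ ≫ Spec.map _ ≫ sq.str = Spec.map _ ≫ sq.str
    rw [Category.id_comp, ← Spec.map_comp_assoc]
    exact congrArg (fun z => Spec.map z ≫ sq.str) hid)
  let pK : e.ptK' ⟶ sq.ptK := Over.homMk (Spec.map (CommRingCat.ofHom e.ψ)) (by
    change Spec.map _ ≫ Spec.map _ ≫ _ = Spec.map _ ≫ Spec.map _ ≫ _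
    rw [← Spec.map_comp_assoc, ← Spec.map_comp_assoc, ← CommRingCat.ofHom_comp,
      ← CommRingCat.ofHom_comp, e.comm])
  have hA : ovMap sq.str (IsScalarTower.toAlgHom sq.A e.A' e.K') =
      c ≫ (Over.homMk (Spec.map (CommRingCat.ofHom (algebraMap e.A' e.K'))) rfl :
        e.ptK' ⟶ e.ptA') := by
    apply Over.OverMorphism.ext
    exact (Category.id_comp _).symm
  have hK : ovMap sq.str (IsScalarTower.toAlgHom sq.A sq.K e.K') = c ≫ pK := by
    apply Over.OverMorphism.ext
    exact (Category.id_comp _).symm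
  obtain ⟨s, hs₁, hs₂⟩ := exists_section_of_domExt (g := sq.str) (K := sq.K) (A' := e.A')
    (K' := e.K') hP hsep t (pullback.lift_snd _ _ _) l' (pullback.lift_snd _ _ _) (by
      apply pullback.hom_ext
      · simp only [t, l', Category.assoc, pullback.lift_fst]
        rw [hA, hK, Functor.map_comp, Category.assoc, Functor.map_comp, Category.assoc]
        exact congrArg _ hl₁
      · simp only [t, l', Category.assoc, pullback.lift_snd, ← Functor.map_comp]
        exact congrArg _ ((ovMap_base sq.str _).trans (ovMap_base sq.str _).symm))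
  refine ⟨s ≫ pullback.fst f sq.bot, ?_, ?_⟩
  · rw [← Category.assoc]
    exact (congrArg (· ≫ pullback.fst f sq.bot) hs₁).trans (pullback.lift_fst _ _ _)
  · rw [Category.assoc, pullback.condition, ← Category.assoc]
    exact (congrArg (· ≫ sq.bot) hs₂).trans (Category.id_comp _)

end

end Groth.AlgSpBasic
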