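import Mathlib.RingTheory.Etale.Descent
import Mathlib.RingTheory.Localization.BaseChange
import Mathlib.RingTheory.Flat.Localization
import Mathlib.RingTheory.Flat.TorsionFree
import Mathlib.RingTheory.Flat.FaithfullyFlat.Algebra
import Mathlib.RingTheory.Spectrum.Prime.Topology
import Mathlib.RingTheory.Valuation.ValuationRing

/-!
# Etale algebras descended along an extension of valuation rings
-/

set_option autoImplicit false
universe u

open TensorProduct

namespace Groth.AlgSpBasic

variable {A K A' K' B C E : Type u} [CommRing A] [IsDomain A] [Field K] [Algebra A K]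
  [IsFractionRing A K] [CommRing A'] [Algebra A A'] [Field K'] [Algebra A K'] [Algebra K K']
  [IsScalarTower A K K'] [Algebra A' K'] [IsScalarTower A A' K']
  [CommRing B] [Algebra A B] [CommRing C] [Algebra A C] [Algebra A' C] [IsScalarTower A A' C]
  [CommRing E] [Algebra A E] [Algebra K E] [IsScalarTower A K E]

/-- An extension of valuation rings with injective map of fraction fields is faithfully flat. -/
theorem faithfullyFlat_of_domExt {A A' : Type u} [CommRing A] [IsDomain A] [ValuationRing A]
    [CommRing A'] [IsDomain A'] [ValuationRing A'] [Algebra A A']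
    (hinj : Function.Injective (algebraMap A A')) [IsLocalHom (algebraMap A A')] :
    Module.FaithfullyFlat A A' := by
  have : Module.Flat A A' := by
    rw [Module.Flat.flat_iff_torsion_eq_bot_of_isBezout, eq_bot_iff]
    rintro m ⟨⟨r, hr⟩, h⟩
    have h' : algebraMap A A' r * m = 0 := by rw [← Algebra.smul_def]; exact h
    rcases mul_eq_zero.1 h' with h₀ | h₀
    · exact absurd (hinj (h₀.trans (map_zero _).symm)) (nonZeroDivisors.ne_zero hr)
    · exact h₀
  exact Module.FaithfullyFlat.of_flat_of_isLocalHom

/-- A `K`-algebra is flat over `A`. -/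
theorem flat_of_fraction (A K E : Type u) [CommRing A] [IsDomain A] [Field K] [Algebra A K]
    [IsFractionRing A K] [CommRing E] [Algebra A E] [Algebra K E] [IsScalarTower A K E] :
    Module.Flat A E :=
  have : Module.Flat A K := IsLocalization.flat K (nonZeroDivisors A)
  Module.Flat.trans A K E

/-- The generic fibre of a subalgebra of a `K`-algebra is contained in that algebra. -/
theorem injective_lift_val (A K E : Type u) [CommRing A] [IsDomain A] [Field K] [Algebra A K]
    [IsFractionRing A K] [CommRing E] [Algebra A E] [Algebra K E] [IsScalarTower A K E]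
    (B₀ : Subalgebra A E) :
    Function.Injective (Algebra.TensorProduct.productMap (IsScalarTower.toAlgHom A K E) B₀.val) := by
  have : Module.Flat A K := IsLocalization.flat K (nonZeroDivisors A)
  have h₁ : Function.Injective (B₀.val.toLinearMap.lTensor K) :=
    Module.Flat.lTensor_preserves_injective_linearMap _ Subtype.val_injective
  let e := IsLocalization.moduleLid (nonZeroDivisors A) K E
  have h₂ : ∀ x, Algebra.TensorProduct.productMap (IsScalarTower.toAlgHom A K E) B₀.val x =
      e (B₀.val.toLinearMap.lTensor K x) := by
    intro x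
    induction x with
    | zero => simp
    | tmul k b =>
      simp [e, IsLocalization.moduleLid]
      exact (Algebra.smul_def k _).symm
    | add x y hx hy => rw [map_add, map_add, map_add, hx, hy]
  intro x y hxy
  rw [h₂, h₂] at hxy
  exact h₁ (e.injective hxy)

/-- The descended algebra of a scheme-theoretic closure of the generic fibre. -/
theorem etale_range_of_domExt [Module.FaithfullyFlat A A']
    (hinj : Function.Injective (algebraMap A' K'))
    (β : B →ₐ[A] E) (γ : A' ⊗[A] B →ₐ[A'] C) (hγ : Function.Surjective γ)
    (δ : C →+* K' ⊗[K] E) (hδ : Function.Injective δ)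
    (h : ∀ a b, δ (γ (a ⊗ₜ b)) = algebraMap A' K' a ⊗ₜ β b)
    [Algebra.Etale A' C] (hC : Function.Surjective (PrimeSpectrum.comap (algebraMap A' C))) :
    Algebra.Etale A β.range ∧
      Function.Surjective (PrimeSpectrum.comap (algebraMap A β.range)) := by
  have : Module.Flat A E := flat_of_fraction A K E
  have hc := IsLocalization.tensorProduct_compatibleSMul (nonZeroDivisors A) K K' E
  let ι : A' →ₐ[A] K' := IsScalarTower.toAlgHom A A' K'
  let m : A' ⊗[A] β.range →ₐ[A] K' ⊗[A] E := Algebra.TensorProduct.map ι β.range.val
  let c : K' ⊗[K] E ≃ₗ[A] K' ⊗[A] E :=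
    (IsLocalization.moduleTensorEquiv (nonZeroDivisors A) K K' E).restrictScalars A
  have hm : Function.Injective m := by
    have h₁ : Function.Injective (β.range.val.toLinearMap.lTensor A') :=
      Module.Flat.lTensor_preserves_injective_linearMap _ Subtype.val_injective
    have h₂ : Function.Injective (ι.toLinearMap.rTensor E) :=
      Module.Flat.rTensor_preserves_injective_linearMap _ hinj
    have : ∀ x, m x = ι.toLinearMap.rTensor E (β.range.val.toLinearMap.lTensor A' x) := by
      intro x
      induction x with
      | zero => simp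
      | tmul a b => simp [m]
      | add x y hx hy => rw [map_add, map_add, map_add, hx, hy]
    intro x y hxy
    rw [this, this] at hxy
    exact h₁ (h₂ hxy)
  let q : A' ⊗[A] B →ₐ[A'] A' ⊗[A] β.range :=
    Algebra.TensorProduct.map (AlgHom.id A' A') β.rangeRestrict
  have hq : Function.Surjective q :=
    LinearMap.lTensor_surjective A' (g := β.rangeRestrict.toLinearMap) β.rangeRestrict_surjective
  have key : ∀ x, δ (γ x) = c.symm (m (q x)) := by
    intro x
    induction x with
    | zero => simp
    | tmul a b =>
      rw [h, LinearEquiv.eq_symm_apply]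
      simp [c, m, q, ι, IsLocalization.moduleTensorEquiv]
      rfl
    | add x y hx hy => rw [map_add, map_add, map_add, map_add, map_add, hx, hy]
  have heq : RingHom.ker γ = RingHom.ker q := by
    ext x
    simp only [RingHom.mem_ker]
    constructor
    · intro hx
      have h0 := key x
      rw [hx, map_zero] at h0
      exact hm (c.symm.injective (h0.symm.trans (by simp)))
    · intro hx
      exact hδ (by rw [key, hx, map_zero, map_zero, map_zero])
  let e : C ≃ₐ[A'] A' ⊗[A] β.range :=
    (Ideal.quotientKerAlgEquivOfSurjective hγ).symm.trans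
      ((Ideal.quotientEquivAlgOfEq A' heq).trans (Ideal.quotientKerAlgEquivOfSurjective hq))
  have : Algebra.Etale A' (A' ⊗[A] β.range) := Algebra.Etale.of_equiv e
  refine ⟨Algebra.Etale.of_etale_tensorProduct_of_faithfullyFlat A', fun 𝔭 => ?_⟩
  obtain ⟨𝔮, h𝔮⟩ := PrimeSpectrum.comap_surjective_of_faithfullyFlat (A := A) (B := A') 𝔭
  obtain ⟨𝔯, h𝔯⟩ := hC 𝔮
  refine ⟨PrimeSpectrum.comap
    ((Algebra.TensorProduct.includeRight : β.range →ₐ[A] A' ⊗[A] β.range) : β.range →+* _)
      (PrimeSpectrum.comap (e.symm : A' ⊗[A] β.range →+* C) 𝔯), ?_⟩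
  rw [← h𝔮, ← h𝔯]
  simp only [← PrimeSpectrum.comap_comp_apply]
  congr 1
  ext a
  simp
  exact e.symm.commutes (algebraMap A A' a)

end Groth.AlgSpBasic
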