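import Groth.Agent.Calg4.PicValFibre
import Groth.Agent.Calg4.SmoothRegularField
import Groth.Agent.Calg5.InvertibleCrit
import Groth.Agent.RaynaudGruson.DomainFP
import Groth.Agent.S1216
import Groth.Agent.S1351

/-!
# Extending invertible ideals from the generic fibre of a smooth algebra over a valuation ring
-/

set_option autoImplicit false
set_option backward.isDefEq.respectTransparency.types false
universe u

open IsLocalRing TensorProduct

namespace Groth.AlgSpBasic.ValCartier

/-- A formally smooth algebra essentially of finite type over a field is regular. -/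
theorem isRegularRing_of_formallySmooth (k T : Type u) [Field k] [CommRing T] [Algebra k T]
    [Algebra.EssFiniteType k T] [Algebra.FormallySmooth k T] : IsRegularRing T := by
  obtain ⟨D, M, hft, hloc⟩ := (Algebra.essFiniteType_iff_exists_subalgebra k T).mp
    (inferInstance : Algebra.EssFiniteType k T)
  have : IsNoetherianRing D := Algebra.FiniteType.isNoetherianRing k D
  have : IsNoetherianRing T := IsLocalization.isNoetherianRing M T inferInstance
  refine isRegularRing_iff.2 fun P _ => ?_
  let p : Ideal D := P.comap (algebraMap D T)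
  have hLp : IsLocalization.AtPrime (Localization.AtPrime P) p :=
    IsLocalization.isLocalization_isLocalization_atPrime_isLocalization M (Localization.AtPrime P) P
  let e := IsLocalization.algEquiv p.primeCompl (Localization.AtPrime P) (Localization.AtPrime p)
  have : Algebra.IsSmoothAt k p := by
    have : Algebra.FormallySmooth k (Localization.AtPrime P) := Algebra.FormallySmooth.comp k T _
    exact Algebra.FormallySmooth.of_equiv (e.restrictScalars k)
  have := Groth.Calg4.isRegularLocalRing_of_isSmoothAt (k := k) p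
  exact IsRegularLocalRing.of_ringEquiv e.toRingEquiv.symm

theorem fibre_isRegularRing (R A : Type u) [CommRing R] [IsLocalRing R] [CommRing A] [Algebra R A]
    [Algebra.EssFiniteType R A] [Algebra.FormallySmooth R A] :
    IsRegularRing (A ⧸ (maximalIdeal R).map (algebraMap R A)) := by
  have := isRegularRing_of_formallySmooth (ResidueField R) (ResidueField R ⊗[R] A)
  exact IsRegularRing.of_ringEquiv
    ((Algebra.TensorProduct.comm R (ResidueField R) A).toRingEquiv.trans
      (Algebra.TensorProduct.quotIdealMapEquivTensorQuot A (maximalIdeal R)).symm.toRingEquiv)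

section

variable (R : Type u) [CommRing R] [IsDomain R] [ValuationRing R]
  (A : Type u) [CommRing A] [IsLocalRing A] [Algebra R A] [IsLocalHom (algebraMap R A)]
  [Algebra.EssFiniteType R A] [Algebra.FormallySmooth R A] [Module.Flat R A]
  (AK : Type u) [CommRing AK] [Algebra A AK] [Algebra R AK] [IsScalarTower R A AK]
  [IsLocalization (Algebra.algebraMapSubmonoid A (nonZeroDivisors R)) AK]

theorem mk_eq_zero_iff' {B M : Type u} [CommRing B] [AddCommGroup M] [Module B M]
    {S : Submonoid B} {m : M} {t : S} : LocalizedModule.mk m t = 0 ↔ ∃ u : S, u • m = 0 := by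
  rw [← LocalizedModule.zero_mk t, LocalizedModule.mk_eq]
  simp only [smul_zero]
  refine ⟨fun ⟨u, hu⟩ => ⟨u * t, by rw [mul_smul, hu]⟩, fun ⟨u, hu⟩ => ⟨u, ?_⟩⟩
  rw [smul_comm, hu, smul_zero]

/-- A saturated ideal of a formally smooth local algebra over a valuation ring whose extension to
the generic fibre is invertible is principal, with flat quotient. -/
theorem exists_generator_local (I : Ideal A) (hsat : ∀ (r : R) (a : A), r ≠ 0 → r • a ∈ I → a ∈ I)
    [Module.Invertible AK ↥(I.map (algebraMap A AK))] :
    ∃ g : A, g ∈ nonZeroDivisors A ∧ I = Ideal.span {g} ∧ Module.Flat R (A ⧸ Ideal.span {g}) := by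
  let L : Ideal AK := I.map (algebraMap A AK)
  let M := Algebra.algebraMapSubmonoid A (nonZeroDivisors R)
  have hinjA : ∀ {r : R} {a : A}, r • a = 0 → r ≠ 0 → a = 0 := fun h hr =>
    Groth.Calg4.PicValFibre.smul_eq_zero_of_flat R h hr
  have hinj : Function.Injective (algebraMap A AK) := by
    refine IsLocalization.injective AK (M := M) ?_
    rintro _ ⟨r, hr, rfl⟩
    refine mem_nonZeroDivisors_iff_right.2 fun a ha => hinjA (r := r) ?_ (nonZeroDivisors.ne_zero hr)
    rw [Algebra.smul_def, mul_comm, ha]
  have hmem : ∀ a : A, algebraMap A AK a ∈ L ↔ a ∈ I := fun a => by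
    refine ⟨fun h => ?_, fun h => Ideal.mem_map_of_mem _ h⟩
    obtain ⟨⟨⟨x, hx⟩, ⟨_, r, hr, rfl⟩⟩, e⟩ := (IsLocalization.mem_map_algebraMap_iff M AK).1 h
    rw [← map_mul] at e
    refine hsat r a (nonZeroDivisors.ne_zero hr) ?_
    rw [Algebra.smul_def, mul_comm, hinj e]
    exact hx
  have hfree : Module.Free AK ↥L := by
    have : IsRegularRing (A ⧸ Groth.Calg4.PicValFibre.fibI R A) := fibre_isRegularRing R A
    exact Groth.Calg4.PicValFibre.free_of_invertible (A := A) R this AK ↥L
  obtain ⟨e⟩ := (Module.Invertible.free_iff_linearEquiv (M := ↥L)).1 hfree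
  obtain ⟨h', hh'⟩ : ∃ h' : L, e h' = 1 := e.surjective 1
  obtain ⟨⟨⟨h, hhI⟩, ⟨σ, hσ⟩⟩, ehσ⟩ := (IsLocalization.mem_map_algebraMap_iff M AK).1 h'.2
  have hσu : IsUnit (algebraMap A AK σ) := IsLocalization.map_units AK ⟨σ, hσ⟩
  have hgen : ∀ z ∈ L, ∃ w, z = w * algebraMap A AK h := fun z hz => by
    obtain ⟨v, hv⟩ := hσu
    refine ⟨e ⟨z, hz⟩ * ↑v⁻¹, ?_⟩
    have : e ⟨z, hz⟩ • h' = ⟨z, hz⟩ := e.injective (by rw [map_smul, hh', smul_eq_mul, mul_one])
    rw [mul_assoc, ← ehσ, mul_comm (h' : AK), ← hv, ← mul_assoc (↑v⁻¹ : AK), Units.inv_mul, one_mul]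
    exact (congrArg Subtype.val this).symm
  have hreg : ∀ w : AK, w * algebraMap A AK h = 0 → w = 0 := fun w hw => by
    rw [← ehσ, ← mul_assoc, hσu.mul_left_eq_zero] at hw
    have : w • h' = 0 := Subtype.ext hw
    rw [← mul_one w, ← hh', ← smul_eq_mul, ← map_smul, this, map_zero]
  -- remove the content
  obtain ⟨J, ⟨c, hc⟩, hhJ, hmin⟩ := Groth.Agent.S1216.result (A := R) (B := A) A h
  obtain ⟨h₀, hh₀⟩ : ∃ h₀ : A, h = c • h₀ := by
    rw [hc, Ideal.submodule_span_eq] at hhJ
    refine Submodule.smul_induction_on hhJ (fun r hr y _ => ?_) ?_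
    · obtain ⟨t, rfl⟩ := Ideal.mem_span_singleton.1 hr
      exact ⟨t • y, mul_smul _ _ _⟩
    · rintro _ _ ⟨y, rfl⟩ ⟨y', rfl⟩
      exact ⟨y + y', (smul_add _ _ _).symm⟩
  have hnt : Nontrivial AK := hinj.nontrivial
  have hc0 : c ≠ 0 := by
    rintro rfl
    rw [zero_smul] at hh₀
    refine one_ne_zero (hreg 1 ?_)
    rw [hh₀, map_zero, mul_zero]
  have hh₀m : h₀ ∉ (maximalIdeal R).map (algebraMap R A) := fun hm => by
    obtain ⟨r, hr, y, rfl⟩ := (Groth.Calg4.PicValFibre.mem_fibI_smul_top R h₀).1
      (show h₀ ∈ (Groth.Calg4.PicValFibre.fibI R A • ⊤ : Submodule A A) by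
        rw [Submodule.smul_eq_map₂]; simpa [← Submodule.smul_eq_map₂] using hm)
    have hle := hmin (Ideal.span {c * r}) (by
      rw [hh₀, ← mul_smul]
      exact Submodule.smul_mem_smul (Ideal.mem_span_singleton_self _) trivial)
    obtain ⟨t, ht⟩ := Ideal.mem_span_singleton.1
      (hle (by rw [hc, Ideal.submodule_span_eq]; exact Ideal.mem_span_singleton_self c))
    have h1 : (1 - r * t) * c = 0 := by linear_combination ht
    rcases mul_eq_zero.1 h1 with h2 | h2
    · exact hr (IsUnit.of_mul_eq_one t (sub_eq_zero.1 h2).symm)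
    · exact hc0 h2
  let u : A →ₗ[A] A := LinearMap.mulLeft A h₀
  have hu := Groth.Agent.S1351.result (A := R) (B := A) u (by
    have : IsRegularRing (A ⧸ (maximalIdeal R).map (algebraMap R A)) := fibre_isRegularRing R A
    have : IsLocalRing (A ⧸ (maximalIdeal R).map (algebraMap R A)) :=
      Groth.Ega4Algebra1.isLocalRing_quotient_of_le _ (Groth.Calg4.PicValFibre.fibI_le R)
    have : IsRegularLocalRing (A ⧸ (maximalIdeal R).map (algebraMap R A)) :=
      IsRegularLocalRing.of_isRegularRing_of_isLocalRing _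
    have := Groth.Ega4Algebra1.isDomain_of_isRegularLocalRing
      (A ⧸ (maximalIdeal R).map (algebraMap R A))
    have key : ∀ x : A, x ∈ (maximalIdeal R • ⊤ : Submodule R A) ↔
        x ∈ (maximalIdeal R).map (algebraMap R A) := fun x => by
      rw [Ideal.smul_top_eq_map]; rfl
    intro x y hxy
    induction x using Submodule.Quotient.induction_on with | H x =>
    induction y using Submodule.Quotient.induction_on with | H y =>
    rw [Submodule.mapQ_apply, Submodule.mapQ_apply, Submodule.Quotient.eq, key] at hxy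
    rw [Submodule.Quotient.eq, key]
    have h3 : h₀ * (x - y) ∈ (maximalIdeal R).map (algebraMap R A) := by
      rw [mul_sub]; exact hxy
    have : ((maximalIdeal R).map (algebraMap R A)).IsPrime :=
      (Ideal.Quotient.isDomain_iff_prime _).1 inferInstance
    exact (this.mem_or_mem h3).resolve_left hh₀m)
  have hrange : LinearMap.range u = Ideal.span {h₀} := by
    ext z
    rw [LinearMap.mem_range, Ideal.mem_span_singleton']
    exact exists_congr fun a => by rw [LinearMap.mulLeft_apply, mul_comm]
  have hflat : Module.Flat R (A ⧸ Ideal.span {h₀}) := by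
    have := hu.2
    rwa [hrange] at this
  refine ⟨h₀, mem_nonZeroDivisors_iff_right.2 fun a ha => hu.1 ?_, ?_, hflat⟩
  · show h₀ * a = h₀ * 0
    rw [mul_zero, mul_comm, ha]
  · refine le_antisymm (fun a ha => ?_) ((Ideal.span_singleton_le_iff_mem _).2
      (hsat c h₀ hc0 (by rw [← hh₀]; exact hhI)))
    obtain ⟨w, hw⟩ := hgen _ ((hmem a).2 ha)
    obtain ⟨⟨w', ⟨_, r, hr, rfl⟩⟩, ew⟩ := IsLocalization.surj M w
    have h1 : algebraMap R A r * a = (algebraMap R A c * w') * h₀ := hinj (by
      have e1 : algebraMap A AK h = algebraMap A AK (algebraMap R A c) * algebraMap A AK h₀ := by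
        rw [← map_mul, ← Algebra.smul_def, ← hh₀]
      rw [map_mul, map_mul, map_mul, hw, e1, ← ew]
      ring)
    have h2 : Ideal.Quotient.mk (Ideal.span {h₀}) a = 0 := by
      refine Groth.Calg4.PicValFibre.smul_eq_zero_of_flat (M := A ⧸ Ideal.span {h₀}) R
        (r := r) ?_ (nonZeroDivisors.ne_zero hr)
      rw [← algebraMap_smul A r, Algebra.smul_def, Ideal.Quotient.algebraMap_eq, ← map_mul,
        Ideal.Quotient.eq_zero_iff_mem, h1]
      exact Ideal.mul_mem_left _ _ (Ideal.mem_span_singleton_self _)
    exact Ideal.Quotient.eq_zero_iff_mem.1 h2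

end

/-- A regular element generates an ideal isomorphic to the ring. -/
theorem nonempty_equiv_span {C : Type u} [CommRing C] {T : Ideal C} {f : C}
    (hf : f ∈ nonZeroDivisors C) (hT : T = Ideal.span {f}) : Nonempty (↥T ≃ₗ[C] C) := by
  subst hT
  let ψ : C →ₗ[C] ↥(Ideal.span {f}) :=
    LinearMap.codRestrict _ (LinearMap.mulRight C f) fun c =>
      Ideal.mul_mem_left _ c (Ideal.mem_span_singleton_self f)
  refine ⟨(LinearEquiv.ofBijective ψ ⟨fun a b h =>
    (mul_cancel_right_mem_nonZeroDivisors hf).1 (congrArg Subtype.val h), fun ⟨z, hz⟩ => ?_⟩).symm⟩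
  obtain ⟨c, hc⟩ := Ideal.mem_span_singleton'.1 hz
  exact ⟨c, Subtype.ext hc⟩

/-- A locally principal ideal of a localization extends to an invertible one of a further
localization. -/
theorem invertible_map_of_locally_principal {B BK AK : Type u} [CommRing B] [CommRing BK]
    [CommRing AK] [Algebra B BK] [Algebra B AK] (MB M' : Submonoid B) [IsLocalization MB BK]
    [IsLocalization M' AK] [IsNoetherianRing AK] (γ : BK →+* AK)
    (hγ : γ.comp (algebraMap B BK) = algebraMap B AK) (J : Ideal BK)
    (hJ : ∀ (Q : Ideal BK) [Q.IsPrime], ∃ f ∈ nonZeroDivisors (Localization.AtPrime Q),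
      J.map (algebraMap BK (Localization.AtPrime Q)) = Ideal.span {f}) :
    Module.Invertible AK ↥((J.comap (algebraMap B BK)).map (algebraMap B AK)) := by
  set L := (J.comap (algebraMap B BK)).map (algebraMap B AK) with hL
  have : Module.Finite AK L := Module.Finite.iff_fg.2 (IsNoetherian.noetherian L)
  have : Module.FinitePresentation AK L := by exact Module.finitePresentation_of_finite AK L
  refine Groth.Calg5.InvertibleCrit.invertible_of_atPrime (B := AK) (M := ↥L) fun Q' _ => ?_
  let Q : Ideal BK := Q'.comap γ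
  have h1 : IsLocalization.AtPrime (Localization.AtPrime Q') (Q'.comap (algebraMap B AK)) :=
    IsLocalization.isLocalization_isLocalization_atPrime_isLocalization M'
      (Localization.AtPrime Q') Q'
  have h2 : IsLocalization.AtPrime (Localization.AtPrime Q) (Q.comap (algebraMap B BK)) :=
    IsLocalization.isLocalization_isLocalization_atPrime_isLocalization MB
      (Localization.AtPrime Q) Q
  have h2' : IsLocalization (Q'.comap (algebraMap B AK)).primeCompl (Localization.AtPrime Q) := by
    convert h2 using 3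
    rw [← hγ]; rfl
  let e := IsLocalization.algEquiv (Q'.comap (algebraMap B AK)).primeCompl
    (Localization.AtPrime Q) (Localization.AtPrime Q')
  obtain ⟨f, hf, hJf⟩ := hJ Q
  have hgen : L.map (algebraMap AK (Localization.AtPrime Q')) = Ideal.span {e f} := by
    have h3 : (J.comap (algebraMap B BK)).map (algebraMap B (Localization.AtPrime Q)) =
        Ideal.span {f} := by
      rw [IsScalarTower.algebraMap_eq B BK (Localization.AtPrime Q), ← Ideal.map_map,
        IsLocalization.map_under MB BK J, hJf]
    rw [hL, Ideal.map_map, ← IsScalarTower.algebraMap_eq B AK (Localization.AtPrime Q'),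
      ← e.toAlgHom.comp_algebraMap, ← Ideal.map_map, h3, Ideal.map_span, Set.image_singleton]
    rfl
  have hef : e f ∈ nonZeroDivisors (Localization.AtPrime Q') :=
    MulEquivClass.map_nonZeroDivisors e ▸ Submonoid.mem_map_of_mem _ hf
  obtain ⟨e₂⟩ := nonempty_equiv_span hef hgen
  have : IsLocalizedModule Q'.primeCompl (Algebra.idealMap (Localization.AtPrime Q') L) :=
    Algebra.idealMap_isLocalizedModule (Localization.AtPrime Q') Q'.primeCompl L
  exact ⟨(IsLocalizedModule.isBaseChange Q'.primeCompl (Localization.AtPrime Q')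
    (Algebra.idealMap (Localization.AtPrime Q') L)).equiv.trans e₂⟩

section

variable (R : Type u) [CommRing R] [IsDomain R] [ValuationRing R]
  (B : Type u) [CommRing B] [Algebra R B] [Algebra.Smooth R B]
  (BK : Type u) [CommRing BK] [Algebra B BK] [IsNoetherianRing BK]
  [IsLocalization (Algebra.algebraMapSubmonoid B (nonZeroDivisors R)) BK]

include R in
/-- The contraction of a locally principal ideal of the generic fibre of a smooth algebra over a
valuation ring is principal near every prime. -/
theorem exists_generator (J : Ideal BK)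
    (hJ : ∀ (Q : Ideal BK) [Q.IsPrime], ∃ f ∈ nonZeroDivisors (Localization.AtPrime Q),
      J.map (algebraMap BK (Localization.AtPrime Q)) = Ideal.span {f})
    (p : Ideal B) [p.IsPrime] :
    ∃ s ∉ p, ∃ g ∈ J.comap (algebraMap B BK),
      algebraMap B (Localization.Away s) g ∈ nonZeroDivisors (Localization.Away s) ∧
        (J.comap (algebraMap B BK)).map (algebraMap B (Localization.Away s)) =
          Ideal.span {algebraMap B (Localization.Away s) g} := by
  classical
  let I := J.comap (algebraMap B BK)
  let MB := Algebra.algebraMapSubmonoid B (nonZeroDivisors R)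
  have hflatB : Module.Flat R B := inferInstance
  have hsatB : ∀ (r : R) (b : B), r ≠ 0 → algebraMap R B r * b ∈ I → b ∈ I := fun r b hr h => by
    rw [Ideal.mem_comap, map_mul] at h
    exact Ideal.mem_comap.2 ((Ideal.unit_mul_mem_iff_mem J (IsLocalization.map_units BK
      (⟨_, r, mem_nonZeroDivisors_of_ne_zero hr, rfl⟩ : MB))).1 h)
  have hzero : ∀ {r : R} {b : B}, algebraMap R B r * b = 0 → r ≠ 0 → b = 0 := fun {r b} h hr => by
    rw [← Algebra.smul_def] at h
    exact Groth.Calg4.PicValFibre.smul_eq_zero_of_flat R h hr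
  -- the local ring
  let q : Ideal R := p.comap (algebraMap R B)
  let Rq := Localization.AtPrime q
  have : ValuationRing Rq := Groth.Misc8.ValFP.localization_valuationRing q
  have : IsDomain Rq := IsLocalization.isDomain_localization (Ideal.primeCompl_le_nonZeroDivisors q)
  let A := Localization.AtPrime p
  let φ : Rq →+* A := Localization.localRingHom q p (algebraMap R B) rfl
  let _ : Algebra Rq A := φ.toAlgebra
  have : IsScalarTower R Rq A := IsScalarTower.of_algebraMap_eq fun r => by
    rw [IsScalarTower.algebraMap_apply R B A]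
    exact (Localization.localRingHom_to_map q p (algebraMap R B) rfl r).symm
  have : IsLocalHom (algebraMap Rq A) := Localization.isLocalHom_localRingHom q p (algebraMap R B) rfl
  have : Algebra.FormallySmooth B A := Algebra.FormallySmooth.of_isLocalization p.primeCompl
  have : Algebra.FormallySmooth R A := Algebra.FormallySmooth.comp R B A
  have : Algebra.FormallyUnramified R Rq := Algebra.FormallyUnramified.of_isLocalization q.primeCompl
  have : Algebra.FormallySmooth Rq A := Algebra.FormallySmooth.of_restrictScalars R Rq A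
  have : Algebra.EssFiniteType B A := Algebra.EssFiniteType.of_isLocalization A p.primeCompl
  have : Algebra.EssFiniteType R A := Algebra.EssFiniteType.comp R B A
  have : Algebra.EssFiniteType Rq A := Algebra.EssFiniteType.of_comp R Rq A
  have : Module.Flat B A := IsLocalization.flat A p.primeCompl
  have hRA : Module.Flat R A := Module.Flat.trans R B A
  have : Module.Flat Rq A := Groth.Calg4.PicValFibre.flat_of_torsionFree Rq fun x a h hx => by
    obtain ⟨⟨r, t⟩, e⟩ := IsLocalization.surj q.primeCompl x
    refine Groth.Calg4.PicValFibre.smul_eq_zero_of_flat (M := A) R (r := r) ?_ fun hr => hx ?_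
    · rw [← algebraMap_smul Rq r, ← e, mul_comm, mul_smul, h, smul_zero]
    · rw [hr, map_zero, (IsLocalization.map_units Rq t).mul_left_eq_zero] at e
      exact e
  let N := Algebra.algebraMapSubmonoid A (nonZeroDivisors Rq)
  let AK := Localization N
  let M' := IsLocalization.localizationLocalizationSubmodule p.primeCompl N
  have hAK : IsLocalization M' AK :=
    IsLocalization.localization_localization_isLocalization p.primeCompl N AK
  have hgB : ∀ x : MB, IsUnit (algebraMap B AK x) := by
    rintro ⟨_, r, hr, rfl⟩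
    rw [IsScalarTower.algebraMap_apply B A AK, ← IsScalarTower.algebraMap_apply R B A,
      IsScalarTower.algebraMap_apply R Rq A]
    exact IsLocalization.map_units AK (⟨_, _, mem_nonZeroDivisors_of_ne_zero (fun h0 =>
      nonZeroDivisors.ne_zero hr (IsLocalization.injective Rq
        (Ideal.primeCompl_le_nonZeroDivisors q) (h0.trans (map_zero _).symm))), rfl⟩ : N)
  let γ : BK →+* AK := IsLocalization.lift hgB
  have hγ : γ.comp (algebraMap B BK) = algebraMap B AK := IsLocalization.lift_comp hgB
  have : IsNoetherianRing AK := (isNoetherianRing_iff_ideal_fg AK).2 fun 𝔞 => by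
    rw [← IsLocalization.map_under M' AK 𝔞, ← hγ, ← Ideal.map_map]
    exact Ideal.FG.map (IsNoetherian.noetherian _) γ
  let IA := I.map (algebraMap B A)
  have hIA : ∀ (r : Rq) (a : A), r ≠ 0 → r • a ∈ IA → a ∈ IA := fun x a hx h => by
    obtain ⟨⟨r, t⟩, e⟩ := IsLocalization.surj q.primeCompl x
    obtain ⟨⟨b, v⟩, ea⟩ := IsLocalization.surj p.primeCompl a
    have hr : r ≠ 0 := fun hr => hx (by
      rw [hr, map_zero, (IsLocalization.map_units Rq t).mul_left_eq_zero] at e
      exact e)
    have h1 : algebraMap B A (algebraMap R B r * b) ∈ IA := by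
      rw [map_mul, ← ea, ← IsScalarTower.algebraMap_apply R B A,
        IsScalarTower.algebraMap_apply R Rq A, ← e, map_mul]
      have := IA.mul_mem_left (algebraMap Rq A (algebraMap R Rq t) * algebraMap B A v) h
      rw [Algebra.smul_def] at this
      convert this using 1
      ring
    obtain ⟨w, hw, hwI⟩ := (IsLocalization.algebraMap_mem_map_algebraMap_iff p.primeCompl A _ _).1 h1
    have hwb : w * b ∈ I := hsatB r _ hr (by rw [mul_left_comm]; exact hwI)
    have h2 : algebraMap B A (w * b) ∈ IA := Ideal.mem_map_of_mem _ hwb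
    rw [map_mul, ← ea] at h2
    exact (Ideal.mul_unit_mem_iff_mem IA (IsLocalization.map_units A v)).1
      ((Ideal.unit_mul_mem_iff_mem IA (IsLocalization.map_units A ⟨w, hw⟩)).1 h2)
  let L : Ideal AK := IA.map (algebraMap A AK)
  have hL : L = I.map (algebraMap B AK) := by
    rw [IsScalarTower.algebraMap_eq B A AK, ← Ideal.map_map]
  have : Module.Invertible AK L := by
    rw [hL]
    exact invertible_map_of_locally_principal MB M' γ hγ J hJ
  obtain ⟨g', hg', hIg', hflat⟩ := exists_generator_local Rq A AK IA hIA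
  -- clear denominators
  obtain ⟨⟨⟨g, hgI⟩, t⟩, eg⟩ := (IsLocalization.mem_map_algebraMap_iff p.primeCompl A).1
    (hIg'.ge (Ideal.mem_span_singleton_self g'))
  have hspan : IA = Ideal.span {algebraMap B A g} := by
    rw [hIg', ← eg, Ideal.span_singleton_mul_right_unit (IsLocalization.map_units A t)]
  have hgreg : algebraMap B A g ∈ nonZeroDivisors A :=
    eg ▸ mul_mem hg' (IsLocalization.map_units A t).mem_nonZeroDivisors
  have htf : ∀ (r : R) (b : B), r ≠ 0 → algebraMap R B r * b ∈ Ideal.span {g} →
      ∃ v ∉ p, v * b ∈ Ideal.span {g} := fun r b hr hb => by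
    have h1 : algebraMap B A b ∈ IA := by
      refine hIA (algebraMap R Rq r) _ (fun h0 => hr (IsLocalization.injective Rq
        (Ideal.primeCompl_le_nonZeroDivisors q) (h0.trans (map_zero _).symm))) ?_
      rw [algebraMap_smul, Algebra.smul_def, IsScalarTower.algebraMap_apply R B A, ← map_mul]
      exact Ideal.mem_map_of_mem _ ((Ideal.span_singleton_le_iff_mem I).2 hgI hb)
    have h2 : IA = (Ideal.span {g}).map (algebraMap B A) := by
      rw [hspan, Ideal.map_span, Set.image_singleton]
    obtain ⟨v, hv, hvb⟩ := (IsLocalization.algebraMap_mem_map_algebraMap_iff p.primeCompl A _ _).1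
      (h2.le h1)
    exact ⟨v, hv, hvb⟩
  -- the quotient is torsion free near `p`
  let V : Set (PrimeSpectrum B) :=
    {P | Module.Flat R (LocalizedModule P.asIdeal.primeCompl (B ⧸ Ideal.span {g}))}
  have hVo : IsOpen V :=
    Groth.RaynaudGruson.DomainFP.isOpen_flatLocus (R := R) (S := B) (M := B ⧸ Ideal.span {g})
  have hpV : (⟨p, ‹_›⟩ : PrimeSpectrum B) ∈ V := by
    refine Groth.Calg4.PicValFibre.flat_of_torsionFree R fun r x h hr => ?_
    induction x using LocalizedModule.induction_on with | h m t =>
    rw [LocalizedModule.smul'_mk] at h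
    obtain ⟨v, hv⟩ := mk_eq_zero_iff'.1 h
    induction m using Submodule.Quotient.induction_on with | H b =>
    rw [Submonoid.smul_def, ← Submodule.Quotient.mk_smul, ← Submodule.Quotient.mk_smul,
      Submodule.Quotient.mk_eq_zero, smul_eq_mul, Algebra.smul_def, mul_left_comm] at hv
    obtain ⟨w, hw, hwb⟩ := htf r (v.1 * b) hr hv
    rw [mk_eq_zero_iff']
    refine ⟨⟨w * v.1, p.primeCompl.mul_mem hw v.2⟩, ?_⟩
    rw [Submonoid.smul_def, ← Submodule.Quotient.mk_smul, Submodule.Quotient.mk_eq_zero,
      smul_eq_mul, mul_assoc]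
    exact hwb
  obtain ⟨_, ⟨s₀, rfl⟩, hps₀, hs₀⟩ :=
    PrimeSpectrum.isTopologicalBasis_basic_opens.exists_subset_of_mem_open hpV hVo
  have hs₀tf : ∀ (r : R) (b : B), r ≠ 0 → algebraMap R B r * b ∈ Ideal.span {g} →
      ∃ k : ℕ, s₀ ^ k * b ∈ Ideal.span {g} := fun r b hr hb => by
    let x : B ⧸ Ideal.span {g} := Submodule.Quotient.mk b
    have hx : r • x = 0 := by
      rw [← Submodule.Quotient.mk_smul, Submodule.Quotient.mk_eq_zero, Algebra.smul_def]
      exact hb
    obtain ⟨k, hk⟩ : s₀ ∈ ((Submodule.span B {x}).annihilator).radical := by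
      rw [Ideal.radical_eq_sInf, Submodule.mem_sInf]
      rintro (P : Ideal B) ⟨hle, hP⟩
      by_contra hsP
      have : Module.Flat R (LocalizedModule P.primeCompl (B ⧸ Ideal.span {g})) :=
        hs₀ (show (⟨P, hP⟩ : PrimeSpectrum B) ∈ _ from hsP)
      have h0 : LocalizedModule.mk x (1 : P.primeCompl) = 0 := by
        refine Groth.Calg4.PicValFibre.smul_eq_zero_of_flat
          (M := LocalizedModule P.primeCompl (B ⧸ Ideal.span {g})) R (r := r) ?_ hr
        rw [LocalizedModule.smul'_mk, hx, LocalizedModule.zero_mk]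
      obtain ⟨v, hv⟩ := mk_eq_zero_iff'.1 h0
      exact v.2 (hle ((Submodule.mem_annihilator_span_singleton _ _).2 hv))
    refine ⟨k, ?_⟩
    have := (Submodule.mem_annihilator_span_singleton _ _).1 hk
    rwa [← Submodule.Quotient.mk_smul, Submodule.Quotient.mk_eq_zero, smul_eq_mul] at this
  -- finitely many generators over the generic fibre
  have key : ∀ T : Ideal BK, ∃ F : Finset B, (∀ b ∈ F, algebraMap B BK b ∈ T) ∧
      ∀ b : B, algebraMap B BK b ∈ T →
        ∃ r : R, r ≠ 0 ∧ algebraMap R B r * b ∈ Ideal.span (F : Set B) := fun T => by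
    obtain ⟨n, a, ha⟩ : ∃ (n : ℕ) (a : Fin n → BK), Ideal.span (Set.range a) = T :=
      Submodule.fg_iff_exists_fin_generating_family.1 (IsNoetherian.noetherian T)
    choose bs hbs using fun i => IsLocalization.surj MB (a i)
    refine ⟨Finset.univ.image fun i => (bs i).1, fun b hb => ?_, fun b hb => ?_⟩
    · obtain ⟨i, -, rfl⟩ := Finset.mem_image.1 hb
      rw [← hbs i, ← ha]
      exact Ideal.mul_mem_right _ _ (Ideal.subset_span ⟨i, rfl⟩)
    · have hle : T ≤ (Ideal.span (↑(Finset.univ.image fun i => (bs i).1) : Set B)).map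
          (algebraMap B BK) := by
        rw [← ha, Ideal.span_le]
        rintro _ ⟨i, rfl⟩
        refine (Ideal.mul_unit_mem_iff_mem _ (IsLocalization.map_units BK (bs i).2)).1 ?_
        rw [hbs i]
        exact Ideal.mem_map_of_mem _ (Ideal.subset_span (by simp))
      obtain ⟨_, ⟨r, hr, rfl⟩, h⟩ :=
        (IsLocalization.algebraMap_mem_map_algebraMap_iff MB BK _ _).1 (hle hb)
      exact ⟨r, nonZeroDivisors.ne_zero hr, h⟩
  obtain ⟨F, hF, hFJ⟩ := key J
  obtain ⟨G, hG, hGJ⟩ := key ((Submodule.span BK {algebraMap B BK g}).annihilator)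
  have hu : ∀ b ∈ F, ∃ u ∉ p, u * b ∈ Ideal.span {g} := fun b hb => by
    have h2 : IA = (Ideal.span {g}).map (algebraMap B A) := by
      rw [hspan, Ideal.map_span, Set.image_singleton]
    exact (IsLocalization.algebraMap_mem_map_algebraMap_iff p.primeCompl A _ _).1
      (h2.le (Ideal.mem_map_of_mem _ (Ideal.mem_comap.2 (hF b hb))))
  choose u hup hug using hu
  have hv : ∀ b ∈ G, ∃ v ∉ p, v * b = 0 := fun b hb => by
    have h1 := (Submodule.mem_annihilator_span_singleton _ _).1 (hG b hb)
    rw [smul_eq_mul, ← map_mul] at h1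
    obtain ⟨⟨_, r, hr, rfl⟩, h⟩ := (IsLocalization.map_eq_zero_iff MB BK _).1 h1
    have h2 : b * g = 0 := hzero h (nonZeroDivisors.ne_zero hr)
    have h3 : algebraMap B A b = 0 := by
      refine (mul_right_mem_nonZeroDivisors_eq_zero_iff hgreg).1 ?_
      rw [← map_mul, h2, map_zero]
    obtain ⟨v, hv⟩ := (IsLocalization.map_eq_zero_iff p.primeCompl A b).1 h3
    exact ⟨v, v.2, hv⟩
  choose v hvp hvb using hv
  let U := ∏ b ∈ F.attach, u b.1 b.2
  let W := ∏ b ∈ G.attach, v b.1 b.2
  refine ⟨s₀ * U * W, ?_, g, hgI, ?_, ?_⟩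
  · refine p.primeCompl.mul_mem (p.primeCompl.mul_mem hps₀ ?_) ?_
    · exact Submonoid.prod_mem _ fun b _ => hup b.1 b.2
    · exact Submonoid.prod_mem _ fun b _ => hvp b.1 b.2
  · set C := Localization.Away (s₀ * U * W)
    refine mem_nonZeroDivisors_iff_right.2 fun c hc => ?_
    obtain ⟨⟨b, t'⟩, eb⟩ := IsLocalization.surj (Submonoid.powers (s₀ * U * W)) c
    refine ((IsLocalization.map_units C t').mul_left_eq_zero).1 (eb.trans ?_)
    have h1 : algebraMap B C (b * g) = 0 := by
      rw [map_mul, ← eb, mul_right_comm, hc, zero_mul]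
    obtain ⟨⟨_, n, rfl⟩, hn⟩ := (IsLocalization.map_eq_zero_iff (Submonoid.powers (s₀ * U * W)) C _).1 h1
    dsimp only at hn
    obtain ⟨r, hr, h2⟩ := hGJ ((s₀ * U * W) ^ n * b) (by
      rw [Submodule.mem_annihilator_span_singleton, smul_eq_mul, ← map_mul, mul_assoc, hn, map_zero])
    have h3 : W * ((s₀ * U * W) ^ n * b) = 0 := by
      refine hzero (r := r) ?_ hr
      rw [mul_left_comm]
      have h4 : Ideal.span (G : Set B) ≤ (Submodule.span B {W}).annihilator := by
        rw [Ideal.span_le]
        intro x hx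
        rw [SetLike.mem_coe, Submodule.mem_annihilator_span_singleton, smul_eq_mul, mul_comm]
        obtain ⟨w', hw'⟩ : v x hx ∣ W :=
          Finset.dvd_prod_of_mem (fun b => v b.1 b.2) (Finset.mem_attach G ⟨x, hx⟩)
        rw [hw', mul_right_comm, hvb x hx, zero_mul]
      have := (Submodule.mem_annihilator_span_singleton _ _).1 (h4 h2)
      rwa [smul_eq_mul, mul_comm] at this
    rw [IsLocalization.map_eq_zero_iff (Submonoid.powers (s₀ * U * W)) C]
    refine ⟨⟨_, n + 1, rfl⟩, ?_⟩
    show (s₀ * U * W) ^ (n + 1) * b = 0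
    rw [pow_succ, show (s₀ * U * W) ^ n * (s₀ * U * W) * b =
      (s₀ * U) * (W * ((s₀ * U * W) ^ n * b)) by ring, h3, mul_zero]
  · refine le_antisymm ?_ ((Ideal.span_singleton_le_iff_mem _).2 (Ideal.mem_map_of_mem _ hgI))
    rw [Ideal.map_le_iff_le_comap]
    intro b hb
    obtain ⟨r, hr, h2⟩ := hFJ b hb
    have h3 : algebraMap R B r * (U * b) ∈ Ideal.span {g} := by
      rw [mul_left_comm]
      have h4 : Ideal.span (F : Set B) ≤ (Ideal.span {g}).colon {U} := by
        rw [Ideal.span_le]
        intro x hx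
        rw [SetLike.mem_coe, Submodule.mem_colon_singleton, smul_eq_mul]
        obtain ⟨w', hw'⟩ : u x hx ∣ U :=
          Finset.dvd_prod_of_mem (fun b => u b.1 b.2) (Finset.mem_attach F ⟨x, hx⟩)
        rw [hw', show x * (u x hx * w') = w' * (u x hx * x) by ring]
        exact Ideal.mul_mem_left _ _ (hug x hx)
      have := Submodule.mem_colon_singleton.1 (h4 h2)
      rwa [smul_eq_mul, mul_comm] at this
    obtain ⟨k, hk⟩ := hs₀tf r (U * b) hr h3
    rw [Ideal.mem_comap]
    refine (Ideal.unit_mul_mem_iff_mem _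
      (IsLocalization.map_units (Localization.Away (s₀ * U * W))
        (⟨_, k + 1, rfl⟩ : Submonoid.powers (s₀ * U * W)))).1 ?_
    rw [← map_mul, show Ideal.span {algebraMap B (Localization.Away (s₀ * U * W)) g} = (Ideal.span {g}).map (algebraMap B _) by rw [Ideal.map_span, Set.image_singleton]]
    refine Ideal.mem_map_of_mem _ ?_
    dsimp only
    rw [show (s₀ * U * W) ^ (k + 1) * b = (s₀ * U ^ k * W ^ (k + 1)) * (s₀ ^ k * (U * b)) by
      rw [mul_pow, mul_pow]; ring]
    exact Ideal.mul_mem_left _ _ hk

end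

end Groth.AlgSpBasic.ValCartier
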