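import Groth.Agent.AlgSpBasic.ValuationCartier
import Groth.Agent.Ega2Proj.AffineBC
import Groth.Agent.RefRank.RelDiv
import Groth.Agent.Divisors.EffCartier
import Groth.Agent.AlgSp3.SchImage

/-!
# The closure of an effective Cartier divisor of the generic fibre over a valuation ring
-/

set_option autoImplicit false
set_option backward.isDefEq.respectTransparency.types false
universe u

open CategoryTheory CategoryTheory.Limits AlgebraicGeometry Opposite TopologicalSpace

namespace Groth.AlgSpBasic.ValCartier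

variable (R : Type u) [CommRing R] [IsDomain R] [ValuationRing R] (K : Type u) [Field K]
  [Algebra R K] [IsFractionRing R K]

/-- The scheme theoretic closure of an effective Cartier divisor of the generic fibre of a smooth
scheme over a valuation ring is effective Cartier and restricts to the divisor. -/
theorem isEffCartierIdeal_ker {V VK : Scheme.{u}} (f : V ⟶ Spec (CommRingCat.of R)) [Smooth f]
    (π : VK ⟶ V) (s : VK ⟶ Spec (CommRingCat.of K))
    (sq : IsPullback π s f (Spec.map (CommRingCat.ofHom (algebraMap R K))))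
    (J : VK.IdealSheafData) (hJ : BlowUp.IsEffCartierIdeal J) :
    BlowUp.IsEffCartierIdeal (J.subschemeι ≫ π).ker ∧ (J.subschemeι ≫ π).ker.comap π = J := by
  let g := Spec.map (CommRingCat.ofHom (algebraMap R K))
  have : IsLocalization (nonZeroDivisors R) K := ‹IsFractionRing R K›
  have : IsPreimmersion g := IsPreimmersion.of_isLocalization (nonZeroDivisors R)
  have : Flat g := by
    rw [HasRingHomProperty.Spec_iff (P := @Flat), CommRingCat.hom_ofHom]
    exact RingHom.flat_algebraMap_iff.2 (IsLocalization.flat K (nonZeroDivisors R))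
  have : IsAffineHom π := MorphismProperty.of_isPullback sq.flip (inferInstanceAs (IsAffineHom g))
  have : Mono π := MorphismProperty.of_isPullback (P := MorphismProperty.monomorphisms _) sq.flip
    (inferInstanceAs (Mono g))
  have : Flat π := MorphismProperty.of_isPullback sq.flip (inferInstanceAs (Flat g))
  have hqc : QuasiCompact (J.subschemeι ≫ π) := inferInstance
  constructor
  swap
  · have sq0 : IsPullback (𝟙 _) J.subschemeι (J.subschemeι ≫ π) π :=
      ⟨⟨Category.id_comp _⟩, ⟨PullbackCone.IsLimit.mk _ (fun c => c.fst)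
        (fun c => Category.comp_id _) (fun c => by
          rw [← cancel_mono π, Category.assoc]; exact c.condition)
        fun c m h₁ _ => by rw [← h₁, Category.comp_id]⟩⟩
    rw [← Groth.AlgSp3.ker_of_isPullback_of_flat sq0, Scheme.IdealSheafData.ker_subschemeι]
  intro x
  obtain ⟨_, ⟨U, hU, rfl⟩, hxU, -⟩ :=
    V.isBasis_affineOpens.exists_subset_of_mem_open (Set.mem_univ x) isOpen_univ
  -- the sections over the chart
  let B := Γ(V, U)
  let BK := Γ(VK, π ⁻¹ᵁ U)
  have : LocallyOfFiniteType s := MorphismProperty.of_isPullback sq inferInstance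
  have : IsLocallyNoetherian VK := LocallyOfFiniteType.isLocallyNoetherian s
  have : IsNoetherianRing BK := IsLocallyNoetherian.component_noetherian ⟨_, hU.preimage π⟩
  have hpo := Groth.Ega2Proj.AffBC.isPushout_appLE g f s π sq.flip
    (isAffineOpen_top _) hU (V := U) le_top (fun z _ => trivial)
  let φ : CommRingCat.of R ⟶ B := (Scheme.ΓSpecIso _).inv ≫ f.appLE ⊤ U le_top
  let ψ : CommRingCat.of K ⟶ BK :=
    (Scheme.ΓSpecIso _).inv ≫ s.appLE (g ⁻¹ᵁ ⊤) (π ⁻¹ᵁ U) (fun z _ => trivial)
  have hpo' : IsPushout φ (CommRingCat.ofHom (algebraMap R K)) (π.app U) ψ :=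
    hpo.of_iso (Scheme.ΓSpecIso _) (Iso.refl _) (Scheme.ΓSpecIso _) (Iso.refl _)
      (by rw [Iso.hom_inv_id_assoc, Iso.refl_hom, Category.comp_id])
      (Scheme.ΓSpecIso_naturality _)
      (by rw [Iso.refl_hom, Iso.refl_hom, Category.comp_id, Category.id_comp])
      (by rw [Iso.refl_hom, Category.comp_id]; exact (Iso.hom_inv_id_assoc _ _).symm)
  let _ : Algebra R B := φ.hom.toAlgebra
  let _ : Algebra B BK := (π.app U).hom.toAlgebra
  let _ : Algebra K BK := ψ.hom.toAlgebra
  let _ : Algebra R BK := (φ ≫ π.app U).hom.toAlgebra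
  have : IsScalarTower R B BK := IsScalarTower.of_algebraMap_eq fun _ => rfl
  have : IsScalarTower R K BK :=
    IsScalarTower.of_algebraMap_eq fun r => congr(($(hpo'.w)).hom r)
  have : Algebra.IsPushout R B K BK := CommRingCat.isPushout_iff_isPushout.1 hpo'
  have hloc : IsLocalization (Algebra.algebraMapSubmonoid B (nonZeroDivisors R)) BK :=
    (Algebra.isLocalization_iff_isPushout (T := B) (A := K) (nonZeroDivisors R)).2 this
  have : Algebra.Smooth R B := by
    rw [← RingHom.smooth_algebraMap]
    show φ.hom.Smooth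
    rw [CommRingCat.hom_comp]
    exact RingHom.Smooth.respectsIso.2 _ (Scheme.ΓSpecIso _).commRingCatIsoToRingEquiv.symm
      (HasRingHomProperty.appLE @Smooth f inferInstance ⟨⊤, isAffineOpen_top _⟩ ⟨U, hU⟩ le_top)
  -- local generators on the generic fibre
  let UK : VK.affineOpens := ⟨π ⁻¹ᵁ U, hU.preimage π⟩
  have hgenK : ∀ (Q : Ideal BK) [Q.IsPrime], ∃ h ∈ nonZeroDivisors (Localization.AtPrime Q),
      (J.ideal UK).map (algebraMap BK (Localization.AtPrime Q)) = Ideal.span {h} := by
    intro Q hQ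
    let y : PrimeSpectrum BK := ⟨Q, hQ⟩
    have hy : UK.2.fromSpec y ∈ UK.1 := UK.2.range_fromSpec.le ⟨y, rfl⟩
    obtain ⟨h, hh, hJh⟩ := Groth.RefRank.RelDiv.exists_stalk_gen hJ hy
    let _ : Algebra BK (VK.presheaf.stalk (UK.2.fromSpec y)) := (VK.presheaf.germ UK.1 _ hy).hom.toAlgebra
    have : IsLocalization.AtPrime (VK.presheaf.stalk (UK.2.fromSpec y)) Q :=
      UK.2.isLocalization_stalk' y hy
    let e := IsLocalization.algEquiv Q.primeCompl (VK.presheaf.stalk (UK.2.fromSpec y))
      (Localization.AtPrime Q)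
    refine ⟨e h, MulEquivClass.map_nonZeroDivisors e ▸ Submonoid.mem_map_of_mem _ hh, ?_⟩
    rw [← e.toAlgHom.comp_algebraMap, ← Ideal.map_map]
    refine (congrArg (Ideal.map e.toAlgHom.toRingHom) hJh).trans ?_
    rw [Ideal.map_span, Set.image_singleton]
    rfl
  obtain ⟨t, ht, b, -, hbreg, hbgen⟩ := exists_generator R B BK (J.ideal UK) hgenK
    (hU.primeIdealOf ⟨x, hxU⟩).asIdeal
  have hI : (J.subschemeι ≫ π).ker.ideal ⟨U, hU⟩ = (J.ideal UK).comap (algebraMap B BK) := by
    rw [Scheme.Hom.ker_apply, ← J.ker_subschemeι_app UK]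
    ext z
    rw [RingHom.mem_ker, Ideal.mem_comap, RingHom.mem_ker]
    exact Iff.rfl
  -- restrict to the basic open
  let W : V.affineOpens := ⟨V.basicOpen t, hU.basicOpen t⟩
  have hxW : x ∈ W.1 := by
    show x ∈ V.basicOpen t
    rw [show x = hU.fromSpec (hU.primeIdealOf ⟨x, hxU⟩) from (hU.fromSpec_primeIdealOf ⟨x, hxU⟩).symm]
    show hU.primeIdealOf ⟨x, hxU⟩ ∈ hU.fromSpec ⁻¹ᵁ V.basicOpen t
    rw [hU.fromSpec_preimage_basicOpen]
    exact ht
  let _ : Algebra B Γ(V, W) := (V.presheaf.map (homOfLE (V.basicOpen_le t)).op).hom.toAlgebra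
  have : IsLocalization.Away t Γ(V, W) := hU.isLocalization_basicOpen t
  let e := IsLocalization.algEquiv (Submonoid.powers t) (Localization.Away t) Γ(V, W)
  refine ⟨W, hxW, e (algebraMap B (Localization.Away t) b),
    MulEquivClass.map_nonZeroDivisors e ▸ Submonoid.mem_map_of_mem _ hbreg, ?_⟩
  rw [← (J.subschemeι ≫ π).ker.map_ideal (U := W) (V := ⟨U, hU⟩) (V.basicOpen_le t), hI]
  refine Eq.trans ?_ ((congrArg (Ideal.map e.toAlgHom.toRingHom) hbgen).trans
    (by rw [Ideal.map_span, Set.image_singleton]; rfl))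
  rw [Ideal.map_map]
  refine congrArg (Ideal.map · _) ?_
  exact (e.toAlgHom.comp_algebraMap).symm

end Groth.AlgSpBasic.ValCartier
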