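import Groth.Agent.AlgSpBasic.ValuationCartierScheme
import Groth.Agent.AlgSpCartier.GenericFibre
import Groth.Agent.AlgSp3.ClosedSub

/-!
# Extending effective Cartier divisors of the generic fibre of a smooth space over a valuation ring
-/

set_option autoImplicit false
set_option backward.isDefEq.respectTransparency.types false
universe u

open CategoryTheory CategoryTheory.Limits AlgebraicGeometry Opposite AlgSp

namespace Groth.AlgSpBasic.ValCartier

open Groth.AlgSpCartier

variable {S : Scheme.{u}} (R : Type u) [CommRing R] [IsDomain R] [ValuationRing R]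
  (K : Type u) [Field K] [Algebra R K] [IsFractionRing R K] (str : Spec (CommRingCat.of R) ⟶ S)

/-- An effective Cartier divisor of the generic fibre of a smooth space over a valuation ring
extends. -/
theorem exists_extension {X XK D : Sp S} (hX : IsAlgSpace X) (hXKA : IsAlgSpace XK)
    (hDA : IsAlgSpace D) (f : X ⟶ (yon S).obj (Over.mk str)) (hf : LocP @Smooth f) (gK : XK ⟶ X)
    (fK : XK ⟶ (yon S).obj
      (Over.mk (Spec.map (CommRingCat.ofHom (algebraMap R K)) ≫ str)))
    (hXK : IsPullback gK fK f ((yon S).map (Over.homMk (Spec.map (CommRingCat.ofHom (algebraMap R K)))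
      rfl : Over.mk (Spec.map (CommRingCat.ofHom (algebraMap R K)) ≫ str) ⟶ Over.mk str)))
    (i : D ⟶ XK) (hD : IsEffCartierSub i) :
    ∃ (D' : Sp S) (i' : D' ⟶ X), IsAlgSpace D' ∧ IsEffCartierSub i' ∧
      ∃ m : D ⟶ D', IsPullback m i i' gK := by
  let t : Over.mk (Spec.map (CommRingCat.ofHom (algebraMap R K)) ≫ str) ⟶ Over.mk str :=
    Over.homMk (Spec.map (CommRingCat.ofHom (algebraMap R K))) rfl
  obtain ⟨V, φ, hφ, hφs⟩ := hX.atlas
  obtain ⟨h, hh⟩ := (yon S).map_surjective (φ ≫ f)
  have : Smooth h.left := hf φ (𝟙 _) h hφ (repWith_isIso _) (by rw [Category.comp_id, hh])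
  have hgKr : Representable gK :=
    (repWith_of_isPullback hXK.flip ((repWith_yon_map_iff @IsAffineHom t).2
      (inferInstanceAs (IsAffineHom (Spec.map (CommRingCat.ofHom (algebraMap R K))))))).rep
  obtain ⟨VK, π, φK, sqK⟩ := hgKr φ
  have hφK : RepWith @Etale φK := repWith_of_isPullback sqK.flip hφ
  have hφKs : RepWith @Surjective φK := repWith_of_isPullback sqK.flip hφs
  obtain ⟨sK, hsK⟩ := (yon S).map_surjective (φK ≫ fK)
  have sq : IsPullback π.left sK.left h.left (Spec.map (CommRingCat.ofHom (algebraMap R K))) := by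
    have h0 : IsPullback ((yon S).map π) ((yon S).map sK) ((yon S).map h) ((yon S).map t) := by
      rw [hsK, hh]
      exact sqK.flip.paste_vert hXK
    exact isPullback_left (isPullback_of_yon h0)
  obtain ⟨J, fJ, sqJ⟩ := exists_ideal hD.1 φK
  obtain ⟨hI, hIJ⟩ := isEffCartierIdeal_ker R K h.left π.left sK.left sq J
    (isEffCartierIdeal_of_isEffCartierSub hXKA hD φK hφK J fJ sqJ)
  let q : subOver VK J ⟶ V := incl VK J ≫ π
  have : IsAffineHom π.left := MorphismProperty.of_isPullback sq.flip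
    (inferInstanceAs (IsAffineHom (Spec.map (CommRingCat.ofHom (algebraMap R K)))))
  have hqc : QuasiCompact q.left := inferInstanceAs (QuasiCompact (J.subschemeι ≫ π.left))
  have sqC : IsPullback fJ ((yon S).map q) (i ≫ gK) φ := by
    rw [Functor.map_comp]; exact sqJ.paste_vert sqK
  let C : Groth.AlgSp3.PullbackChart (i ≫ gK) φ :=
    ⟨_, fJ, (yon S).map q, sqC, _, 𝟙 _, q, repWith_isIso _, repWith_isIso _, Category.id_comp _⟩
  have : QuasiCompact C.α.left := hqc
  obtain ⟨D', i', fI, hD'A, hi', sqI⟩ := Groth.AlgSp3.exists_closedSub hX hφ hφs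
    (Groth.AlgSp3.PullbackChart.isInvIdeal_ker (C := C) hX hDA hφ)
  refine ⟨D', i', hD'A, ⟨hi', V, φ, _, fI, hφ, hφs, sqI, hI⟩, ?_⟩
  have sqQ := IsPullback.of_hasPullback i' gK
  have hsnd : RepWith @IsClosedImmersion (pullback.snd i' gK) := repWith_of_isPullback sqQ hi'
  have hex := exists_isPullback_comap hi' sqI π
  rw [show Scheme.IdealSheafData.comap C.α.left.ker π.left = J from hIJ] at hex
  obtain ⟨f₁, sq₁⟩ := hex
  rw [← sqK.w] at sq₁
  let fJ' := sqQ.lift f₁ ((yon S).map (incl VK J) ≫ φK) (by rw [sq₁.w, Category.assoc])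
  have sqJ' : IsPullback fJ' ((yon S).map (incl VK J)) (pullback.snd i' gK) φK :=
    IsPullback.of_right (by rw [sqQ.lift_fst]; exact sq₁) (sqQ.lift_snd _ _ _) sqQ
  obtain ⟨e, he⟩ := exists_iso_of_ideal hφK hφKs hD.1 hsnd sqJ sqJ'
  refine ⟨e.hom ≫ pullback.fst i' gK, IsPullback.of_iso_pullback ⟨?_⟩ e rfl he⟩
  rw [Category.assoc, pullback.condition, ← Category.assoc, he]

end Groth.AlgSpBasic.ValCartier
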