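import Groth.Agent.S10048
import Groth.Agent.Chow.General
import Groth.Agent.AlgSp2.FiniteTfae
import Groth.Agent.AlgSp2.Absolute.ClosedApprox
import Groth.Agent.AlgSpBasic.Proper
import Groth.Agent.AlgSpBasic.ColimitSep
import Groth.Agent.AlgSpBasic.QComp
import Groth.Agent.Variety2.ProjBasics
import Groth.Prelude.Def_RelProj

/-!
# The weak Chow lemma for algebraic spaces over an affine scheme
-/

set_option autoImplicit false
set_option backward.isDefEq.respectTransparency.types false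
universe u

open CategoryTheory CategoryTheory.Limits AlgebraicGeometry AlgSp

namespace Groth.AlgSpBasic.WeakChow

theorem exists_hQuasiProjective_cover {S : Scheme.{u}} [IsAffine S] {X : Sp S} (hX : IsAlgSpace X)
    (p : X ⟶ (yon S).obj (Over.mk (𝟙 S))) (hsep : IsSeparatedMor p) (hft : IsFiniteTypeMor p) :
    ∃ (T : Over S) (g : (yon S).obj T ⟶ X),
      RelProj.IsHQuasiProjective T.hom ∧ IsProperMor g ∧ IsSurjectiveMor g := by
  let one : Over S := Over.mk (𝟙 S)
  have h1 : IsAlgSpace ((yon S).obj one) := IsAlgSpace.yon_obj _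
  have ht : IsTerminal ((yon S).obj one) := IsTerminal.isTerminalObj (yon S) _ Over.mkIdTerminal
  have hqc1 : IsQuasiCompactSp ((yon S).obj one) := by
    have : CompactSpace ↥one.left := inferInstanceAs (CompactSpace ↥S)
    exact (isQuasiCompactSp_yon_iff one).2 ‹_›
  have hqs1 : IsQuasiSeparatedSp ((yon S).obj one) := by
    have : IsIso (Limits.diag ((yon S).obj one)) :=
      ⟨prod.fst, prod.lift_fst _ _, prod.hom_ext (ht.hom_ext _ _) (ht.hom_ext _ _)⟩
    exact repWith_isIso _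
  have hXqc : IsQuasiCompactSp X := Groth.AlgSp2.Absolute.isQuasiCompactSp_of_qcMor h1 hqc1 hft.2
  have hXqs : IsQuasiSeparatedSp X := Groth.AlgSp2.Absolute.isQuasiSeparatedSp_of_sepMor hsep hqs1
  obtain ⟨U, q, hqe, hqsurj⟩ := hX.atlas
  obtain ⟨Y, g₀, hfin, hs₀, -, -⟩ := Groth.Agent.S10048.result S ⟨X, hX⟩ hXqc hXqs U q hqe hqsurj
  have hY := IsAlgSpace.yon_obj (S := S) Y
  have hp₀ := Groth.AlgSp2.isProperMor_of_isFiniteMor hY hX hfin
  obtain ⟨φ, hφ⟩ := (yon S).map_surjective (g₀ ≫ p)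
  have hφY : φ.left = Y.hom := by
    have := Over.w φ
    exact (Category.comp_id _).symm.trans this
  have : LocallyOfFiniteType Y.hom := by
    have h := locP_comp hY hX h1 hp₀.2.1.1 hft.1
    rw [← hφ] at h
    exact hφY ▸ (repWith_yon_map_iff _ φ).1 (repWith_of_locP h1 (representable_of_diag h1.diag _) h)
  have : IsSeparated Y.hom := by
    have h := ColimitSep.isSeparatedMor_comp hp₀.1 hsep
    rw [← hφ] at h
    exact hφY ▸ (isSeparatedMor_yon_map_iff φ).1 h
  have : CompactSpace ↥Y.left :=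
    (isQuasiCompactSp_yon_iff Y).1 (Groth.AlgSp2.Absolute.isQuasiCompactSp_of_qcMor hX hXqc hp₀.2.1.2)
  have : QuasiSeparatedSpace ↥Y.left := quasiSeparatedSpace_of_quasiSeparated Y.hom
  obtain ⟨N, X', π, j, hj, hjπ, hπ, hπs⟩ := Groth.Chow.exists_chow_general Y.hom
  let T : Over S := Over.mk (π ≫ Y.hom)
  let πT : T ⟶ Y := Over.homMk π
  have hT := IsAlgSpace.yon_obj (S := S) T
  have hπR : RepWith @IsProper ((yon S).map πT) := (repWith_yon_map_iff @IsProper πT).2 hπ
  have hπp : IsProperMor ((yon S).map πT) :=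
    (Groth.AlgSp2.isProperMor_iff_repWith hT hY hπR.rep).2 hπR
  refine ⟨T, (yon S).map πT ≫ g₀, ⟨N, j, hj, ?_, hjπ⟩, ?_, ?_⟩
  · have : CompactSpace ↥X' := QuasiCompact.compactSpace_of_compactSpace π
    have : IsProper (CohB1.ProjSpaceOver.toBase N S) := Groth.Variety2.isProper_projSpaceOver_toBase N S
    have : QuasiCompact (j ≫ CohB1.ProjSpaceOver.toBase N S) := by rw [hjπ]; infer_instance
    exact QuasiCompact.of_comp j (CohB1.ProjSpaceOver.toBase N S)
  · exact ⟨ColimitSep.isSeparatedMor_comp hπp.1 hp₀.1,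
      ⟨locP_comp hT hY hX hπp.2.1.1 hp₀.2.1.1, isQuasiCompactMor_comp hY hX hπp.2.1.2 hp₀.2.1.2⟩,
      isUnivClosedMor_comp hY hX hπp.2.2 hp₀.2.2⟩
  · intro x
    obtain ⟨y, rfl⟩ := hs₀ x
    obtain ⟨z, rfl⟩ := surjective_map_of_repWith
      ((repWith_yon_map_iff @Surjective πT).2 hπs) y
    exact ⟨z, Points.map_comp _ _ _⟩

end Groth.AlgSpBasic.WeakChow
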